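import Groth.Prelude.Def_Omega2
import Groth.Agent.H10Coh.QCohOps
import Groth.Agent.H10Coh.BaseChange
import Mathlib.AlgebraicGeometry.Modules.Tilde
import Mathlib.AlgebraicGeometry.Morphisms.ClosedImmersion
import Mathlib.Algebra.Category.ModuleCat.ChangeOfRings
import Mathlib.RingTheory.Kaehler.Basic

/-! The conormal sheaf of the diagonal of an affine morphism is the module of differentials. -/

set_option autoImplicit false
universe u

open CategoryTheory CategoryTheory.Limits AlgebraicGeometry Opposite TensorProduct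

namespace Groth.Agent.H17.OmegaAffine

section Tilde

variable {R S : CommRingCat.{u}} (φ : R ⟶ S)

/-- Global sections of a direct image. -/
noncomputable def pushΓIso : Scheme.Modules.pushforward (Spec.map φ) ⋙ moduleSpecΓFunctor (R := R) ≅
    moduleSpecΓFunctor (R := S) ⋙ ModuleCat.restrictScalars φ.hom :=
  Functor.isoWhiskerRight (pushforwardCompModulesSpecToSheafIso φ)
      (TopCat.Sheaf.forget _ _ ⋙ (evaluation _ _).obj (.op ⊤)) ≪≫
    NatIso.ofComponents (fun _ => Iso.refl _)

/-- The pullback of `M~` along `Spec S ⟶ Spec R` is `(S ⊗ M)~`. -/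
noncomputable def pullbackTildeIso : tilde.functor R ⋙ Scheme.Modules.pullback (Spec.map φ) ≅
    ModuleCat.extendScalars φ.hom ⋙ tilde.functor S :=
  Adjunction.leftAdjointUniq
    (((tilde.adjunction (R := R)).comp (Scheme.Modules.pullbackPushforwardAdjunction (Spec.map φ))).ofNatIsoRight
      (pushΓIso φ))
    ((ModuleCat.extendRestrictScalarsAdj φ.hom).comp (tilde.adjunction (R := S)))

end Tilde

section Kernel

variable {X Y Z : Scheme.{u}}

theorem unitToPush_comp (f : X ⟶ Y) (g : Y ⟶ Z) :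
    ClSub.unitToPush (f ≫ g) = ClSub.unitToPush g ≫ (Scheme.Modules.pushforward g).map (ClSub.unitToPush f) ≫
      (Scheme.Modules.pushforwardComp f g).hom.app _ := by
  apply Scheme.Modules.hom_ext
  intro U
  ext s
  show (f ≫ g).app U s = f.app _ (g.app U s)
  rw [Scheme.Hom.comp_app]
  rfl

instance isIso_unitToPush (f : X ⟶ Y) [IsIso f] : IsIso (ClSub.unitToPush f) := by
  rw [Scheme.Modules.Hom.isIso_iff_isIso_app]
  intro U
  rw [ConcreteCategory.isIso_iff_bijective]
  exact ConcreteCategory.bijective_of_isIso (f.app U)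

theorem kernel_idealMod_aux (f : X ⟶ Y) [IsClosedImmersion f] :
    Nonempty (ClSub.idealMod f.ker ≅ kernel (ClSub.unitToPush f)) := by
  have h : IsIso f.toImage := inferInstance
  have hmono : Mono ((Scheme.Modules.pushforward f.imageι).map (ClSub.unitToPush f.toImage) ≫
      (Scheme.Modules.pushforwardComp f.toImage f.imageι).hom.app _) := inferInstance
  have key : ∀ (g : X ⟶ Y), g = f → Nonempty (kernel (ClSub.unitToPush g) ≅ kernel (ClSub.unitToPush f)) := by
    rintro _ rfl; exact ⟨Iso.refl _⟩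
  obtain ⟨e⟩ := key _ f.toImage_imageι
  refine ⟨?_ ≪≫ e⟩
  refine ?_ ≪≫ eqToIso (by rw [unitToPush_comp])
  exact (kernelCompMono (ClSub.unitToPush f.imageι)
    ((Scheme.Modules.pushforward f.imageι).map (ClSub.unitToPush f.toImage) ≫
      (Scheme.Modules.pushforwardComp f.toImage f.imageι).hom.app _)).symm

/-- Inverse image along an isomorphism is direct image along its inverse. -/
noncomputable def pullbackIso (e : X ≅ Y) :
    Scheme.Modules.pullback e.hom ≅ Scheme.Modules.pushforward e.inv :=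
  Adjunction.leftAdjointUniq (Scheme.Modules.pullbackPushforwardAdjunction e.hom)
    (CategoryTheory.Equivalence.mk (Scheme.Modules.pushforward e.inv) (Scheme.Modules.pushforward e.hom)
      ((Scheme.Modules.pushforwardId Y).symm ≪≫ Scheme.Modules.pushforwardCongr e.inv_hom_id.symm ≪≫
        (Scheme.Modules.pushforwardComp e.inv e.hom).symm)
      (Scheme.Modules.pushforwardComp e.hom e.inv ≪≫ Scheme.Modules.pushforwardCongr e.hom_inv_id ≪≫
        Scheme.Modules.pushforwardId X)).toAdjunction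

theorem conormal_iso_of_eq_comp (e : Y ≅ Z) (j : X ⟶ Y) [IsClosedImmersion j] (i : X ⟶ Z) (hi : i = j ≫ e.hom) :
    Nonempty (Omega.conormal i ≅ (Scheme.Modules.pullback j).obj (kernel (ClSub.unitToPush j))) := by
  subst hi
  obtain ⟨a⟩ := kernel_idealMod_aux (j ≫ e.hom)
  have key : ∀ (g : X ⟶ Y), g = j → Nonempty (kernel (ClSub.unitToPush g) ≅ kernel (ClSub.unitToPush j)) := by
    rintro _ rfl; exact ⟨Iso.refl _⟩
  obtain ⟨b⟩ := key ((j ≫ e.hom) ≫ e.inv) (by simp)
  let F := Scheme.Modules.pushforward e.inv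
  let c : F.obj (ClSub.idealMod (j ≫ e.hom).ker) ≅ kernel (ClSub.unitToPush j) :=
    F.mapIso a ≪≫ PreservesKernel.iso F _ ≪≫ (kernelIsIsoComp (ClSub.unitToPush e.inv) _).symm ≪≫
      (kernelCompMono (ClSub.unitToPush e.inv ≫ F.map (ClSub.unitToPush (j ≫ e.hom)))
        ((Scheme.Modules.pushforwardComp (j ≫ e.hom) e.inv).hom.app _)).symm ≪≫
      kernelIsoOfEq ((Category.assoc _ _ _).trans (unitToPush_comp (j ≫ e.hom) e.inv).symm) ≪≫ b
  exact ⟨((Scheme.Modules.pullbackComp j e.hom).app _).symm ≪≫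
    (Scheme.Modules.pullback j).mapIso ((pullbackIso e).app _ ≪≫ c)⟩

end Kernel

section Affine

variable {R S : CommRingCat.{u}} (φ : R ⟶ S)

theorem unitToPush_app_top (x : Γ(Spec R, ⊤)) :
    (Scheme.ΓSpecIso S).hom (((Spec.map φ).app ⊤) x) = φ ((Scheme.ΓSpecIso R).hom x) :=
  congr($(Scheme.ΓSpecIso_naturality φ) x)

/-- The kernel of `O ⟶ i_* O` for an affine morphism of affine schemes is the tilde of the kernel. -/
theorem kernel_unitToPush_iso : Nonempty (kernel (ClSub.unitToPush (Spec.map φ)) ≅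
    tilde (ModuleCat.of R (RingHom.ker φ.hom))) := by
  let u := ClSub.unitToPush (Spec.map φ)
  have h0 : (Coh.structureModule (Spec R)).IsQuasicoherent := H10Coh.isQuasicoherent_unit
  have h0' : (Coh.structureModule (Spec S)).IsQuasicoherent := H10Coh.isQuasicoherent_unit
  have h1 : ((Scheme.Modules.pushforward (Spec.map φ)).obj (Coh.structureModule (Spec S))).IsQuasicoherent :=
    H10Coh.isQuasicoherent_pushforward_of_isAffineHom (Spec.map φ) _
  have hK : (kernel u).IsQuasicoherent := H10Coh.isQuasicoherent_kernel u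
  have hiso : IsIso (kernel u).fromTildeΓ := (isQuasicoherent_iff_isIso_fromTildeΓ _).mp hK
  have hra : (moduleSpecΓFunctor (R := R)).IsRightAdjoint := (tilde.adjunction (R := R)).isRightAdjoint
  have := preservesBinaryBiproducts_of_preservesBinaryProducts (moduleSpecΓFunctor (R := R))
  have : (moduleSpecΓFunctor (R := R)).Additive := Functor.additive_of_preservesBinaryBiproducts _
  refine ⟨(asIso (kernel u).fromTildeΓ).symm ≪≫ (tilde.functor R).mapIso ?_⟩
  refine PreservesKernel.iso (moduleSpecΓFunctor (R := R)) u ≪≫ ModuleCat.kernelIsoKer _ ≪≫ ?_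
  refine LinearEquiv.toModuleIso ?_
  let eR := (Scheme.ΓSpecIso R).commRingCatIsoToRingEquiv
  have hmem : ∀ x : Γ(Spec R, ⊤), ((moduleSpecΓFunctor (R := R)).map u).hom x = 0 ↔ φ (eR x) = 0 := fun x => by
    show (Spec.map φ).app ⊤ x = 0 ↔ _
    rw [show φ (eR x) = (Scheme.ΓSpecIso S).hom ((Spec.map φ).app ⊤ x) from (unitToPush_app_top φ x).symm]
    exact (map_eq_zero_iff _ (Scheme.ΓSpecIso S).commRingCatIsoToRingEquiv.injective).symm
  exact
    { toFun := fun x => ⟨eR x.1, (hmem x.1).mp x.2⟩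
      invFun := fun y => ⟨eR.symm y.1, (hmem _).mpr (by rw [eR.apply_symm_apply]; exact y.2)⟩
      left_inv := fun x => Subtype.ext (eR.symm_apply_apply x.1)
      right_inv := fun y => Subtype.ext (eR.apply_symm_apply y.1)
      map_add' := fun a b => Subtype.ext (map_add eR _ _)
      map_smul' := fun r x => Subtype.ext (by
        let x₀ : Γ(Spec R, ⊤) := x.1
        show eR (((Spec R).presheaf.map (⊤ : (Spec R).Opens).leTop.op ((Scheme.ΓSpecIso R).inv r)) * x₀) = r * eR x₀
        rw [map_mul, show (⊤ : (Spec R).Opens).leTop.op = 𝟙 _ from rfl, CategoryTheory.Functor.map_id]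
        show eR ((Scheme.ΓSpecIso R).inv r) * _ = _
        rw [show (Scheme.ΓSpecIso R).inv r = eR.symm r from rfl, eR.apply_symm_apply]) }

theorem conormal_Spec_iso [IsClosedImmersion (Spec.map φ)] {Z : Scheme.{u}} (e : Spec R ≅ Z)
    (i : Spec S ⟶ Z) (hi : i = Spec.map φ ≫ e.hom) :
    Nonempty (Omega.conormal i ≅
      tilde ((ModuleCat.extendScalars φ.hom).obj (ModuleCat.of R (RingHom.ker φ.hom)))) := by
  obtain ⟨a⟩ := conormal_iso_of_eq_comp e (Spec.map φ) i hi
  obtain ⟨b⟩ := kernel_unitToPush_iso φ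
  exact ⟨a ≪≫ (Scheme.Modules.pullback _).mapIso b ≪≫ (pullbackTildeIso φ).app _⟩

end Affine

section Algebra

variable (R A : Type u) [CommRing R] [CommRing A] [Algebra R A]

/-- `A ⊗_{A ⊗ A} I ≅ Ω`. -/
theorem extendScalars_ideal_iso :
    Nonempty ((ModuleCat.extendScalars (CommRingCat.ofHom (Algebra.TensorProduct.lmul' R (S := A)).toRingHom).hom).obj
      (ModuleCat.of (CommRingCat.of (A ⊗[R] A))
        (RingHom.ker (CommRingCat.ofHom (Algebra.TensorProduct.lmul' R (S := A)).toRingHom).hom)) ≅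
      ModuleCat.of (CommRingCat.of A) Ω[A⁄R]) := by
  let μ : A ⊗[R] A →+* A := (Algebra.TensorProduct.lmul' R (S := A)).toRingHom
  let I := KaehlerDifferential.ideal R A
  letI := μ.toAlgebra
  have hker : ∀ (t : A ⊗[R] A) (w : I.Cotangent), μ t = 0 → t • w = 0 := fun t w ht => by
    obtain ⟨x, rfl⟩ := I.toCotangent_surjective w
    rw [← LinearMap.map_smul, Ideal.toCotangent_eq_zero]
    show t * (x : A ⊗[R] A) ∈ _
    rw [pow_two]; exact Ideal.mul_mem_mul ht x.2
  have h1 : ∀ (a : A) (v : I.Cotangent), (a ⊗ₜ[R] (1 : A)) • v = a • v := fun a v => algebraMap_smul (A ⊗[R] A) a v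
  have htower : IsScalarTower (A ⊗[R] A) A I.Cotangent := .of_algebraMap_smul fun t w => by
    show (μ t) • w = t • w
    rw [← h1, ← sub_eq_zero, ← sub_smul]
    exact hker _ _ (by simp [μ])
  let F : A ⊗[A ⊗[R] A] I →ₗ[A] I.Cotangent := I.toCotangent.liftBaseChange A
  refine ⟨(LinearEquiv.toModuleIso (LinearEquiv.ofBijective F ⟨?_, fun w => ?_⟩) :)⟩
  · refine (injective_iff_map_eq_zero F).mpr fun z hz => ?_
    obtain ⟨x, rfl⟩ : ∃ x : I, (1 : A) ⊗ₜ[A ⊗[R] A] x = z := by
      refine TensorProduct.mk_surjective (A ⊗[R] A) I A (fun a => ⟨a ⊗ₜ 1, ?_⟩) z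
      show μ (a ⊗ₜ 1) = a
      simp [μ]
    have hx : I.toCotangent x = 0 := by
      rw [LinearMap.liftBaseChange_tmul, one_smul] at hz; exact hz
    have hx' : x ∈ I • (⊤ : Submodule (A ⊗[R] A) I) := by
      exact (Submodule.Quotient.mk_eq_zero _).mp hx
    refine Submodule.smul_induction_on hx' (fun t ht y _ => ?_) (fun a b ha hb => by rw [tmul_add, ha, hb, add_zero])
    rw [← smul_tmul, show t • (1 : A) = μ t * 1 from rfl, show μ t = 0 from ht, zero_mul, zero_tmul]
  · obtain ⟨x, rfl⟩ := I.toCotangent_surjective w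
    exact ⟨(1 : A) ⊗ₜ x, by rw [LinearMap.liftBaseChange_tmul, one_smul]⟩

theorem omega_spec_iso_tilde :
    Nonempty (Omega.sheaf (Spec.map (CommRingCat.ofHom (algebraMap R A))) ≅
      tilde (R := CommRingCat.of A) (ModuleCat.of A (Ω[A⁄R]))) := by
  let μ := CommRingCat.ofHom (Algebra.TensorProduct.lmul' R (S := A)).toRingHom
  have : IsClosedImmersion (Spec.map μ) :=
    IsClosedImmersion.spec_of_surjective _ fun x => ⟨x ⊗ₜ 1, by simp [μ]⟩
  obtain ⟨a⟩ := conormal_Spec_iso μ (pullbackSpecIso R A A).symm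
    (pullback.diagonal (Spec.map (CommRingCat.ofHom (algebraMap R A)))) (diagonal_SpecMap R A)
  obtain ⟨b⟩ := extendScalars_ideal_iso R A
  exact ⟨a ≪≫ (tilde.functor (CommRingCat.of A)).mapIso b⟩

end Algebra

end Groth.Agent.H17.OmegaAffine
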