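import Groth.Prelude.Def_OmAff
import Groth.Agent.H17.OmegaAffine

set_option autoImplicit false
universe u

open CategoryTheory CategoryTheory.Limits AlgebraicGeometry Opposite TensorProduct

namespace Groth.Agent.H17.PullSect

variable {X Y Z : Scheme.{u}}

/-- `h^* M` has, as global sections, `Γ(M)` modulo the kernel of `h`. -/
def IsQuot (h : X ⟶ Y) (M : Y.Modules) : Prop :=
  Function.Surjective (OmegaSh.pullSect h M ⊤) ∧
    ∀ m : Γ(M, ⊤), OmegaSh.pullSect h M ⊤ m = 0 →
      m ∈ RingHom.ker (h.app ⊤).hom • (⊤ : Submodule Γ(Y, ⊤) Γ(M, ⊤))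

theorem pullSect_natural (h : X ⟶ Y) {M M' : Y.Modules} (a : M ⟶ M') (U : Y.Opens) (m : Γ(M, U)) :
    OmegaSh.pullSect h M' U (a.app U m) =
      ((Scheme.Modules.pullback h).map a).app (h ⁻¹ᵁ U) (OmegaSh.pullSect h M U m) := by
  have := (Scheme.Modules.pullbackPushforwardAdjunction h).unit.naturality a
  exact congr($(congr(Scheme.Modules.Hom.app $this U)) m)

theorem IsQuot.of_iso {h : X ⟶ Y} {M M' : Y.Modules} (a : M ≅ M') (H : IsQuot h M') : IsQuot h M := by
  have hinv : ∀ m, a.inv.app ⊤ (a.hom.app ⊤ m) = m := fun m => by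
    rw [← ConcreteCategory.comp_apply, ← Scheme.Modules.Hom.comp_app, a.hom_inv_id]; rfl
  have hsurj : ∀ z, ((Scheme.Modules.pullback h).map a.inv).app (h ⁻¹ᵁ ⊤)
      (((Scheme.Modules.pullback h).map a.hom).app (h ⁻¹ᵁ ⊤) z) = z := fun z => by
    rw [← ConcreteCategory.comp_apply, ← Scheme.Modules.Hom.comp_app, ← Functor.map_comp, a.hom_inv_id,
      CategoryTheory.Functor.map_id]; rfl
  refine ⟨fun z => ?_, fun m hm => ?_⟩
  · obtain ⟨m', hm'⟩ := H.1 (((Scheme.Modules.pullback h).map a.hom).app (h ⁻¹ᵁ ⊤) z)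
    exact ⟨a.inv.app ⊤ m', by rw [pullSect_natural, hm', hsurj]⟩
  · have h2 := H.2 (a.hom.app ⊤ m) (by rw [pullSect_natural, hm, map_zero])
    rw [← hinv m]
    refine Submodule.smul_induction_on h2 (fun r hr x _ => ?_) (fun x y hx hy => by rw [map_add]; exact add_mem hx hy)
    rw [Scheme.Modules.Hom.app_smul]
    exact Submodule.smul_mem_smul hr trivial

theorem IsQuot.comp_iso {j : X ⟶ Y} (e : Y ≅ Z) {M : Z.Modules}
    (H : IsQuot j ((Scheme.Modules.pullback e.hom).obj M)) : IsQuot (j ≫ e.hom) M := by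
  let adje := Scheme.Modules.pullbackPushforwardAdjunction e.hom
  let adjj := Scheme.Modules.pullbackPushforwardAdjunction j
  let adjc := Scheme.Modules.pullbackPushforwardAdjunction (j ≫ e.hom)
  have key := unit_conjugateEquiv (adje.comp adjj) adjc (Scheme.Modules.pullbackComp j e.hom).inv M
  rw [Scheme.Modules.conjugateEquiv_pullbackComp_inv] at key
  have key' : ∀ m : Γ(M, ⊤), OmegaSh.pullSect j ((Scheme.Modules.pullback e.hom).obj M) (e.hom ⁻¹ᵁ ⊤)
      (OmegaSh.pullSect e.hom M ⊤ m) =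
      ((Scheme.Modules.pullbackComp j e.hom).inv.app M).app ((j ≫ e.hom) ⁻¹ᵁ ⊤)
        (OmegaSh.pullSect (j ≫ e.hom) M ⊤ m) := fun m =>
    congr($(congr(Scheme.Modules.Hom.app $key ⊤)) m)
  have hbij : Function.Bijective (OmegaSh.pullSect e.hom M ⊤) := by
    have : IsIso (adje.unit.app M) := by
      have : (Scheme.Modules.pushforward e.hom).IsEquivalence :=
        (CategoryTheory.Equivalence.mk (Scheme.Modules.pushforward e.inv) (Scheme.Modules.pushforward e.hom)
          ((Scheme.Modules.pushforwardId Z).symm ≪≫ Scheme.Modules.pushforwardCongr e.inv_hom_id.symm ≪≫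
            (Scheme.Modules.pushforwardComp e.inv e.hom).symm)
          (Scheme.Modules.pushforwardComp e.hom e.inv ≪≫ Scheme.Modules.pushforwardCongr e.hom_inv_id ≪≫
            Scheme.Modules.pushforwardId Y)).isEquivalence_inverse
      have : (Scheme.Modules.pullback e.hom).IsEquivalence := adje.isEquivalence_left_of_isEquivalence_right
      infer_instance
    have : IsIso ((adje.unit.app M).app ⊤) := Scheme.Modules.Hom.isIso_iff_isIso_app.mp this ⊤
    exact ConcreteCategory.bijective_of_isIso ((adje.unit.app M).app ⊤)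
  let e' := ((Scheme.Modules.pullbackComp j e.hom).app M).symm
  have hc : Function.Bijective (((Scheme.Modules.pullbackComp j e.hom).inv.app M).app ((j ≫ e.hom) ⁻¹ᵁ ⊤)) := by
    have : IsIso (((Scheme.Modules.pullbackComp j e.hom).inv.app M).app ((j ≫ e.hom) ⁻¹ᵁ ⊤)) :=
      Scheme.Modules.Hom.isIso_iff_isIso_app.mp inferInstance _
    exact ConcreteCategory.bijective_of_isIso _
  refine ⟨fun z => ?_, fun m hm => ?_⟩
  · obtain ⟨m', hm'⟩ := H.1 (((Scheme.Modules.pullbackComp j e.hom).inv.app M).app ((j ≫ e.hom) ⁻¹ᵁ ⊤) z)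
    obtain ⟨m, rfl⟩ := hbij.2 m'
    exact ⟨m, hc.1 ((key' m).symm.trans hm')⟩
  · have h0 := key' m
    rw [hm, map_zero] at h0
    have h2 := H.2 _ h0
    let E := (Scheme.Modules.pullback e.hom).obj M
    let v : Γ(M, ⊤) →+ Γ(E, ⊤) := (OmegaSh.pullSect e.hom M ⊤).hom
    let ρ : Γ(Z, ⊤) →+* Γ(Y, ⊤) := (e.hom.app ⊤).hom
    have hv : ∀ (r : Γ(Z, ⊤)) (x : Γ(M, ⊤)), v (r • x) = ρ r • v x := fun r x => OmegaSh.pullSect_smul _ _ _ _ _
    let T : Submodule Γ(Y, ⊤) Γ(E, ⊤) := RingHom.ker (j.app ⊤).hom • ⊤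
    have h3 : ∀ y ∈ T, ∃ w ∈ RingHom.ker ((j ≫ e.hom).app ⊤).hom • (⊤ : Submodule Γ(Z, ⊤) Γ(M, ⊤)),
        v w = y := by
      intro y hy
      refine Submodule.smul_induction_on hy (fun r hr x _ => ?_) ?_
      · obtain ⟨x', rfl⟩ := hbij.2 x
        obtain ⟨r', rfl⟩ := (ConcreteCategory.bijective_of_isIso (e.hom.app ⊤)).2 r
        exact ⟨r' • x', Submodule.smul_mem_smul (by exact hr) trivial, hv r' x'⟩
      · rintro x y ⟨a, ha, rfl⟩ ⟨b, hb, rfl⟩
        exact ⟨a + b, add_mem ha hb, map_add v _ _⟩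
    obtain ⟨w, hw, heq⟩ := h3 (v m) h2
    rwa [hbij.1 (show OmegaSh.pullSect e.hom M ⊤ w = OmegaSh.pullSect e.hom M ⊤ m from heq)] at hw

variable {R S : CommRingCat.{u}} (φ : R ⟶ S)

theorem one_tmul_eq_zero {R S N : Type u} [CommRing R] [CommRing S] [Algebra R S] [AddCommGroup N] [Module R N]
    (hs : Function.Surjective (algebraMap R S)) (n : N) (hn : (1 : S) ⊗ₜ[R] n = 0) :
    n ∈ RingHom.ker (algebraMap R S) • (⊤ : Submodule R N) := by
  let J := RingHom.ker (algebraMap R S)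
  let eS : (R ⧸ J) ≃ₗ[R] S :=
    (Ideal.quotientKerAlgEquivOfSurjective (f := Algebra.ofId R S) hs).toLinearEquiv
  have := congr(TensorProduct.quotTensorEquivQuotSMul N J (TensorProduct.congr eS.symm (LinearEquiv.refl R N) $hn))
  rw [TensorProduct.congr_tmul, map_zero, map_zero, show eS.symm 1 = Ideal.Quotient.mk J 1 by
    rw [eS.symm_apply_eq]; exact (map_one (Ideal.quotientKerAlgEquivOfSurjective (f := Algebra.ofId R S) hs)).symm, LinearEquiv.refl_apply, TensorProduct.quotTensorEquivQuotSMul_mk_tmul,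
    one_smul] at this
  exact (Submodule.Quotient.mk_eq_zero _).mp this

theorem isQuot_Spec (hφ : Function.Surjective φ.hom) (N : ModuleCat.{u} R) :
    IsQuot (Spec.map φ) ((tilde.functor R).obj N) := by
  let adj1 := ((tilde.adjunction (R := R)).comp (Scheme.Modules.pullbackPushforwardAdjunction (Spec.map φ))).ofNatIsoRight
      (OmegaAffine.pushΓIso φ)
  let adj2 := (ModuleCat.extendRestrictScalarsAdj φ.hom).comp (tilde.adjunction (R := S))
  have key := Adjunction.unit_leftAdjointUniq_hom_app adj1 adj2 N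
  let i := ((Adjunction.leftAdjointUniq adj1 adj2).app N)
  have hib : Function.Bijective (i.hom.app ⊤) := by
    have : IsIso (i.hom.app ⊤) := Scheme.Modules.Hom.isIso_iff_isIso_app.mp inferInstance _
    exact ConcreteCategory.bijective_of_isIso _
  let w := tilde.toOpen N ⊤
  let w' := tilde.toOpen ((ModuleCat.extendScalars φ.hom).obj N) ⊤
  have key' : ∀ n : N, i.hom.app ⊤ (OmegaSh.pullSect (Spec.map φ) ((tilde.functor R).obj N) ⊤ (w n)) =
      w' ((ModuleCat.extendRestrictScalarsAdj φ.hom).unit.app N n) := fun n =>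
    congr($key n)
  have hw : Function.Bijective w := ConcreteCategory.bijective_of_isIso _
  have hw' : Function.Bijective w' := ConcreteCategory.bijective_of_isIso _
  let := φ.hom.toAlgebra
  have hu : ∀ n : N, (ModuleCat.extendRestrictScalarsAdj φ.hom).unit.app N n = ((1 : S) ⊗ₜ[R] n : S ⊗[R] N) :=
    fun n => rfl
  refine ⟨fun z => ?_, fun m hm => ?_⟩
  · obtain ⟨t, ht⟩ := hw'.2 (i.hom.app ⊤ z)
    obtain ⟨n, rfl⟩ := TensorProduct.mk_surjective R N S hφ t
    exact ⟨w n, hib.1 ((key' n).trans (by rw [hu]; exact ht))⟩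
  · obtain ⟨n, rfl⟩ := hw.2 m
    have h1 := (key' n).symm.trans ((congrArg _ hm).trans (map_zero (i.hom.app ⊤).hom))
    have h2 : (ModuleCat.extendRestrictScalarsAdj φ.hom).unit.app N n = (0 : S ⊗[R] N) :=
      hw'.1 (h1.trans (map_zero w'.hom).symm)
    have h3 := one_tmul_eq_zero (S := S) hφ n ((hu n).symm.trans h2)
    refine Submodule.smul_induction_on h3 (fun r hr x _ => ?_) (fun x y hx hy => by rw [map_add]; exact add_mem hx hy)
    rw [map_smul]
    let x' : Γ((tilde.functor R).obj N, ⊤) := w x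
    show ((Spec R).presheaf.map (⊤ : (Spec R).Opens).leTop.op ((Scheme.ΓSpecIso R).inv r)) • x' ∈ _
    refine Submodule.smul_mem_smul ?_ trivial
    rw [show (⊤ : (Spec R).Opens).leTop.op = 𝟙 _ from rfl, CategoryTheory.Functor.map_id]
    show (Spec.map φ).app ⊤ ((Scheme.ΓSpecIso R).inv r) = 0
    exact (congr($(Scheme.ΓSpecIso_inv_naturality φ) r)).symm.trans (by
      show (Scheme.ΓSpecIso S).inv (φ.hom r) = 0
      rw [show φ.hom r = 0 from hr, map_zero])

end Groth.Agent.H17.PullSect
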