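import Groth.Agent.H17.PullSect

set_option autoImplicit false
universe u

open CategoryTheory CategoryTheory.Limits AlgebraicGeometry Opposite

namespace Groth.Agent.H17.PullSect

variable {X Y Z : Scheme.{u}}

/-- `Γ(h^* M, h⁻¹ W)` is `Γ(M, W)` modulo the kernel of `h`. -/
def IsQuotOn (h : X ⟶ Y) (M : Y.Modules) (W : Y.Opens) : Prop :=
  Function.Surjective (OmegaSh.pullSect h M W) ∧
    ∀ m : Γ(M, W), OmegaSh.pullSect h M W m = 0 →
      m ∈ RingHom.ker (h.app W).hom • (⊤ : Submodule Γ(Y, W) Γ(M, W))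

theorem isQuotOn_top {h : X ⟶ Y} {M : Y.Modules} : IsQuotOn h M ⊤ ↔ IsQuot h M := Iff.rfl

theorem isQuotOn_congr {h h' : X ⟶ Y} (e : h = h') {M : Y.Modules} {W : Y.Opens} :
    IsQuotOn h M W ↔ IsQuotOn h' M W := by subst e; rfl

theorem bijective_app {M N : Y.Modules} (a : M ⟶ N) [IsIso a] (U : Y.Opens) : Function.Bijective (a.app U) := by
  have : IsIso (a.app U) := Scheme.Modules.Hom.isIso_iff_isIso_app.mp inferInstance _
  exact ConcreteCategory.bijective_of_isIso _

theorem pullSect_comp (g : X ⟶ Y) (h : Y ⟶ Z) (M : Z.Modules) (W : Z.Opens) (m : Γ(M, W)) :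
    ((Scheme.Modules.pullbackComp g h).inv.app M).app ((g ≫ h) ⁻¹ᵁ W) (OmegaSh.pullSect (g ≫ h) M W m) =
      OmegaSh.pullSect g ((Scheme.Modules.pullback h).obj M) (h ⁻¹ᵁ W) (OmegaSh.pullSect h M W m) := by
  let adjh := Scheme.Modules.pullbackPushforwardAdjunction h
  let adjg := Scheme.Modules.pullbackPushforwardAdjunction g
  let adjc := Scheme.Modules.pullbackPushforwardAdjunction (g ≫ h)
  have key := unit_conjugateEquiv (adjh.comp adjg) adjc (Scheme.Modules.pullbackComp g h).inv M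
  rw [Scheme.Modules.conjugateEquiv_pullbackComp_inv] at key
  exact (congr($(congr(Scheme.Modules.Hom.app $key W)) m)).symm

theorem IsQuotOn.of_comp_of_bijective {g : X ⟶ Y} {h : Y ⟶ Z} {M : Z.Modules} {W : Z.Opens}
    (h1 : Function.Bijective (OmegaSh.pullSect h M W)) (h2 : Function.Bijective (h.app W)) :
    IsQuotOn (g ≫ h) M W ↔ IsQuotOn g ((Scheme.Modules.pullback h).obj M) (h ⁻¹ᵁ W) := by
  let E := (Scheme.Modules.pullback h).obj M
  let W' := h ⁻¹ᵁ W
  let v : Γ(M, W) →+ Γ(E, W') := (OmegaSh.pullSect h M W).hom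
  let ρ : Γ(Z, W) →+* Γ(Y, W') := (h.app W).hom
  have hv : ∀ (r : Γ(Z, W)) (x : Γ(M, W)), v (r • x) = ρ r • v x := fun r x => OmegaSh.pullSect_smul _ _ _ _ _
  have hc := bijective_app ((Scheme.Modules.pullbackComp g h).inv.app M) ((g ≫ h) ⁻¹ᵁ W)
  have key := pullSect_comp g h M W
  have hT : ∀ m, v m ∈ RingHom.ker (g.app W').hom • (⊤ : Submodule Γ(Y, W') Γ(E, W')) ↔
      m ∈ RingHom.ker ((g ≫ h).app W).hom • (⊤ : Submodule Γ(Z, W) Γ(M, W)) := by
    refine fun m => ⟨fun hm => ?_, fun hm => ?_⟩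
    · obtain ⟨w, hw, heq⟩ : ∃ w ∈ RingHom.ker ((g ≫ h).app W).hom • (⊤ : Submodule Γ(Z, W) Γ(M, W)),
          v w = v m := by
        refine Submodule.smul_induction_on (p := fun y => ∃ w ∈ RingHom.ker ((g ≫ h).app W).hom •
          (⊤ : Submodule Γ(Z, W) Γ(M, W)), v w = y) hm (fun r hr x _ => ?_) ?_
        · obtain ⟨x', rfl⟩ := h1.2 x
          obtain ⟨r', rfl⟩ := h2.2 r
          exact ⟨r' • x', Submodule.smul_mem_smul (by exact hr) trivial, hv r' x'⟩
        · rintro x y ⟨a, ha, rfl⟩ ⟨b, hb, rfl⟩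
          exact ⟨a + b, add_mem ha hb, map_add v _ _⟩
      rwa [h1.1 (show OmegaSh.pullSect h M W w = OmegaSh.pullSect h M W m from heq)] at hw
    · refine Submodule.smul_induction_on hm (fun r hr x _ => ?_) (fun x y hx hy => by rw [map_add]; exact add_mem hx hy)
      rw [hv]
      exact Submodule.smul_mem_smul (show g.app W' (ρ r) = 0 from hr) trivial
  refine ⟨fun H => ⟨fun z => ?_, fun x hx => ?_⟩, fun H => ⟨fun z => ?_, fun m hm => ?_⟩⟩
  · obtain ⟨z', hz'⟩ := hc.2 z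
    obtain ⟨m, hm⟩ := H.1 z'
    exact ⟨v m, (key m).symm.trans ((congrArg _ hm).trans hz')⟩
  · obtain ⟨m, rfl⟩ := h1.2 x
    exact (hT m).mpr (H.2 m (hc.1 (((key m).trans hx).trans (map_zero _).symm)))
  · obtain ⟨x, hx⟩ := H.1 (((Scheme.Modules.pullbackComp g h).inv.app M).app ((g ≫ h) ⁻¹ᵁ W) z)
    obtain ⟨m, rfl⟩ := h1.2 x
    exact ⟨m, hc.1 ((key m).trans hx)⟩
  · exact (hT m).mp (H.2 _ ((key m).symm.trans ((congrArg _ hm).trans (map_zero _))))

theorem IsQuotOn.comp_right_iff {g : X ⟶ Y} {h : Y ⟶ Z} {M : Z.Modules} {W : Z.Opens}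
    (h1 : Function.Bijective (OmegaSh.pullSect g ((Scheme.Modules.pullback h).obj M) (h ⁻¹ᵁ W)))
    (h2 : Function.Bijective (g.app (h ⁻¹ᵁ W))) :
    IsQuotOn (g ≫ h) M W ↔ IsQuotOn h M W := by
  let E := (Scheme.Modules.pullback h).obj M
  let w := OmegaSh.pullSect g E (h ⁻¹ᵁ W)
  have hc := bijective_app ((Scheme.Modules.pullbackComp g h).inv.app M) ((g ≫ h) ⁻¹ᵁ W)
  have key := pullSect_comp g h M W
  have hz : ∀ m, OmegaSh.pullSect (g ≫ h) M W m = 0 ↔ OmegaSh.pullSect h M W m = 0 := fun m => by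
    refine ⟨fun e => h1.1 ((key m).symm.trans ((congrArg _ e).trans ((map_zero _).trans (map_zero w.hom).symm))),
      fun e => hc.1 ((key m).trans ((congrArg _ e).trans ((map_zero w.hom).trans (map_zero _).symm)))⟩
  have hk : RingHom.ker ((g ≫ h).app W).hom = RingHom.ker (h.app W).hom := by
    ext r
    show g.app (h ⁻¹ᵁ W) (h.app W r) = 0 ↔ h.app W r = 0
    exact map_eq_zero_iff _ h2.1
  refine ⟨fun H => ⟨fun z => ?_, fun m hm => hk ▸ H.2 m ((hz m).mpr hm)⟩,
    fun H => ⟨fun z => ?_, fun m hm => hk.symm ▸ H.2 m ((hz m).mp hm)⟩⟩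
  · obtain ⟨z', hz'⟩ := hc.2 (w z)
    obtain ⟨m, hm⟩ := H.1 z'
    exact ⟨m, h1.1 ((key m).symm.trans ((congrArg _ hm).trans hz'))⟩
  · obtain ⟨x, hx⟩ := h1.2 (((Scheme.Modules.pullbackComp g h).inv.app M).app ((g ≫ h) ⁻¹ᵁ W) z)
    obtain ⟨m, rfl⟩ := H.1 x
    exact ⟨m, hc.1 ((key m).trans hx)⟩

/-- Sections over opens inside an open subscheme do not change. -/
theorem bijective_pullSect (ι : X ⟶ Y) [IsOpenImmersion ι] (M : Y.Modules) {W : Y.Opens}
    (hW : W ≤ ι.opensRange) : Function.Bijective (OmegaSh.pullSect ι M W) := by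
  have key := Adjunction.unit_leftAdjointUniq_hom_app (Scheme.Modules.restrictAdjunction ι)
    (Scheme.Modules.pullbackPushforwardAdjunction ι) M
  have h1 : Function.Bijective (((Scheme.Modules.restrictAdjunction ι).unit.app M).app W) := by
    rw [Scheme.Modules.restrictAdjunction_unit_app_app]
    have heq : ι ''ᵁ (ι ⁻¹ᵁ W) = W := by
      rw [ι.image_preimage_eq_opensRange_inf, inf_eq_right.mpr hW]
    rw [show (homOfLE (ι.image_preimage_le W)).op = (eqToIso heq).hom.op from Subsingleton.elim _ _]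
    exact ConcreteCategory.bijective_of_isIso ((M.presheaf.mapIso (eqToIso heq).op).hom)
  have h2 := bijective_app (((Scheme.Modules.restrictAdjunction ι).leftAdjointUniq
    (Scheme.Modules.pullbackPushforwardAdjunction ι)).hom.app M) (ι ⁻¹ᵁ W)
  have : ∀ m, OmegaSh.pullSect ι M W m = _ := fun m =>
    (congr($(congr(Scheme.Modules.Hom.app $key W)) m)).symm
  rw [funext this]
  exact h2.comp h1

theorem bijective_app_of_le (ι : X ⟶ Y) [IsOpenImmersion ι] {W : Y.Opens} (hW : W ≤ ι.opensRange) :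
    Function.Bijective (ι.app W) := by
  have := ι.isIso_app W hW
  exact ConcreteCategory.bijective_of_isIso _

theorem exists_tilde_iso' (R : CommRingCat.{u}) (F : (Spec R).Modules) (h : F.IsQuasicoherent) :
    ∃ N : ModuleCat.{u} R, Nonempty (F ≅ (tilde.functor R).obj N) := by
  have := (isQuasicoherent_iff_isIso_fromTildeΓ F).mp h
  exact ⟨_, ⟨(asIso F.fromTildeΓ).symm⟩⟩

theorem isQuasicoherent_pullback_of_isOpenImmersion (ι : X ⟶ Y) [IsOpenImmersion ι] (M : Y.Modules)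
    (hM : M.IsQuasicoherent) : ((Scheme.Modules.pullback ι).obj M).IsQuasicoherent :=
  (SheafOfModules.isQuasicoherent.{u} X.ringCatSheaf).prop_of_iso
    ((Scheme.Modules.restrictFunctorIsoPullback ι).app M) (by
      have := hM
      exact (inferInstance : ((Scheme.Modules.restrictFunctor ι).obj M).IsQuasicoherent))

theorem isQuot_of_isAffine [IsAffine Y] (j : X ⟶ Y) [IsClosedImmersion j] (M : Y.Modules)
    (hM : M.IsQuasicoherent) : IsQuot j M := by
  have : IsAffine X := isAffine_of_isAffineHom j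
  have hs := ((IsClosedImmersion.isAffine_surjective_of_isAffine j).2)
  have hdec : j = (X.isoSpec.hom ≫ Spec.map j.appTop) ≫ Y.isoSpec.inv := by
    rw [Scheme.isoSpec_hom_naturality, Category.assoc, Iso.hom_inv_id, Category.comp_id]
  refine isQuotOn_top.mp ((isQuotOn_congr hdec).mpr ?_)
  refine (IsQuotOn.of_comp_of_bijective (bijective_pullSect _ _ ?_) (bijective_app_of_le _ ?_)).mpr ?_
  · intro y _; exact Y.isoSpec.inv.surjective y
  · intro y _; exact Y.isoSpec.inv.surjective y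
  refine (IsQuotOn.comp_right_iff (bijective_pullSect _ _ ?_) (bijective_app_of_le _ ?_)).mpr ?_
  · intro y _; exact X.isoSpec.hom.surjective y
  · intro y _; exact X.isoSpec.hom.surjective y
  obtain ⟨N, ⟨c⟩⟩ := exists_tilde_iso' _ _ (isQuasicoherent_pullback_of_isOpenImmersion Y.isoSpec.inv M hM)
  exact IsQuot.of_iso c (isQuot_Spec j.appTop hs N)

theorem isQuotOn_of_isAffineOpen (h : X ⟶ Y) (M : Y.Modules) (hM : M.IsQuasicoherent) {W : Y.Opens}
    (hW : IsAffineOpen W) [IsClosedImmersion (h ∣_ W)] : IsQuotOn h M W := by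
  have : IsAffine W.toScheme := hW
  refine (IsQuotOn.comp_right_iff (g := (h ⁻¹ᵁ W).ι) (bijective_pullSect _ _ ?_)
    (bijective_app_of_le _ ?_)).mp ?_
  · rw [Scheme.Opens.opensRange_ι]
  · rw [Scheme.Opens.opensRange_ι]
  rw [← morphismRestrict_ι]
  refine (IsQuotOn.of_comp_of_bijective (bijective_pullSect _ _ ?_) (bijective_app_of_le _ ?_)).mpr ?_
  · rw [Scheme.Opens.opensRange_ι]
  · rw [Scheme.Opens.opensRange_ι]
  rw [Scheme.Opens.ι_preimage_self]
  exact isQuot_of_isAffine (h ∣_ W) _ (isQuasicoherent_pullback_of_isOpenImmersion W.ι M hM)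

end Groth.Agent.H17.PullSect
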