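import Groth.Agent.H17.OmegaBij
import Groth.Agent.H17.PullSectLocal
import Mathlib.AlgebraicGeometry.Morphisms.Flat

set_option autoImplicit false
universe u

open CategoryTheory CategoryTheory.Limits AlgebraicGeometry Opposite TensorProduct

namespace Groth.Agent.H17.OmegaLocal

open PullSect

theorem bijective_of_presentation {A B R₀ N G : Type u} [CommRing A] [CommRing B] [CommRing R₀] [Algebra A B]
    [AddCommGroup N] [Module R₀ N] [AddCommGroup G] [Module B G]
    (ρ : R₀ →+* B ⊗[A] B) (hρ : Function.Surjective ρ) (θ : N →+ B ⊗[A] B) (hθ : Function.Injective θ)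
    (hθs : ∀ (r : R₀) (n : N), θ (r • n) = ρ r * θ n) (hθm : ∀ n, θ n ∈ KaehlerDifferential.ideal A B)
    (lft : B → N) (hlft : ∀ b, θ (lft b) = (1 : B) ⊗ₜ[A] b - b ⊗ₜ[A] 1)
    (Φ : N →+ G) (hΦs : ∀ (r : R₀) (n : N), Φ (r • n) = Algebra.TensorProduct.lmul' A (S := B) (ρ r) • Φ n)
    (hΦsurj : Function.Surjective Φ)
    (hΦker : ∀ m, Φ m = 0 →
      m ∈ RingHom.ker ((Algebra.TensorProduct.lmul' A (S := B)).toRingHom.comp ρ) • (⊤ : Submodule R₀ N))
    (T : Ω[B⁄A] →ₗ[B] G) (hT : ∀ b, T (KaehlerDifferential.D A B b) = Φ (lft b)) :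
    Function.Bijective T := by
  let I := KaehlerDifferential.ideal A B
  have hex : ∀ {x : B ⊗[A] B}, x ∈ I → ∃ m, θ m = x ∧ ∀ (h : x ∈ I), Φ m = T (I.toCotangent ⟨x, h⟩) := by
    intro x hx
    have hx' : x ∈ Ideal.span (Set.range fun s : B => (1 : B) ⊗ₜ[A] s - s ⊗ₜ[A] (1 : B)) := by
      rw [KaehlerDifferential.span_range_eq_ideal]; exact hx
    clear hx
    induction hx' using Submodule.span_induction with
    | mem y hy =>
      obtain ⟨b, rfl⟩ := hy
      exact ⟨lft b, hlft b, fun h => (hT b).symm.trans (congrArg _ (KaehlerDifferential.D_apply A B b))⟩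
    | zero => exact ⟨0, map_zero _, fun h => (map_zero Φ).trans (map_zero T).symm⟩
    | add y z hy hz iy iz =>
      obtain ⟨m, hm, hm'⟩ := iy; obtain ⟨n, hn, hn'⟩ := iz
      refine ⟨m + n, by rw [map_add, hm, hn], fun h => ?_⟩
      have my : y ∈ I := hm ▸ hθm m
      have mz : z ∈ I := hn ▸ hθm n
      rw [map_add, hm' my, hn' mz]
      exact (map_add T _ _).symm.trans (congrArg _ (map_add I.toCotangent ⟨y, my⟩ ⟨z, mz⟩).symm)
    | smul t y hy iy =>
      obtain ⟨m, hm, hm'⟩ := iy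
      obtain ⟨r, rfl⟩ := hρ t
      refine ⟨r • m, by rw [hθs, hm]; rfl, fun h => ?_⟩
      have my : y ∈ I := hm ▸ hθm m
      rw [hΦs, hm' my]
      refine (T.map_smul _ _).symm.trans (congrArg _ ?_)
      show _ = I.toCotangent (ρ r • (⟨y, my⟩ : I))
      rw [map_smul]
      symm
      have h0 : (ρ r - (Algebra.TensorProduct.lmul' A (S := B) (ρ r)) ⊗ₜ[A] (1 : B)) • I.toCotangent ⟨y, my⟩ = 0 := by
        rw [← map_smul, Ideal.toCotangent_eq_zero, pow_two]
        exact Ideal.mul_mem_mul (RingHom.mem_ker.mpr (by simp)) my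
      rw [sub_smul, sub_eq_zero] at h0
      exact h0.trans (algebraMap_smul (R := B) (B ⊗[A] B) _ (I.toCotangent ⟨y, my⟩))
  have hΦ : ∀ m, Φ m = T (I.toCotangent ⟨θ m, hθm m⟩) := by
    intro m
    obtain ⟨n, hn, hn'⟩ := hex (hθm m)
    obtain rfl := hθ hn
    exact hn' _
  refine ⟨(injective_iff_map_eq_zero _).mpr fun w hw => ?_, fun z => ?_⟩
  · obtain ⟨⟨x, hx⟩, rfl⟩ := I.toCotangent_surjective w
    obtain ⟨m, rfl, -⟩ := hex hx
    refine (Ideal.toCotangent_eq_zero I ⟨_, hx⟩).mpr ?_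
    rw [pow_two]
    show θ m ∈ _
    refine Submodule.smul_induction_on (hΦker m ((hΦ m).trans hw)) (fun r hr n _ => ?_)
      (fun a b ha hb => by rw [map_add]; exact add_mem ha hb)
    rw [hθs]
    exact Ideal.mul_mem_mul hr (hθm n)
  · obtain ⟨m, hm⟩ := hΦsurj z
    exact ⟨_, (hΦ m).symm.trans hm⟩

theorem isQuasicoherent_idealMod {X : Scheme.{u}} (K : X.IdealSheafData) :
    (ClSub.idealMod K).IsQuasicoherent := by
  have h0 : (Coh.structureModule X).IsQuasicoherent := H10Coh.isQuasicoherent_unit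
  have h0' : (Coh.structureModule K.subscheme).IsQuasicoherent := H10Coh.isQuasicoherent_unit
  have h1 : ((Scheme.Modules.pushforward K.subschemeι).obj (Coh.structureModule K.subscheme)).IsQuasicoherent :=
    H10Coh.isQuasicoherent_pushforward_of_isAffineHom _ _
  exact H10Coh.isQuasicoherent_kernel (ClSub.toSubscheme K)

variable {X Y : Scheme.{u}} (f : X ⟶ Y) {U : X.Opens} {V : Y.Opens}

theorem preimage_diagNbhd (U : X.Opens) : pullback.diagonal f ⁻¹ᵁ OmegaSh.diagNbhd f U = U :=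
  le_antisymm (OmegaSh.diagonal_preimage_le f le_rfl) (OmegaSh.le_preimage_diagNbhd f U)

theorem isAffineOpen_diagNbhd (hU : IsAffineOpen U) (hV : IsAffineOpen V) (h : U ≤ f ⁻¹ᵁ V) :
    IsAffineOpen (OmegaSh.diagNbhd f U) := by
  have : IsAffine _ := hU
  have : IsAffine _ := hV
  exact .of_isIso (Scheme.Hom.isPullback_resLE (IsPullback.of_hasPullback f f) h h rfl).isoPullback.hom

theorem isClosedImmersion_restrict (hU : IsAffineOpen U) (hV : IsAffineOpen V) (h : U ≤ f ⁻¹ᵁ V) :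
    IsClosedImmersion (pullback.diagonal f ∣_ OmegaSh.diagNbhd f U) := by
  let W := OmegaSh.diagNbhd f U
  have : IsAffine _ := hU
  have : IsAffine W.toScheme := isAffineOpen_diagNbhd f hU hV h
  have hWU : W ≤ pullback.fst f f ⁻¹ᵁ U := inf_le_left
  let q := (pullback.fst f f).resLE U W hWU
  have hc : (pullback.diagonal f ∣_ W) ≫ q = X.homOfLE (preimage_diagNbhd f U).le := by
    rw [← cancel_mono U.ι, Category.assoc, Scheme.Hom.resLE_comp_ι, Scheme.homOfLE_ι,
      morphismRestrict_ι_assoc, pullback.diagonal_fst, Category.comp_id]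
  have : IsIso (X.homOfLE (preimage_diagNbhd f U).le) := by
    refine ⟨X.homOfLE (preimage_diagNbhd f U).ge, ?_, ?_⟩ <;> simp
  have : IsClosedImmersion ((pullback.diagonal f ∣_ W) ≫ q) := hc ▸ inferInstance
  exact IsClosedImmersion.of_comp (pullback.diagonal f ∣_ W) q

theorem isIso_toSect [QuasiSeparated f] (hU : IsAffineOpen U) (hV : IsAffineOpen V) (h : U ≤ f ⁻¹ᵁ V) :
    IsIso (OmAff.toSect f V U h) := by
  let Δ := pullback.diagonal f
  let W := OmegaSh.diagNbhd f U
  let K := Δ.ker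
  have hW : IsAffineOpen W := isAffineOpen_diagNbhd f hU hV h
  let φ := f.appLE V U h
  algebraize [φ.hom]
  have := isIso_pushoutSection_of_isAffineOpen (IsPullback.of_hasPullback f f) (UY := W) h h rfl hV hU hU
  have sq := (isIso_pushoutSection_iff (IsPullback.of_hasPullback f f) (UY := W) h h rfl).mp this
  let i := IsPushout.isoIsPushout _ _ sq (CommRingCat.isPushout_tensorProduct Γ(Y, V) Γ(X, U) Γ(X, U))
  let ρ : Γ(pullback f f, W) →+* Γ(X, U) ⊗[Γ(Y, V)] Γ(X, U) := i.hom.hom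
  have hρ : Function.Bijective ρ := ConcreteCategory.bijective_of_isIso i.hom
  have hl : ∀ a, ρ ((pullback.fst f f).appLE U W inf_le_left a) = a ⊗ₜ[Γ(Y, V)] 1 := fun a =>
    congr($(IsPushout.inl_isoIsPushout_hom _ _ sq (CommRingCat.isPushout_tensorProduct Γ(Y, V) Γ(X, U) Γ(X, U))) a)
  have hr : ∀ a, ρ ((pullback.snd f f).appLE U W inf_le_right a) = 1 ⊗ₜ[Γ(Y, V)] a := fun a =>
    congr($(IsPushout.inr_isoIsPushout_hom _ _ sq (CommRingCat.isPushout_tensorProduct Γ(Y, V) Γ(X, U) Γ(X, U))) a)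
  let res : Γ(X, Δ ⁻¹ᵁ W) ⟶ Γ(X, U) := X.presheaf.map (homOfLE (OmegaSh.le_preimage_diagNbhd f U)).op
  have hΔ : ∀ r, res (Δ.app W r) = Algebra.TensorProduct.lmul' Γ(Y, V) (ρ r) := by
    have key : Δ.app W ≫ res = i.hom ≫
        CommRingCat.ofHom (Algebra.TensorProduct.lmul' Γ(Y, V) (S := Γ(X, U))).toRingHom := by
      apply sq.hom_ext
      · ext a
        refine (OmegaSh.res_diagonal_app_appLE f _ (pullback.diagonal_fst f) U inf_le_left a).trans ?_
        show a = Algebra.TensorProduct.lmul' Γ(Y, V) (ρ _)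
        exact ((congrArg _ (hl a)).trans (by simp)).symm
      · ext a
        refine (OmegaSh.res_diagonal_app_appLE f _ (pullback.diagonal_snd f) U inf_le_right a).trans ?_
        show a = Algebra.TensorProduct.lmul' Γ(Y, V) (ρ _)
        exact ((congrArg _ (hr a)).trans (by simp)).symm
    exact fun r => congr($key r)
  have hres : Function.Bijective res := by
    show Function.Bijective (X.presheaf.map (homOfLE _).op)
    rw [show (homOfLE (OmegaSh.le_preimage_diagNbhd f U)).op = (eqToIso (preimage_diagNbhd f U).symm).hom.op from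
      Subsingleton.elim _ _]
    exact ConcreteCategory.bijective_of_isIso ((X.presheaf.mapIso (eqToIso (preimage_diagNbhd f U).symm).op).hom)
  let resΩ := (Omega.sheaf f).presheaf.map (homOfLE (OmegaSh.le_preimage_diagNbhd f U)).op
  have hresΩ : Function.Bijective resΩ := by
    show Function.Bijective ((Omega.sheaf f).presheaf.map (homOfLE _).op)
    rw [show (homOfLE (OmegaSh.le_preimage_diagNbhd f U)).op = (eqToIso (preimage_diagNbhd f U).symm).hom.op from
      Subsingleton.elim _ _]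
    exact ConcreteCategory.bijective_of_isIso
      (((Omega.sheaf f).presheaf.mapIso (eqToIso (preimage_diagNbhd f U).symm).op).hom)
  let Φ : Γ(ClSub.idealMod K, W) →+ Γ(Omega.sheaf f, U) :=
    resΩ.hom.comp (OmegaSh.pullSect Δ (ClSub.idealMod K) W).hom
  have := isClosedImmersion_restrict f hU hV h
  have H : IsQuotOn Δ (ClSub.idealMod K) W :=
    isQuotOn_of_isAffineOpen Δ _ (isQuasicoherent_idealMod K) hW
  have hΦs : ∀ r n, Φ (r • n) = Algebra.TensorProduct.lmul' Γ(Y, V) (ρ r) • Φ n := fun r n => by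
    show resΩ (OmegaSh.pullSect Δ (ClSub.idealMod K) W (r • n)) = _
    rw [OmegaSh.pullSect_smul, ← hΔ]
    exact Scheme.Modules.map_smul _ _ _ _
  let θ : Γ(ClSub.idealMod K, W) →+ Γ(X, U) ⊗[Γ(Y, V)] Γ(X, U) :=
    ρ.toAddMonoidHom.comp (OmegaSh.idealSect K W)
  have hθm : ∀ n, θ n ∈ KaehlerDifferential.ideal Γ(Y, V) Γ(X, U) := fun n => by
    let x : Γ(pullback f f, W) := OmegaSh.idealSect K W n
    have h1 : K.subschemeι.app W x = 0 := by
      show (ClSub.idealModι K ≫ ClSub.toSubscheme K).app W n = 0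
      rw [show ClSub.idealModι K ≫ ClSub.toSubscheme K = 0 from kernel.condition _]; rfl
    have h1' : x ∈ K.ideal ⟨W, hW⟩ := by
      rw [← Scheme.IdealSheafData.ker_subschemeι_app K ⟨W, hW⟩, RingHom.mem_ker]; exact h1
    rw [Scheme.Hom.ker_apply, RingHom.mem_ker] at h1'
    show Algebra.TensorProduct.lmul' Γ(Y, V) (ρ x) = 0
    rw [← hΔ]; exact (congrArg _ h1').trans (map_zero _)
  let T : Ω[Γ(X, U)⁄Γ(Y, V)] →ₗ[Γ(X, U)] Γ(Omega.sheaf f, U) := (OmAff.toSect f V U h).hom
  have hbij : Function.Bijective T := by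
    refine bijective_of_presentation ρ hρ.2 θ (hρ.1.comp (OmegaSh.idealModι_app_injective (W := W) K))
      (fun r n => ?_) hθm (fun b => OmegaSh.idealLift f U b) (fun b => ?_) Φ hΦs
      (hresΩ.2.comp H.1) (fun m hm => ?_) T (fun b => OmAff.toSect_d f V U h b)
    · show ρ (OmegaSh.fnSect _ W ((ClSub.idealModι K).app W (r • n))) = _
      rw [Scheme.Modules.Hom.app_smul]
      exact map_mul ρ r _
    · show ρ (OmegaSh.fnSect _ W ((ClSub.idealModι K).app W (OmegaSh.idealLift f U b))) = _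
      rw [OmegaSh.ι_idealLift]
      show ρ (OmegaSh.diagDiff f U b) = _
      rw [OmegaSh.diagDiff, map_sub, hr, hl]
    · have hk : RingHom.ker (Δ.app W).hom =
          RingHom.ker ((Algebra.TensorProduct.lmul' Γ(Y, V) (S := Γ(X, U))).toRingHom.comp ρ) := by
        ext r
        show Δ.app W r = 0 ↔ Algebra.TensorProduct.lmul' Γ(Y, V) (ρ r) = 0
        rw [← hΔ]
        exact (map_eq_zero_iff _ hres.1).symm
      exact hk ▸ H.2 m (hresΩ.1 (hm.trans (map_zero _).symm))
  exact (ConcreteCategory.isIso_iff_bijective _).mpr hbij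

end Groth.Agent.H17.OmegaLocal
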