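import Groth.Agent.H11Ample.Tensor
import Groth.Agent.H06Mod.StalkExact

/-! A module with a tensor inverse is invertible (no quasi-coherence assumed). -/

set_option autoImplicit false
set_option linter.style.haveILetI false

noncomputable section

universe u

open CategoryTheory AlgebraicGeometry TopologicalSpace
open scoped TensorProduct

namespace Groth.Agent.H17.InvertibleTensor

theorem exists_isUnit_tmul {R A B : Type u} [CommRing R] [IsLocalRing R] [AddCommGroup A] [Module R A]
    [AddCommGroup B] [Module R B] (ψ : A ⊗[R] B ≃ₗ[R] R) : ∃ a b, IsUnit (ψ (a ⊗ₜ b)) := by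
  by_contra h
  push Not at h
  have : ∀ t, ψ t ∈ IsLocalRing.maximalIdeal R := by
    intro t
    induction t using TensorProduct.induction_on with
    | zero => simp
    | tmul a b => exact h a b
    | add a b ha hb => rw [map_add]; exact add_mem ha hb
  have h1 := this (ψ.symm 1)
  rw [ψ.apply_symm_apply] at h1
  exact (IsLocalRing.maximalIdeal.isMaximal R).ne_top ((Ideal.eq_top_iff_one _).2 h1)

theorem bijective_smul_of_isUnit_tmul {R A B : Type u} [CommRing R] [AddCommGroup A] [Module R A]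
    [AddCommGroup B] [Module R B] (ψ : A ⊗[R] B ≃ₗ[R] R) {a : A} {b : B} (h : IsUnit (ψ (a ⊗ₜ b))) :
    Function.Bijective fun r : R => r • a := by
  constructor
  · intro r r' e
    refine h.mul_left_injective ?_
    have e' := congrArg (fun m => ψ (m ⊗ₜ b)) e
    simpa [← TensorProduct.smul_tmul'] using e'
  · intro m
    obtain ⟨u, hu⟩ := h
    refine ⟨ψ (m ⊗ₜ b) * ↑u⁻¹, ?_⟩
    have h0 : ((ψ (m ⊗ₜ b) * ↑u⁻¹) • a - m) ⊗ₜ[R] b = 0 := by
      refine ψ.injective ?_
      rw [TensorProduct.sub_tmul, ← TensorProduct.smul_tmul', map_sub, map_smul, map_zero, ← hu, smul_eq_mul,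
        mul_assoc, Units.inv_mul, mul_one, sub_self]
    let θ : A ⊗[R] B →ₗ[R] A := TensorProduct.lift
      (LinearMap.mk₂ R (fun x y => ψ (a ⊗ₜ y) • x)
        (fun x x' y => smul_add _ _ _) (fun c x y => smul_comm _ _ _)
        (fun x y y' => by rw [TensorProduct.tmul_add, map_add, add_smul])
        (fun c x y => by rw [TensorProduct.tmul_smul, map_smul, smul_eq_mul, mul_smul]))
    have h1 := congrArg θ h0
    simp only [θ, TensorProduct.lift.tmul, LinearMap.mk₂_apply, map_zero, ← hu] at h1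
    exact sub_eq_zero.1 (u.isUnit.smul_eq_zero.1 h1)

variable {X : Scheme.{u}}

theorem bijective_stalkLin {M N : X.Modules} (φ : M ≅ N) (x : X) :
    Function.Bijective (H06Mod.stalkLin φ.hom x) := by
  haveI : IsIso φ.hom.mapPresheaf :=
    inferInstanceAs (IsIso ((Scheme.Modules.toPresheaf X).map φ.hom))
  haveI : IsIso ((TopCat.Presheaf.stalkFunctor Ab.{u} x).map φ.hom.mapPresheaf) :=
    Functor.map_isIso _ φ.hom.mapPresheaf
  exact ConcreteCategory.bijective_of_isIso ((TopCat.Presheaf.stalkFunctor Ab.{u} x).map φ.hom.mapPresheaf)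

theorem isInvertible_of_tensor_iso (L N : X.Modules)
    (e : CohB1.tensorMod L N ≅ Coh.structureModule X) : PicF.IsInvertible L := by
  -- the stalks of the two sides
  let o (y : X) := (Coh.structureModule X).presheaf.germ ⊤ y trivial (H11Ample.one ⊤)
  let σ (y : X) : X.presheaf.stalk y ≃ₗ[X.presheaf.stalk y] (Coh.structureModule X).presheaf.stalk y :=
    LinearEquiv.ofBijective (LinearMap.toSpanSingleton _ _ (o y)) (H11Ample.isGen_one ⊤ y trivial)
  let ψ (y : X) : L.presheaf.stalk y ⊗[X.presheaf.stalk y] N.presheaf.stalk y ≃ₗ[X.presheaf.stalk y]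
      X.presheaf.stalk y :=
    ((H16Derived.KFlat.Stalk.stalkEquiv L N y).trans
      (LinearEquiv.ofBijective (H06Mod.stalkLin e.hom y) (bijective_stalkLin e y))).trans (σ y).symm
  refine H11Ample.isInvertible_of_gen fun x => ?_
  obtain ⟨a, b, hab⟩ := exists_isUnit_tmul (ψ x)
  obtain ⟨⟨U, l, n⟩, hxU, rfl, rfl⟩ := H16Derived.KFlat.Stalk.exists_germ₂ L N x a b
  obtain ⟨c, hc⟩ := H11Ample.exists_coeff ((H11Ample.isGen_one (X := X) ⊤).res (le_top : U ≤ ⊤))
    (e.hom.app U (H11Ample.tm l n))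
  have key : ∀ (y : X) (hy : y ∈ U),
      ψ y (L.presheaf.germ U y hy l ⊗ₜ N.presheaf.germ U y hy n) = X.presheaf.germ U y hy c := by
    intro y hy
    refine (σ y).symm_apply_eq.2 ?_
    show H06Mod.stalkLin e.hom y (H16Derived.KFlat.Stalk.toStalk L N y (_ ⊗ₜ _)) =
      X.presheaf.germ U y hy c • o y
    rw [H16Derived.KFlat.Stalk.toStalk_tmul, H16Derived.KFlat.Stalk.pair_germ]
    refine (H06Mod.stalkLin_germ e.hom y U hy _).trans ?_
    rw [show e.hom.app U (H16Derived.KFlat.Stalk.tensorSect U l n) = _ from hc, H06Mod.germ_smul,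
      TopCat.Presheaf.germ_res_apply]
  have hx : x ∈ X.basicOpen c := (X.mem_basicOpen c x hxU).2 (key x hxU ▸ hab)
  refine ⟨X.basicOpen c, L.presheaf.map (homOfLE (X.basicOpen_le c)).op l, hx, fun y hy => ?_⟩
  rw [TopCat.Presheaf.germ_res_apply]
  have hyU : y ∈ U := X.basicOpen_le c hy
  refine bijective_smul_of_isUnit_tmul (ψ y) (b := N.presheaf.germ U y hyU n) ?_
  rw [key y hyU]
  exact (X.mem_basicOpen c y hyU).1 hy

end Groth.Agent.H17.InvertibleTensor
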