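import Groth.Agent.H17.PrinFactor
import Groth.Agent.H17.OmegaLocal

/-! The differential into the conormal sheaf of the diagonal is universal. -/

set_option autoImplicit false
set_option linter.style.haveILetI false
universe u

open CategoryTheory CategoryTheory.Limits AlgebraicGeometry Opposite TopologicalSpace

namespace Groth.Agent.H17.PrinOmega

open PrinFactor

variable {X : Scheme.{u}}

theorem app_res {M N : X.Modules} (a : M ⟶ N) {U V : X.Opens} (e : V ≤ U) (s : Γ(M, U)) :
    a.app V (M.presheaf.map (homOfLE e).op s) = N.presheaf.map (homOfLE e).op (a.app U s) :=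
  congr($(a.mapPresheaf.naturality (homOfLE e).op) s)

/-- Natural linear maps on a basis of opens come from a morphism. -/
theorem exists_hom_of_basis (M N : X.Modules) (B : X.Opens → Prop)
    (hB : ∀ (W : X.Opens) (x : X), x ∈ W → ∃ U, B U ∧ x ∈ U ∧ U ≤ W)
    (ν : ∀ U, B U → Γ(M, U) →ₗ[Γ(X, U)] Γ(N, U))
    (hν : ∀ (U U' : X.Opens) (h : B U) (h' : B U') (e : U' ≤ U) (s : Γ(M, U)),
      ν U' h' (M.presheaf.map (homOfLE e).op s) = N.presheaf.map (homOfLE e).op (ν U h s)) :
    ∃ α : M ⟶ N, ∀ (U : X.Opens) (h : B U) (s : Γ(M, U)), α.app U s = ν U h s := by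
  let Good := fun (W : X.Opens) (s : Γ(M, W)) (τ : Γ(N, W)) => ∀ (U : X.Opens) (h : B U) (e : U ≤ W),
    N.presheaf.map (homOfLE e).op τ = ν U h (M.presheaf.map (homOfLE e).op s)
  have huniq : ∀ (W : X.Opens) (s : Γ(M, W)) (τ τ' : Γ(N, W)), Good W s τ → Good W s τ' → τ = τ' := by
    intro W s τ τ' h h'
    refine germ_ext fun x hx => ?_
    obtain ⟨U, hU, hxU, e⟩ := hB W x hx
    rw [← N.presheaf.germ_res_apply (homOfLE e) x hxU τ, h U hU e, ← h' U hU e, TopCat.Presheaf.germ_res_apply]
  have hglob : ∀ (W : X.Opens) (s : Γ(M, W)), ∃ τ, Good W s τ := by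
    intro W s
    choose U hU hxU eU using fun x : W => hB W x.1 x.2
    let τ := fun x : W => ν (U x) (hU x) (M.presheaf.map (homOfLE (eU x)).op s)
    have hgerm : ∀ (x : W) (y : X) (hy : y ∈ U x) (U' : X.Opens) (h' : B U') (hy' : y ∈ U') (e' : U' ≤ W),
        N.presheaf.germ (U x) y hy (τ x) = N.presheaf.germ U' y hy' (ν U' h' (M.presheaf.map (homOfLE e').op s)) := by
      intro x y hy U' h' hy' e'
      obtain ⟨U'', h'', hy'', e''⟩ := hB (U x ⊓ U') y ⟨hy, hy'⟩
      rw [← N.presheaf.germ_res_apply (homOfLE (e''.trans inf_le_left)) y hy'' (τ x),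
        ← N.presheaf.germ_res_apply (homOfLE (e''.trans inf_le_right)) y hy''
          (ν U' h' (M.presheaf.map (homOfLE e').op s))]
      dsimp only [τ]
      rw [← hν (U x) U'' (hU x) h'', ← hν U' U'' h' h'', OmegaSh.resM_resM, OmegaSh.resM_resM]
      rfl
    let Ns : TopCat.Sheaf Ab.{u} X := ⟨N.presheaf, N.isSheaf⟩
    obtain ⟨t, ht, -⟩ := Ns.existsUnique_gluing' U W (fun i => homOfLE (eU i))
      (fun x hx => Opens.mem_iSup.mpr ⟨⟨x, hx⟩, hxU ⟨x, hx⟩⟩) τ (fun i j => by
        refine germ_ext fun y hy => ?_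
        show N.presheaf.germ _ y hy (N.presheaf.map (Opens.infLELeft _ _).op (τ i)) =
          N.presheaf.germ _ y hy (N.presheaf.map (Opens.infLERight _ _).op (τ j))
        rw [TopCat.Presheaf.germ_res_apply, TopCat.Presheaf.germ_res_apply]
        exact hgerm i y hy.1 (U j) (hU j) hy.2 (eU j))
    refine ⟨t, fun U' h' e' => germ_ext fun y hy => ?_⟩
    rw [TopCat.Presheaf.germ_res_apply, ← hgerm ⟨y, e' hy⟩ y (hxU _) U' h' hy e', ← ht ⟨y, e' hy⟩]
    exact (TopCat.Presheaf.germ_res_apply _ _ _ _ _).symm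
  choose T hT using hglob
  refine ⟨⟨PresheafOfModules.homMk
    { app := fun W => AddCommGrpCat.ofHom
        { toFun := T W.unop
          map_zero' := huniq W.unop _ _ _ (hT W.unop _) fun U h e => by
            erw [map_zero, map_zero, map_zero]
          map_add' := fun a b => huniq W.unop _ _ _ (hT W.unop _) fun U h e => by
            erw [map_add, map_add, map_add]
            rw [hT W.unop a U h e, hT W.unop b U h e] }
      naturality := fun W W' i => by
        ext s
        refine huniq W'.unop _ _ _ (hT W'.unop _) fun U h e => ?_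
        show N.presheaf.map (homOfLE e).op (N.presheaf.map i (T W.unop s)) =
          ν U h (M.presheaf.map (homOfLE e).op (M.presheaf.map i s))
        rw [show i = (homOfLE i.unop.le).op from Subsingleton.elim _ _, OmegaSh.resM_resM, OmegaSh.resM_resM]
        exact hT W.unop s U h (e.trans i.unop.le) }
    fun W r s => huniq W.unop _ _ _ (hT W.unop _) fun U h e => by
      show N.presheaf.map (homOfLE e).op ((show Γ(X, W.unop) from r) • T W.unop s) =
        ν U h (M.presheaf.map (homOfLE e).op ((show Γ(X, W.unop) from r) • (show Γ(M, W.unop) from s)))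
      rw [Scheme.Modules.map_smul, Scheme.Modules.map_smul, map_smul, hT W.unop s U h e]⟩, fun U h s => ?_⟩
  have e := hT U s U h le_rfl
  rw [show (homOfLE (le_refl U)).op = 𝟙 _ from rfl, CategoryTheory.Functor.map_id,
    CategoryTheory.Functor.map_id] at e
  exact e

variable {S : Scheme.{u}} (f : X ⟶ S)

/-- Affine opens lying over affine opens of the base. -/
def Small (U : X.Opens) : Prop := IsAffineOpen U ∧ ∃ V : S.Opens, IsAffineOpen V ∧ U ≤ f ⁻¹ᵁ V

theorem exists_small (W : X.Opens) (x : X) (hx : x ∈ W) : ∃ U, Small f U ∧ x ∈ U ∧ U ≤ W := by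
  obtain ⟨_, ⟨V, hV, rfl⟩, hxV, -⟩ :=
    S.isBasis_affineOpens.exists_subset_of_mem_open (Set.mem_univ (f x)) isOpen_univ
  obtain ⟨_, ⟨U, hU, rfl⟩, hxU, hle⟩ :=
    X.isBasis_affineOpens.exists_subset_of_mem_open (show x ∈ (f ⁻¹ᵁ V ⊓ W : X.Opens) from ⟨hxV, hx⟩)
      (f ⁻¹ᵁ V ⊓ W).2
  exact ⟨U, ⟨hU, V, hV, fun y hy => (hle hy).1⟩, hxU, fun y hy => (hle hy).2⟩

variable [QuasiSeparated f]

theorem linearMap_ext {U : X.Opens} (hU : Small f U) {N : ModuleCat.{u} Γ(X, U)}
    (L L' : OmAff.sectMod (Omega.sheaf f) U ⟶ N)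
    (h : ∀ b, L (OmegaSh.dSect f U b) = L' (OmegaSh.dSect f U b)) : L = L' := by
  obtain ⟨hUa, V, hV, e⟩ := hU
  have := OmegaLocal.isIso_toSect f hUa hV e
  rw [← cancel_epi (OmAff.toSect f V U e)]
  refine CommRingCat.KaehlerDifferential.ext fun b => ?_
  rw [ConcreteCategory.comp_apply, ConcreteCategory.comp_apply, OmAff.toSect_d]
  exact h b

/-- Two maps out of `Ω` which agree on differentials are equal. -/
theorem omega_ext (F : X.Modules) (a b : Omega.sheaf f ⟶ F)
    (h : ∀ (U : X.Opens) (s : Γ(X, U)), a.app U (OmegaSh.dSect f U s) = b.app U (OmegaSh.dSect f U s)) :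
    a = b := by
  refine hom_ext_germ fun W s x hx => ?_
  obtain ⟨U, hU, hxU, e⟩ := exists_small f W x hx
  let L : (c : Omega.sheaf f ⟶ F) → (OmAff.sectMod (Omega.sheaf f) U ⟶ OmAff.sectMod F U) := fun c =>
    ModuleCat.ofHom { toFun := c.app U, map_add' := map_add _, map_smul' := fun r m => c.app_smul r m }
  have := congr($(linearMap_ext f hU (L a) (L b) (h U)) ((Omega.sheaf f).presheaf.map (homOfLE e).op s))
  have h1 : a.app U ((Omega.sheaf f).presheaf.map (homOfLE e).op s) =
      b.app U ((Omega.sheaf f).presheaf.map (homOfLE e).op s) := this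
  rw [app_res, app_res] at h1
  have h2 := congrArg (F.presheaf.germ U x hxU) h1
  rwa [TopCat.Presheaf.germ_res_apply, TopCat.Presheaf.germ_res_apply] at h2

/-- A derivation on sections over an open lying over an open of the base. -/
noncomputable def derOn {F : X.Modules} (D : OmegaSh.Der f F) (V : S.Opens) (U : X.Opens) (e : U ≤ f ⁻¹ᵁ V) :
    (OmAff.sectMod F U).Derivation (f.appLE V U e) :=
  ModuleCat.Derivation.mk (fun b => D.app U b) (fun a b => map_add _ a b) (fun a b => D.d_mul (X := op U) a b)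
    fun c => by
      show D.d (X := op U) (X.presheaf.map (homOfLE e).op (f.app V c)) = 0
      rw [D.d_map]
      exact (congrArg _ (D.d_app (X := op V) c)).trans (map_zero _)

/-- Every derivation factors through `dOmega`. -/
theorem exists_desc (F : X.Modules) (D : OmegaSh.Der f F) :
    ∃ α : Omega.sheaf f ⟶ F, ∀ (U : X.Opens) (s : Γ(X, U)), α.app U (OmegaSh.dSect f U s) = D.app U s := by
  have hmap : ∀ U : X.Opens, Small f U → ∃ L : OmAff.sectMod (Omega.sheaf f) U ⟶ OmAff.sectMod F U,
      ∀ b, L (OmegaSh.dSect f U b) = D.app U b := by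
    intro U hU
    obtain ⟨hUa, V, hV, e⟩ := hU
    have := OmegaLocal.isIso_toSect f hUa hV e
    refine ⟨inv (OmAff.toSect f V U e) ≫ (derOn f D V U e).desc, fun b => ?_⟩
    have h1 : inv (OmAff.toSect f V U e) (OmegaSh.dSect f U b) = CommRingCat.KaehlerDifferential.d b := by
      rw [← OmAff.toSect_d f V U e b, ← ConcreteCategory.comp_apply, IsIso.hom_inv_id]
      rfl
    rw [ConcreteCategory.comp_apply, h1]
    exact (derOn f D V U e).desc_d b
  choose L hL using hmap
  obtain ⟨α, hα⟩ := exists_hom_of_basis (Omega.sheaf f) F (Small f) (exists_small f)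
    (fun U h => (L U h).hom) (fun U U' h h' e s => by
      obtain ⟨hUa, V, hV, eV⟩ := h
      letI : Module Γ(X, U) Γ(F, U') := Module.compHom _ (X.presheaf.map (homOfLE e).op).hom
      let A : OmAff.sectMod (Omega.sheaf f) U ⟶ ModuleCat.of Γ(X, U) Γ(F, U') :=
        ModuleCat.ofHom
          { toFun := fun s => (L U' h') ((Omega.sheaf f).presheaf.map (homOfLE e).op s)
            map_add' := fun a b => by rw [map_add, map_add]
            map_smul' := fun r m => by
              rw [Scheme.Modules.map_smul]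
              exact (L U' h').hom.map_smul _ _ }
      let B : OmAff.sectMod (Omega.sheaf f) U ⟶ ModuleCat.of Γ(X, U) Γ(F, U') :=
        ModuleCat.ofHom
          { toFun := fun s => F.presheaf.map (homOfLE e).op (L U ⟨hUa, V, hV, eV⟩ s)
            map_add' := fun a b => by rw [map_add, map_add]
            map_smul' := fun r m => by
              rw [show L U ⟨hUa, V, hV, eV⟩ (r • m) = r • L U ⟨hUa, V, hV, eV⟩ m from (L U _).hom.map_smul r m]
              exact Scheme.Modules.map_smul F _ r _ }
      refine congr($(linearMap_ext f ⟨hUa, V, hV, eV⟩ A B fun b => ?_) s)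
      show L U' h' ((Omega.sheaf f).presheaf.map (homOfLE e).op (OmegaSh.dSect f U b)) =
        F.presheaf.map (homOfLE e).op (L U _ (OmegaSh.dSect f U b))
      erw [← OmegaSh.dSect_map]; rw [hL, hL]
      exact D.d_map (homOfLE e).op b)
  refine ⟨α, fun U s => germ_ext fun x hx => ?_⟩
  obtain ⟨U', hU', hxU', e⟩ := exists_small f U x hx
  rw [← F.presheaf.germ_res_apply (homOfLE e) x hxU' (α.app U _),
    ← F.presheaf.germ_res_apply (homOfLE e) x hxU' (D.app U s), ← app_res]
  erw [← OmegaSh.dSect_map]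
  rw [hα U' hU']
  refine congrArg _ ((hL U' hU' _).trans ?_)
  exact D.d_map (homOfLE e).op s

theorem isUniversal_dOmega : OmegaSh.IsUniversal (OmegaSh.dOmega f) := by
  intro F D
  obtain ⟨α, hα⟩ := exists_desc f F D
  refine ⟨α, ?_, fun β hβ => omega_ext f F β α fun U s => ?_⟩
  · exact PresheafOfModules.Derivation.ext (funext fun U => AddMonoidHom.ext fun s => hα U.unop s)
  · rw [hα]
    exact congr($(congrArg (fun d : OmegaSh.Der f F => d.app U) hβ) s)

/-- `d` kills `1`. -/
theorem dSect_one (U : X.Opens) : OmegaSh.dSect f U 1 = 0 := (OmegaSh.dOmega f).d_one (op U)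

end Groth.Agent.H17.PrinOmega
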