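import Groth.Agent.H17.PrinStalk
import Groth.Agent.H16Derived.KFlat.SheafStalk

/-! Direct image along a morphism which is a homeomorphism preserves colimits of modules. -/

set_option autoImplicit false
set_option linter.style.haveILetI false
universe u

open CategoryTheory CategoryTheory.Limits AlgebraicGeometry TopologicalSpace

namespace Groth.Agent.H17.PushColim

open H16Derived.KFlat.Stalk PrinStalk

variable {X Z : Scheme.{u}}

/-- The stalk of an `O_X`-module as an abelian group, functorially. -/
noncomputable abbrev stalkAb (x : X) : X.Modules ⥤ AddCommGrpCat.{u} :=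
  toAb ⋙ TopCat.Sheaf.forget AddCommGrpCat.{u} X.toPresheafedSpace.carrier ⋙
    TopCat.Presheaf.stalkFunctor AddCommGrpCat.{u} x

instance (x : X) : PreservesColimitsOfSize.{u, u} (stalkAb x) :=
  preservesColimits_of_natIso (stalkAbIso x)

theorem isIso_of_stalkAb {M N : X.Modules} (φ : M ⟶ N) (h : ∀ x : X, IsIso ((stalkAb x).map φ)) :
    IsIso φ := by
  have : ∀ x : X.toPresheafedSpace.carrier,
      IsIso ((TopCat.Presheaf.stalkFunctor AddCommGrpCat.{u} x).map (toAb.map φ).hom) := h
  have := TopCat.Presheaf.isIso_of_stalkFunctor_map_iso (toAb.map φ)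
  exact isIso_of_reflects_iso φ toAb

/-- A functor into `O_X`-modules whose stalks preserve colimits preserves colimits. -/
theorem preservesColimits_of_stalkAb {A : Type*} [Category.{u} A] [HasColimitsOfSize.{u, u} A]
    (G : A ⥤ X.Modules) (h : ∀ x : X, PreservesColimitsOfSize.{u, u} (G ⋙ stalkAb x)) :
    PreservesColimitsOfSize.{u, u} G := by
  refine ⟨fun {J} _ => ⟨fun {K} => ?_⟩⟩
  suffices IsIso (colimit.post K G) from preservesColimit_of_isIso_post G K
  refine isIso_of_stalkAb _ fun x => ?_
  have := h x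
  have h1 : IsIso (colimit.post K (G ⋙ stalkAb x)) := inferInstance
  rw [← colimit.post_post K G (stalkAb x)] at h1
  exact @IsIso.of_isIso_comp_left _ _ _ _ _ (colimit.post (K ⋙ G) (stalkAb x)) ((stalkAb x).map (colimit.post K G))
    inferInstance h1

theorem preservesColimits_pushforward (p : Z ⟶ X) (hp : Topology.IsInducing p.base)
    (hs : Function.Surjective p.base) :
    PreservesColimitsOfSize.{u, u} (Scheme.Modules.pushforward p) := by
  refine preservesColimits_of_stalkAb _ fun x => ?_
  obtain ⟨y, hy⟩ := hs x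
  let e : Scheme.Modules.pushforward p ⋙ stalkAb x ≅ stalkAb y :=
    NatIso.ofComponents
      (fun E => (AddEquiv.ofBijective (pushTo p E y hy) (pushTo_bijective p hp E y hy)).toAddCommGrpIso)
      fun {E E'} φ => by
        ext σ
        obtain ⟨U, hU, σ, rfl⟩ :=
          ((Scheme.Modules.pushforward p).obj E).presheaf.exists_germ_eq σ
        show pushTo p E' y hy ((TopCat.Presheaf.stalkFunctor Ab.{u} x).map
            ((Scheme.Modules.pushforward p).map φ).mapPresheaf _) =
          (TopCat.Presheaf.stalkFunctor Ab.{u} y).map φ.mapPresheaf (pushTo p E y hy _)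
        rw [pushTo_germ, TopCat.Presheaf.stalkFunctor_map_germ_apply, pushTo_germ,
          TopCat.Presheaf.stalkFunctor_map_germ_apply]
        rfl
  exact preservesColimits_of_natIso e.symm

theorem subsingleton_stalk_push (p : Z ⟶ X) (hc : Topology.IsClosedEmbedding p.base) (M : Z.Modules)
    {x : X} (hx : x ∉ Set.range p.base) :
    Subsingleton (((Scheme.Modules.pushforward p).obj M).presheaf.stalk x) :=
  subsingleton_of_forall_eq 0 fun a => by
    obtain ⟨U, hxU, t, rfl⟩ := TopCat.Presheaf.exists_germ_eq _ a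
    let V : X.Opens := U ⊓ ⟨(Set.range p.base)ᶜ, hc.isClosed_range.isOpen_compl⟩
    have hV : p ⁻¹ᵁ V = ⊥ := Opens.ext (Set.eq_empty_iff_forall_notMem.2 fun z hz => hz.2 ⟨z, rfl⟩)
    haveI : Subsingleton Γ(Z, p ⁻¹ᵁ V) := by rw [hV]; infer_instance
    haveI : Subsingleton Γ(M, p ⁻¹ᵁ V) := Module.subsingleton Γ(Z, p ⁻¹ᵁ V) _
    let t' : Γ(M, p ⁻¹ᵁ V) := ((Scheme.Modules.pushforward p).obj M).presheaf.map (homOfLE (inf_le_left : V ≤ U)).op t
    have h0 : t' = 0 := Subsingleton.elim _ _
    rw [← TopCat.Presheaf.germ_res_apply _ (homOfLE (inf_le_left : V ≤ U)) x ⟨hxU, hx⟩]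
    erw [show ((Scheme.Modules.pushforward p).obj M).presheaf.map (homOfLE (inf_le_left : V ≤ U)).op t = 0 from h0,
      map_zero]

theorem preservesColimits_pushforward_of_isClosedEmbedding (p : Z ⟶ X)
    (hc : Topology.IsClosedEmbedding p.base) :
    PreservesColimitsOfSize.{u, u} (Scheme.Modules.pushforward p) := by
  refine preservesColimits_of_stalkAb _ fun x => ?_
  by_cases hx : x ∈ Set.range p.base
  swap
  · have hzero : ∀ M : Z.Modules, IsZero ((Scheme.Modules.pushforward p ⋙ stalkAb x).obj M) := fun M => by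
      haveI : Subsingleton ((Scheme.Modules.pushforward p ⋙ stalkAb x).obj M) := subsingleton_stalk_push p hc M hx
      exact AddCommGrpCat.isZero_of_subsingleton _
    exact ⟨fun {J} _ => ⟨fun {K} => ⟨fun {c} _ => ⟨{
      desc := fun s => 0
      fac := fun s j => (hzero _).eq_of_src _ _
      uniq := fun s m _ => (hzero _).eq_of_src _ _ }⟩⟩⟩⟩
  have hp := hc.isInducing
  obtain ⟨y, hy⟩ := hx
  let e : Scheme.Modules.pushforward p ⋙ stalkAb x ≅ stalkAb y :=
    NatIso.ofComponents
      (fun E => (AddEquiv.ofBijective (pushTo p E y hy) (pushTo_bijective p hp E y hy)).toAddCommGrpIso)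
      fun {E E'} φ => by
        ext σ
        obtain ⟨U, hU, σ, rfl⟩ :=
          ((Scheme.Modules.pushforward p).obj E).presheaf.exists_germ_eq σ
        show pushTo p E' y hy ((TopCat.Presheaf.stalkFunctor Ab.{u} x).map
            ((Scheme.Modules.pushforward p).map φ).mapPresheaf _) =
          (TopCat.Presheaf.stalkFunctor Ab.{u} y).map φ.mapPresheaf (pushTo p E y hy _)
        rw [pushTo_germ, TopCat.Presheaf.stalkFunctor_map_germ_apply, pushTo_germ,
          TopCat.Presheaf.stalkFunctor_map_germ_apply]
        rfl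
  exact preservesColimits_of_natIso e.symm

end Groth.Agent.H17.PushColim
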