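import Groth.Agent.LeadProper.Supp
import Groth.Agent.H8Props.RelFP.PullSections
import Mathlib

/-!
# The annihilator ideal sheaf of a module of finite type
-/

set_option autoImplicit false
set_option linter.style.haveILetI false

universe u

open CategoryTheory AlgebraicGeometry TopologicalSpace Opposite TensorProduct

namespace Groth.Agent.H17.AnnSheaf

/-- Annihilators of finite modules commute with flat base change. -/
theorem annihilator_baseChange {A B : Type u} [CommRing A] [CommRing B] [Algebra A B] [Module.Flat A B]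
    {M M' : Type u} [AddCommGroup M] [Module A M] [Module.Finite A M] [AddCommGroup M'] [Module A M']
    [Module B M'] [IsScalarTower A B M'] {f : M →ₗ[A] M'} (hf : IsBaseChange B f) :
    Module.annihilator B M' = (Module.annihilator A M).map (algebraMap A B) := by
  refine le_antisymm (fun b hb => ?_) ?_
  · obtain ⟨n, e, he⟩ := Module.Finite.exists_fin (R := A) (M := M)
    let I := Module.annihilator A M
    let φ : A →ₗ[A] (Fin n → M) := LinearMap.pi fun i => LinearMap.toSpanSingleton A M (e i)
    have hex : Function.Exact (Submodule.subtype I) φ := by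
      intro a
      refine ⟨fun ha => ⟨⟨a, Module.mem_annihilator.2 fun m => ?_⟩, rfl⟩, ?_⟩
      · have hm : m ∈ Submodule.span A (Set.range e) := he ▸ Submodule.mem_top
        induction hm using Submodule.span_induction with
        | mem m hm => obtain ⟨i, rfl⟩ := hm; exact congrFun ha i
        | zero => exact smul_zero _
        | add x y _ _ hx hy => rw [smul_add, hx, hy, add_zero]
        | smul r x _ hx => rw [smul_comm, hx, smul_zero]
      · rintro ⟨c, rfl⟩
        funext i
        exact Module.mem_annihilator.1 c.2 (e i)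
    have hT := Module.Flat.lTensor_exact B hex
    have hz : φ.lTensor B (b ⊗ₜ 1) = 0 := by
      rw [LinearMap.lTensor_tmul]
      apply (TensorProduct.piRight A B B fun _ : Fin n => M).injective
      rw [map_zero]
      funext i
      apply hf.equiv.injective
      rw [Pi.zero_apply, map_zero, TensorProduct.piRight_apply, TensorProduct.piRightHom_tmul, IsBaseChange.equiv_tmul]
      exact Module.mem_annihilator.1 hb _
    obtain ⟨z, hz'⟩ := (hT _).1 hz
    have hb' : ∀ z : B ⊗[A] I, TensorProduct.rid A B ((Submodule.subtype I).lTensor B z) ∈ I.map (algebraMap A B) := by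
      intro z
      induction z using TensorProduct.induction_on with
      | zero => simp
      | tmul c a =>
        rw [LinearMap.lTensor_tmul, TensorProduct.rid_tmul, Algebra.smul_def]
        exact Ideal.mul_mem_right _ _ (Ideal.mem_map_of_mem _ a.2)
      | add x y hx hy => rw [map_add, map_add]; exact add_mem hx hy
    have := hb' z
    rwa [hz', TensorProduct.rid_tmul, one_smul] at this
  · rw [Ideal.map_le_iff_le_comap]
    intro a ha
    refine Module.mem_annihilator.2 fun m => ?_
    induction m using hf.inductionOn with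
    | zero => exact smul_zero _
    | tmul m => rw [algebraMap_smul, ← map_smul, Module.mem_annihilator.1 ha, map_zero]
    | smul r x hx => rw [smul_comm, hx, smul_zero]
    | add x y hx hy => rw [smul_add, hx, hy, add_zero]

variable {X : Scheme.{u}} (F : X.Modules) (hF : Coh.IsQCoh F) (hft : CohB1.IsFT F)

include hF hft in
theorem map_annihilator_basicOpen (U : X.affineOpens) (t : Γ(X, U.1)) :
    (Module.annihilator Γ(X, U.1) Γ(F, U.1)).map (X.presheaf.map (homOfLE <| X.basicOpen_le t).op).hom =
      Module.annihilator Γ(X, X.basicOpen t) Γ(F, X.basicOpen t) := by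
  haveI := H29Fitt.finite_sections F hF hft U
  letI := Module.compHom Γ(F, X.basicOpen t) (algebraMap Γ(X, U.1) Γ(X, X.basicOpen t))
  haveI := U.2.isLocalization_basicOpen t
  haveI : IsScalarTower Γ(X, U.1) Γ(X, X.basicOpen t) Γ(F, X.basicOpen t) :=
    .of_algebraMap_smul fun _ _ => rfl
  haveI := H29Fitt.isLocalizedModule_resLin F hF U.2 t
  haveI : Module.Flat Γ(X, U.1) Γ(X, X.basicOpen t) := IsLocalization.flat _ (Submonoid.powers t)
  exact (annihilator_baseChange ((isLocalizedModule_iff_isBaseChange (Submonoid.powers t)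
    Γ(X, X.basicOpen t) (H29Fitt.resLin F t)).mp inferInstance)).symm

/-- The annihilators on affine opens as an ideal sheaf. -/
noncomputable def annData : X.IdealSheafData :=
  { ideal := fun U => Module.annihilator Γ(X, U.1) Γ(F, U.1)
    map_ideal_basicOpen := fun U t => map_annihilator_basicOpen F hF hft U t }

theorem killedByIdeal_annData : ClSub.KilledByIdeal (annData F hF hft) F :=
  fun _ _ ha m => Module.mem_annihilator.1 ha m

theorem isIso_unit_annData :
    IsIso ((Scheme.Modules.pullbackPushforwardAdjunction (annData F hF hft).subschemeι).unit.app F) :=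
  LeadProper.isIso_unit_of_killedByIdeal F hF _ (by
    rw [Scheme.IdealSheafData.ker_subschemeι]
    exact killedByIdeal_annData F hF hft)

theorem le_annData (J : X.IdealSheafData)
    (h : IsIso ((Scheme.Modules.pullbackPushforwardAdjunction J.subschemeι).unit.app F)) :
    J ≤ annData F hF hft := fun U a ha => by
  refine Module.mem_annihilator.2 fun m => ?_
  haveI := h
  have hinj := (H17.PullSect.bijective_app ((Scheme.Modules.pullbackPushforwardAdjunction J.subschemeι).unit.app F) U.1).1
  refine hinj ?_
  have hz : J.subschemeι.app U.1 a = 0 := by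
    have : a ∈ J.subschemeι.ker.ideal U := by rw [Scheme.IdealSheafData.ker_subschemeι]; exact ha
    rwa [Scheme.Hom.ker_apply] at this
  refine (OmegaSh.pullSect_smul J.subschemeι F U.1 a m).trans ?_
  rw [hz, zero_smul]
  exact (map_zero _).symm

theorem support_annData : ((annData F hF hft).support : Set X) = CohB1.support F := by
  rw [LeadProper.support_eq_fitt F hF hft]
  ext x
  obtain ⟨U, hU, hxU, -⟩ := exists_isAffineOpen_mem_and_subset (U := (⊤ : X.Opens)) (x := x) trivial
  haveI := H29Fitt.finite_sections F hF hft ⟨U, hU⟩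
  rw [SetLike.mem_coe, SetLike.mem_coe, H29Fitt.mem_support_iff F hF hft 0 hU ⟨x, hxU⟩,
    Scheme.IdealSheafData.mem_support_iff_of_mem (U := ⟨U, hU⟩) hxU, Scheme.mem_zeroLocus_iff]
  constructor
  · intro h a ha
    exact (H29Blow.mem_primeIdealOf_iff hU ⟨x, hxU⟩ a).mpr fun hu =>
      h a (H29Fitt.ideal_zero_le_annihilator ha) ((X.mem_basicOpen a x hxU).mpr hu)
  · intro h a ha hmem
    have hp := (hU.primeIdealOf ⟨x, hxU⟩).isPrime.radical_le_iff.2 h
      (H29Fitt.annihilator_le_radical_ideal_zero ha)
    exact (H29Blow.mem_primeIdealOf_iff hU ⟨x, hxU⟩ a).mp hp ((X.mem_basicOpen a x hxU).mp hmem)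

theorem comap_annData {Y : Scheme.{u}} (f : Y ⟶ X) [Flat f] :
    (annData F hF hft).comap f = annData ((Scheme.Modules.pullback f).obj F)
      (H29Fitt.isQCoh_pullback f F hF) (H29Fitt.isFT_pullback f F hF hft) := by
  have hU' : ∀ y : Y, ∃ (U : X.affineOpens) (V : Y.affineOpens), y ∈ V.1 ∧ V.1 ≤ f ⁻¹ᵁ U.1 := fun y => by
    obtain ⟨U, hU, hxU, -⟩ := exists_isAffineOpen_mem_and_subset (U := (⊤ : X.Opens)) (x := f y) trivial
    obtain ⟨V, hV, hxV, hle⟩ := exists_isAffineOpen_mem_and_subset (U := f ⁻¹ᵁ U) (x := y) hxU
    exact ⟨⟨U, hU⟩, ⟨V, hV⟩, hxV, hle⟩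
  choose U V hxV hle using hU'
  refine Scheme.IdealSheafData.ext_of_iSup_eq_top V
    (eq_top_iff.2 fun x _ => Opens.mem_iSup.2 ⟨x, hxV x⟩) fun i => ?_
  rw [H29Blow.ideal_comap _ f (U i) (V i) (hle i)]
  haveI := H29Fitt.finite_sections F hF hft (U i)
  haveI : F.IsQuasicoherent := hF
  letI := (f.appLE (U i).1 (V i).1 (hle i)).hom.toAlgebra
  letI := Module.compHom Γ((Scheme.Modules.pullback f).obj F, (V i).1) (f.appLE (U i).1 (V i).1 (hle i)).hom
  haveI : IsScalarTower Γ(X, (U i).1) Γ(Y, (V i).1) Γ((Scheme.Modules.pullback f).obj F, (V i).1) :=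
    .of_algebraMap_smul fun _ _ => rfl
  haveI : Module.Flat Γ(X, (U i).1) Γ(Y, (V i).1) := f.flat_appLE (U i).2 (V i).2 (hle i)
  exact (annihilator_baseChange
    (H8Props.PullSections.isBaseChange_pullLin f F (hle i) hF (U i).2 (V i).2)).symm

end Groth.Agent.H17.AnnSheaf
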