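import Groth.Agent.S4730
import Mathlib.RingTheory.AlgebraicIndependent.TranscendenceBasis
import Mathlib.RingTheory.Ideal.Height
import Mathlib.RingTheory.FiniteType

/-! The dimension inequality. -/

set_option autoImplicit false

universe u

open Polynomial Cardinal

namespace Groth.Agent.H17.DimIneq

theorem height_add_one_le_of_ker_ne_bot {A B : Type u} [CommRing A] [IsDomain A] [CommRing B]
    (φ : A →+* B) (hφ : Function.Surjective φ) (hker : RingHom.ker φ ≠ ⊥) (q : Ideal B) [q.IsPrime] :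
    q.height + 1 ≤ (q.comap φ).height := by
  let z : PrimeSpectrum A := ⟨⊥, Ideal.isPrime_bot⟩
  let g : WithBot (PrimeSpectrum B) → PrimeSpectrum A :=
    fun x => WithBot.recBotCoe z (fun Q => PrimeSpectrum.comap φ Q) x
  have hlt : ∀ Q : PrimeSpectrum B, z < PrimeSpectrum.comap φ Q := fun Q =>
    show (⊥ : Ideal A) < (Q.asIdeal).comap φ from
      bot_lt_iff_ne_bot.2 fun h => hker (le_bot_iff.1 (h ▸ Ideal.ker_le_comap φ))
  have hg : StrictMono g := by
    intro a b hab
    cases b with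
    | bot => exact absurd hab not_lt_bot
    | coe Q' =>
      cases a with
      | bot => exact hlt Q'
      | coe Q =>
        have h : Q.asIdeal < Q'.asIdeal := (WithBot.coe_lt_coe.1 hab : Q < Q')
        show (Q.asIdeal).comap φ < (Q'.asIdeal).comap φ
        exact lt_of_le_of_ne (Ideal.comap_mono h.le) fun e => h.ne (Ideal.comap_injective_of_surjective φ hφ e)
  have h1 := Order.height_le_height_apply_of_strictMono g hg ((⟨q, inferInstance⟩ : PrimeSpectrum B) : WithBot _)
  rw [Order.height_coe_withBot, ← PrimeSpectrum.height_eq_orderHeight, ← PrimeSpectrum.height_eq_orderHeight] at h1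
  exact h1

/-- One generator. -/
theorem ineq_single (T A : Type u) [CommRing T] [IsNoetherianRing T] [IsDomain T] [CommRing A] [IsDomain A]
    [Algebra T A] [FaithfulSMul T A] (x : A) (hx : Algebra.adjoin T {x} = ⊤)
    (p : Ideal T) [p.IsPrime] (q : Ideal A) [q.IsPrime] [q.LiesOver p] :
    (q.height : Cardinal.{u}) + Algebra.trdeg (T ⧸ p) (A ⧸ q) ≤
      (p.height : Cardinal.{u}) + Algebra.trdeg T A := by
  let φ : T[X] →ₐ[T] A := Polynomial.aeval x
  have hφ : Function.Surjective φ := by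
    rw [← AlgHom.range_eq_top, ← Algebra.adjoin_singleton_eq_range_aeval, hx]
  let Q : Ideal T[X] := q.comap φ
  haveI : Q.LiesOver p := ⟨by
    rw [Ideal.LiesOver.over (p := p) (P := q)]
    ext t
    simp [Q, φ, Ideal.under, Polynomial.aeval_C]⟩
  have h30 := Groth.Agent.S4730.result T p Q
  let e : (T[X] ⧸ Q) ≃ₐ[T ⧸ p] (A ⧸ q) := AlgEquiv.ofRingEquiv
    (f := RingEquiv.ofBijective (Ideal.quotientMap q φ.toRingHom le_rfl)
      ⟨Ideal.quotientMap_injective, fun b => by
        obtain ⟨a, rfl⟩ := Ideal.Quotient.mk_surjective b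
        obtain ⟨c, rfl⟩ := hφ a
        exact ⟨Ideal.Quotient.mk Q c, rfl⟩⟩)
    (fun c => by
      obtain ⟨t, rfl⟩ := Ideal.Quotient.mk_surjective c
      show Ideal.Quotient.mk q (φ (Polynomial.C t)) = Ideal.Quotient.mk q (algebraMap T A t)
      rw [Polynomial.aeval_C])
  rw [← e.trdeg_eq]
  by_cases hker : RingHom.ker φ.toRingHom = ⊥
  · have hinj : Function.Injective φ := (RingHom.injective_iff_ker_eq_bot _).2 hker
    let ψ : T[X] ≃ₐ[T] A := AlgEquiv.ofBijective φ ⟨hinj, hφ⟩
    rw [← ψ.trdeg_eq, Polynomial.trdeg_of_isDomain, h30]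
    have hQ : q.height = Q.height := by
      have := RingEquiv.height_comap ψ.toRingEquiv q
      exact this.symm
    rw [hQ]
  · have halg : Algebra.IsAlgebraic T A := by
      obtain ⟨f, hf, hf0⟩ : ∃ f : T[X], f ∈ RingHom.ker φ.toRingHom ∧ f ≠ 0 := by
        by_contra h
        push_neg at h
        exact hker (le_bot_iff.1 fun f hf => h f hf)
      have hxalg : IsAlgebraic T x := ⟨f, hf0, hf⟩
      refine ⟨fun a => ?_⟩
      have hle : Algebra.adjoin T {x} ≤ Subalgebra.algebraicClosure T A :=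
        Algebra.adjoin_le (Set.singleton_subset_iff.2 hxalg)
      exact hle (hx ▸ Algebra.mem_top)
    rw [trdeg_eq_zero (R := T) (A := A), add_zero]
    have h1 : q.height + 1 ≤ Q.height := height_add_one_le_of_ker_ne_bot φ.toRingHom hφ hker q
    have h2 : (q.height : Cardinal.{u}) + 1 + Algebra.trdeg (T ⧸ p) (T[X] ⧸ Q) ≤ (p.height : Cardinal.{u}) + 1 := by
      rw [h30]
      gcongr
      rw [← Cardinal.ofENat_one, ← Cardinal.ofENat_add]
      exact_mod_cast h1
    refine (Cardinal.add_le_add_iff_of_lt_aleph0 one_lt_aleph0).1 ?_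
    calc (q.height : Cardinal.{u}) + Algebra.trdeg (T ⧸ p) (T[X] ⧸ Q) + 1
        = (q.height : Cardinal.{u}) + 1 + Algebra.trdeg (T ⧸ p) (T[X] ⧸ Q) := by
          rw [add_right_comm]
      _ ≤ _ := h2

/-- The dimension inequality. -/
theorem ineq (R : Type u) [CommRing R] [IsDomain R]
    [IsNoetherianRing R] (S : Type u) [CommRing S] [IsDomain S] [Algebra R S]
    [FaithfulSMul R S] [Algebra.FiniteType R S] (p : Ideal R) [p.IsPrime] (q : Ideal S) [q.IsPrime]
    [q.LiesOver p] :
    (q.height : Cardinal.{u}) + Algebra.trdeg (R ⧸ p) (S ⧸ q) ≤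
      (p.height : Cardinal.{u}) + Algebra.trdeg R S := by
  classical
  obtain ⟨gens, hgens⟩ := ‹Algebra.FiniteType R S›.out
  suffices key : ∀ (s : Finset S) (A : Subalgebra R S), A = Algebra.adjoin R (s : Set S) →
      ∀ (p : Ideal R) [p.IsPrime] (q : Ideal A) [q.IsPrime] [q.LiesOver p],
        (q.height : Cardinal.{u}) + Algebra.trdeg (R ⧸ p) (A ⧸ q) ≤
          (p.height : Cardinal.{u}) + Algebra.trdeg R A by
    let e : (⊤ : Subalgebra R S) ≃ₐ[R] S := Subalgebra.topEquiv
    haveI : (q.comap e.toRingEquiv.toRingHom).LiesOver p := ⟨by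
      rw [Ideal.LiesOver.over (p := p) (P := q)]; rfl⟩
    have h := key gens ⊤ hgens.symm p (q.comap e.toRingEquiv.toRingHom)
    rw [show (q.comap e.toRingEquiv.toRingHom).height = q.height from RingEquiv.height_comap e.toRingEquiv q,
      e.trdeg_eq] at h
    let e' : ((⊤ : Subalgebra R S) ⧸ q.comap e.toRingEquiv.toRingHom) ≃ₐ[R ⧸ p] (S ⧸ q) :=
      AlgEquiv.ofRingEquiv (f := RingEquiv.ofBijective (Ideal.quotientMap q e.toRingEquiv.toRingHom le_rfl)
        ⟨Ideal.quotientMap_injective, fun b => by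
          obtain ⟨a, rfl⟩ := Ideal.Quotient.mk_surjective b
          obtain ⟨c, rfl⟩ := e.surjective a
          exact ⟨Ideal.Quotient.mk _ c, rfl⟩⟩) (fun c => by
          obtain ⟨t, rfl⟩ := Ideal.Quotient.mk_surjective c
          rfl)
    rwa [e'.trdeg_eq] at h
  intro s
  induction s using Finset.induction with
  | empty =>
    intro A hA p _ q _ _
    rw [Finset.coe_empty, Algebra.adjoin_empty] at hA
    subst hA
    have hb : Function.Bijective (algebraMap R (⊥ : Subalgebra R S)) :=
      ⟨fun a b h => FaithfulSMul.algebraMap_injective R S (congrArg Subtype.val h),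
        fun ⟨y, hy⟩ => by obtain ⟨a, ha⟩ := Algebra.mem_bot.1 hy; exact ⟨a, Subtype.ext ha⟩⟩
    haveI : Algebra.IsAlgebraic R (⊥ : Subalgebra R S) :=
      ⟨fun a => by obtain ⟨r, rfl⟩ := hb.2 a; exact isAlgebraic_algebraMap r⟩
    haveI : Algebra.IsAlgebraic (R ⧸ p) ((⊥ : Subalgebra R S) ⧸ q) := ⟨fun a => by
      obtain ⟨a, rfl⟩ := Ideal.Quotient.mk_surjective a
      obtain ⟨r, rfl⟩ := hb.2 a
      exact isAlgebraic_algebraMap (Ideal.Quotient.mk p r)⟩
    rw [trdeg_eq_zero, trdeg_eq_zero, add_zero, add_zero]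
    have : q.height = p.height := by
      rw [Ideal.LiesOver.over (p := p) (P := q)]
      exact (RingEquiv.height_comap (RingEquiv.ofBijective _ hb) q).symm
    rw [this]
  | insert x s _ ih =>
    intro A hA p _ q _ _
    set T := Algebra.adjoin R (s : Set S) with hT
    have hTA : T ≤ A := hA ▸ Algebra.adjoin_mono (by simp)
    haveI : Algebra.FiniteType R T := (Subalgebra.fg_iff_finiteType T).1 (Subalgebra.fg_adjoin_finset s)
    haveI : IsNoetherianRing T := Algebra.FiniteType.isNoetherianRing R T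
    letI : Algebra T A := (Subalgebra.inclusion hTA).toRingHom.toAlgebra
    haveI : IsScalarTower R T A := IsScalarTower.of_algebraMap_eq fun _ => rfl
    haveI : FaithfulSMul T A :=
      (faithfulSMul_iff_algebraMap_injective T A).2 (Subalgebra.inclusion_injective hTA)
    haveI : FaithfulSMul R T := (faithfulSMul_iff_algebraMap_injective R T).2
      (fun a b h => FaithfulSMul.algebraMap_injective R S (congrArg Subtype.val h))
    have hxA : x ∈ A := hA ▸ Algebra.subset_adjoin (by simp)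
    have hgen : Algebra.adjoin T {(⟨x, hxA⟩ : A)} = ⊤ := by
      rw [eq_top_iff]
      rintro ⟨a, ha⟩ -
      have ha' : a ∈ Algebra.adjoin R ((insert x s : Finset S) : Set S) := hA ▸ ha
      have h2 : Algebra.adjoin R ((insert x s : Finset S) : Set S) ≤
          ((Algebra.adjoin T {(⟨x, hxA⟩ : A)}).restrictScalars R).map A.val := by
        refine Algebra.adjoin_le fun z hz => ?_
        rcases Finset.mem_insert.1 hz with rfl | hz
        · exact ⟨⟨z, hxA⟩, Algebra.self_mem_adjoin_singleton _ _, rfl⟩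
        · exact ⟨algebraMap T A ⟨z, Algebra.subset_adjoin hz⟩,
            (show _ ∈ Algebra.adjoin T {(⟨x, hxA⟩ : A)} from Subalgebra.algebraMap_mem _ _), rfl⟩
      obtain ⟨b, hb, hba⟩ := h2 ha'
      have : b = (⟨a, ha⟩ : A) := Subtype.ext hba
      exact this ▸ hb
    let qT : Ideal T := q.under T
    haveI : q.LiesOver qT := ⟨rfl⟩
    haveI : qT.LiesOver p := ⟨by
      rw [Ideal.LiesOver.over (p := p) (P := q)]; rfl⟩
    have h1 := ineq_single T A ⟨x, hxA⟩ hgen qT q
    have h2 := ih T rfl p qT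
    haveI : IsScalarTower (R ⧸ p) (T ⧸ qT) (A ⧸ q) := IsScalarTower.of_algebraMap_eq fun c => by
      obtain ⟨t, rfl⟩ := Ideal.Quotient.mk_surjective c; rfl
    haveI : FaithfulSMul (R ⧸ p) (T ⧸ qT) := (faithfulSMul_iff_algebraMap_injective _ _).2
      ((injective_iff_map_eq_zero _).2 fun c hc => by
        obtain ⟨r, rfl⟩ := Ideal.Quotient.mk_surjective c
        rw [Ideal.Quotient.eq_zero_iff_mem, Ideal.LiesOver.over (p := p) (P := qT)]
        exact (Ideal.Quotient.eq_zero_iff_mem (I := qT)).1 hc)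
    haveI : FaithfulSMul (T ⧸ qT) (A ⧸ q) := (faithfulSMul_iff_algebraMap_injective _ _).2
      ((injective_iff_map_eq_zero _).2 fun c hc => by
        obtain ⟨r, rfl⟩ := Ideal.Quotient.mk_surjective c
        rw [Ideal.Quotient.eq_zero_iff_mem, Ideal.LiesOver.over (p := qT) (P := q)]
        exact (Ideal.Quotient.eq_zero_iff_mem (I := q)).1 hc)
    rw [← trdeg_add_eq (R ⧸ p) (T ⧸ qT) (A := A ⧸ q), ← trdeg_add_eq R T (A := A)]
    calc (q.height : Cardinal.{u}) + (Algebra.trdeg (R ⧸ p) (T ⧸ qT) + Algebra.trdeg (T ⧸ qT) (A ⧸ q))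
        = Algebra.trdeg (R ⧸ p) (T ⧸ qT) + ((q.height : Cardinal.{u}) + Algebra.trdeg (T ⧸ qT) (A ⧸ q)) := by
          ring
      _ ≤ Algebra.trdeg (R ⧸ p) (T ⧸ qT) + ((qT.height : Cardinal.{u}) + Algebra.trdeg T A) := by gcongr
      _ = ((qT.height : Cardinal.{u}) + Algebra.trdeg (R ⧸ p) (T ⧸ qT)) + Algebra.trdeg T A := by ring
      _ ≤ ((p.height : Cardinal.{u}) + Algebra.trdeg R T) + Algebra.trdeg T A := by gcongr
      _ = _ := by ring

end Groth.Agent.H17.DimIneq
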