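import Mathlib.AlgebraicGeometry.Morphisms.ClosedImmersion
import Mathlib.AlgebraicGeometry.AffineScheme

/-! Kernels of stalk maps of morphisms which are closed immersions over an affine open. -/

set_option autoImplicit false

universe u

open CategoryTheory AlgebraicGeometry TopologicalSpace

namespace Groth.Agent.H17

variable {X Z : Scheme.{u}} (i : Z ⟶ X)

theorem app_surjective_of_restrict {U : X.Opens} (hU : IsAffineOpen U) [IsClosedImmersion (i ∣_ U)] :
    Function.Surjective (i.app U) ∧ IsAffineOpen (i ⁻¹ᵁ U) := by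
  haveI : IsAffine (U : Scheme.{u}) := hU
  obtain ⟨h₁, h₂⟩ := IsClosedImmersion.isAffine_surjective_of_isAffine (i ∣_ U)
  refine ⟨?_, h₁⟩
  have aux : ∀ V : X.Opens, V = U → Function.Surjective (i.app V) → Function.Surjective (i.app U) := by
    rintro V rfl h
    exact h
  refine aux _ U.ι_image_top ?_
  intro b
  change Function.Surjective ((i ∣_ U).app ⊤) at h₂
  rw [morphismRestrict_app] at h₂
  obtain ⟨a, ha⟩ := h₂ (Z.presheaf.map (eqToHom (image_morphismRestrict_preimage i U ⊤)).op b)
  refine ⟨a, ?_⟩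
  have hbij : Function.Bijective
      (Z.presheaf.map (eqToHom (image_morphismRestrict_preimage i U ⊤)).op) :=
    ConcreteCategory.bijective_of_isIso _
  apply hbij.1
  exact ha

/-- The kernel of the stalk map is generated by the kernel on the affine open. -/
theorem ker_stalkMap_eq_map {U : X.Opens} (hU : IsAffineOpen U) [IsClosedImmersion (i ∣_ U)]
    (z : Z) (hz : i z ∈ U) :
    RingHom.ker (i.stalkMap z).hom =
      (RingHom.ker (i.app U).hom).map (X.presheaf.germ U (i z) hz).hom := by
  obtain ⟨hsurj, hW'⟩ := app_surjective_of_restrict i hU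
  refine le_antisymm (fun b hb => ?_) ?_
  · rw [RingHom.mem_ker] at hb
    let := TopCat.Presheaf.algebra_section_stalk X.presheaf (⟨i z, hz⟩ : U)
    have := hU.isLocalization_stalk ⟨i z, hz⟩
    obtain ⟨⟨w, s⟩, hws⟩ := IsLocalization.surj (hU.primeIdealOf ⟨i z, hz⟩).asIdeal.primeCompl b
    change b * X.presheaf.germ U (i z) hz (s : Γ(X, U)) = X.presheaf.germ U (i z) hz w at hws
    have hw0 : Z.presheaf.germ (i ⁻¹ᵁ U) z hz (i.app U w) = 0 := by
      rw [← Scheme.Hom.germ_stalkMap_apply, ← hws, map_mul, hb, zero_mul]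
    let := TopCat.Presheaf.algebra_section_stalk Z.presheaf (⟨z, hz⟩ : i ⁻¹ᵁ U)
    have := hW'.isLocalization_stalk ⟨z, hz⟩
    obtain ⟨⟨c, hc⟩, hcw⟩ := (IsLocalization.map_eq_zero_iff
      (hW'.primeIdealOf ⟨z, hz⟩).asIdeal.primeCompl (Z.presheaf.stalk z) _).mp hw0
    obtain ⟨t, ht⟩ := hsurj c
    have htw : t * w ∈ RingHom.ker (i.app U).hom := by
      rw [RingHom.mem_ker, map_mul]
      erw [ht]; exact hcw
    have htu : IsUnit (X.presheaf.germ U (i z) hz t) := by
      have h1 : IsUnit (Z.presheaf.germ (i ⁻¹ᵁ U) z hz c) :=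
        IsLocalization.map_units (Z.presheaf.stalk z)
          (⟨c, hc⟩ : (hW'.primeIdealOf ⟨z, hz⟩).asIdeal.primeCompl)
      rw [← ht] at h1
      erw [← Scheme.Hom.germ_stalkMap_apply] at h1
      exact isUnit_of_map_unit (i.stalkMap z).hom _ h1
    have hsu : IsUnit (X.presheaf.germ U (i z) hz (s : Γ(X, U))) :=
      IsLocalization.map_units (X.presheaf.stalk (i z)) s
    have h2 := Ideal.mem_map_of_mem (X.presheaf.germ U (i z) hz).hom htw
    rw [map_mul] at h2
    rw [Ideal.unit_mul_mem_iff_mem _ htu] at h2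
    change (X.presheaf.germ U (i z) hz).hom w ∈ _ at h2
    rw [show (X.presheaf.germ U (i z) hz).hom w = b * X.presheaf.germ U (i z) hz (s : Γ(X, U))
      from hws.symm] at h2
    exact (Ideal.mul_unit_mem_iff_mem _ hsu).mp h2
  · rw [Ideal.map_le_iff_le_comap]
    intro w hw
    rw [Ideal.mem_comap, RingHom.mem_ker]
    change i.stalkMap z (X.presheaf.germ U (i z) hz w) = 0
    rw [Scheme.Hom.germ_stalkMap_apply]
    rw [RingHom.mem_ker] at hw
    erw [hw]
    rw [map_zero]

end Groth.Agent.H17
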