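import Groth.Agent.H17.Imports

universe u
open CategoryTheory AlgebraicGeometry

namespace Groth.Agent.H17

theorem ker_eq_vanishingIdeal {X Y : Scheme.{u}} [IsReduced X] (π : X ⟶ Y) :
    π.ker = Scheme.IdealSheafData.vanishingIdeal ⟨closure (Set.range π), isClosed_closure⟩ := by
  set J := Scheme.IdealSheafData.vanishingIdeal (X := Y) ⟨closure (Set.range π), isClosed_closure⟩
  apply le_antisymm
  · exact (Scheme.IdealSheafData.le_support_iff_le_vanishingIdeal).mp
      (π.ker.support.isClosed.closure_subset_iff.mpr π.range_subset_ker_support)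
  · refine Scheme.IdealSheafData.le_ofIdeals_iff.mpr fun U a ha => ?_
    change a ∈ RingHom.ker _
    rw [RingHom.mem_ker, ← basicOpen_eq_bot_iff, ← Scheme.preimage_basicOpen,
      ← TopologicalSpace.Opens.coe_eq_empty, Set.eq_empty_iff_forall_notMem]
    intro x hx
    have hxV : π x ∈ (U : Y.Opens) := Y.basicOpen_le a hx
    simp only [J, Scheme.IdealSheafData.vanishingIdeal_ideal, PrimeSpectrum.mem_vanishingIdeal] at ha
    have h4 := ha (U.2.primeIdealOf ⟨π x, hxV⟩) (by
      simpa [U.2.fromSpec_primeIdealOf] using subset_closure (Set.mem_range_self x))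
    have h2 : U.2.primeIdealOf ⟨π x, hxV⟩ ∈ U.2.fromSpec ⁻¹ᵁ Y.basicOpen a := by
      show U.2.fromSpec _ ∈ Y.basicOpen a
      rw [U.2.fromSpec_primeIdealOf]; exact hx
    rw [U.2.fromSpec_preimage_basicOpen] at h2
    exact h2 h4

/-- A morphism from a reduced scheme factors through a closed immersion iff its range does. -/
theorem exists_lift_of_range_subset {X Y Z : Scheme.{u}} [IsReduced X] (f : X ⟶ Y) (j : Z ⟶ Y)
    [IsClosedImmersion j] (h : Set.range f ⊆ Set.range j) : ∃ g : X ⟶ Z, g ≫ j = f := by
  refine ⟨IsClosedImmersion.lift j f ?_, IsClosedImmersion.lift_fac _ _ _⟩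
  rw [ker_eq_vanishingIdeal f, ← Scheme.IdealSheafData.le_support_iff_le_vanishingIdeal]
  refine closure_minimal (h.trans j.range_subset_ker_support) j.ker.support.isClosed

end Groth.Agent.H17
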