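import Groth.Agent.H11Ample.Converse
import Groth.Prelude.Def_Pic
import Mathlib.AlgebraicGeometry.Pullbacks
import Mathlib.CategoryTheory.Limits.Shapes.Pullback.Pasting

/-! Pullback of classes of modules: functoriality, invertibility. -/

set_option autoImplicit false
universe u

open CategoryTheory CategoryTheory.Limits AlgebraicGeometry

namespace Groth.Agent.H17.PullCl

variable {X Y Z : Scheme.{u}}

theorem pullCl_comp (f : X ⟶ Y) (g : Y ⟶ Z) (c : PicF.Cl Z) :
    PicF.pullCl (f ≫ g) c = PicF.pullCl f (PicF.pullCl g c) := by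
  induction c using Quot.ind with
  | mk L => exact Quot.sound ⟨((Scheme.Modules.pullbackComp f g).app L).symm⟩

theorem pullCl_id (c : PicF.Cl X) : PicF.pullCl (𝟙 X) c = c := by
  induction c using Quot.ind with
  | mk L => exact Quot.sound ⟨(Scheme.Modules.pullbackId X).app L⟩

theorem isInvertibleCl_pullCl (f : X ⟶ Y) {c : PicF.Cl Y} (hc : PicF.IsInvertibleCl c) :
    PicF.IsInvertibleCl (PicF.pullCl f c) := by
  obtain ⟨L, rfl, hL⟩ := hc
  exact ⟨_, rfl, H11Ample.isInvertible_pullback f hL⟩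

theorem pullCl_congr {f g : X ⟶ Y} (h : f = g) (c : PicF.Cl Y) : PicF.pullCl f c = PicF.pullCl g c := by rw [h]

variable {S S' : Scheme.{u}} (f : X ⟶ S) (g : S' ⟶ S)

@[reassoc]
theorem XTmap_fst {T T' : Over S} (h : T' ⟶ T) :
    PicF.XTmap f h ≫ pullback.fst f T.hom = pullback.fst f T'.hom :=
  (pullback.lift_fst _ _ _).trans (Category.comp_id _)

@[reassoc]
theorem XTmap_snd {T T' : Over S} (h : T' ⟶ T) :
    PicF.XTmap f h ≫ pullback.snd f T.hom = pullback.snd f T'.hom ≫ h.left :=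
  pullback.lift_snd _ _ _

/-- `X_{S'} ×_{S'} T ≅ X ×_S T` as a morphism. -/
noncomputable def toXT (T : Over S') : PicF.XT (pullback.snd f g) T ⟶ PicF.XT f (Over.mk (T.hom ≫ g)) :=
  (pullbackLeftPullbackSndIso f g T.hom).hom

theorem XTmap_toXT {T T' : Over S'} (h : T' ⟶ T) :
    PicF.XTmap (pullback.snd f g) h ≫ toXT f g T =
      toXT f g T' ≫ PicF.XTmap f (Over.homMk (U := Over.mk (T'.hom ≫ g)) (V := Over.mk (T.hom ≫ g)) h.left (by
        simp [reassoc_of% Over.w h])) := by
  apply pullback.hom_ext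
  · rw [Category.assoc, Category.assoc, XTmap_fst]
    erw [pullbackLeftPullbackSndIso_hom_fst, pullbackLeftPullbackSndIso_hom_fst]
    rw [XTmap_fst_assoc]
  · rw [Category.assoc, Category.assoc, XTmap_snd]
    erw [pullbackLeftPullbackSndIso_hom_snd, pullbackLeftPullbackSndIso_hom_snd_assoc]
    exact XTmap_snd _ h

theorem inv_XTmap {T T' : Over S'} (h : T' ⟶ T) :
    (pullbackLeftPullbackSndIso f g T'.hom).inv ≫ PicF.XTmap (pullback.snd f g) h =
      PicF.XTmap f (Over.homMk (U := Over.mk (T'.hom ≫ g)) (V := Over.mk (T.hom ≫ g)) h.left (by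
        simp [reassoc_of% Over.w h])) ≫ (pullbackLeftPullbackSndIso f g T.hom).inv := by
  rw [Iso.inv_comp_eq, ← Category.assoc, Iso.eq_comp_inv]
  exact XTmap_toXT f g h

theorem XTmap_comp {T T' T'' : Over S} (a : T' ⟶ T) (b : T'' ⟶ T') :
    PicF.XTmap f (b ≫ a) = PicF.XTmap f b ≫ PicF.XTmap f a := by
  apply pullback.hom_ext
  · rw [Category.assoc, XTmap_fst, XTmap_fst, XTmap_fst]
  · rw [Category.assoc, XTmap_snd, XTmap_snd, XTmap_snd_assoc]
    rfl

end Groth.Agent.H17.PullCl
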