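import Mathlib.RingTheory.Valuation.LocalSubring
import Mathlib.RingTheory.EssentialFiniteness
import Mathlib.RingTheory.IntegralClosure.IsIntegralClosure.Basic
import Mathlib.Algebra.Polynomial.Reverse
import Mathlib.RingTheory.Nakayama

/-! A local extension inside a field which is dominated by every valuation ring dominating the base. -/

set_option autoImplicit false

universe u

open IsLocalRing Polynomial

namespace Groth.Agent.H17.LocalRange

variable {A K : Type u} [CommRing A] [Field K] [Algebra A K]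

theorem isIntegral_of_mem_adjoin_inv {b : K} (hb : b ≠ 0) (h : b ∈ Algebra.adjoin A {b⁻¹}) :
    IsIntegral A b := by
  rw [Algebra.adjoin_singleton_eq_range_aeval] at h
  obtain ⟨p, hp⟩ := h
  replace hp : aeval b⁻¹ p = b := hp
  let q : A[X] := 1 - X * p
  have h0 : q.coeff 0 = 1 := by simp [q]
  haveI : Invertible b⁻¹ := invertibleOfNonzero (inv_ne_zero hb)
  rcases subsingleton_or_nontrivial A with hA | hA
  · exact absurd (by rw [← map_one (algebraMap A K), Subsingleton.elim (1 : A) 0, map_zero] : (1 : K) = 0) one_ne_zero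
  refine ⟨q.reverse, ?_, ?_⟩
  · show q.reverse.leadingCoeff = 1
    rw [reverse_leadingCoeff, trailingCoeff_eq_coeff_zero, h0]
    rw [h0]; exact one_ne_zero
  · have e : (⅟(b⁻¹) : K) = b := by rw [invOf_eq_inv, inv_inv]
    conv_lhs => rw [← e]
    rw [eval₂_reverse_eq_zero_iff, ← aeval_def]
    simp [q, hp, inv_mul_cancel₀ hb]

/-- A non-integral element is omitted by some valuation ring dominating the base. -/
theorem exists_valuation_not_mem [IsLocalRing A] {b : K} (hb : ¬ IsIntegral A b) :
    ∃ (V : ValuationSubring K) (hV : ∀ a, algebraMap A K a ∈ V.toSubring),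
      IsLocalHom ((algebraMap A K).codRestrict V.toSubring hV) ∧ b ∉ V := by
  have hb0 : b ≠ 0 := fun h => hb (h ▸ isIntegral_zero)
  let T := Algebra.adjoin A ({b⁻¹} : Set K)
  let t : T := ⟨b⁻¹, Algebra.self_mem_adjoin_singleton A _⟩
  have ht : ¬ IsUnit t := by
    intro hu
    obtain ⟨s, hs⟩ := isUnit_iff_exists_inv.1 hu
    refine hb (isIntegral_of_mem_adjoin_inv hb0 ?_)
    have h := congrArg Subtype.val hs
    change b⁻¹ * (s : K) = 1 at h
    have e : b = (s : K) := by
      calc b = b * (b⁻¹ * (s : K)) := by rw [h, mul_one]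
        _ = (s : K) := by rw [← mul_assoc, mul_inv_cancel₀ hb0, one_mul]
    exact (congrArg (fun x => x ∈ T) e).mpr s.2
  obtain ⟨M, hM, htM⟩ := exists_max_ideal_of_mem_nonunits (show t ∈ nonunits T from ht)
  have hconst : ∀ s : T, ∃ c : A, s - algebraMap A T c ∈ M := by
    rintro ⟨s, hs⟩
    induction hs using Algebra.adjoin_induction with
    | mem z hz => exact ⟨0, by rw [map_zero, sub_zero]; obtain rfl := Set.mem_singleton_iff.1 hz; exact htM⟩
    | algebraMap r => exact ⟨r, by convert M.zero_mem; exact sub_self _⟩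
    | add z w hz hw h₁ h₂ =>
      obtain ⟨c, hc⟩ := h₁; obtain ⟨d, hd⟩ := h₂
      refine ⟨c + d, ?_⟩
      convert M.add_mem hc hd using 1
      rw [map_add]; exact add_sub_add_comm (⟨z, hz⟩ : T) ⟨w, hw⟩ _ _
    | mul z w hz hw h₁ h₂ =>
      obtain ⟨c, hc⟩ := h₁; obtain ⟨d, hd⟩ := h₂
      refine ⟨c * d, ?_⟩
      convert M.add_mem (M.mul_mem_right (⟨w, hw⟩ : T) hc) (M.mul_mem_left (algebraMap A T c) hd) using 1
      rw [map_mul]
      show (⟨z, hz⟩ : T) * ⟨w, hw⟩ - _ = _
      ring
  have hmA : ∀ a ∈ maximalIdeal A, algebraMap A T a ∈ M := by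
    intro a ha
    by_contra haM
    obtain ⟨s, m, hm, hsm⟩ := hM.exists_inv haM
    obtain ⟨c, hc⟩ := hconst s
    have h1 : algebraMap A T (c * a - 1) ∈ M := by
      have : algebraMap A T (c * a - 1) = -((s - algebraMap A T c) * algebraMap A T a) - m := by
        rw [map_sub, map_mul, map_one, ← hsm]; ring
      rw [this]
      exact M.sub_mem (M.neg_mem (M.mul_mem_right _ hc)) hm
    have hu : IsUnit (c * a - 1) := by
      have : IsUnit (1 - c * a) := IsLocalRing.isUnit_one_sub_self_of_mem_nonunits _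
        (Ideal.mul_mem_left _ c ha)
      simpa using this.neg
    exact hM.ne_top (Ideal.eq_top_of_isUnit_mem M h1 (hu.map _))
  let L := Localization.AtPrime M
  let g : L →+* K := IsLocalization.lift (M := M.primeCompl) (g := T.val.toRingHom) fun y =>
    isUnit_iff_ne_zero.2 fun h => y.2 (by
      have : (y.1 : T) = 0 := Subtype.ext h
      rw [this]; exact M.zero_mem)
  have hg : ∀ s : T, g (algebraMap T L s) = (s : K) := fun s => IsLocalization.lift_eq _ s
  obtain ⟨V, hV, hloc⟩ := IsLocalRing.exists_factor_valuationRing g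
  have hVA : ∀ a, algebraMap A K a ∈ V.toSubring := fun a => by
    have := hV (algebraMap T L (algebraMap A T a)); rwa [hg] at this
  have hnu : ∀ s ∈ M, ¬ IsUnit ((g.codRestrict V.toSubring hV) (algebraMap T L s)) := fun s hs hu =>
    ((IsLocalization.AtPrime.to_map_mem_maximal_iff L M s).2 hs) (hloc.map_nonunit _ hu)
  refine ⟨V, hVA, ⟨fun a ha => ?_⟩, fun hbV => ?_⟩
  · by_contra h
    refine hnu _ (hmA a ((mem_maximalIdeal a).2 h)) ?_
    convert ha using 1
    exact Subtype.ext (hg _)
  · refine hnu t htM ?_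
    refine isUnit_iff_exists_inv.2 ⟨⟨b, hbV⟩, Subtype.ext ?_⟩
    show g (algebraMap T L t) * b = 1
    rw [hg]; exact inv_mul_cancel₀ hb0

/-- The key criterion: the two images coincide. -/
theorem range_eq {B : Type u} [CommRing B] [IsLocalRing A] [IsLocalRing B] [Algebra A B]
    [IsLocalHom (algebraMap A B)] [Algebra.EssFiniteType A B] (ρ : B →ₐ[A] K)
    (hm : (maximalIdeal A).map (algebraMap A B) = maximalIdeal B)
    (hres : ∀ b : B, ∃ a : A, b - algebraMap A B a ∈ maximalIdeal B)
    (hdom : ∀ (V : ValuationSubring K) (hV : ∀ a, algebraMap A K a ∈ V.toSubring),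
      IsLocalHom ((algebraMap A K).codRestrict V.toSubring hV) →
        ∃ h : ∀ b, ρ b ∈ V.toSubring, IsLocalHom (ρ.toRingHom.codRestrict V.toSubring h)) :
    Set.range ρ = Set.range (algebraMap A K) := by
  classical
  have hint : ∀ b : B, IsIntegral A (ρ b) := fun b => by
    by_contra h
    obtain ⟨V, hV, hloc, hb⟩ := exists_valuation_not_mem h
    obtain ⟨hρ, -⟩ := hdom V hV hloc
    exact hb (hρ b)
  obtain ⟨σ, hσ⟩ := (Algebra.essFiniteType_iff A B).1 ‹Algebra.EssFiniteType A B›
  let S : Subalgebra A K := Algebra.adjoin A ((σ.image ρ : Finset K) : Set K)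
  have hS : (Subalgebra.toSubmodule S).FG :=
    fg_adjoin_of_finite (Finset.finite_toSet _) fun x hx => by
      simp only [Finset.coe_image, Set.mem_image] at hx
      obtain ⟨b, -, rfl⟩ := hx; exact hint b
  haveI : Module.Finite A S := ⟨(Submodule.fg_top (Subalgebra.toSubmodule S)).2 hS⟩
  have hmemS : ∀ b ∈ Algebra.adjoin A (σ : Set B), ρ b ∈ S := fun b hb => by
    have h1 : ρ b ∈ (Algebra.adjoin A (σ : Set B)).map ρ := ⟨b, hb, rfl⟩
    rw [AlgHom.map_adjoin] at h1
    simpa [S] using h1
  have hunit : ∀ v ∈ Algebra.adjoin A (σ : Set B), IsUnit v → ∃ w : K, w ∈ S ∧ ρ v * w = 1 := by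
    intro v hv hu
    by_contra hne
    have hnu : ¬ IsUnit (⟨ρ v, hmemS v hv⟩ : S) := fun hu' => by
      obtain ⟨w, hw⟩ := isUnit_iff_exists_inv.1 hu'
      exact hne ⟨w, w.2, congrArg Subtype.val hw⟩
    obtain ⟨M, hM, hvM⟩ := exists_max_ideal_of_mem_nonunits hnu
    let L := Localization.AtPrime M
    let g : L →+* K := IsLocalization.lift (M := M.primeCompl) (g := S.val.toRingHom) fun y =>
      isUnit_iff_ne_zero.2 fun h => y.2 (by
        have : (y.1 : S) = 0 := Subtype.ext h
        rw [this]; exact M.zero_mem)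
    have hg : ∀ s : S, g (algebraMap S L s) = (s : K) := fun s => IsLocalization.lift_eq _ s
    obtain ⟨V, hV, hloc⟩ := IsLocalRing.exists_factor_valuationRing g
    have hVA : ∀ a, algebraMap A K a ∈ V.toSubring := fun a => by
      have := hV (algebraMap S L (algebraMap A S a)); rwa [hg] at this
    have hmax : (M.comap (algebraMap A S)).IsMaximal := Ideal.isMaximal_comap_of_isIntegral_of_isMaximal M
    have hnuV : ∀ s ∈ M, ¬ IsUnit ((g.codRestrict V.toSubring hV) (algebraMap S L s)) := fun s hs hu =>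
      ((IsLocalization.AtPrime.to_map_mem_maximal_iff L M s).2 hs) (hloc.map_nonunit _ hu)
    obtain ⟨hρ, hρloc⟩ := hdom V hVA ⟨fun a ha => by
      by_contra h
      have h1 : a ∈ M.comap (algebraMap A S) := by
        rw [IsLocalRing.eq_maximalIdeal hmax]; exact (mem_maximalIdeal a).2 h
      refine hnuV _ h1 ?_
      convert ha using 1
      exact Subtype.ext (hg _)⟩
    refine hnuV _ hvM ?_
    convert hu.map (ρ.toRingHom.codRestrict V.toSubring hρ) using 1
    exact Subtype.ext (hg _)
  have hBS : ∀ b, ρ b ∈ S := fun b => by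
    obtain ⟨v, hv, hu, hbv⟩ := hσ b
    obtain ⟨w, hw, hvw⟩ := hunit v hv hu
    rw [show ρ b = ρ (b * v) * w by rw [map_mul, mul_assoc, hvw, mul_one]]
    exact S.mul_mem (hmemS _ hbv) hw
  let N : Submodule A K := Subalgebra.toSubmodule S
  have hρS : ∀ s ∈ S, ∃ b, ρ b = s := by
    intro s hs
    have : S ≤ ρ.range := Algebra.adjoin_le fun x hx => by
      simp only [Finset.coe_image, Set.mem_image] at hx
      obtain ⟨b, -, rfl⟩ := hx; exact ⟨b, rfl⟩
    exact this hs
  have hle : N ≤ LinearMap.range (Algebra.linearMap A K) := by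
    refine Submodule.le_of_le_smul_of_le_jacobson_bot (I := maximalIdeal A) hS
      (IsLocalRing.maximalIdeal_le_jacobson _) fun s hs => ?_
    obtain ⟨b, rfl⟩ := hρS s hs
    obtain ⟨a, ha⟩ := hres b
    rw [← hm, Ideal.map] at ha
    have key : ρ (b - algebraMap A B a) ∈ maximalIdeal A • N := by
      generalize b - algebraMap A B a = d at ha ⊢
      induction ha using Submodule.span_induction with
      | mem z hz =>
        obtain ⟨c, hc, rfl⟩ := hz
        rw [AlgHom.commutes, Algebra.algebraMap_eq_smul_one]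
        exact Submodule.smul_mem_smul hc S.one_mem
      | zero => rw [map_zero]; exact Submodule.zero_mem _
      | add z w _ _ hz hw => rw [map_add]; exact Submodule.add_mem _ hz hw
      | smul r z _ hz =>
        rw [smul_eq_mul, map_mul]
        refine Submodule.smul_induction_on hz (fun c hc n hn => ?_) (fun z w hz hw => by rw [mul_add]; exact Submodule.add_mem _ hz hw)
        rw [mul_smul_comm]
        exact Submodule.smul_mem_smul hc (S.mul_mem (hBS r) hn)
    rw [map_sub, AlgHom.commutes] at key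
    exact Submodule.mem_sup.2 ⟨algebraMap A K a, ⟨a, rfl⟩, _, key, by abel⟩
  refine Set.Subset.antisymm ?_ ?_
  · rintro _ ⟨b, rfl⟩
    exact hle (hBS b)
  · rintro _ ⟨a, rfl⟩
    exact ⟨algebraMap A B a, ρ.commutes a⟩

end Groth.Agent.H17.LocalRange
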