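import Groth.Agent.H17.Imports

/-! Closure of the image of a quasi-compact morphism. -/

universe u
open CategoryTheory AlgebraicGeometry

namespace Groth.Agent.H17

/-- Every point in the closure of the image of a quasi-compact morphism is a specialization of a
point of the image. -/
theorem exists_specializes_of_mem_closure_range {X Y : Scheme.{u}} (f : X ⟶ Y) [QuasiCompact f]
    {y : Y} (hy : y ∈ closure (Set.range f)) : ∃ x, f x ⤳ y := by
  obtain ⟨_, ⟨(V : Y.Opens), hV, rfl⟩, hyV, -⟩ :=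
    Y.isBasis_affineOpens.exists_subset_of_mem_open (Set.mem_univ y) isOpen_univ
  replace hV : IsAffineOpen V := hV
  have : CompactSpace (f ⁻¹ᵁ V).toScheme :=
    isCompact_iff_compactSpace.mp (f.isCompact_preimage hV.isCompact)
  obtain ⟨R, g, hg⟩ := compactSpace_iff_exists.mp this
  have hle : Set.range (g ≫ (f ⁻¹ᵁ V).ι ≫ f) ⊆ Set.range hV.fromSpec := by
    rintro _ ⟨t, rfl⟩
    rw [hV.range_fromSpec]
    exact (g t).2
  obtain ⟨φ, hφ⟩ := Spec.map_surjective (IsOpenImmersion.lift hV.fromSpec _ hle)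
  have hfac : Spec.map φ ≫ hV.fromSpec = g ≫ (f ⁻¹ᵁ V).ι ≫ f := by
    rw [hφ, IsOpenImmersion.lift_fac]
  let q : PrimeSpectrum Γ(Y, V) := hV.primeIdealOf ⟨y, hyV⟩
  have hq : hV.fromSpec q = y := hV.fromSpec_primeIdealOf _
  have hmem : q ∈ closure (Set.range (PrimeSpectrum.comap φ.hom)) := by
    refine mem_closure_iff.mpr fun O hO hqO => ?_
    obtain ⟨_, ⟨o, ho, rfl⟩, x, hx⟩ := mem_closure_iff.mp hy _
      (hV.fromSpec.isOpenEmbedding.isOpenMap O hO) ⟨q, hqO, hq⟩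
    have hxV : f x ∈ (V : Set Y) := by rw [← hV.range_fromSpec]; exact ⟨o, hx.symm⟩
    have hxV' : x ∈ f ⁻¹ᵁ V := hxV
    obtain ⟨t, ht⟩ := hg ⟨x, hxV'⟩
    refine ⟨_, ?_, t, rfl⟩
    have h1 : hV.fromSpec (PrimeSpectrum.comap φ.hom t) = f x := by
      refine (congr($hfac t)).trans ?_
      exact congr(f ((f ⁻¹ᵁ V).ι $ht))
    rw [hV.fromSpec.isOpenEmbedding.injective (h1.trans hx)]; exact ho
  rw [PrimeSpectrum.closure_range_comap, PrimeSpectrum.mem_zeroLocus] at hmem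
  obtain ⟨p, hp, hpq⟩ := Ideal.exists_minimalPrimes_le (SetLike.coe_subset_coe.mp hmem)
  rw [RingHom.ker_eq_comap_bot] at hp
  obtain ⟨p', hp', -, hp'c⟩ := Ideal.exists_comap_eq_of_mem_minimalPrimes φ.hom p hp
  refine ⟨(f ⁻¹ᵁ V).ι (g ⟨p', hp'⟩), ?_⟩
  have hle' : PrimeSpectrum.comap φ.hom ⟨p', hp'⟩ ≤ q := by
    show p'.comap φ.hom ≤ q.asIdeal
    rw [hp'c]; exact hpq
  have h3 := ((PrimeSpectrum.le_iff_specializes _ _).mp hle').map hV.fromSpec.continuous
  have h4 := congr($hfac ⟨p', hp'⟩)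
  rw [← hq]
  exact h4 ▸ h3

end Groth.Agent.H17
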