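import Groth.Agent.H10Coh.FinType2
import Groth.Agent.H10Coh.QcqsPush
import Groth.Agent.H10Coh.Local
import Groth.Agent.H11Tilde.Gen
import Groth.Agent.H29Blow.IdealMod

/-!
Coherent submodules through given sections of quasi-coherent modules on Noetherian schemes (EGA I 9.4.9).
-/

set_option autoImplicit false
set_option linter.style.haveILetI false
set_option backward.isDefEq.respectTransparency false

noncomputable section

universe u

open CategoryTheory CategoryTheory.Limits AlgebraicGeometry Opposite TopologicalSpace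

namespace Groth.Agent.H17.CohSub

variable {X : Scheme.{u}}

/-- The map `O_V ⟶ H|_V` of a section. -/
def secHom (H : X.Modules) (V : X.Opens) (g : Γ(H, V)) : Coh.structureModule (↑V : Scheme.{u}) ⟶ H.restrict V.ι :=
  (H.restrict V.ι).unitHomEquiv.symm (H11Tilde.genSections H V g)

theorem secHom_app_one (H : X.Modules) (V : X.Opens) (g : Γ(H, V)) (W : (↑V : Scheme.{u}).Opens) :
    (secHom H V g).app W (H10Coh.oneSec W) =
      (H.restrictAppIso V.ι W).inv (H.presheaf.map (homOfLE (V.ι_image_le W)).op g) := by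
  have h := congr_arg (fun s : (H.restrict V.ι).val.sections => s.1 (op W))
    ((H.restrict V.ι).unitHomEquiv.apply_symm_apply (H11Tilde.genSections H V g))
  exact h

theorem exists_shrink [QuasiSeparatedSpace X] (H : X.Modules) (hH : Coh.IsQCoh H) {V : X.Opens}
    (hV : IsAffineOpen V) (S : Finset Γ(H, V)) :
    ∃ (H' : X.Modules) (k : H' ⟶ H), Mono k ∧ Coh.IsQCoh H' ∧
      Module.Finite Γ(X, V) Γ(H', V) ∧
      ∀ (W : X.Opens) (t : Γ(H, W)),
        (∀ x ∈ W ⊓ V, ∃ (D : X.Opens) (_ : x ∈ D) (hW : D ≤ W) (hD : D ≤ V),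
          H.presheaf.map (homOfLE hW).op t ∈
            Submodule.span Γ(X, D) (H.presheaf.map (homOfLE hD).op '' (S : Set Γ(H, V)))) →
        t ∈ Set.range (k.app W) := by
  haveI : H.IsQuasicoherent := hH
  haveI : IsAffine (↑V : Scheme.{u}) := hV
  haveI hq₁ := Scheme.Modules.isQuasicoherent_restrictFunctor V.ι H
  obtain ⟨a, ha⟩ := H10Coh.exists_free_desc (X := (↑V : Scheme.{u})) (I := ↥(S : Set Γ(H, V)))
    (fun g => secHom H V g.1)
  haveI hfree : (H10Coh.freeMod (↑V : Scheme.{u}) ↥(S : Set Γ(H, V))).IsQuasicoherent :=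
    H10Coh.isQuasicoherent_coproduct' _
  let C : (↑V : Scheme.{u}).Modules := cokernel a
  haveI hC : C.IsQuasicoherent := H10Coh.isQuasicoherent_cokernel a
  let c : H.restrict V.ι ⟶ C := cokernel.π a
  haveI : QuasiCompact V.ι := ⟨fun U hU hU' => by
    rw [V.ι.isOpenEmbedding.isInducing.isCompact_iff, Set.image_preimage_eq_inter_range, Scheme.Opens.range_ι]
    exact hU'.inter_of_isOpen hV.isCompact hU V.2⟩
  haveI hQ : ((Scheme.Modules.pushforward V.ι).obj C).IsQuasicoherent :=
    H10Coh.isQuasicoherent_pushforward V.ι C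
  let q : H ⟶ (Scheme.Modules.pushforward V.ι).obj C :=
    (Scheme.Modules.restrictAdjunction V.ι).unit.app H ≫ (Scheme.Modules.pushforward V.ι).map c
  have hq : ∀ (W : X.Opens) (t : Γ(H, W)), q.app W t =
      c.app (V.ι ⁻¹ᵁ W) ((H.restrictAppIso V.ι _).inv
        (H.presheaf.map (homOfLE (V.ι.image_preimage_le W)).op t)) := fun W t => rfl
  haveI hK : (kernel q).IsQuasicoherent := H10Coh.isQuasicoherent_kernel q
  refine ⟨kernel q, kernel.ι q, inferInstance, hK, ?_, fun W t ht => ?_⟩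
  · -- sections over `V` are generated by `S`
    have hker : ∀ y : Γ(kernel q, V), (kernel.ι q).app V y ∈ Submodule.span Γ(X, V) (S : Set Γ(H, V)) := by
      intro y
      have h0 : q.app V ((kernel.ι q).app V y) = 0 := by
        rw [← ConcreteCategory.comp_apply, ← Scheme.Modules.Hom.comp_app, kernel.condition]
        rfl
      rw [hq] at h0
      obtain ⟨z, hz⟩ := H29Blow.exists_kernelι_app_eq c _ _ h0
      haveI : (kernel c).IsQuasicoherent := H10Coh.isQuasicoherent_kernel c
      let p : H10Coh.freeMod (↑V : Scheme.{u}) ↥(S : Set Γ(H, V)) ⟶ kernel c := Abelian.factorThruImage a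
      haveI : Epi p := inferInstanceAs (Epi (Abelian.factorThruImage a))
      have hp : p ≫ kernel.ι c = a := Abelian.image.fac a
      have haff : IsAffineOpen (V.ι ⁻¹ᵁ V) := by rw [V.ι_preimage_self]; exact isAffineOpen_top _
      obtain ⟨w, rfl⟩ := H10Coh.surjective_app_of_epi p haff z
      rw [← ConcreteCategory.comp_apply, ← Scheme.Modules.Hom.comp_app, hp] at hz
      have hle : V.ι ''ᵁ V.ι ⁻¹ᵁ V ≤ V := V.ι.image_preimage_le V
      have heq : V ≤ V.ι ''ᵁ V.ι ⁻¹ᵁ V := by
        rw [V.ι.image_preimage_eq_opensRange_inf, V.opensRange_ι, inf_idem]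
      have key : ∀ w : Γ(H10Coh.freeMod (↑V : Scheme.{u}) ↥(S : Set Γ(H, V)), V.ι ⁻¹ᵁ V),
          H.presheaf.map (homOfLE heq).op ((H.restrictAppIso V.ι _).hom (a.app _ w)) ∈
            Submodule.span Γ(X, V) (S : Set Γ(H, V)) := by
        intro w
        have hw := H10Coh.free_sections_span _ _ w
        induction hw using Submodule.span_induction with
        | mem v hv =>
          obtain ⟨g, rfl⟩ := hv
          rw [← ConcreteCategory.comp_apply ((H10Coh.freeIncl _ g).app (V.ι ⁻¹ᵁ V)) (a.app _),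
            ← Scheme.Modules.Hom.comp_app, ha, secHom_app_one]
          refine Submodule.subset_span ?_
          convert g.2 using 1
          exact (H10Coh.mres_mres H _ _ _).trans (H10Coh.mres_self H _ _)
        | zero => simp
        | add u v _ _ hu hv => rw [map_add, map_add, map_add]; exact add_mem hu hv
        | smul r v _ hv =>
          rw [Scheme.Modules.Hom.app_smul, Scheme.Modules.smul_restrictAppIso_hom_apply, Scheme.Modules.map_smul]
          exact Submodule.smul_mem _ _ hv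
      have h1 := key w
      rw [hz] at h1
      convert h1 using 1
      exact ((H10Coh.mres_mres H _ _ _).trans (H10Coh.mres_self H _ _)).symm
    classical
    let l : Γ(kernel q, V) →ₗ[Γ(X, V)] Γ(H, V) :=
      { toFun := (kernel.ι q).app V, map_add' := map_add _, map_smul' := fun r m => (kernel.ι q).app_smul r m }
    have hrange : LinearMap.range l = Submodule.span Γ(X, V) (S : Set Γ(H, V)) := by
      refine le_antisymm (by rintro _ ⟨y, rfl⟩; exact hker y) (Submodule.span_le.2 fun g hg => ?_)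
      exact H29Blow.exists_kernelι_app_eq q V g (by
        rw [hq]
        have h1 : a.app (V.ι ⁻¹ᵁ V) ((H10Coh.freeIncl _ ⟨g, hg⟩).app _ (H10Coh.oneSec _)) =
            (H.restrictAppIso V.ι _).inv (H.presheaf.map (homOfLE (V.ι.image_preimage_le V)).op g) := by
          rw [← ConcreteCategory.comp_apply, ← Scheme.Modules.Hom.comp_app, ha, secHom_app_one]
        rw [← h1, ← ConcreteCategory.comp_apply, ← Scheme.Modules.Hom.comp_app, cokernel.condition]
        rfl)
    haveI : Module.Finite Γ(X, V) ↥(LinearMap.range l) := by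
      rw [hrange]
      exact Module.Finite.span_of_finite _ S.finite_toSet
    exact Module.Finite.equiv (LinearEquiv.ofInjective l (H10Coh.injective_app_of_mono' (kernel.ι q) V)).symm
  · refine H29Blow.exists_kernelι_app_eq q W t ?_
    rw [hq]
    refine TopCat.Sheaf.eq_of_locally_eq' (H10Coh.sheafOf C)
      (fun D : {D : X.Opens // ∃ (hW : D ≤ W) (hD : D ≤ V), H.presheaf.map (homOfLE hW).op t ∈
          Submodule.span Γ(X, D) (H.presheaf.map (homOfLE hD).op '' (S : Set Γ(H, V)))} => V.ι ⁻¹ᵁ D.1)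
      (V.ι ⁻¹ᵁ W) (fun D => homOfLE (V.ι.preimage_mono D.2.choose)) ?_ _ _ fun D => ?_
    · intro z hz
      obtain ⟨D, hxD, hW, hD, h⟩ := ht (V.ι z) ⟨hz, (Scheme.Opens.range_ι V).le ⟨z, rfl⟩⟩
      exact Opens.mem_iSup.2 ⟨⟨D, hW, hD, h⟩, hxD⟩
    · obtain ⟨hW, hD, h⟩ := D.2
      refine Eq.trans ?_ (map_zero _).symm
      have hle : V.ι ''ᵁ V.ι ⁻¹ᵁ D.1 ≤ D.1 := V.ι.image_preimage_le _
      refine (PresheafOfModules.naturality_apply c.val (homOfLE (V.ι.preimage_mono hW)).op _).symm.trans ?_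
      refine Eq.trans (congrArg (c.app (V.ι ⁻¹ᵁ D.1)) (a₂ := (H.restrictAppIso V.ι _).inv
        (H.presheaf.map (homOfLE hle).op (H.presheaf.map (homOfLE hW).op t))) ?_) ?_
      · exact (H10Coh.mres_mres H (V.ι.image_preimage_le W) (V.ι.image_mono (V.ι.preimage_mono hW)) t).trans
          (H10Coh.mres_mres H hW hle t).symm
      generalize H.presheaf.map (homOfLE hW).op t = v at h
      induction h using Submodule.span_induction with
      | mem v hv =>
        obtain ⟨g, hg, rfl⟩ := hv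
        have h1 : a.app (V.ι ⁻¹ᵁ D.1) ((H10Coh.freeIncl _ ⟨g, hg⟩).app _ (H10Coh.oneSec _)) =
            (H.restrictAppIso V.ι _).inv (H.presheaf.map (homOfLE hle).op (H.presheaf.map (homOfLE hD).op g)) := by
          rw [← ConcreteCategory.comp_apply, ← Scheme.Modules.Hom.comp_app, ha, secHom_app_one]
          exact congrArg _ (H10Coh.mres_mres H _ _ g).symm
        rw [← h1, ← ConcreteCategory.comp_apply, ← Scheme.Modules.Hom.comp_app, cokernel.condition]
        rfl
      | zero => simp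
      | add u v _ _ hu hv => rw [map_add, map_add, map_add, hu, hv, add_zero]
      | smul r v _ hv =>
        rw [Scheme.Modules.map_smul, Scheme.Modules.smul_restrictAppIso_inv_apply, Scheme.Modules.Hom.app_smul, hv,
          smul_zero]

theorem exists_span_basicOpen (H : X.Modules) (hH : Coh.IsQCoh H) {V : X.Opens} (hV : IsAffineOpen V)
    (f : Γ(X, V)) [Module.Finite Γ(X, X.basicOpen f) Γ(H, X.basicOpen f)] :
    ∃ S : Finset Γ(H, V), Submodule.span Γ(X, X.basicOpen f)
      (H.presheaf.map (homOfLE (X.basicOpen_le f)).op '' (S : Set Γ(H, V))) = ⊤ := by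
  classical
  haveI : H.IsQuasicoherent := hH
  obtain ⟨T, hT⟩ := (Module.Finite.fg_top : (⊤ : Submodule Γ(X, X.basicOpen f) Γ(H, X.basicOpen f)).FG)
  choose n s hs using fun y => H10Coh.exists_pow_smul_eq_res H hV f y
  refine ⟨T.image s, eq_top_iff.2 (hT ▸ Submodule.span_le.2 fun y hy => ?_)⟩
  have hu : IsUnit (X.presheaf.map (homOfLE (X.basicOpen_le f)).op (f ^ n y)) := by
    rw [map_pow]
    exact (RingedSpace.isUnit_res_basicOpen _ f).pow _
  rw [SetLike.mem_coe, ← Submodule.smul_mem_iff_of_isUnit _ hu, ← hs y]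
  exact Submodule.subset_span ⟨s y, by simpa using ⟨y, hy, rfl⟩, rfl⟩

theorem span_basicOpen (H : X.Modules) (hH : Coh.IsQCoh H) {V : X.Opens} (hV : IsAffineOpen V)
    (f : Γ(X, V)) {A : Set Γ(H, V)} (hA : Submodule.span Γ(X, V) A = ⊤) :
    Submodule.span Γ(X, X.basicOpen f) (H.presheaf.map (homOfLE (X.basicOpen_le f)).op '' A) = ⊤ := by
  haveI : H.IsQuasicoherent := hH
  refine eq_top_iff.2 fun y _ => ?_
  obtain ⟨n, s, hs⟩ := H10Coh.exists_pow_smul_eq_res H hV f y
  have hu : IsUnit (X.presheaf.map (homOfLE (X.basicOpen_le f)).op (f ^ n)) := by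
    rw [map_pow]
    exact (RingedSpace.isUnit_res_basicOpen _ f).pow _
  rw [← Submodule.smul_mem_iff_of_isUnit _ hu, ← hs]
  have hm : s ∈ Submodule.span Γ(X, V) A := by rw [hA]; trivial
  clear hs
  induction hm using Submodule.span_induction with
  | mem x hx => exact Submodule.subset_span ⟨x, hx, rfl⟩
  | zero => simp
  | add u v _ _ hu hv => rw [map_add]; exact add_mem hu hv
  | smul r v _ hv => rw [Scheme.Modules.map_smul]; exact Submodule.smul_mem _ _ hv

theorem finite_sections_basicOpen (H : X.Modules) (hH : Coh.IsQCoh H) {V : X.Opens} (hV : IsAffineOpen V)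
    (f : Γ(X, V)) [Module.Finite Γ(X, V) Γ(H, V)] :
    Module.Finite Γ(X, X.basicOpen f) Γ(H, X.basicOpen f) := by
  classical
  obtain ⟨T, hT⟩ := (Module.Finite.fg_top : (⊤ : Submodule Γ(X, V) Γ(H, V)).FG)
  exact ⟨⟨T.image (fun x => H.presheaf.map (homOfLE (X.basicOpen_le f)).op x),
    by rw [Finset.coe_image]; exact span_basicOpen H hH hV f hT⟩⟩

/-- EGA I 9.4.9: a quasi-coherent module on a Noetherian scheme is the union of its coherent submodules. -/
theorem exists_coh_sub [IsNoetherian X] (G : X.Modules) (hG : Coh.IsQCoh G) {U : X.Opens} (hU : IsAffineOpen U)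
    (S : Finset Γ(G, U)) :
    ∃ (H : X.Modules) (k : H ⟶ G), Mono k ∧ Coh.IsCoh H ∧ ∀ s ∈ S, s ∈ Set.range (k.app U) := by
  classical
  obtain ⟨T, hT, htop⟩ :=
    (isCompact_and_isOpen_iff_finite_and_eq_biUnion_affineOpens (U := (Set.univ : Set X))).mp
      ⟨isCompact_univ, isOpen_univ⟩
  suffices key : ∀ l : Set X.affineOpens, l.Finite → ∃ (H : X.Modules) (k : H ⟶ G), Mono k ∧ Coh.IsQCoh H ∧
      (∀ s ∈ S, s ∈ Set.range (k.app U)) ∧ ∀ V ∈ insert ⟨U, hU⟩ l, Module.Finite Γ(X, V.1) Γ(H, V.1) by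
    obtain ⟨H, k, hk, hq, hs, hfin⟩ := key T hT
    refine ⟨H, k, hk, ⟨hq, ?_⟩, hs⟩
    refine (@H10Coh.isFT_isFP_of_affineCover _ H hq _ (fun V : ↥(insert ⟨U, hU⟩ T : Set X.affineOpens) => V.1.1)
      ?_ (fun V => V.1.2) fun V => hfin V.1 V.2).1
    refine eq_top_iff.2 fun x _ => ?_
    obtain ⟨V, hV, hxV⟩ := Set.mem_iUnion₂.1 (htop.le (Set.mem_univ x))
    exact Opens.mem_iSup.2 ⟨⟨V, Or.inr hV⟩, hxV⟩
  intro l hl
  induction l, hl using Set.Finite.induction_on with
  | empty =>
    obtain ⟨H, k, hk, hq, hfin, hmem⟩ := exists_shrink G hG hU S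
    refine ⟨H, k, hk, hq, fun s hs => hmem U s fun x hx => ⟨U, hx.1, le_rfl, le_rfl, ?_⟩, ?_⟩
    · exact Submodule.subset_span ⟨s, hs, rfl⟩
    · rintro V (rfl | h)
      · exact hfin
      · exact h.elim
  | @insert V l hVl hl ih =>
    obtain ⟨H, k, hk, hq, hs, hfin⟩ := ih
    haveI : H.IsQuasicoherent := hq
    obtain ⟨L, hLdef⟩ : ∃ L : Set X.affineOpens, L = insert ⟨U, hU⟩ l := ⟨_, rfl⟩
    have hLfin : L.Finite := hLdef ▸ hl.insert _
    let W : X.Opens := ⨆ V' ∈ L, V'.1
    have hWc : IsCompact ((W ⊓ V.1 : X.Opens) : Set X) := by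
      refine QuasiSeparatedSpace.inter_isCompact (W : Set X) (V.1 : Set X) W.2 ?_ V.1.2 V.2.isCompact
      simp only [W, Opens.coe_iSup]
      exact hLfin.isCompact_biUnion fun V' _ => V'.2.isCompact
    have hex : ∀ x : ↥(W ⊓ V.1), ∃ f : Γ(X, V.1), (x : X) ∈ X.basicOpen f ∧
        Module.Finite Γ(X, X.basicOpen f) Γ(H, X.basicOpen f) ∧ X.basicOpen f ≤ W := by
      rintro ⟨x, hxW, hxV⟩
      obtain ⟨V', hV', hxV'⟩ : ∃ V' ∈ L, x ∈ V'.1 := by simpa [W, Opens.mem_iSup] using hxW
      obtain ⟨f, g, he, hxf⟩ := exists_basicOpen_le_affine_inter V.2 V'.2 x ⟨hxV, hxV'⟩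
      haveI := hfin V' (hLdef ▸ hV')
      refine ⟨f, hxf, ?_, he.trans_le ((X.basicOpen_le g).trans ?_)⟩
      · rw [he]
        exact finite_sections_basicOpen H hq V'.2 g
      · exact le_iSup₂ (f := fun (V' : X.affineOpens) (_ : V' ∈ L) => (V'.1 : X.Opens)) V' hV'
    choose f hxf hffin hfW using hex
    obtain ⟨t, ht⟩ := hWc.elim_finite_subcover (fun x : ↥(W ⊓ V.1) => (X.basicOpen (f x) : Set X))
      (fun x => (X.basicOpen (f x)).2) (fun x hx => Set.mem_iUnion.2 ⟨⟨x, hx⟩, hxf _⟩)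
    choose Sx hSx using fun x => @exists_span_basicOpen X H hq V.1 V.2 (f x) (hffin x)
    obtain ⟨H', k', hk', hq', hfin', hmem⟩ := exists_shrink H hq V.2 (t.biUnion Sx)
    have hall : ∀ V' ∈ L, ∀ z : Γ(H, V'.1), z ∈ Set.range (k'.app V'.1) := by
      intro V' hV' z
      refine hmem V'.1 z fun x hx => ?_
      have hxW : x ∈ W := le_iSup₂ (f := fun (V' : X.affineOpens) (_ : V' ∈ L) => (V'.1 : X.Opens)) V' hV' hx.1
      obtain ⟨y, hy, hxy⟩ := Set.mem_iUnion₂.1 (ht ⟨hxW, hx.2⟩)
      obtain ⟨f', hle, hxf'⟩ := V.2.exists_basicOpen_le (V := X.basicOpen (f y) ⊓ V'.1) ⟨x, hxy, hx.1⟩ hx.2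
      refine ⟨X.basicOpen f', hxf', hle.trans inf_le_right, X.basicOpen_le _, ?_⟩
      have he : X.basicOpen (X.presheaf.map (homOfLE (X.basicOpen_le (f y))).op f') = X.basicOpen f' := by
        rw [Scheme.basicOpen_res]
        exact inf_eq_right.2 (hle.trans inf_le_left)
      have hsp := span_basicOpen H hq (V.2.basicOpen (f y))
        (X.presheaf.map (homOfLE (X.basicOpen_le (f y))).op f') (hSx y)
      obtain ⟨D, hD, hDy, hsp⟩ : ∃ (D : X.Opens) (hD : D = X.basicOpen f') (hDy : D ≤ X.basicOpen (f y)),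
          Submodule.span Γ(X, D) (H.presheaf.map (homOfLE hDy).op ''
            (H.presheaf.map (homOfLE (X.basicOpen_le (f y))).op '' (Sx y : Set Γ(H, V.1)))) = ⊤ :=
        ⟨_, he, _, hsp⟩
      subst hD
      refine Submodule.span_mono ?_ (hsp.ge Submodule.mem_top)
      rintro _ ⟨_, ⟨g, hg, rfl⟩, rfl⟩
      exact ⟨g, Finset.mem_biUnion.2 ⟨y, hy, hg⟩, (H10Coh.mres_mres H _ _ g).symm⟩
    refine ⟨H', k' ≫ k, inferInstance, hq', fun s hsS => ?_, ?_⟩
    · obtain ⟨z, rfl⟩ := hs s hsS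
      obtain ⟨w, rfl⟩ := hall ⟨U, hU⟩ (hLdef ▸ Or.inl rfl) z
      exact ⟨w, rfl⟩
    · intro V' hV'
      rcases (Set.insert_comm _ _ _).subset hV' with rfl | h
      · exact hfin'
      · haveI := hfin V' h
        exact Module.Finite.equiv (LinearEquiv.ofBijective
          ({ toFun := k'.app V'.1, map_add' := map_add _, map_smul' := fun r m => k'.app_smul r m } :
            Γ(H', V'.1) →ₗ[Γ(X, V'.1)] Γ(H, V'.1))
          ⟨H10Coh.injective_app_of_mono' k' V'.1, hall V' (hLdef ▸ h)⟩).symm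

end Groth.Agent.H17.CohSub
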