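import Mathlib.Topology.NoetherianSpace
import Mathlib.Topology.Connected.LocallyConnected

/-! Locally noetherian topological spaces. -/

universe u
open TopologicalSpace

namespace Groth.Agent.H17

variable {X : Type*} [TopologicalSpace X]

theorem isCompact_of_subset_compact (hX : ∀ x : X, ∃ U ∈ nhds x, NoetherianSpace U)
    {K s : Set X} (hK : IsCompact K) (hs : s ⊆ K) : IsCompact s := by
  choose U hU hUN using hX
  obtain ⟨t, -, ht⟩ := hK.elim_nhds_subcover U (fun x _ => hU x)
  have : NoetherianSpace (⋃ i : t, U i.1 : Set X) :=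
    @NoetherianSpace.iUnion _ _ _ (fun i : t => U i.1) _ (fun i => hUN i.1)
  refine (noetherianSpace_set_iff _).mp this s ?_
  intro z hz
  obtain ⟨i, hi, hzi⟩ := Set.mem_iUnion₂.mp (ht (hs hz))
  exact Set.mem_iUnion.mpr ⟨⟨i, hi⟩, hzi⟩

theorem isOpen_connectedComponent [NoetherianSpace X] (x : X) : IsOpen (connectedComponent x) := by
  have h : (connectedComponent x)ᶜ =
      ⋃ Z ∈ {Z ∈ irreducibleComponents X | Disjoint Z (connectedComponent x)}, Z := by
    ext y
    simp only [Set.mem_compl_iff, Set.mem_iUnion, Set.mem_ofPred_eq]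
    constructor
    · intro hy
      refine ⟨irreducibleComponent y, ⟨irreducibleComponent_mem_irreducibleComponents y, ?_⟩,
        mem_irreducibleComponent⟩
      refine Set.disjoint_left.mpr fun z hz hzx => hy ?_
      have h1 := isIrreducible_irreducibleComponent.isConnected.subset_connectedComponent hz
        (mem_irreducibleComponent (x := y))
      rwa [← connectedComponent_eq hzx] at h1
    · rintro ⟨Z, ⟨-, hd⟩, hyZ⟩
      exact Set.disjoint_left.mp hd hyZ
  rw [← isClosed_compl_iff, h]
  exact (NoetherianSpace.finite_irreducibleComponents.subset fun _ h => h.1).isClosed_biUnion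
    fun Z hZ => isClosed_of_mem_irreducibleComponents Z hZ.1

theorem locallyConnectedSpace_of_locallyNoetherian
    (hX : ∀ x : X, ∃ U ∈ nhds x, NoetherianSpace U) : LocallyConnectedSpace X := by
  refine locallyConnectedSpace_iff_connectedComponentIn_open.mpr fun F hF x _ => ?_
  refine isOpen_iff_mem_nhds.mpr fun y hy => ?_
  obtain ⟨U, hU, hUN⟩ := hX y
  rw [connectedComponentIn_eq hy]
  have hyF : y ∈ F := connectedComponentIn_subset _ _ hy
  obtain ⟨V, hVsub, hVo, hyV⟩ := mem_nhds_iff.mp (Filter.inter_mem hU (hF.mem_nhds hyF))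
  have : NoetherianSpace V :=
    (Topology.IsEmbedding.inclusion (hVsub.trans Set.inter_subset_left)).noetherianSpace
  have ho : IsOpen (connectedComponentIn V y) := by
    rw [connectedComponentIn_eq_image hyV]
    exact hVo.isOpenMap_subtype_val _ (isOpen_connectedComponent _)
  exact Filter.mem_of_superset (ho.mem_nhds (mem_connectedComponentIn hyV))
    (connectedComponentIn_mono _ (hVsub.trans Set.inter_subset_right))

end Groth.Agent.H17
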