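import Groth.Agent.H17.Imports

/-! General lemmas: generic points, closed / isolated points, fibres. -/

universe u
open CategoryTheory Limits AlgebraicGeometry TopologicalSpace

namespace Groth.Agent.H17

theorem exists_genericPoint_specializes {α : Type*} [TopologicalSpace α] [QuasiSober α] (x : α) :
    ∃ g ∈ genericPoints α, g ⤳ x := by
  let c : irreducibleComponents α := ⟨irreducibleComponent x, irreducibleComponent_mem_irreducibleComponents x⟩
  refine ⟨genericPoints.ofComponent c, (genericPoints.ofComponent c).2, ?_⟩
  exact (genericPoints.isGenericPoint_ofComponent c).specializes mem_irreducibleComponent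

theorem mem_genericPoints_iff {α : Type*} [TopologicalSpace α] [QuasiSober α] [T0Space α] {x : α} :
    x ∈ genericPoints α ↔ ∀ y, y ⤳ x → y = x := by
  constructor
  · intro hx y hy
    have h1 : closure {x} ⊆ closure {y} := specializes_iff_closure_subset.mp hy
    have h2 : closure {y} ⊆ closure {x} := hx.2 isIrreducible_singleton.closure h1
    exact (specializes_iff_closure_subset.mpr h2).antisymm hy |>.symm.eq |> fun h => h
  · intro h
    obtain ⟨g, hg, hgx⟩ := exists_genericPoint_specializes x
    rwa [← h g hgx]

/-- A closed point without proper generization is isolated in a locally noetherian space. -/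
theorem isOpen_singleton_of_isClosed {X : Scheme.{u}} [IsLocallyNoetherian X] {x : X}
    (hc : IsClosed ({x} : Set X)) (hmax : ∀ y, y ⤳ x → y = x) : IsOpen ({x} : Set X) := by
  obtain ⟨_, ⟨U, hU, rfl⟩, hxU, -⟩ :=
    X.isBasis_affineOpens.exists_subset_of_mem_open (Set.mem_univ x) isOpen_univ
  have : IsNoetherianRing Γ(X, U) := IsLocallyNoetherian.component_noetherian ⟨U, hU⟩
  have : NoetherianSpace U := noetherianSpace_of_isAffineOpen U hU
  have : QuasiSober U := U.2.isOpenEmbedding_subtypeVal.quasiSober
  let x₀ : U := ⟨x, hxU⟩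
  let G := genericPoints U \ {x₀}
  have hG : G.Finite := (genericPoints.finite NoetherianSpace.finite_irreducibleComponents).sdiff
  have key : ({x₀} : Set U) = (⋃ g ∈ G, closure {g})ᶜ := by
    ext z
    simp only [Set.mem_compl_iff, Set.mem_iUnion, not_exists]
    constructor
    · rintro rfl g hg hz
      refine hg.2 (Subtype.ext (hmax g.1 ?_))
      exact (specializes_iff_mem_closure.mpr hz).map continuous_subtype_val
    · intro hz
      obtain ⟨g, hg, hgz⟩ := exists_genericPoint_specializes z
      by_cases hgx : g = x₀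
      · subst hgx
        have h1 : x ⤳ z.1 := hgz.map continuous_subtype_val
        exact Subtype.ext (hc.closure_eq.le (specializes_iff_mem_closure.mp h1))
      · exact absurd (specializes_iff_mem_closure.mp hgz) (hz g ⟨hg, hgx⟩)
  have hopen : IsOpen ({x₀} : Set U) :=
    key ▸ (hG.isClosed_biUnion fun _ _ => isClosed_closure).isOpen_compl
  have := U.2.isOpenMap_subtype_val _ hopen
  convert this using 1
  ext y
  exact ⟨fun h => ⟨x₀, rfl, h.symm⟩, fun ⟨z, h, e⟩ => e ▸ congr(Subtype.val $h)⟩

/-- If `T ⟶ B` is integral with `B` affine and factors through `π : F ⟶ B`, then the closed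
points of `T` map to closed points of `F`, provided that `T` is a single point. -/
theorem isClosed_range_of_isIntegralHom {T F B : Scheme.{u}} [IsAffine B] [Subsingleton T]
    (g : T ⟶ F) (π : F ⟶ B) [IsIntegralHom (g ≫ π)] : IsClosed (Set.range g) := by
  refine isClosed_of_closure_subset fun w hw => ?_
  obtain ⟨_, ⟨(U : F.Opens), hU, rfl⟩, hwU, -⟩ :=
    F.isBasis_affineOpens.exists_subset_of_mem_open (Set.mem_univ w) isOpen_univ
  replace hU : IsAffineOpen U := hU
  obtain ⟨_, hv, t, rfl⟩ := mem_closure_iff.mp hw _ U.2 hwU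
  have hsub : Set.range g ⊆ Set.range U.ι := by
    rintro _ ⟨t', rfl⟩
    rw [Scheme.Opens.range_ι, Subsingleton.elim t' t]
    exact hv
  let g' := IsOpenImmersion.lift U.ι g hsub
  have hg' : g' ≫ U.ι = g := IsOpenImmersion.lift_fac _ _ _
  have : IsAffine U.toScheme := hU
  have : IsIntegralHom (g' ≫ (U.ι ≫ π)) := by
    rw [← Category.assoc, hg']; infer_instance
  have : IsIntegralHom g' := IsIntegralHom.of_comp g' (U.ι ≫ π)
  have hcl : IsClosed (Set.range g') := g'.isClosedMap.isClosed_range
  obtain ⟨C, hC, hCeq⟩ := isClosed_induced_iff.mp hcl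
  have hgC : Set.range g ⊆ C := by
    rintro _ ⟨t', rfl⟩
    have : g' t' ∈ Subtype.val ⁻¹' C := hCeq ▸ Set.mem_range_self t'
    rw [← hg']
    exact this
  have : (⟨w, hwU⟩ : U) ∈ Set.range g' := hCeq.le (hC.closure_subset_iff.mpr hgC hw)
  obtain ⟨t', ht'⟩ := this
  refine ⟨t', ?_⟩
  rw [← hg']
  exact congr(U.ι $(ht'))

theorem discreteTopology_of_isClosed_singleton {X : Scheme.{u}} [IsLocallyNoetherian X]
    (h : ∀ x : X, IsClosed ({x} : Set X)) : DiscreteTopology X :=
  discreteTopology_iff_isOpen_singleton.mpr fun x =>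
    isOpen_singleton_of_isClosed (h x) fun y hy =>
      ((h y).closure_eq.le (specializes_iff_mem_closure.mp hy)).symm

theorem isLocallyNoetherian_fiber {X S : Scheme.{u}} (f : X ⟶ S) [LocallyOfFiniteType f] (s : S) :
    IsLocallyNoetherian (f.fiber s) := by
  have : LocallyOfFiniteType (f.fiberToSpecResidueField s) :=
    MorphismProperty.pullback_snd (P := @LocallyOfFiniteType) _ _ inferInstance
  exact LocallyOfFiniteType.isLocallyNoetherian (f.fiberToSpecResidueField s)

/-- Algebraic residue field extension implies the point is closed in its fibre. -/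
theorem isClosed_singleton_asFiber {X S : Scheme.{u}} (f : X ⟶ S) (x : X)
    (h : (f.residueFieldMap x).hom.IsIntegral) : IsClosed ({f.asFiber x} : Set (f.fiber (f x))) := by
  rw [← f.range_asFiberHom x]
  have : IsIntegralHom (f.asFiberHom x ≫ f.fiberToSpecResidueField (f x)) := by
    rw [Scheme.Hom.asFiberHom_fiberToSpecResidueField, IsIntegralHom.SpecMap_iff]; exact h
  exact isClosed_range_of_isIntegralHom _ (f.fiberToSpecResidueField (f x))

/-- A closed point of a fibre of a locally finite type morphism has finite residue field extension. -/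
theorem finite_residueFieldMap {X S : Scheme.{u}} (f : X ⟶ S) [LocallyOfFiniteType f] (x : X)
    (h : IsClosed ({f.asFiber x} : Set (f.fiber (f x)))) : (f.residueFieldMap x).hom.Finite := by
  have : LocallyOfFiniteType (f.fiberToSpecResidueField (f x)) :=
    MorphismProperty.pullback_snd (P := @LocallyOfFiniteType) _ _ inferInstance
  have : IsClosedImmersion (f.asFiberHom x) := .of_isPreimmersion _ (by rwa [f.range_asFiberHom])
  have : LocallyOfFiniteType (Spec.map (f.residueFieldMap x)) := by
    rw [← Scheme.Hom.asFiberHom_fiberToSpecResidueField]; infer_instance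
  rw [← IsFinite.SpecMap_iff]
  exact (isFinite_iff_locallyOfFiniteType_of_jacobsonSpace (f := Spec.map (f.residueFieldMap x))).mpr this

theorem quasiFiniteAt_iff_isClosed_and_max {X S : Scheme.{u}} (f : X ⟶ S) [LocallyOfFiniteType f]
    (x : X) : f.QuasiFiniteAt x ↔ IsClosed ({f.asFiber x} : Set (f.fiber (f x))) ∧
      ∀ x' : f.fiber (f x), x' ⤳ f.asFiber x → x' = f.asFiber x := by
  have := isLocallyNoetherian_fiber f (f x)
  rw [Scheme.Hom.quasiFiniteAt_iff_isOpen_singleton_asFiber]
  refine ⟨fun h => ⟨isClosed_singleton_of_isLocallyClosed_singleton h.isLocallyClosed,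
    fun x' hx' => hx'.mem_open h rfl⟩, fun ⟨h1, h2⟩ => isOpen_singleton_of_isClosed h1 h2⟩

/-- points mapping to closed point with finite residue field ext. are closed after base change. -/
theorem isClosed_singleton_of_isPullback {F F' k k' : Scheme.{u}} {h : F' ⟶ F} {π' : F' ⟶ k'}
    {π : F ⟶ k} {i : k' ⟶ k} (sq : IsPullback h π' π i) [LocallyOfFiniteType π]
    [IsAffine k'] [IsLocallyArtinian k'] [JacobsonSpace k] (z : F') (hz : IsClosed ({h z} : Set F)) :
    IsClosed ({z} : Set F') := by
  let c := F.fromSpecResidueField (h z)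
  have : IsClosedImmersion c := isClosed_singleton_iff_isClosedImmersion.mp hz
  have : IsFinite (c ≫ π) := (isFinite_iff_locallyOfFiniteType_of_jacobsonSpace (f := c ≫ π)).mpr inferInstance
  have sq' : IsPullback (pullback.snd h c) (pullback.fst h c ≫ π') (c ≫ π) i :=
    (IsPullback.of_hasPullback h c).flip.paste_vert sq
  have : IsFinite (pullback.fst h c ≫ π') :=
    MorphismProperty.of_isPullback (P := @IsFinite) sq' inferInstance
  have := IsLocallyArtinian.of_locallyQuasiFinite (pullback.fst h c ≫ π')
  obtain ⟨y, hy⟩ : z ∈ Set.range (pullback.fst h c) := by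
    rw [Scheme.Pullback.range_fst, Scheme.range_fromSpecResidueField]; rfl
  have h1 := (pullback.fst h c).isClosedEmbedding.isClosedMap {y} (isClosed_discrete _)
  rwa [Set.image_singleton, hy] at h1

end Groth.Agent.H17
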