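import Groth.Agent.H29Blow.AssPoints
import Groth.Agent.H29Blow.PointsOfAffine
import Groth.Agent.H10Coh.FinType
import Groth.Agent.H06Mod.StalkFinite
import Groth.Prelude.Def_FDesc

/-!
Germs of sections of quasi-coherent modules over affine opens, and associated points.
-/

set_option autoImplicit false

universe u

open CategoryTheory Limits AlgebraicGeometry TopologicalSpace Opposite

namespace Groth.Agent.H17.AssPts

variable {X : Scheme.{u}}

theorem isUnit_germ_iff {U : X.Opens} {y : X} (hy : y ∈ U) (t : Γ(X, U)) :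
    IsUnit (X.presheaf.germ U y hy t) ↔ y ∈ X.basicOpen t :=
  (X.mem_basicOpen t y hy).symm

theorem mem_primeIdealOf {U : X.Opens} (hU : IsAffineOpen U) {y : X} (hy : y ∈ U) (t : Γ(X, U)) :
    t ∈ (hU.primeIdealOf ⟨y, hy⟩).asIdeal ↔ y ∉ X.basicOpen t := by
  rw [H29Blow.mem_primeIdealOf_iff, isUnit_germ_iff hy]

theorem germ_smul' (M : X.Modules) {U : X.Opens} {y : X} (hy : y ∈ U) (r : Γ(X, U)) (m : Γ(M, U)) :
    M.presheaf.germ U y hy (r • m) = X.presheaf.germ U y hy r • M.presheaf.germ U y hy m :=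
  Groth.Agent.H06Mod.germ_smul M U hy r m

theorem germ_eq_zero_of_smul (M : X.Modules) {U : X.Opens} {y : X} (hy : y ∈ U) {t : Γ(X, U)}
    (ht : y ∈ X.basicOpen t) {s : Γ(M, U)} (h : t • s = 0) : M.presheaf.germ U y hy s = 0 := by
  have h1 := germ_smul' M hy t s
  rw [h, map_zero] at h1
  exact ((isUnit_germ_iff hy t).2 ht).smul_eq_zero.1 h1.symm

/-- A germ of a quasi-coherent module vanishes iff a unit at the point kills the section. -/
theorem exists_smul_eq_zero_of_germ (F : X.Modules) (hF : Coh.IsQCoh F) {U : X.Opens}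
    (hU : IsAffineOpen U) {y : X} (hy : y ∈ U) {s : Γ(F, U)}
    (h : F.presheaf.germ U y hy s = 0) : ∃ t : Γ(X, U), y ∈ X.basicOpen t ∧ t • s = 0 := by
  obtain ⟨W, hyW, i, j, hW⟩ := F.presheaf.germ_eq y hy hy _ _
    (h.trans (map_zero (F.presheaf.germ U y hy).hom).symm)
  obtain ⟨t, htW, hyt⟩ := hU.exists_basicOpen_le (V := W) ⟨y, hyW⟩ hy
  obtain ⟨n, hn⟩ := H29Blow.exists_pow_smul_eq_zero F hF hU t s (by
    have := congrArg (F.presheaf.map (homOfLE htW).op) hW
    rw [map_zero, map_zero, ← ConcreteCategory.comp_apply, ← Functor.map_comp] at this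
    exact this)
  refine ⟨t ^ n, ?_, hn⟩
  rw [← isUnit_germ_iff hy, map_pow]
  exact ((isUnit_germ_iff hy t).2 hyt).pow n

/-- Every element of a stalk of a quasi-coherent module is a germ divided by a unit. -/
theorem exists_smul_germ_eq (F : X.Modules) (hF : Coh.IsQCoh F) {U : X.Opens}
    (hU : IsAffineOpen U) {y : X} (hy : y ∈ U) (m : F.presheaf.stalk y) :
    ∃ (t : Γ(X, U)) (s : Γ(F, U)), y ∈ X.basicOpen t ∧
      X.presheaf.germ U y hy t • m = F.presheaf.germ U y hy s := by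
  haveI : F.IsQuasicoherent := hF
  obtain ⟨W, hyW, a, rfl⟩ := F.presheaf.exists_germ_eq m
  obtain ⟨g, hgW, hyg⟩ := hU.exists_basicOpen_le (V := W) ⟨y, hyW⟩ hy
  obtain ⟨n, s, hs⟩ := Groth.Agent.H10Coh.exists_pow_smul_eq_res F hU g
    (F.presheaf.map (homOfLE hgW).op a)
  refine ⟨g ^ n, s, ?_, ?_⟩
  · rw [← isUnit_germ_iff hy, map_pow]
    exact ((isUnit_germ_iff hy g).2 hyg).pow n
  · have h1 := congrArg (F.presheaf.germ (X.basicOpen g) y hyg) hs
    rw [germ_smul', TopCat.Presheaf.germ_res_apply, TopCat.Presheaf.germ_res_apply,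
      TopCat.Presheaf.germ_res_apply] at h1
    exact h1.symm

/-- The point of a minimal prime over the annihilator of a section is weakly associated. -/
theorem isWeakAssPoint_of_minimal (F : X.Modules) (hF : Coh.IsQCoh F) {V : X.Opens}
    (hV : IsAffineOpen V) {y : X} (hy : y ∈ V) (s : Γ(F, V))
    (hp : (hV.primeIdealOf ⟨y, hy⟩).asIdeal ∈
      Ideal.minimalPrimes (LinearMap.ker (LinearMap.toSpanSingleton Γ(X, V) Γ(F, V) s))) :
    Curv2.IsWeakAssPoint F y ∧ F.presheaf.germ V y hy s ≠ 0 := by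
  classical
  set p := (hV.primeIdealOf ⟨y, hy⟩).asIdeal with hpdef
  set J : Ideal Γ(X, V) := LinearMap.ker (LinearMap.toSpanSingleton Γ(X, V) Γ(F, V) s) with hJ
  have hmemJ : ∀ a, a ∈ J ↔ a • s = 0 := fun a => by simp [hJ, LinearMap.mem_ker]
  have hne : F.presheaf.germ V y hy s ≠ 0 := fun h0 => by
    obtain ⟨t, ht, hts⟩ := exists_smul_eq_zero_of_germ F hF hV hy h0
    exact (mem_primeIdealOf hV hy t).1 (hp.1.2 ((hmemJ t).2 hts)) ht
  refine ⟨⟨F.presheaf.germ V y hy s, le_antisymm ?_ ?_⟩, hne⟩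
  · refine IsLocalRing.le_maximalIdeal fun h => ?_
    rw [Ideal.radical_eq_top, Ideal.eq_top_iff_one, LinearMap.mem_ker,
      LinearMap.toSpanSingleton_apply, one_smul] at h
    exact hne h
  · intro a ha
    letI := TopCat.Presheaf.algebra_section_stalk X.presheaf (⟨y, hy⟩ : V)
    haveI := hV.isLocalization_stalk ⟨y, hy⟩
    haveI : p.IsPrime := hp.1.1
    obtain ⟨⟨a₀, t⟩, hat⟩ := IsLocalization.surj p.primeCompl a
    have ht : IsUnit (X.presheaf.germ V y hy t.1) :=
      IsLocalization.map_units (X.presheaf.stalk y) t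
    have ha₀ : a₀ ∈ p := by
      rw [mem_primeIdealOf hV hy, ← isUnit_germ_iff hy]
      intro hu
      have : IsUnit (a * algebraMap Γ(X, V) (X.presheaf.stalk y) t.1) := hat.symm ▸ hu
      exact ha (isUnit_of_mul_isUnit_left this)
    obtain ⟨t', ht', n, hn⟩ : ∃ t' ∉ p, ∃ n : ℕ, (t' * a₀ ^ n) • s = 0 := by
      by_contra hc
      push_neg at hc
      obtain ⟨Q, hQp, hJQ, hQS⟩ := Ideal.exists_le_prime_disjoint J
        (p.primeCompl ⊔ Submonoid.powers a₀) (by
          rw [Set.disjoint_left]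
          intro z hzJ hzS
          obtain ⟨u, hu, v, ⟨n, rfl⟩, rfl⟩ := Submonoid.mem_sup.mp hzS
          exact hc u hu n ((hmemJ _).mp hzJ))
      have hQle : Q ≤ p := fun z hz => by
        by_contra hzp
        exact Set.disjoint_left.mp hQS hz (Submonoid.mem_sup_left hzp)
      exact Set.disjoint_left.mp hQS (hp.2 ⟨hQp, hJQ⟩ hQle ha₀)
        (Submonoid.mem_sup_right (Submonoid.mem_powers a₀))
    refine ⟨n, ?_⟩
    rw [LinearMap.mem_ker, LinearMap.toSpanSingleton_apply]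
    have h1 := congrArg (F.presheaf.germ V y hy) hn
    rw [germ_smul', map_zero, map_mul, map_pow] at h1
    have hu : IsUnit (X.presheaf.germ V y hy t') := by
      rw [isUnit_germ_iff hy]
      by_contra h
      exact ht' ((mem_primeIdealOf hV hy t').2 h)
    rw [mul_smul] at h1
    have h2 := hu.smul_eq_zero.1 h1
    rw [show X.presheaf.germ V y hy a₀ = a * X.presheaf.germ V y hy t.1 from hat.symm, mul_pow,
      mul_comm, mul_smul] at h2
    exact (ht.pow n).smul_eq_zero.1 h2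

/-- A section of a quasi-coherent module with nonzero germ at a point has nonzero germ at an
associated point generalizing it. -/
theorem exists_ass_specializes_of_germ (F : X.Modules) (hF : Coh.IsQCoh F) {V : X.Opens}
    (hV : IsAffineOpen V) {y : X} (hy : y ∈ V) {s : Γ(F, V)}
    (h : F.presheaf.germ V y hy s ≠ 0) :
    ∃ (z : X) (hz : z ∈ V), z ∈ AssSch.Ass F ∧ z ⤳ y ∧ F.presheaf.germ V z hz s ≠ 0 := by
  have hle : LinearMap.ker (LinearMap.toSpanSingleton Γ(X, V) Γ(F, V) s) ≤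
      (hV.primeIdealOf ⟨y, hy⟩).asIdeal := fun a ha =>
    (mem_primeIdealOf hV hy a).2 fun hu => h (germ_eq_zero_of_smul F hy hu (by simpa using ha))
  obtain ⟨p, hp, hpy⟩ := Ideal.exists_minimalPrimes_le hle
  obtain ⟨z, hz⟩ := H29Blow.exists_primeIdealOf_eq hV ⟨p, hp.1.1⟩
  have hzp : (hV.primeIdealOf z).asIdeal = p := congrArg PrimeSpectrum.asIdeal hz
  obtain ⟨z, hzV⟩ := z
  obtain ⟨hw, hne⟩ := isWeakAssPoint_of_minimal F hF hV hzV s (hzp.symm ▸ hp)
  exact ⟨z, hzV, (H29Blow.isAssPoint_iff_isWeakAssPoint F z).2 hw,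
    (H29Blow.primeIdealOf_le_iff hV ⟨z, hzV⟩ ⟨y, hy⟩).1 (hzp.le.trans hpy), hne⟩

theorem nontrivial_stalk_of_ass (F : X.Modules) {x : X} (hx : x ∈ AssSch.Ass F) :
    Nontrivial (F.presheaf.stalk x) := by
  obtain ⟨-, m, hm⟩ := hx
  refine nontrivial_of_ne m 0 fun h0 => ?_
  subst h0
  exact (IsLocalRing.maximalIdeal.isMaximal (X.presheaf.stalk x)).ne_top
    (hm.trans (Ideal.radical_eq_top.2 (by ext; simp [Submodule.mem_colon_singleton])))

/-- The support of a quasi-coherent module consists of specializations of associated points. -/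
theorem exists_ass_specializes (F : X.Modules) (hF : Coh.IsQCoh F) {y : X}
    (h : Nontrivial (F.presheaf.stalk y)) : ∃ z ∈ AssSch.Ass F, z ⤳ y := by
  obtain ⟨m, hm⟩ := exists_ne (0 : F.presheaf.stalk y)
  obtain ⟨V, hV, hyV, -⟩ := exists_isAffineOpen_mem_and_subset (U := (⊤ : X.Opens)) (x := y) trivial
  obtain ⟨t, s, ht, hts⟩ := exists_smul_germ_eq F hF hV hyV m
  obtain ⟨z, -, hz, hzy, -⟩ := exists_ass_specializes_of_germ F hF hV hyV (s := s) (fun h0 => hm (by
    rw [h0] at hts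
    exact ((isUnit_germ_iff hyV t).2 ht).smul_eq_zero.1 hts))
  exact ⟨z, hz, hzy⟩

/-- An associated point is witnessed by a section on an affine neighbourhood which every section
vanishing at the point kills up to a power. -/
theorem exists_section_of_ass [IsLocallyNoetherian X] (F : X.Modules) {x : X}
    (hx : x ∈ AssSch.Ass F) {O : X.Opens} (hxO : x ∈ O) :
    ∃ (V : X.Opens) (_ : IsAffineOpen V) (hxV : x ∈ V) (s : Γ(F, V)),
      V ≤ O ∧ F.presheaf.germ V x hxV s ≠ 0 ∧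
      ∀ z ∈ V, ¬ x ⤳ z → ∃ t : Γ(X, V), z ∈ X.basicOpen t ∧ x ∉ X.basicOpen t ∧
        ∃ n : ℕ, t ^ n • s = 0 := by
  classical
  obtain ⟨-, m, hm⟩ := hx
  obtain ⟨W, hxW, a, rfl⟩ := F.presheaf.exists_germ_eq m
  have hne : F.presheaf.germ W x hxW a ≠ 0 := fun h0 => by
    rw [h0] at hm
    exact (IsLocalRing.maximalIdeal.isMaximal (X.presheaf.stalk x)).ne_top
      (hm.trans (Ideal.radical_eq_top.2 (by ext; simp [Submodule.mem_colon_singleton])))
  obtain ⟨U, hU, hxU, hUW⟩ := exists_isAffineOpen_mem_and_subset (U := W ⊓ O) (x := x) ⟨hxW, hxO⟩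
  have hUW' : U ≤ W := fun z hz => (hUW hz).1
  set s₀ : Γ(F, U) := F.presheaf.map (homOfLE hUW').op a with hs₀
  have : IsNoetherianRing Γ(X, U) := IsLocallyNoetherian.component_noetherian ⟨U, hU⟩
  obtain ⟨G, hG⟩ := IsNoetherian.noetherian (hU.primeIdealOf ⟨x, hxU⟩).asIdeal
  have hk : ∀ r ∈ G, ∃ n : ℕ, F.presheaf.germ U x hxU (r ^ n • s₀) = 0 := by
    intro r hr
    have hmem : X.presheaf.germ U x hxU r ∈ IsLocalRing.maximalIdeal (X.presheaf.stalk x) := by
      rw [IsLocalRing.mem_maximalIdeal, mem_nonunits_iff, isUnit_germ_iff]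
      exact (mem_primeIdealOf hU hxU r).1 (hG ▸ Submodule.subset_span hr)
    rw [hm] at hmem
    obtain ⟨n, hn⟩ := hmem
    refine ⟨n, ?_⟩
    rw [Submodule.mem_colon_singleton, Submodule.mem_bot] at hn
    rw [germ_smul', map_pow, hs₀, TopCat.Presheaf.germ_res_apply]
    exact hn
  choose n hn using hk
  -- a common neighbourhood on which all these sections vanish
  have hW : ∀ r : G, ∃ (O' : X.Opens) (_ : x ∈ O') (h : O' ≤ U),
      F.presheaf.map (homOfLE h).op (r.1 ^ n r.1 r.2 • s₀) = 0 := by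
    intro r
    obtain ⟨O', hxO', i, j, hO'⟩ := F.presheaf.germ_eq x hxU hxU _ _
      ((hn r.1 r.2).trans (map_zero (F.presheaf.germ U x hxU).hom).symm)
    exact ⟨O', hxO', i.le, hO'.trans (map_zero _)⟩
  choose O' hxO' hO'U hz using hW
  have hfin : IsOpen ((U : Set X) ∩ ⋂ r : G, (O' r : Set X)) :=
    U.isOpen.inter (isOpen_iInter_of_finite fun r => (O' r).isOpen)
  obtain ⟨V, hV, hxV, hVsub⟩ := exists_isAffineOpen_mem_and_subset
    (U := (⟨_, hfin⟩ : X.Opens)) (x := x) ⟨hxU, Set.mem_iInter.2 hxO'⟩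
  have hVU : V ≤ U := fun z hz => (hVsub hz).1
  refine ⟨V, hV, hxV, F.presheaf.map (homOfLE hVU).op s₀, fun z hz => (hUW (hVU hz)).2, ?_, ?_⟩
  · rw [TopCat.Presheaf.germ_res_apply, hs₀, TopCat.Presheaf.germ_res_apply]
    exact hne
  · intro z hzV hnsp
    obtain ⟨r, hr, hzr⟩ : ∃ r ∈ G, z ∈ X.basicOpen r := by
      by_contra hc
      push_neg at hc
      apply hnsp
      rw [← H29Blow.primeIdealOf_le_iff hU ⟨x, hxU⟩ ⟨z, hVU hzV⟩, ← hG, Submodule.span_le]
      exact fun r hr => (mem_primeIdealOf hU (hVU hzV) r).2 (hc r hr)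
    refine ⟨X.presheaf.map (homOfLE hVU).op r, ?_, ?_, n r hr, ?_⟩
    · rw [X.basicOpen_res]
      exact ⟨hzV, hzr⟩
    · rw [X.basicOpen_res]
      exact fun h => (mem_primeIdealOf hU hxU r).1 (hG ▸ Submodule.subset_span hr) h.2
    · have hVO : V ≤ O' ⟨r, hr⟩ := fun w hw => Set.mem_iInter.1 (hVsub hw).2 ⟨r, hr⟩
      have h1 := congrArg (F.presheaf.map (homOfLE hVO).op) (hz ⟨r, hr⟩)
      rw [map_zero, Groth.Agent.H10Coh.mres_mres, Scheme.Modules.map_smul, map_pow] at h1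
      exact h1

end Groth.Agent.H17.AssPts
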