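import Mathlib.AlgebraicGeometry.ResidueField
import Mathlib.AlgebraicGeometry.PullbackCarrier
import Mathlib.AlgebraicGeometry.ValuativeCriterion
import Mathlib.LinearAlgebra.Dual.Lemmas
import Mathlib.LinearAlgebra.TensorProduct.Basic

/-! Monomorphisms of schemes and residue fields. -/

set_option autoImplicit false

universe u

open CategoryTheory Limits AlgebraicGeometry TopologicalSpace TensorProduct

namespace Groth.Agent.H17.MonoField

variable {X Y : Scheme.{u}} (f : Y ⟶ X)

theorem surjective_algebraMap_of_tmul_comm {k L : Type u} [Field k] [CommRing L] [Algebra k L]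
    (h : ∀ l : L, l ⊗ₜ[k] (1 : L) = (1 : L) ⊗ₜ[k] l) : Function.Surjective (algebraMap k L) := by
  intro l
  by_contra hl
  push_neg at hl
  have hmem : l ∉ Submodule.span k {(1 : L)} := by
    rw [Submodule.mem_span_singleton]
    rintro ⟨a, rfl⟩
    exact hl a (Algebra.algebraMap_eq_smul_one a)
  obtain ⟨π, hπl, hπ⟩ := Submodule.exists_dual_map_eq_bot_of_notMem hmem inferInstance
  have h1 : π (1 : L) = 0 := by
    have : π (1 : L) ∈ (Submodule.span k {(1 : L)}).map π := ⟨1, Submodule.mem_span_singleton_self 1, rfl⟩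
    rwa [hπ, Submodule.mem_bot] at this
  let ψ : L ⊗[k] L →ₗ[k] L := (TensorProduct.lid k L).toLinearMap.comp (TensorProduct.map π LinearMap.id)
  have h2 := congrArg ψ (h l)
  simp only [ψ, LinearMap.coe_comp, LinearEquiv.coe_coe, Function.comp_apply, TensorProduct.map_tmul,
    LinearMap.id_coe, id_eq, TensorProduct.lid_tmul, h1, zero_smul] at h2
  have hL : (1 : L) = 0 := by
    have := congrArg (fun z => (π l)⁻¹ • z) h2
    simpa [smul_smul, hπl] using this
  exact hl 0 (by rw [← mul_one l, hL, mul_zero, map_zero])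

theorem surjective_of_epi {k L : Type u} [Field k] [CommRing L] (φ : k →+* L)
    (H : ∀ (C : Type u) [CommRing C] (i j : L →+* C), i.comp φ = j.comp φ → i = j) :
    Function.Surjective φ := by
  algebraize [φ]
  refine surjective_algebraMap_of_tmul_comm fun l => ?_
  refine RingHom.congr_fun (H (L ⊗[k] L) Algebra.TensorProduct.includeLeftRingHom
    (Algebra.TensorProduct.includeRight (R := k) (A := L) (B := L)).toRingHom (RingHom.ext fun a => ?_)) l
  exact Algebra.TensorProduct.tmul_one_eq_one_tmul a

/-- A monomorphism induces isomorphisms of residue fields. -/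
theorem isIso_residueFieldMap_of_mono [Mono f] (y : Y) : IsIso (f.residueFieldMap y) := by
  rw [ConcreteCategory.isIso_iff_bijective]
  refine ⟨(f.residueFieldMap y).hom.injective, surjective_of_epi (f.residueFieldMap y).hom fun C _ i j h => ?_⟩
  have hi : f.residueFieldMap y ≫ CommRingCat.ofHom i = f.residueFieldMap y ≫ CommRingCat.ofHom j :=
    CommRingCat.hom_ext h
  have h' : Spec.map (CommRingCat.ofHom i) ≫ Y.fromSpecResidueField y =
      Spec.map (CommRingCat.ofHom j) ≫ Y.fromSpecResidueField y := by
    rw [← cancel_mono f]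
    simp only [Category.assoc]
    rw [← Scheme.Hom.SpecMap_residueFieldMap_fromSpecResidueField, ← Spec.map_comp_assoc,
      ← Spec.map_comp_assoc]
    exact congrArg (fun ψ => Spec.map ψ ≫ X.fromSpecResidueField (f y)) hi
  exact congr(($(Spec.map_injective ((cancel_mono (Y.fromSpecResidueField y)).1 h'))).hom)

/-- Field valued points of a monomorphism lift as soon as the image point is in the range. -/
theorem exists_lift_of_mem_range [Mono f] {K : Type u} [Field K] (g : Spec (CommRingCat.of K) ⟶ X)
    (hg : g (IsLocalRing.closedPoint K) ∈ Set.range f) : ∃ l, l ≫ f = g := by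
  obtain ⟨y, hy⟩ := hg
  haveI := isIso_residueFieldMap_of_mono f y
  obtain ⟨⟨x, φ⟩, rfl⟩ := (Scheme.SpecToEquivOfField K X).symm.surjective g
  have hx : f y = x := by
    rw [hy]
    show (Spec.map φ ≫ X.fromSpecResidueField x) _ = x
    rw [Scheme.Hom.comp_apply, Scheme.fromSpecResidueField_apply]
  subst hx
  refine ⟨Spec.map (inv (f.residueFieldMap y) ≫ φ) ≫ Y.fromSpecResidueField y, ?_⟩
  show _ = Spec.map φ ≫ X.fromSpecResidueField (f y)
  rw [Category.assoc, ← Scheme.Hom.SpecMap_residueFieldMap_fromSpecResidueField, ← Spec.map_comp_assoc,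
    IsIso.hom_inv_id_assoc]

end Groth.Agent.H17.MonoField
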