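import Groth.Agent.H17.Image

/-! Reduced closed and locally closed subschemes. -/

universe u
open CategoryTheory AlgebraicGeometry TopologicalSpace

namespace Groth.Agent.H17

theorem exists_lift_immersion_of_range_subset {X Y Z : Scheme.{u}} [IsReduced X] (f : X ⟶ Y)
    (j : Z ⟶ Y) [IsImmersion j] (h : Set.range f ⊆ Set.range j) : ∃ g : X ⟶ Z, g ≫ j = f := by
  have hU : Set.range j ⊆ Set.range j.coborderRange.ι := by
    rw [Scheme.Opens.range_ι]; exact subset_coborder
  let f' := IsOpenImmersion.lift j.coborderRange.ι f (h.trans hU)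
  have hf : f' ≫ j.coborderRange.ι = f := IsOpenImmersion.lift_fac _ _ _
  obtain ⟨g, hg⟩ := exists_lift_of_range_subset f' j.liftCoborder (by
    rintro _ ⟨x, rfl⟩
    obtain ⟨z, hz⟩ := h ⟨x, rfl⟩
    refine ⟨z, j.coborderRange.ι.isOpenEmbedding.injective ?_⟩
    rw [← Scheme.Hom.comp_apply, ← Scheme.Hom.comp_apply, j.liftCoborder_ι, hf, hz])
  exact ⟨g, by rw [← j.liftCoborder_ι, reassoc_of% hg, hf]⟩

theorem exists_iso_of_range_eq {Y Y' X : Scheme.{u}} (i : Y ⟶ X) (i' : Y' ⟶ X) [IsImmersion i]
    [IsImmersion i'] [IsReduced Y] [IsReduced Y'] (h : Set.range i = Set.range i') :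
    ∃ e : Y ≅ Y', e.hom ≫ i' = i := by
  obtain ⟨a, ha⟩ := exists_lift_immersion_of_range_subset i i' h.le
  obtain ⟨b, hb⟩ := exists_lift_immersion_of_range_subset i' i h.ge
  exact ⟨⟨a, b, (cancel_mono i).mp (by rw [Category.assoc, hb, ha, Category.id_comp]),
    (cancel_mono i').mp (by rw [Category.assoc, ha, hb, Category.id_comp])⟩, ha⟩

theorem isReduced_subscheme_iff {X : Scheme.{u}} (I : X.IdealSheafData) :
    AlgebraicGeometry.IsReduced I.subscheme ↔ ∀ U, (I.ideal U).IsRadical := by
  rw [IsReduced.iff_of_openCover (𝒰 := I.subschemeCover.openCover)]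
  refine forall_congr' fun (U : X.affineOpens) => ?_
  rw [Ideal.isRadical_iff_quotient_reduced]
  exact affine_isReduced_iff (CommRingCat.of (Γ(X, U) ⧸ I.ideal U))

theorem isReduced_vanishingIdeal_subscheme {X : Scheme.{u}} (Z : Closeds X) :
    AlgebraicGeometry.IsReduced (Scheme.IdealSheafData.vanishingIdeal Z).subscheme := by
  refine (isReduced_subscheme_iff _).mpr fun U a ha => ?_
  obtain ⟨n, hn⟩ := ha
  simp only [Scheme.IdealSheafData.vanishingIdeal_ideal, PrimeSpectrum.mem_vanishingIdeal] at hn ⊢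
  exact fun p hp => p.isPrime.mem_of_pow_mem n (hn p hp)

theorem range_vanishingIdeal_subschemeι {X : Scheme.{u}} (Z : Closeds X) :
    Set.range (Scheme.IdealSheafData.vanishingIdeal Z).subschemeι = Z := by
  rw [Scheme.IdealSheafData.range_subschemeι, Scheme.IdealSheafData.coe_support_vanishingIdeal]

theorem eq_nilradical_iff {X : Scheme.{u}} (I : X.IdealSheafData) (hI : I.support = ⊤) :
    AlgebraicGeometry.IsReduced I.subscheme ↔ I = X.nilradical := by
  constructor
  · intro h
    rw [← Scheme.IdealSheafData.vanishingIdeal_top, ← hI, Scheme.IdealSheafData.vanishingIdeal_support]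
    refine (Scheme.IdealSheafData.ext (funext fun U => ?_)).symm
    exact ((isReduced_subscheme_iff I).mp h U).radical
  · rintro rfl
    exact (isReduced_subscheme_iff _).mpr fun U => Ideal.radical_isRadical _

theorem exists_reduced_of_isLocallyClosed {X : Scheme.{u}} {Z : Set X} (hZ : IsLocallyClosed Z) :
    ∃ (Y : Scheme.{u}) (i : Y ⟶ X), IsImmersion i ∧ AlgebraicGeometry.IsReduced Y ∧ Set.range i = Z := by
  let U : X.Opens := ⟨coborder Z, hZ.isOpen_coborder⟩
  let Z' : Closeds U.toScheme := ⟨Subtype.val ⁻¹' Z, isClosed_preimage_val_coborder⟩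
  have : AlgebraicGeometry.IsReduced (Scheme.IdealSheafData.vanishingIdeal Z').subscheme :=
    isReduced_vanishingIdeal_subscheme _
  refine ⟨_, (Scheme.IdealSheafData.vanishingIdeal Z').subschemeι ≫ U.ι, inferInstance, this, ?_⟩
  rw [Scheme.Hom.comp_base, TopCat.coe_comp, Set.range_comp, range_vanishingIdeal_subschemeι]
  show Subtype.val '' (Subtype.val ⁻¹' Z : Set (coborder Z)) = Z
  exact Set.image_preimage_eq_of_subset (by rw [Subtype.range_val]; exact subset_coborder)

end Groth.Agent.H17
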