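import Groth.Agent.H17.SmoothPoint
import Mathlib.AlgebraicGeometry.Morphisms.Smooth
import Mathlib.AlgebraicGeometry.Morphisms.Etale
import Mathlib.AlgebraicGeometry.Fiber
import Mathlib.AlgebraicGeometry.PullbackCarrier

set_option autoImplicit false
universe u
open CategoryTheory Limits AlgebraicGeometry TopologicalSpace TensorProduct

namespace Groth.Agent.H17.LocusBC

variable {X S X' S' : Scheme.{u}}

theorem formallySmooth_stalkMap_iff_mem (f : X ⟶ S) [LocallyOfFinitePresentation f] (x : X) :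
    (f.stalkMap x).hom.FormallySmooth ↔ x ∈ f.smoothLocus := Iff.rfl

/-- Smoothness at a point does not change under open immersions on source and target. -/
theorem formallySmooth_stalkMap_comp_iff {U V : Scheme.{u}} (a : U ⟶ X) (f : X ⟶ S) (b : V ⟶ S)
    [IsOpenImmersion a] [IsOpenImmersion b] (φ : U ⟶ V) (w : φ ≫ b = a ≫ f) (z : U) :
    (φ.stalkMap z).hom.FormallySmooth ↔ (f.stalkMap (a z)).hom.FormallySmooth := by
  have h1 : ((φ ≫ b).stalkMap z).hom.FormallySmooth ↔ (φ.stalkMap z).hom.FormallySmooth := by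
    rw [Scheme.Hom.stalkMap_comp]
    exact RingHom.FormallySmooth.respectsIso.cancel_left_isIso (b.stalkMap (φ z)) (φ.stalkMap z)
  have h2 : ((a ≫ f).stalkMap z).hom.FormallySmooth ↔ (f.stalkMap (a z)).hom.FormallySmooth := by
    rw [Scheme.Hom.stalkMap_comp]
    exact RingHom.FormallySmooth.respectsIso.cancel_right_isIso (f.stalkMap (a z)) (a.stalkMap z)
  rw [← h1, ← h2]
  have key : ∀ (g₁ g₂ : U ⟶ S), g₁ = g₂ → ((g₁.stalkMap z).hom.FormallySmooth ↔ (g₂.stalkMap z).hom.FormallySmooth) := by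
    rintro g₁ _ rfl; exact Iff.rfl
  exact key _ _ w

/-- A local chart of a cartesian square around a point. -/
theorem exists_chart {g' : X' ⟶ X} {f' : X' ⟶ S'} {f : X ⟶ S} {g : S' ⟶ S}
    (h : IsPullback g' f' f g) (x' : X') :
    ∃ (R A R' : Type u) (_ : CommRing R) (_ : CommRing A) (_ : CommRing R') (_ : Algebra R A)
      (_ : Algebra R R') (a : Spec (.of A) ⟶ X) (b : Spec (.of R) ⟶ S) (b' : Spec (.of R') ⟶ S')
      (c : Spec (.of (R' ⊗[R] A)) ⟶ X') (t : Spec (.of (R' ⊗[R] A))),
      IsOpenImmersion a ∧ IsOpenImmersion b ∧ IsOpenImmersion b' ∧ IsOpenImmersion c ∧ c t = x' ∧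
      Spec.map (CommRingCat.ofHom (algebraMap R A)) ≫ b = a ≫ f ∧
      Spec.map (CommRingCat.ofHom (algebraMap R R')) ≫ b = b' ≫ g ∧
      Spec.map (CommRingCat.ofHom (algebraMap R' (R' ⊗[R] A))) ≫ b' = c ≫ f' ∧
      Spec.map (CommRingCat.ofHom (Algebra.TensorProduct.includeRight : A →ₐ[R] R' ⊗[R] A).toRingHom) ≫ a = c ≫ g' := by
  have hgx : g (f' x') = f (g' x') := by
    rw [← Scheme.Hom.comp_apply, ← Scheme.Hom.comp_apply, h.w]
  obtain ⟨_, ⟨V, hV, rfl⟩, hxV, -⟩ :=
    S.isBasis_affineOpens.exists_subset_of_mem_open (Set.mem_univ (f (g' x'))) isOpen_univ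
  obtain ⟨_, ⟨U, hU, rfl⟩, hxU, hUle⟩ :=
    X.isBasis_affineOpens.exists_subset_of_mem_open (show g' x' ∈ (f ⁻¹ᵁ V : Set X) from hxV) (f ⁻¹ᵁ V).2
  obtain ⟨_, ⟨V', hV', rfl⟩, hxV', hVle⟩ :=
    S'.isBasis_affineOpens.exists_subset_of_mem_open (show f' x' ∈ (g ⁻¹ᵁ V : Set S') from (hgx ▸ hxV : g (f' x') ∈ V)) (g ⁻¹ᵁ V).2
  letI := (f.appLE V U hUle).hom.toAlgebra
  letI := (g.appLE V V' hVle).hom.toAlgebra
  let φA := CommRingCat.ofHom (algebraMap Γ(S, V) Γ(X, U))
  let φR := CommRingCat.ofHom (algebraMap Γ(S, V) Γ(S', V'))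
  have ea : Spec.map φA ≫ hV.fromSpec = hU.fromSpec ≫ f := IsAffineOpen.SpecMap_appLE_fromSpec f hV hU hUle
  have eb : Spec.map φR ≫ hV.fromSpec = hV'.fromSpec ≫ g := IsAffineOpen.SpecMap_appLE_fromSpec g hV hV' hVle
  let j : pullback (Spec.map φA) (Spec.map φR) ⟶ pullback f g :=
    pullback.map _ _ _ _ hU.fromSpec hV'.fromSpec hV.fromSpec ea eb
  have hj : IsOpenImmersion j := by
    dsimp only [j]; infer_instance
  have hmem : h.isoPullback.hom x' ∈ Set.range j := by
    rw [Scheme.Pullback.range_map]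
    refine ⟨?_, ?_⟩
    · rw [Set.mem_preimage, ← Scheme.Hom.comp_apply, h.isoPullback_hom_fst, hU.range_fromSpec]
      exact hxU
    · rw [Set.mem_preimage, ← Scheme.Hom.comp_apply, h.isoPullback_hom_snd, hV'.range_fromSpec]
      exact hxV'
  obtain ⟨t₀, ht₀⟩ := hmem
  let e : Spec (.of (Γ(S', V') ⊗[Γ(S, V)] Γ(X, U))) ≅ pullback (Spec.map φA) (Spec.map φR) :=
    (pullbackSpecIso Γ(S, V) Γ(S', V') Γ(X, U)).symm ≪≫ pullbackSymmetry _ _
  let c := e.hom ≫ j ≫ h.isoPullback.inv
  refine ⟨Γ(S, V), Γ(X, U), Γ(S', V'), inferInstance, inferInstance, inferInstance, inferInstance,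
    inferInstance, hU.fromSpec, hV.fromSpec, hV'.fromSpec, c, e.inv t₀, inferInstance, inferInstance,
    inferInstance, inferInstance, ?_, ea, eb, ?_, ?_⟩
  · have : e.hom (e.inv t₀) = t₀ := by rw [← Scheme.Hom.comp_apply, Iso.inv_hom_id]; rfl
    show h.isoPullback.inv (j (e.hom (e.inv t₀))) = x'
    rw [this, ht₀, ← Scheme.Hom.comp_apply, Iso.hom_inv_id]; rfl
  · simp only [c, Category.assoc, h.isoPullback_inv_snd]
    rw [show j ≫ pullback.snd f g = pullback.snd _ _ ≫ hV'.fromSpec from pullback.lift_snd _ _ _]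
    simp only [e, Iso.trans_hom, Iso.symm_hom, Category.assoc, pullbackSymmetry_hom_comp_snd_assoc, φA, φR, pullbackSpecIso_inv_fst'_assoc]
  · simp only [c, Category.assoc, h.isoPullback_inv_fst]
    rw [show j ≫ pullback.fst f g = pullback.fst _ _ ≫ hU.fromSpec from pullback.lift_fst _ _ _]
    simp only [e, Iso.trans_hom, Iso.symm_hom, Category.assoc, pullbackSymmetry_hom_comp_fst_assoc, φA, φR, pullbackSpecIso_inv_snd_assoc]
    rfl

theorem formallySmooth_stalkMap_Spec_iff {R A : Type u} [CommRing R] [CommRing A] [Algebra R A]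
    (q : PrimeSpectrum A) :
    ((Spec.map (CommRingCat.ofHom (algebraMap R A))).stalkMap q).hom.FormallySmooth ↔
      Algebra.IsSmoothAt R q.asIdeal := by
  let p := (q.comap (algebraMap R A)).asIdeal
  have : q.asIdeal.LiesOver p := ⟨rfl⟩
  letI := Localization.AtPrime.algebraOfLiesOver p q.asIdeal
  have := RingHom.toMorphismProperty_respectsIso_iff.mp RingHom.FormallySmooth.respectsIso
  refine ((RingHom.toMorphismProperty @RingHom.FormallySmooth).arrow_mk_iso_iff
    (Scheme.arrowStalkMapSpecIso (CommRingCat.ofHom (algebraMap R A)) q)).trans ?_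
  exact (RingHom.formallySmooth_algebraMap (R := Localization.AtPrime p) (S := Localization.AtPrime q.asIdeal)).trans
    Algebra.FormallySmooth.iff_restrictScalars.symm

theorem finitePresentation_of_chart {R A : Type u} [CommRing R] [CommRing A] [Algebra R A]
    (f : X ⟶ S) [LocallyOfFinitePresentation f] (a : Spec (.of A) ⟶ X) (b : Spec (.of R) ⟶ S)
    [IsOpenImmersion a] [IsOpenImmersion b]
    (w : Spec.map (CommRingCat.ofHom (algebraMap R A)) ≫ b = a ≫ f) :
    Algebra.FinitePresentation R A := by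
  rw [← RingHom.finitePresentation_algebraMap]
  show (CommRingCat.ofHom (algebraMap R A)).hom.FinitePresentation
  rw [← HasRingHomProperty.Spec_iff (P := @LocallyOfFinitePresentation)]
  have : LocallyOfFinitePresentation (Spec.map (CommRingCat.ofHom (algebraMap R A)) ≫ b) := by
    rw [w]; infer_instance
  exact MorphismProperty.of_postcomp (W' := @IsOpenImmersion) _ _ b inferInstance this

theorem finiteType_of_chart {R A : Type u} [CommRing R] [CommRing A] [Algebra R A]
    (f : X ⟶ S) [LocallyOfFiniteType f] (a : Spec (.of A) ⟶ X) (b : Spec (.of R) ⟶ S)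
    [IsOpenImmersion a] [IsOpenImmersion b]
    (w : Spec.map (CommRingCat.ofHom (algebraMap R A)) ≫ b = a ≫ f) :
    Algebra.FiniteType R A := by
  rw [← RingHom.finiteType_algebraMap]
  show (CommRingCat.ofHom (algebraMap R A)).hom.FiniteType
  rw [← HasRingHomProperty.Spec_iff (P := @LocallyOfFiniteType)]
  have : LocallyOfFiniteType (Spec.map (CommRingCat.ofHom (algebraMap R A)) ≫ b) := by
    rw [w]; infer_instance
  exact locallyOfFiniteType_of_comp _ b

/-- Smoothness at a point descends along flat base change. -/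
theorem mem_smoothLocus_of_flat_baseChange {g' : X' ⟶ X} {f' : X' ⟶ S'} {f : X ⟶ S} {g : S' ⟶ S}
    (h : IsPullback g' f' f g) [LocallyOfFinitePresentation f] [LocallyOfFinitePresentation f']
    [Flat g] (x' : X') (hx : x' ∈ f'.smoothLocus) : g' x' ∈ f.smoothLocus := by
  obtain ⟨R, A, R', _, _, _, _, _, a, b, b', c, t, _, _, _, _, rfl, ea, eb, ef, eg⟩ := exists_chart h x'
  have hflat : Module.Flat R R' := by
    rw [← RingHom.flat_algebraMap_iff]
    show (CommRingCat.ofHom (algebraMap R R')).hom.Flat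
    rw [← HasRingHomProperty.Spec_iff (P := @Flat)]
    have : Flat (Spec.map (CommRingCat.ofHom (algebraMap R R')) ≫ b) := by
      rw [eb]; infer_instance
    exact MorphismProperty.of_postcomp (W' := @IsOpenImmersion) _ _ b inferInstance this
  have := finitePresentation_of_chart f a b ea
  rw [Scheme.Hom.mem_smoothLocus, ← formallySmooth_stalkMap_comp_iff c f' b' _ ef,
    formallySmooth_stalkMap_Spec_iff] at hx
  let q : PrimeSpectrum A := t.comap (Algebra.TensorProduct.includeRight : A →ₐ[R] R' ⊗[R] A).toRingHom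
  have hq : g' (c t) = a q := by
    rw [← Scheme.Hom.comp_apply, ← eg]; rfl
  rw [hq, Scheme.Hom.mem_smoothLocus, ← formallySmooth_stalkMap_comp_iff a f b _ ea,
    formallySmooth_stalkMap_Spec_iff]
  letI : Algebra A (R' ⊗[R] A) := Algebra.TensorProduct.rightAlgebra
  have : t.asIdeal.LiesOver q.asIdeal := ⟨rfl⟩
  exact SmoothPoint.isSmoothAt_of_baseChange R' q.asIdeal t.asIdeal

theorem smooth_restrict_smoothLocus (f : X ⟶ S) [LocallyOfFinitePresentation f] :
    Smooth (f.smoothLocus.ι ≫ f) := by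
  rw [← Scheme.Hom.smoothLocus_eq_top_iff, ← Scheme.Hom.preimage_smoothLocus_eq]
  exact f.smoothLocus.ι_preimage_self

theorem subset_smoothLocus_of_smooth (f : X ⟶ S) [LocallyOfFinitePresentation f] (U : X.Opens)
    [Smooth (U.ι ≫ f)] : U ≤ f.smoothLocus := by
  intro x hx
  have : (⟨x, hx⟩ : U) ∈ U.ι ⁻¹ᵁ f.smoothLocus := by
    rw [Scheme.Hom.preimage_smoothLocus_eq, Scheme.Hom.smoothLocus_eq_top]; trivial
  exact this

theorem mem_smoothLocus_iff_exists (f : X ⟶ S) [LocallyOfFinitePresentation f] (x : X) :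
    x ∈ f.smoothLocus ↔ ∃ U : X.Opens, x ∈ U ∧ Smooth (U.ι ≫ f) :=
  ⟨fun hx => ⟨_, hx, smooth_restrict_smoothLocus f⟩,
    fun ⟨U, hxU, _⟩ => subset_smoothLocus_of_smooth f U hxU⟩

/-- The preimage of the smooth locus is contained in the smooth locus of any base change. -/
theorem preimage_smoothLocus_le {g' : X' ⟶ X} {f' : X' ⟶ S'} {f : X ⟶ S} {g : S' ⟶ S}
    (h : IsPullback g' f' f g) [LocallyOfFinitePresentation f] [LocallyOfFinitePresentation f'] :
    g' ⁻¹ᵁ f.smoothLocus ≤ f'.smoothLocus := by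
  have hp := (isPullback_morphismRestrict g' f.smoothLocus).paste_vert h
  have : Smooth ((g' ⁻¹ᵁ f.smoothLocus).ι ≫ f') :=
    MorphismProperty.of_isPullback hp (smooth_restrict_smoothLocus f)
  exact subset_smoothLocus_of_smooth f' _

theorem flat_stalkMap_of_mem_smoothLocus (f : X ⟶ S) [LocallyOfFinitePresentation f] {x : X}
    (hx : x ∈ f.smoothLocus) : (f.stalkMap x).hom.Flat := by
  have := smooth_restrict_smoothLocus f
  let z : f.smoothLocus.toScheme := ⟨x, hx⟩
  have h := Flat.stalkMap (f.smoothLocus.ι ≫ f) z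
  rw [Scheme.Hom.stalkMap_comp] at h
  have : IsIso (f.smoothLocus.ι.stalkMap z) := inferInstance
  exact (RingHom.Flat.respectsIso.cancel_right_isIso (f.stalkMap (f.smoothLocus.ι z)) (f.smoothLocus.ι.stalkMap z)).mp h

theorem flat_stalkMap_comp_iff {U V : Scheme.{u}} (a : U ⟶ X) (f : X ⟶ S) (b : V ⟶ S)
    [IsOpenImmersion a] [IsOpenImmersion b] (φ : U ⟶ V) (w : φ ≫ b = a ≫ f) (z : U) :
    (φ.stalkMap z).hom.Flat ↔ (f.stalkMap (a z)).hom.Flat := by
  have h1 : ((φ ≫ b).stalkMap z).hom.Flat ↔ (φ.stalkMap z).hom.Flat := by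
    rw [Scheme.Hom.stalkMap_comp]
    exact RingHom.Flat.respectsIso.cancel_left_isIso (b.stalkMap (φ z)) (φ.stalkMap z)
  have h2 : ((a ≫ f).stalkMap z).hom.Flat ↔ (f.stalkMap (a z)).hom.Flat := by
    rw [Scheme.Hom.stalkMap_comp]
    exact RingHom.Flat.respectsIso.cancel_right_isIso (f.stalkMap (a z)) (a.stalkMap z)
  rw [← h1, ← h2]
  have key : ∀ (g₁ g₂ : U ⟶ S), g₁ = g₂ → ((g₁.stalkMap z).hom.Flat ↔ (g₂.stalkMap z).hom.Flat) := by
    rintro g₁ _ rfl; exact Iff.rfl
  exact key _ _ w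

/-- The fibrewise criterion for smoothness at a point. -/
theorem mem_smoothLocus_of_flat_of_fiber (f : X ⟶ S) [LocallyOfFinitePresentation f] (x : X)
    [LocallyOfFinitePresentation (f.fiberToSpecResidueField (f x))]
    (hflat : (f.stalkMap x).hom.Flat)
    (hfib : f.asFiber x ∈ (f.fiberToSpecResidueField (f x)).smoothLocus) : x ∈ f.smoothLocus := by
  set W := (f.fiberToSpecResidueField (f x)).smoothLocus
  obtain ⟨O, hO, hOW⟩ := (f.fiberι (f x)).isEmbedding.isInducing.isOpen_iff.mp W.2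
  have hxO : x ∈ O := by
    have : f.asFiber x ∈ f.fiberι (f x) ⁻¹' O := by rw [hOW]; exact hfib
    simpa using this
  obtain ⟨_, ⟨V, hV, rfl⟩, hxV, -⟩ :=
    S.isBasis_affineOpens.exists_subset_of_mem_open (Set.mem_univ (f x)) isOpen_univ
  obtain ⟨_, ⟨U, hU, rfl⟩, hxU, hUle⟩ :=
    X.isBasis_affineOpens.exists_subset_of_mem_open (show x ∈ O ∩ (f ⁻¹ᵁ V : Set X) from ⟨hxO, hxV⟩)
      (hO.inter (f ⁻¹ᵁ V).2)
  have e : U ≤ f ⁻¹ᵁ V := fun z hz => (hUle hz).2
  let : Algebra Γ(S, V) Γ(X, U) := (f.appLE V U e).hom.toAlgebra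
  let φ := Spec.map (CommRingCat.ofHom (algebraMap Γ(S, V) Γ(X, U)))
  have ea : φ ≫ hV.fromSpec = hU.fromSpec ≫ f := IsAffineOpen.SpecMap_appLE_fromSpec f hV hU e
  have := finitePresentation_of_chart f hU.fromSpec hV.fromSpec ea
  let q := hU.primeIdealOf ⟨x, hxU⟩
  have hq : hU.fromSpec q = x := hU.fromSpec_primeIdealOf _
  let p : PrimeSpectrum Γ(S, V) := φ q
  have hp : hV.fromSpec p = f x := by
    show hV.fromSpec (φ q) = f x
    rw [← Scheme.Hom.comp_apply, ea, Scheme.Hom.comp_apply, hq]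
  have hflatq : (φ.stalkMap q).hom.Flat := by
    rw [flat_stalkMap_comp_iff hU.fromSpec f hV.fromSpec φ ea, hq]; exact hflat
  -- the fibre of the chart is an open subscheme of the fibre
  let κ := Spec.map (hV.fromSpec.residueFieldMap p)
  have hκ : κ ≫ S.fromSpecResidueField (hV.fromSpec p) = (Spec (.of Γ(S, V))).fromSpecResidueField p ≫ hV.fromSpec :=
    Scheme.Hom.SpecMap_residueFieldMap_fromSpecResidueField _ _
  let j : φ.fiber p ⟶ f.fiber (hV.fromSpec p) :=
    pullback.map _ _ _ _ hU.fromSpec κ hV.fromSpec ea hκ.symm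
  have : IsOpenImmersion κ := by
    have : IsIso (hV.fromSpec.residueFieldMap p) := inferInstance
    infer_instance
  have : IsOpenImmersion j :=
    @Scheme.pullback_map_isOpenImmersion _ _ _ _ _ _ _ _ _ _ _ _ hV.fromSpec ea hκ.symm inferInstance inferInstance inferInstance
  have hjι : j ≫ f.fiberι _ = φ.fiberι p ≫ hU.fromSpec := pullback.lift_fst _ _ _
  have hjs : j ≫ f.fiberToSpecResidueField _ = φ.fiberToSpecResidueField p ≫ κ := pullback.lift_snd _ _ _
  have key : ∀ (y : S), y = f x → ∀ (_ : LocallyOfFinitePresentation (f.fiberToSpecResidueField y))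
      (z : f.fiber y), f.fiberι y z ∈ O → ((f.fiberToSpecResidueField y).stalkMap z).hom.FormallySmooth := by
    rintro y rfl _ z hz
    have : z ∈ f.fiberι (f x) ⁻¹' O := hz
    rw [hOW] at this
    exact this
  have hlfp : LocallyOfFinitePresentation (f.fiberToSpecResidueField (hV.fromSpec p)) :=
    MorphismProperty.pullback_snd _ _ inferInstance
  have : LocallyOfFinitePresentation (φ.fiberToSpecResidueField p) := by
    refine MorphismProperty.pullback_snd _ _ ?_
    rw [HasRingHomProperty.Spec_iff (P := @LocallyOfFinitePresentation)]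
    exact RingHom.finitePresentation_algebraMap.mpr inferInstance
  have hsm : Smooth (φ.fiberToSpecResidueField p) := by
    rw [← Scheme.Hom.smoothLocus_eq_top_iff, ← top_le_iff]
    intro z _
    rw [Scheme.Hom.mem_smoothLocus, formallySmooth_stalkMap_comp_iff j (f.fiberToSpecResidueField _) κ _ hjs.symm]
    refine key _ hp hlfp _ ?_
    rw [← Scheme.Hom.comp_apply, hjι, Scheme.Hom.comp_apply]
    have : hU.fromSpec (φ.fiberι p z) ∈ Set.range hU.fromSpec := ⟨_, rfl⟩
    rw [hU.range_fromSpec] at this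
    exact (hUle this).1
  have hsmA : Algebra.FormallySmooth p.asIdeal.ResidueField (p.asIdeal.Fiber Γ(X, U)) := by
    rw [MorphismProperty.arrow_mk_iso_iff (P := @Smooth) (Spec.fiberToSpecResidueFieldIso Γ(S, V) Γ(X, U) p)] at hsm
    rw [HasRingHomProperty.Spec_iff (P := @Smooth)] at hsm
    exact RingHom.formallySmooth_algebraMap.mp hsm.formallySmooth
  have : q.asIdeal.LiesOver p.asIdeal := ⟨rfl⟩
  have hflatA : (Localization.localRingHom p.asIdeal q.asIdeal (algebraMap Γ(S, V) Γ(X, U)) (q.asIdeal.over_def p.asIdeal)).Flat := by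
    have := RingHom.toMorphismProperty_respectsIso_iff.mp RingHom.Flat.respectsIso
    exact ((RingHom.toMorphismProperty @RingHom.Flat).arrow_mk_iso_iff
      (Scheme.arrowStalkMapSpecIso (CommRingCat.ofHom (algebraMap Γ(S, V) Γ(X, U))) q)).mp hflatq
  have hmod : Module.Flat Γ(S, V) (Localization.AtPrime q.asIdeal) := by
    let := Localization.AtPrime.algebraOfLiesOver p.asIdeal q.asIdeal
    have : Module.Flat (Localization.AtPrime p.asIdeal) (Localization.AtPrime q.asIdeal) := hflatA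
    exact Module.Flat.trans Γ(S, V) (Localization.AtPrime p.asIdeal) _
  have := SmoothPoint.isSmoothAt_of_flat_localization_of_fiber p.asIdeal q.asIdeal hflatA
  rw [← hq, Scheme.Hom.mem_smoothLocus, ← formallySmooth_stalkMap_comp_iff hU.fromSpec f hV.fromSpec φ ea,
    formallySmooth_stalkMap_Spec_iff]
  exact this

/-- A morphism is unramified near a point iff its stalk map is formally unramified. -/
theorem formallyUnramified_stalkMap_comp_iff {U V : Scheme.{u}} (a : U ⟶ X) (f : X ⟶ S) (b : V ⟶ S)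
    [IsOpenImmersion a] [IsOpenImmersion b] (φ : U ⟶ V) (w : φ ≫ b = a ≫ f) (z : U) :
    (φ.stalkMap z).hom.FormallyUnramified ↔ (f.stalkMap (a z)).hom.FormallyUnramified := by
  have h1 : ((φ ≫ b).stalkMap z).hom.FormallyUnramified ↔ (φ.stalkMap z).hom.FormallyUnramified := by
    rw [Scheme.Hom.stalkMap_comp]
    exact RingHom.FormallyUnramified.respectsIso.cancel_left_isIso (b.stalkMap (φ z)) (φ.stalkMap z)
  have h2 : ((a ≫ f).stalkMap z).hom.FormallyUnramified ↔ (f.stalkMap (a z)).hom.FormallyUnramified := by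
    rw [Scheme.Hom.stalkMap_comp]
    exact RingHom.FormallyUnramified.respectsIso.cancel_right_isIso (f.stalkMap (a z)) (a.stalkMap z)
  rw [← h1, ← h2]
  have key : ∀ (g₁ g₂ : U ⟶ S), g₁ = g₂ →
      ((g₁.stalkMap z).hom.FormallyUnramified ↔ (g₂.stalkMap z).hom.FormallyUnramified) := by
    rintro g₁ _ rfl; exact Iff.rfl
  exact key _ _ w

theorem isUnramifiedAt_of_stalkMap_Spec {R A : Type u} [CommRing R] [CommRing A] [Algebra R A]
    (q : PrimeSpectrum A)
    (h : ((Spec.map (CommRingCat.ofHom (algebraMap R A))).stalkMap q).hom.FormallyUnramified) :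
    Algebra.IsUnramifiedAt R q.asIdeal := by
  let p := (q.comap (algebraMap R A)).asIdeal
  have : q.asIdeal.LiesOver p := ⟨rfl⟩
  letI := Localization.AtPrime.algebraOfLiesOver p q.asIdeal
  have := RingHom.toMorphismProperty_respectsIso_iff.mp RingHom.FormallyUnramified.respectsIso
  have h' := ((RingHom.toMorphismProperty @RingHom.FormallyUnramified).arrow_mk_iso_iff
    (Scheme.arrowStalkMapSpecIso (CommRingCat.ofHom (algebraMap R A)) q)).mp h
  have : Algebra.FormallyUnramified (Localization.AtPrime p) (Localization.AtPrime q.asIdeal) :=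
    RingHom.formallyUnramified_algebraMap.mp h'
  exact Algebra.FormallyUnramified.comp R (Localization.AtPrime p) _

theorem formallyUnramified_stalkMap_of_nhd (f : X ⟶ S) {x : X} (U : X.Opens) (hx : x ∈ U)
    [FormallyUnramified (U.ι ≫ f)] : (f.stalkMap x).hom.FormallyUnramified := by
  let z : U.toScheme := ⟨x, hx⟩
  exact (formallyUnramified_stalkMap_comp_iff U.ι f (𝟙 S) (U.ι ≫ f) (Category.comp_id _) z).mp
    (FormallyUnramified.stalkMap _ z)

/-- Unramifiedness near a point descends along any base change. -/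
theorem exists_formallyUnramified_of_baseChange {g' : X' ⟶ X} {f' : X' ⟶ S'} {f : X ⟶ S} {g : S' ⟶ S}
    (h : IsPullback g' f' f g) [LocallyOfFiniteType f] (x' : X') (U' : X'.Opens) (hx : x' ∈ U')
    [FormallyUnramified (U'.ι ≫ f')] :
    ∃ U : X.Opens, g' x' ∈ U ∧ FormallyUnramified (U.ι ≫ f) := by
  obtain ⟨R, A, R', _, _, _, _, _, a, b, b', c, t, _, _, _, _, rfl, ea, eb, ef, eg⟩ := exists_chart h x'
  have := finiteType_of_chart f a b ea
  have h1 := formallyUnramified_stalkMap_of_nhd f' U' hx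
  rw [← formallyUnramified_stalkMap_comp_iff c f' b' _ ef] at h1
  have := isUnramifiedAt_of_stalkMap_Spec t h1
  let q : PrimeSpectrum A := t.comap (Algebra.TensorProduct.includeRight : A →ₐ[R] R' ⊗[R] A).toRingHom
  letI : Algebra A (R' ⊗[R] A) := Algebra.TensorProduct.rightAlgebra
  have : t.asIdeal.LiesOver q.asIdeal := ⟨rfl⟩
  have := SmoothPoint.isUnramifiedAt_of_baseChange R' q.asIdeal t.asIdeal
  obtain ⟨s, hs, hu⟩ := Algebra.exists_formallyUnramified_of_isUnramifiedAt (R := R) q.asIdeal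
  let i := Spec.map (CommRingCat.ofHom (algebraMap A (Localization.Away s)))
  have : IsOpenImmersion i := IsOpenImmersion.of_isLocalization s
  have hq : g' (c t) = a q := by
    rw [← Scheme.Hom.comp_apply, ← eg]; rfl
  refine ⟨(i ≫ a).opensRange, ?_, ?_⟩
  · have : q ∈ Set.range (PrimeSpectrum.comap (algebraMap A (Localization.Away s))) := by
      rw [PrimeSpectrum.localization_away_comap_range (Localization.Away s) s]; exact hs
    obtain ⟨q₀, hq₀⟩ := this
    refine ⟨q₀, ?_⟩
    rw [hq, Scheme.Hom.comp_apply, show i q₀ = q from hq₀]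
  · have hu' : FormallyUnramified (Spec.map (CommRingCat.ofHom (algebraMap R (Localization.Away s)))) := by
      rw [HasRingHomProperty.Spec_iff (P := @FormallyUnramified)]
      exact RingHom.formallyUnramified_algebraMap.mpr hu
    have hb : FormallyUnramified b := inferInstance
    have h2 : FormallyUnramified ((i ≫ a) ≫ f) := by
      rw [Category.assoc, ← ea, ← Category.assoc, ← Spec.map_comp, ← CommRingCat.ofHom_comp,
        ← IsScalarTower.algebraMap_eq]
      exact MorphismProperty.comp_mem _ _ _ hu' hb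
    rw [← (i ≫ a).isoOpensRange_inv_comp, Category.assoc]
    exact (MorphismProperty.cancel_left_of_respectsIso (P := @FormallyUnramified) _ _).mpr h2

theorem formallyUnramified_preimage {g' : X' ⟶ X} {f' : X' ⟶ S'} {f : X ⟶ S} {g : S' ⟶ S}
    (h : IsPullback g' f' f g) (U : X.Opens) [hU : FormallyUnramified (U.ι ≫ f)] :
    FormallyUnramified ((g' ⁻¹ᵁ U).ι ≫ f') :=
  MorphismProperty.of_isPullback ((isPullback_morphismRestrict g' U).paste_vert h) hU

theorem etale_preimage {g' : X' ⟶ X} {f' : X' ⟶ S'} {f : X ⟶ S} {g : S' ⟶ S}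
    (h : IsPullback g' f' f g) (U : X.Opens) [hU : Etale (U.ι ≫ f)] :
    Etale ((g' ⁻¹ᵁ U).ι ≫ f') :=
  MorphismProperty.of_isPullback ((isPullback_morphismRestrict g' U).paste_vert h) hU

end Groth.Agent.H17.LocusBC
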