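import Groth.Prelude.Def_EGA4Misc
import Groth.Prelude.Def_MoreMor
import Groth.Agent.H8Props.FibreCriterionApps
import Groth.Agent.H8Props.FieldDimFibre
import Groth.Agent.H8Props.FieldDimSmooth
import Groth.Agent.H7Flat.FibreDimConstructible
import Groth.Agent.H28Top.Noeth
import Groth.Agent.H17.MonoField
import Groth.Agent.H17.Reduced
import Groth.Agent.H12AlgSp.UnivInj

/-! Constructible properties of algebraic schemes (EGA IV 9.2, 9.6) over a Noetherian base. -/

set_option autoImplicit false
set_option linter.style.haveILetI false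

universe u

open CategoryTheory Limits AlgebraicGeometry TopologicalSpace Topology Set

namespace Groth.Agent.H17.ConsProp

/-! ### Spectra of fields -/

theorem surjective_of_subsingleton {T T' : Scheme.{u}} (h : T' ⟶ T) [Subsingleton T] [IsIntegral T'] :
    Surjective h :=
  ⟨fun t => ⟨genericPoint T', Subsingleton.elim _ _⟩⟩

/-! ### Field stability and base change of loci -/

theorem locus_baseChange {P : ∀ ⦃Y T : Scheme.{u}⦄, (Y ⟶ T) → Prop} (hP : _root_.ConsProp.IsFieldStable P)
    {X S X' S' : Scheme.{u}} {u : X ⟶ S} {u' : X' ⟶ S'} {j : S' ⟶ S} {jX : X' ⟶ X}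
    [LocallyOfFiniteType u] [QuasiCompact u] (hc : IsPullback jX u' u j) :
    _root_.ConsProp.locus P u' = j ⁻¹' _root_.ConsProp.locus P u := by
  ext s
  exact (@hP _ _ _ _ (u.fiberToSpecResidueField (j s)) (u'.fiberToSpecResidueField s) _ _ _ _ _ _
    (H8Props.FieldDim.locallyOfFiniteType_fiberToSpec u (j s)) (MorphismProperty.pullback_snd _ _ ‹_›)
    (isPullback_fiberToSpecResidueField_of_isPullback hc s)).symm

/-! ### Constructible sets and generic points -/

theorem interior_or_of_isConstructible {S : Scheme.{u}} [IsIntegral S] [IsNoetherian S] {E : Set S}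
    (hE : IsConstructible E) : (interior E).Nonempty ∨ (interior Eᶜ).Nonempty := by
  have key : ∀ F : Set S, IsConstructible F → genericPoint S ∈ F → (interior F).Nonempty := by
    intro F hF hη
    obtain ⟨U, hU, ⟨z, hz, -⟩, hUF⟩ := H28Top.IsConstructible.exists_isOpen_inter_subset hF
      (IrreducibleSpace.isIrreducible_univ S) (by
        rw [Set.inter_univ, ← (genericPoint_spec S).def]
        exact closure_mono (Set.singleton_subset_iff.2 hη))
    exact ⟨z, interior_maximal (fun w hw => hUF ⟨hw, trivial⟩) hU hz⟩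
  by_cases h : genericPoint S ∈ E
  · exact .inl (key E hE h)
  · exact .inr (key Eᶜ (isConstructible_compl.2 hE) h)

theorem isNoetherian_of_finiteType {X S : Scheme.{u}} (u : X ⟶ S) [IsNoetherian S] [LocallyOfFiniteType u]
    [QuasiCompact u] : IsNoetherian X := by
  haveI : CompactSpace X := QuasiCompact.compactSpace_of_compactSpace u
  haveI : IsLocallyNoetherian X := LocallyOfFiniteType.isLocallyNoetherian u
  exact { }

/-- Restriction to a closed irreducible subset as an integral scheme. -/
theorem exists_integral_closed {S : Scheme.{u}} [IsNoetherian S] (Z : Set S) (hZ : IsClosed Z) (hi : IsIrreducible Z) :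
    ∃ (T : Scheme.{u}) (i : T ⟶ S), IsIntegral T ∧ IsNoetherian T ∧ IsClosedImmersion i ∧ range i = Z := by
  let I := Scheme.IdealSheafData.vanishingIdeal (X := S) ⟨Z, hZ⟩
  have hr : range I.subschemeι = Z := by
    rw [Scheme.IdealSheafData.range_subschemeι, Scheme.IdealSheafData.coe_support_vanishingIdeal]
    rfl
  haveI : IrreducibleSpace I.subscheme := by
    have h : IsIrreducible (Set.univ : Set I.subscheme) := by
      obtain ⟨t, ht⟩ : hi.genericPoint ∈ range I.subschemeι := hr.symm ▸ (hi.isGenericPoint_genericPoint hZ).mem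
      have h1 : closure ({t} : Set I.subscheme) = univ := eq_univ_of_forall fun w => by
        refine (I.subschemeι.isEmbedding.isInducing.specializes_iff.1 ?_).mem_closure
        rw [ht]
        exact (hi.isGenericPoint_genericPoint hZ).specializes (hr ▸ mem_range_self w)
      exact h1 ▸ isIrreducible_singleton.closure
    exact (irreducibleSpace_def _).2 h
  haveI : IsReduced I.subscheme := Groth.Agent.H17.isReduced_vanishingIdeal_subscheme _
  exact ⟨_, I.subschemeι, isIntegral_of_irreducibleSpace_of_isReduced _, isNoetherian_of_finiteType I.subschemeι,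
    inferInstance, hr⟩

theorem restrict_locus {P : ∀ ⦃Y T : Scheme.{u}⦄, (Y ⟶ T) → Prop} (hP : _root_.ConsProp.IsFieldStable P)
    {X S : Scheme.{u}} (u : X ⟶ S) [LocallyOfFiniteType u] [QuasiCompact u] {T : Scheme.{u}} (i : T ⟶ S) :
    _root_.ConsProp.locus P (pullback.snd u i) = i ⁻¹' _root_.ConsProp.locus P u :=
  locus_baseChange hP (IsPullback.of_hasPullback u i)

theorem exists_open_inter {S T : Scheme.{u}} (i : T ⟶ S) [IsClosedImmersion i] {E : Set S}
    (h : (interior (i ⁻¹' E)).Nonempty) :
    ∃ U, IsOpen U ∧ (U ∩ range i).Nonempty ∧ U ∩ range i ⊆ E := by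
  obtain ⟨t, ht⟩ := h
  obtain ⟨U, hU, hUt⟩ := i.isEmbedding.isInducing.isOpen_iff.1 (isOpen_interior (s := i ⁻¹' E))
  refine ⟨U, hU, ⟨i t, ?_, mem_range_self t⟩, ?_⟩
  · exact (hUt.symm ▸ ht : t ∈ i ⁻¹' U)
  · rintro _ ⟨hw, w, rfl⟩
    exact interior_subset (s := i ⁻¹' E) (hUt ▸ hw)

/-- EGA IV 9.2.3 for a Noetherian base, constructible case. -/
theorem isConstructible_locus {P : ∀ ⦃Y T : Scheme.{u}⦄, (Y ⟶ T) → Prop} (hP : _root_.ConsProp.IsCons P)
    {X S : Scheme.{u}} (u : X ⟶ S) [IsNoetherian S] [LocallyOfFiniteType u] [QuasiCompact u] :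
    IsConstructible (_root_.ConsProp.locus P u) := by
  refine H28Top.isConstructible_of_forall_irreducible fun Z hZ hi hd => ?_
  obtain ⟨T, i, _, _, _, rfl⟩ := exists_integral_closed Z hZ hi
  rcases hP.2 (pullback.snd u i) with h | h
  · rw [restrict_locus hP.1] at h
    exact exists_open_inter i h
  · rw [restrict_locus hP.1, ← preimage_compl] at h
    obtain ⟨U, hU, hne, hsub⟩ := exists_open_inter i h
    exfalso
    obtain ⟨z, hzU, hzZ⟩ := hne
    obtain ⟨w, hwU, hwE, hwZ⟩ := mem_closure_iff.1 (hd hzZ) U hU hzU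
    exact hsub ⟨hwU, hwZ⟩ hwE

/-- EGA IV 9.2.3 for a Noetherian base, ind-constructible case. -/
theorem exists_open_of_mem_locus {P : ∀ ⦃Y T : Scheme.{u}⦄, (Y ⟶ T) → Prop} (hP : _root_.ConsProp.IsIndCons P)
    {X S : Scheme.{u}} (u : X ⟶ S) [IsNoetherian S] [LocallyOfFiniteType u] [QuasiCompact u]
    {s : S} (hs : s ∈ _root_.ConsProp.locus P u) :
    ∃ U, IsOpen U ∧ s ∈ U ∧ U ∩ closure {s} ⊆ _root_.ConsProp.locus P u := by
  obtain ⟨T, i, _, _, _, hr⟩ := exists_integral_closed (closure {s}) isClosed_closure isIrreducible_singleton.closure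
  obtain ⟨t, ht⟩ : s ∈ range i := hr ▸ subset_closure rfl
  have hgen : genericPoint T = t := by
    refine (genericPoint_spec T).eq (Set.eq_univ_of_forall fun w => ?_)
    refine (i.isEmbedding.isInducing.specializes_iff.1 ?_).mem_closure
    rw [ht]
    exact specializes_iff_mem_closure.mpr (hr.subset (mem_range_self w) : i w ∈ closure ({s} : Set S))
  have h := hP.2 (pullback.snd u i) (by
    rw [restrict_locus hP.1, hgen, mem_preimage, ht]
    exact hs)
  rw [restrict_locus hP.1] at h
  obtain ⟨U, hU, hne, hsub⟩ := exists_open_inter i h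
  rw [hr] at hne hsub
  obtain ⟨z, hzU, hzs⟩ := hne
  exact ⟨U, hU, (specializes_iff_mem_closure.mpr hzs).mem_open hU hzU, hsub⟩

/-! ### Properties of all the fibres of a morphism -/

theorem isFieldStableMor_forall_fiber {P : ∀ ⦃Y T : Scheme.{u}⦄, (Y ⟶ T) → Prop}
    (hP : _root_.ConsProp.IsFieldStable P) :
    _root_.ConsProp.IsFieldStableMor (fun X Y T f g => ∀ y : ↥Y, P (f.fiberToSpecResidueField y)) := by
  intro X X' Y Y' T T' f g f' g' eX eY h _ _ _ _ _ _ _ _ hY hX
  haveI := surjective_of_subsingleton h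
  haveI : Surjective eY := MorphismProperty.of_isPullback hY.flip ‹_›
  haveI : LocallyOfFiniteType f := locallyOfFiniteType_of_comp f g
  haveI : QuasiSeparated g := by
    haveI : IsLocallyNoetherian Y := LocallyOfFiniteType.isLocallyNoetherian g
    infer_instance
  haveI : QuasiCompact f := QuasiCompact.of_comp f g
  have e := locus_baseChange hP hX
  refine ⟨fun hy y' => (Set.ext_iff.1 e y').2 (hy _), fun hy y => ?_⟩
  obtain ⟨y', rfl⟩ := eY.surjective y
  exact (Set.ext_iff.1 e y').1 (hy y')

theorem locusMor_forall_fiber {P : ∀ ⦃Y T : Scheme.{u}⦄, (Y ⟶ T) → Prop}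
    (hP : _root_.ConsProp.IsFieldStable P) {X Y S : Scheme.{u}} (f : X ⟶ Y) (g : Y ⟶ S)
    [LocallyOfFiniteType f] [QuasiCompact f] :
    _root_.ConsProp.locusMor (fun X Y T f g => ∀ y : ↥Y, P (f.fiberToSpecResidueField y)) f g =
      {s | g ⁻¹' {s} ⊆ _root_.ConsProp.locus P f} := by
  ext s
  have e := locus_baseChange hP (H8Props.FibreCriterion.isPullback_fiberMap f g s)
  constructor
  · rintro h y hy
    obtain ⟨y', rfl⟩ : y ∈ range (g.fiberι s) := (g.range_fiberι s).symm ▸ hy
    exact (Set.ext_iff.1 e y').1 (h y')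
  · intro h y'
    exact (Set.ext_iff.1 e y').2 (h ((g.range_fiberι s).subset (mem_range_self y')))

theorem isConstructible_locusMor_forall {S Y : Scheme.{u}} (g : Y ⟶ S) [IsNoetherian S]
    [LocallyOfFiniteType g] [QuasiCompact g] {E : Set Y} (hE : IsConstructible E) :
    IsConstructible {s | g ⁻¹' {s} ⊆ E} := by
  haveI := isNoetherian_of_finiteType g
  haveI : LocallyOfFinitePresentation g := H12AlgSp.lfp_of_lft_of_isLocallyNoetherian g
  have : {s | g ⁻¹' {s} ⊆ E} = (g '' Eᶜ)ᶜ := by
    ext s
    exact ⟨fun h ⟨y, hy, hys⟩ => hy (h hys), fun h y hys => by_contra fun hy => h ⟨y, hy, hys⟩⟩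
  rw [this]
  exact isConstructible_compl.2 (g.isConstructible_image (isConstructible_compl.2 hE))

/-- Spreading out of an open-in-closure property from a generic fibre. -/
theorem exists_open_preimage_subset {S Y : Scheme.{u}} (g : Y ⟶ S) [IrreducibleSpace S] [NoetherianSpace Y]
    {E : Set Y} (hE : ∀ y ∈ E, g y = genericPoint S → ∃ U, IsOpen U ∧ y ∈ U ∧ U ∩ closure {y} ⊆ E)
    (hη : g ⁻¹' {genericPoint S} ⊆ E) :
    ∃ V : Set S, IsOpen V ∧ genericPoint S ∈ V ∧ g ⁻¹' V ⊆ E := by
  suffices ∀ Z : Set Y, IsClosed Z → ∃ V : Set S, IsOpen V ∧ genericPoint S ∈ V ∧ Z ∩ g ⁻¹' V ⊆ E by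
    obtain ⟨V, hV, hηV, h⟩ := this univ isClosed_univ
    exact ⟨V, hV, hηV, by simpa using h⟩
  intro Z hZ
  refine H28Top.noeth_induction_irreducible
    (fun Z => ∃ V : Set S, IsOpen V ∧ genericPoint S ∈ V ∧ Z ∩ g ⁻¹' V ⊆ E)
    ⟨univ, isOpen_univ, trivial, by simp⟩ (fun A B _ _ hA hB => ?_) (fun Z hZ hi ih => ?_) hZ
  · obtain ⟨V, hV, hηV, hA⟩ := hA
    obtain ⟨W, hW, hηW, hB⟩ := hB
    exact ⟨V ∩ W, hV.inter hW, ⟨hηV, hηW⟩, fun y hy => hy.1.elim (fun h => hA ⟨h, hy.2.1⟩) fun h => hB ⟨h, hy.2.2⟩⟩
  · have hg := hi.isGenericPoint_genericPoint hZ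
    by_cases hgη : g hi.genericPoint = genericPoint S
    · obtain ⟨U, hU, hyU, hsub⟩ := hE _ (hη hgη) hgη
      obtain ⟨V, hV, hηV, hrest⟩ := ih (Z \ U) (hZ.sdiff hU) ⟨sdiff_subset, fun h => (h hg.mem).2 hyU⟩
      refine ⟨V, hV, hηV, fun y ⟨hy, hyV⟩ => ?_⟩
      by_cases hyU' : y ∈ U
      · exact hsub ⟨hyU', by rw [hg.def]; exact hy⟩
      · exact hrest ⟨⟨hy, hyU'⟩, hyV⟩
    · refine ⟨(closure {g hi.genericPoint})ᶜ, isClosed_closure.isOpen_compl, fun h => hgη ?_, ?_⟩
      · exact (Specializes.antisymm (genericPoint_specializes _) (specializes_iff_mem_closure.mpr h)).eq.symm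
      · rintro y ⟨hy, hyV⟩
        exact absurd ((hg.specializes hy).map g.continuous).mem_closure hyV

/-! ### Universal injectivity -/

/-- Universal injectivity of a base change along a monomorphism. -/
theorem universallyInjective_iff_of_mono {X Y X' Y' : Scheme.{u}} {f : X ⟶ Y} {f' : X' ⟶ Y'}
    {j : Y' ⟶ Y} {jX : X' ⟶ X} [Mono j] (hc : IsPullback jX f' f j) :
    UniversallyInjective f' ↔
      ∀ z : ↑(pullback f f), f (pullback.fst f f z) ∈ range j → z ∈ range (pullback.diagonal f) := by
  constructor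
  · intro h z hz
    let φ := (pullback f f).fromSpecResidueField z
    obtain ⟨c, hc'⟩ : ∃ c : Spec ((pullback f f).residueField z) ⟶ Y', c ≫ j = φ ≫ pullback.fst f f ≫ f :=
      MonoField.exists_lift_of_mem_range j (K := (pullback f f).residueField z) (φ ≫ pullback.fst f f ≫ f) (by
        rw [Scheme.Hom.comp_apply, Scheme.Hom.comp_apply]
        erw [Scheme.fromSpecResidueField_apply]
        exact hz)
    let a := hc.lift (φ ≫ pullback.fst f f) c ((Category.assoc _ _ _).trans hc'.symm)
    let b := hc.lift (φ ≫ pullback.snd f f) c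
      (((Category.assoc _ _ _).trans (congrArg (φ ≫ ·) pullback.condition.symm)).trans hc'.symm)
    have hinj : ∀ (K : Type u) [Field K], Function.Injective (fun g : Spec (.of K) ⟶ X' ↦ g ≫ f') :=
      ((tfae_universallyInjective f').out 0 1).1 h
    have hab : a = b := hinj ((pullback f f).residueField z)
      (show a ≫ f' = b ≫ f' by rw [hc.lift_snd, hc.lift_snd])
    have h12 : φ ≫ pullback.fst f f = φ ≫ pullback.snd f f := by
      have h3 := congrArg (· ≫ jX) hab
      simpa only [a, b, hc.lift_fst] using h3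
    have hφ : φ = (φ ≫ pullback.fst f f) ≫ pullback.diagonal f := by
      apply pullback.hom_ext
      · rw [Category.assoc, pullback.diagonal_fst, Category.comp_id]
      · rw [Category.assoc, pullback.diagonal_snd, Category.comp_id, h12]
    refine ⟨(φ ≫ pullback.fst f f) (IsLocalRing.closedPoint _), ?_⟩
    erw [← Scheme.Hom.comp_apply, ← hφ]
    exact Scheme.fromSpecResidueField_apply _ _
  · intro h
    refine ((tfae_universallyInjective f').out 0 1).2 fun K hK a b hab => ?_
    letI := hK
    replace hab : a ≫ f' = b ≫ f' := hab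
    let q := pullback.lift (f := f) (g := f) (a ≫ jX) (b ≫ jX)
      (by rw [Category.assoc, Category.assoc, hc.w, reassoc_of% hab])
    obtain ⟨l, hl⟩ := MonoField.exists_lift_of_mem_range (pullback.diagonal f) q (h _ (by
      rw [← Scheme.Hom.comp_apply, ← Scheme.Hom.comp_apply, pullback.lift_fst_assoc, Category.assoc, hc.w,
        ← Category.assoc, Scheme.Hom.comp_apply]
      exact mem_range_self _))
    have h1 := congrArg (· ≫ pullback.fst f f) hl
    have h2 := congrArg (· ≫ pullback.snd f f) hl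
    simp only [Category.assoc, pullback.diagonal_fst, pullback.diagonal_snd, Category.comp_id, q,
      pullback.lift_fst, pullback.lift_snd] at h1 h2
    exact hc.hom_ext (h1.symm.trans h2) hab

/-- Universal injectivity descends along surjective morphisms. -/
theorem universallyInjective_of_isPullback {X Y X' Y' : Scheme.{u}} {f : X ⟶ Y} {f' : X' ⟶ Y'}
    {j : Y' ⟶ Y} {jX : X' ⟶ X} [Surjective j] (hc : IsPullback jX f' f j) [h : UniversallyInjective f'] :
    UniversallyInjective f := by
  rw [UniversallyInjective.iff_diagonal, surjective_iff]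
  intro z
  obtain ⟨y', hy'⟩ := j.surjective (f (pullback.fst f f z))
  obtain ⟨w, hw, -⟩ := Scheme.Pullback.exists_preimage_pullback (f := pullback.fst f f ≫ f) (g := j) z y'
    (by rw [Scheme.Hom.comp_apply]; exact hy'.symm)
  let φ := (pullback (pullback.fst f f ≫ f) j).fromSpecResidueField w
  have hcond := pullback.condition (f := pullback.fst f f ≫ f) (g := j)
  let a := hc.lift (φ ≫ pullback.fst _ _ ≫ pullback.fst f f) (φ ≫ pullback.snd _ _)
    (by simp only [Category.assoc]; exact congrArg (φ ≫ ·) hcond)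
  let b := hc.lift (φ ≫ pullback.fst _ _ ≫ pullback.snd f f) (φ ≫ pullback.snd _ _)
    (by
      simp only [Category.assoc]
      rw [← pullback.condition (f := f) (g := f)]
      exact congrArg (φ ≫ ·) hcond)
  have hinj : ∀ (K : Type u) [Field K], Function.Injective (fun g : Spec (.of K) ⟶ X' ↦ g ≫ f') :=
    ((tfae_universallyInjective f').out 0 1).1 h
  have hab : a = b := hinj ((pullback (pullback.fst f f ≫ f) j).residueField w)
    (show a ≫ f' = b ≫ f' by rw [hc.lift_snd, hc.lift_snd])
  have h12 : φ ≫ pullback.fst _ _ ≫ pullback.fst f f = φ ≫ pullback.fst _ _ ≫ pullback.snd f f := by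
    have := congrArg (· ≫ jX) hab
    simpa only [a, b, hc.lift_fst] using this
  let ψ := φ ≫ pullback.fst (pullback.fst f f ≫ f) j
  have hψ : ψ = (ψ ≫ pullback.fst f f) ≫ pullback.diagonal f := by
    apply pullback.hom_ext
    · simp only [Category.assoc, pullback.diagonal_fst, Category.comp_id]
    · simp only [Category.assoc, pullback.diagonal_snd, Category.comp_id]
      simpa only [ψ, Category.assoc] using h12.symm
  refine ⟨(ψ ≫ pullback.fst f f) (IsLocalRing.closedPoint _), ?_⟩
  rw [← Scheme.Hom.comp_apply, ← hψ, Scheme.Hom.comp_apply]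
  erw [Scheme.fromSpecResidueField_apply]
  exact hw

theorem isFieldStable_universallyInjective :
    _root_.ConsProp.IsFieldStable (fun Y T g => UniversallyInjective g) := by
  intro Y Y' T T' g g' e h _ _ _ _ _ _ hc
  haveI := surjective_of_subsingleton h
  exact ⟨fun hg => MorphismProperty.of_isPullback hc hg, fun hg => universallyInjective_of_isPullback hc (h := hg)⟩

theorem isConstructible_universallyInjective {X Y S : Scheme.{u}} (f : X ⟶ Y) (g : Y ⟶ S)
    [IsNoetherian S] [LocallyOfFiniteType g] [QuasiCompact g] [LocallyOfFiniteType f] [QuasiCompact f] :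
    IsConstructible {s : S | ∀ z : ↑(pullback f f), g (f (pullback.fst f f z)) = s →
      z ∈ range (pullback.diagonal f)} := by
  haveI := isNoetherian_of_finiteType g
  haveI := isNoetherian_of_finiteType f
  haveI := isNoetherian_of_finiteType (pullback.fst f f)
  haveI : LocallyOfFiniteType ((pullback.fst f f ≫ f) ≫ g) := inferInstance
  exact isConstructible_locusMor_forall ((pullback.fst f f ≫ f) ≫ g)
    (H28Top.isConstructible_of_isLocallyClosed (pullback.diagonal f).isLocallyClosed_range)

/-! ### Dimension and quasi-finiteness -/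

theorem dim_fiber_eq_of_subsingleton {Y T : Scheme.{u}} (g : Y ⟶ T) [Subsingleton T] (t : T) :
    topologicalKrullDim (g.fiber t) = topologicalKrullDim Y := by
  have hs : Function.Surjective (g.fiberι t) := fun y => by
    have : y ∈ range (g.fiberι t) := by rw [g.range_fiberι]; exact Subsingleton.elim _ _
    exact this
  exact IsHomeomorph.topologicalKrullDim_eq _
    ((g.fiberι t).isEmbedding.toHomeomorphOfSurjective hs).isHomeomorph

theorem dim_eq_of_isPullback {Y Y' T T' : Scheme.{u}} {g : Y ⟶ T} {g' : Y' ⟶ T'} {e : Y' ⟶ Y}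
    {h : T' ⟶ T} [IsIntegral T'] [Subsingleton T] [Subsingleton T'] [LocallyOfFiniteType g]
    (hc : IsPullback e g' g h) : topologicalKrullDim Y' = topologicalKrullDim Y := by
  rw [← dim_fiber_eq_of_subsingleton g (h (genericPoint T')), ← dim_fiber_eq_of_subsingleton g' (genericPoint T')]
  exact H8Props.FieldDim.dim_fiber_baseChange g hc (genericPoint T')

theorem fiber_finite_of_dim_le_zero {X S : Scheme.{u}} (u : X ⟶ S) [LocallyOfFiniteType u] [QuasiCompact u]
    (h : ∀ s, topologicalKrullDim (u.fiber s) ≤ 0) : LocallyQuasiFinite u := by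
  refine locallyQuasiFinite_iff_finite_preimage_singleton.2 fun s => ?_
  haveI : LocallyOfFiniteType (u.fiberToSpecResidueField s) := MorphismProperty.pullback_snd _ _ ‹_›
  haveI : QuasiCompact (u.fiberToSpecResidueField s) := MorphismProperty.pullback_snd _ _ ‹_›
  haveI := isNoetherian_of_finiteType (u.fiberToSpecResidueField s)
  haveI := (H28Top.finite_discrete_of_dim_le_zero (h s)).1
  rw [← u.range_fiberι s]
  exact Set.finite_range _

theorem lqf_iff_fibreDimAt {X Y : Scheme.{u}} (f : X ⟶ Y) [LocallyOfFiniteType f] [QuasiCompact f] :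
    LocallyQuasiFinite f ↔ ∀ x, FlatMor.fibreDimAt f x ≤ 0 :=
  ⟨fun _ x => (H8Props.FieldDim.fibreDimAt_eq_zero_of_lqf f x).le,
    fun h => fiber_finite_of_dim_le_zero f fun s => (H7Flat.dim_fiber_le_iff f s 0).2 fun x _ => h x⟩

end Groth.Agent.H17.ConsProp
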