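import Groth.Agent.H17.CohSub
import Groth.Agent.H17.PullSectLocal
import Groth.Agent.H8Props.RelFP.PullSections
import Groth.Agent.H8Props.FinLocFree.Sheaf
import Groth.Agent.H10Coh.GenHom
import Groth.Agent.H10Coh.BaseChange
import Groth.Agent.H29Fitt.PullbackQCoh
import Groth.Agent.H7Lim.Sections

/-!
A finitely presented module on a cofiltered limit of Noetherian schemes with affine transition maps is
the pullback of a coherent module from a stage (EGA IV 8.5.2).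
-/

set_option autoImplicit false
set_option linter.style.haveILetI false
set_option backward.isDefEq.respectTransparency false

noncomputable section

universe u

open CategoryTheory CategoryTheory.Limits AlgebraicGeometry Opposite TopologicalSpace

namespace Groth.Agent.H17.ModDescent

theorem descend_at {Y Z Z₀ : Scheme.{u}} [IsNoetherian Z] (p : Y ⟶ Z) (a : Z ⟶ Z₀) (π : Y ⟶ Z₀)
    (e : p ≫ a = π) [IsAffineHom p] (G₀ : Z₀.Modules) (hG₀ : Coh.IsCoh G₀) (F : Y.Modules) (hF : Coh.IsQCoh F)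
    (ψ : (Scheme.Modules.pullback π).obj G₀ ⟶ F) [Epi ψ]
    {κ : Type*} (U : κ → Z₀.Opens) (hU : ∀ k, IsAffineOpen (π ⁻¹ᵁ U k)) (hcov : ∀ y : Y, ∃ k, y ∈ π ⁻¹ᵁ U k)
    (h : ∀ k, ∃ S : Set Γ(kernel ψ, π ⁻¹ᵁ U k), Submodule.span Γ(Y, π ⁻¹ᵁ U k) S = ⊤ ∧
      ∀ n ∈ S, ∃ (m : ℕ) (r : Fin m → Γ(Y, π ⁻¹ᵁ U k)) (g : Fin m → Γ(G₀, U k)),
        (kernel.ι ψ).app _ n = ∑ l, r l • OmegaSh.pullSect π G₀ (U k) (g l) ∧
        ∀ l, r l ∈ Set.range (p.appLE (a ⁻¹ᵁ U k) (π ⁻¹ᵁ U k) (by rw [← e, Scheme.Hom.comp_preimage]))) :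
    ∃ Fi : Z.Modules, Coh.IsCoh Fi ∧ Nonempty ((Scheme.Modules.pullback p).obj Fi ≅ F) := by
  subst e
  haveI : F.IsQuasicoherent := hF
  let G : Z.Modules := (Scheme.Modules.pullback a).obj G₀
  have hG : Coh.IsCoh G := ⟨H29Fitt.isQCoh_pullback a G₀ hG₀.1, H29Fitt.isFT_pullback a G₀ hG₀.1 hG₀.2⟩
  haveI : G.IsQuasicoherent := hG.1
  haveI hPq : ((Scheme.Modules.pullback (p ≫ a)).obj G₀).IsQuasicoherent :=
    H29Fitt.isQCoh_pullback (p ≫ a) G₀ hG₀.1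
  let C := (Scheme.Modules.pullbackComp p a).app G₀
  let adj := Scheme.Modules.pullbackPushforwardAdjunction p
  let φ : G ⟶ (Scheme.Modules.pushforward p).obj F := adj.homEquiv _ _ (C.hom ≫ ψ)
  haveI : ((Scheme.Modules.pushforward p).obj F).IsQuasicoherent :=
    H10Coh.isQuasicoherent_pushforward_of_isAffineHom p F
  have hKc : Coh.IsCoh (kernel φ) := H10Coh.isCoh_kernel φ hG ‹_›
  have hzero : (Scheme.Modules.pullback p).map (kernel.ι φ) ≫ C.hom ≫ ψ = 0 := by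
    apply (adj.homEquiv _ _).injective
    rw [adj.homEquiv_naturality_left]
    refine (kernel.condition φ).trans ?_
    rw [Adjunction.homEquiv_unit]
    simp
  let b := (Scheme.Modules.pullback p).map (kernel.ι φ) ≫ C.hom
  let l : (Scheme.Modules.pullback p).obj (kernel φ) ⟶ kernel ψ :=
    kernel.lift ψ b (by rw [Category.assoc]; exact hzero)
  have hl : l ≫ kernel.ι ψ = b := kernel.lift_ι _ _ _
  haveI : (kernel ψ).IsQuasicoherent := H10Coh.isQuasicoherent_kernel ψ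
  haveI : Epi l := by
    refine H10Coh.epi_of_surjective_on_cover l ‹_› (fun k => (p ≫ a) ⁻¹ᵁ U k) hU hcov fun k => ?_
    obtain ⟨S, hS, hSl⟩ := h k
    refine ⟨S, hS, fun n hn => ?_⟩
    obtain ⟨m, r, g, hsum, hr⟩ := hSl n hn
    choose t ht using hr
    obtain ⟨w, hw⟩ : ∃ w : Γ(G, a ⁻¹ᵁ U k), w = ∑ i, t i • OmegaSh.pullSect a G₀ (U k) (g i) := ⟨_, rfl⟩
    have hCw : C.hom.app _ (OmegaSh.pullSect p G (a ⁻¹ᵁ U k) w) = (kernel.ι ψ).app _ n := by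
      have hlin : OmegaSh.pullSect p G (a ⁻¹ᵁ U k) w = ∑ i, p.app (a ⁻¹ᵁ U k) (t i) •
          OmegaSh.pullSect p G (a ⁻¹ᵁ U k) (OmegaSh.pullSect a G₀ (U k) (g i)) := by
        rw [hw]
        refine (map_sum (((Scheme.Modules.pullbackPushforwardAdjunction p).unit.app G).app (a ⁻¹ᵁ U k)).hom _ _).trans
          (Finset.sum_congr rfl fun i _ => ?_)
        exact Scheme.Modules.Hom.app_smul ((Scheme.Modules.pullbackPushforwardAdjunction p).unit.app G) (t i) _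
      rw [hlin, map_sum, hsum]
      refine Finset.sum_congr rfl fun i _ => ?_
      rw [Scheme.Modules.Hom.app_smul, ← PullSect.pullSect_comp p a G₀ (U k) (g i), ← ht i]
      refine congr_arg₂ (· • ·) ?_ ?_
      · exact congr($(p.app_eq_appLE) (t i))
      · exact congr($((Scheme.Modules.pullbackComp p a).inv_hom_id_app G₀).app ((p ≫ a) ⁻¹ᵁ U k) _)
    have hφw : φ.app (a ⁻¹ᵁ U k) w = 0 := by
      show (adj.homEquiv _ _ (C.hom ≫ ψ)).app (a ⁻¹ᵁ U k) w = 0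
      rw [Adjunction.homEquiv_unit]
      show (C.hom ≫ ψ).app _ (OmegaSh.pullSect p G (a ⁻¹ᵁ U k) w) = 0
      rw [Scheme.Modules.Hom.comp_app, ConcreteCategory.comp_apply, hCw]
      exact congr($(kernel.condition ψ).app ((p ≫ a) ⁻¹ᵁ U k) n)
    obtain ⟨y, hy⟩ := H29Blow.exists_kernelι_app_eq φ _ w hφw
    refine ⟨OmegaSh.pullSect p (kernel φ) (a ⁻¹ᵁ U k) y, H10Coh.injective_app_of_mono' (kernel.ι ψ) _ ?_⟩
    rw [← ConcreteCategory.comp_apply, ← Scheme.Modules.Hom.comp_app, hl, ← hCw, ← hy, PullSect.pullSect_natural]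
    rfl
  refine ⟨cokernel (kernel.ι φ), H10Coh.isCoh_cokernel _ hKc.1 hG, ⟨?_⟩⟩
  exact PreservesCokernel.iso (Scheme.Modules.pullback p) (kernel.ι φ) ≪≫
    (cokernelCompIsIso ((Scheme.Modules.pullback p).map (kernel.ι φ)) C.hom).symm ≪≫
    cokernelIsoOfEq hl.symm ≪≫ cokernelEpiComp l (kernel.ι ψ) ≪≫
    IsColimit.coconePointUniqueUpToIso (colimit.isColimit _)
      (Abelian.epiIsCokernelOfKernel _ (kernelIsKernel ψ))

/-- EGA IV 8.5.2 (ii) over Noetherian stages. -/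
theorem exists_descend {I : Type u} [Category.{u} I] [IsCofiltered I] {D : I ⥤ Scheme.{u}} {c : Cone D}
    (hc : IsLimit c) [∀ (i j : I) (f : i ⟶ j), IsAffineHom (D.map f)] [∀ i, IsNoetherian (D.obj i)] (i₀ : I)
    (F : c.pt.Modules) [hF : Coh.IsQCoh F] (hFfp : CohB1.IsFP F) :
    ∃ (i : I) (_ : i ⟶ i₀) (Fi : (D.obj i).Modules), Coh.IsCoh Fi ∧
      Nonempty ((Scheme.Modules.pullback (c.π.app i)).obj Fi ≅ F) := by
  classical
  let π : c.pt ⟶ D.obj i₀ := c.π.app i₀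
  haveI : IsAffineHom π := isAffineHom_π_app D c hc i₀
  haveI : F.IsQuasicoherent := hF
  obtain ⟨T, hT, htop⟩ :=
    (isCompact_and_isOpen_iff_finite_and_eq_biUnion_affineOpens (U := (Set.univ : Set (D.obj i₀)))).mp
      ⟨isCompact_univ, isOpen_univ⟩
  have hfp : ∀ U : (D.obj i₀).affineOpens, Module.FinitePresentation Γ(c.pt, π ⁻¹ᵁ U.1) Γ(F, π ⁻¹ᵁ U.1) :=
    fun U => H8Props.FinLocFree.finitePresentation_sections F hFfp (U.2.preimage π)
  have hgen : ∀ U : (D.obj i₀).affineOpens, ∃ S : Finset Γ(F, π ⁻¹ᵁ U.1),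
      Submodule.span Γ(c.pt, π ⁻¹ᵁ U.1) (S : Set Γ(F, π ⁻¹ᵁ U.1)) = ⊤ := fun U =>
    (haveI := hfp U; (Module.Finite.fg_top : (⊤ : Submodule Γ(c.pt, π ⁻¹ᵁ U.1) Γ(F, π ⁻¹ᵁ U.1)).FG))
  choose S hS using hgen
  have hP : Coh.IsQCoh ((Scheme.Modules.pushforward π).obj F) :=
    H10Coh.isQuasicoherent_pushforward_of_isAffineHom π F
  obtain ⟨G₀, ι, hG₀, hι⟩ : ∃ (G₀ : (D.obj i₀).Modules) (ι : G₀ ⟶ (Scheme.Modules.pushforward π).obj F),
      Coh.IsCoh G₀ ∧ ∀ U ∈ T, ∀ s ∈ S U, ∃ y, ι.app U.1 y = s := by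
    clear htop
    induction T, hT using Set.Finite.induction_on with
    | empty =>
      obtain ⟨H, k, -, hH, -⟩ := CohSub.exists_coh_sub _ hP (isAffineOpen_bot (D.obj i₀)) ∅
      exact ⟨H, k, hH, fun U hU => hU.elim⟩
    | @insert V l _ _ ih =>
      obtain ⟨A, a, hA, ha⟩ := ih
      obtain ⟨B, b, -, hB, hb⟩ := CohSub.exists_coh_sub ((Scheme.Modules.pushforward π).obj F) hP V.2 (S V)
      refine ⟨A ⊞ B, biprod.desc a b,
        H10Coh.isCoh_X₂ (ShortComplex.Splitting.ofHasBinaryBiproduct A B).shortExact hA hB, ?_⟩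
      rintro U (rfl | hU) s hs
      · obtain ⟨y, hy⟩ := hb s hs
        let inr : B ⟶ A ⊞ B := biprod.inr
        exact ⟨inr.app U.1 y, (congr($((biprod.inr_desc a b : inr ≫ _ = b)).app U.1 y)).trans hy⟩
      · obtain ⟨y, hy⟩ := ha U hU s hs
        let inl : A ⟶ A ⊞ B := biprod.inl
        exact ⟨inl.app U.1 y, (congr($((biprod.inl_desc a b : inl ≫ _ = a)).app U.1 y)).trans hy⟩
  let adj := Scheme.Modules.pullbackPushforwardAdjunction π
  let ψ := (adj.homEquiv G₀ F).symm ι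
  have hψ : ∀ (U : (D.obj i₀).Opens) (m : Γ(G₀, U)), ψ.app (π ⁻¹ᵁ U) (OmegaSh.pullSect π G₀ U m) = ι.app U m := by
    intro U m
    have h := (adj.homEquiv_unit G₀ F ψ).symm.trans ((adj.homEquiv G₀ F).apply_symm_apply ι)
    exact congr($(h).app U m)
  have hcov : ∀ y : c.pt, ∃ U : T, y ∈ π ⁻¹ᵁ U.1.1 := fun y => by
    obtain ⟨U, hU, hy⟩ := Set.mem_iUnion₂.1 (htop.le (Set.mem_univ (π y)))
    exact ⟨⟨U, hU⟩, hy⟩
  haveI : Epi ψ := H10Coh.epi_of_surjective_on_cover ψ hF (fun U : T => π ⁻¹ᵁ U.1.1) (fun U => U.1.2.preimage π)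
    hcov fun U => ⟨(S U.1 : Set Γ(F, π ⁻¹ᵁ U.1.1)), hS U.1, fun σ hσ => by
      obtain ⟨m, hm⟩ := hι U.1 U.2 σ hσ
      exact ⟨_, (hψ U.1.1 m).trans hm⟩⟩
  haveI hPq : ((Scheme.Modules.pullback π).obj G₀).IsQuasicoherent := H29Fitt.isQCoh_pullback π G₀ hG₀.1
  haveI : (kernel ψ).IsQuasicoherent := H10Coh.isQuasicoherent_kernel ψ
  -- generators of the kernel
  have hker : ∀ U : (D.obj i₀).affineOpens, ∃ (K : Finset Γ(kernel ψ, π ⁻¹ᵁ U.1)) (R : Finset Γ(c.pt, π ⁻¹ᵁ U.1)),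
      Submodule.span Γ(c.pt, π ⁻¹ᵁ U.1) (K : Set Γ(kernel ψ, π ⁻¹ᵁ U.1)) = ⊤ ∧
      ∀ n ∈ K, ∃ (m : ℕ) (r : Fin m → Γ(c.pt, π ⁻¹ᵁ U.1)) (g : Fin m → Γ(G₀, U.1)),
        (kernel.ι ψ).app _ n = ∑ l, r l • OmegaSh.pullSect π G₀ U.1 (g l) ∧ ∀ l, r l ∈ R := by
    intro U
    have hV := U.2.preimage π
    haveI := hfp U
    letI := (π.appLE U.1 (π ⁻¹ᵁ U.1) le_rfl).hom.toAlgebra
    letI := Module.compHom Γ((Scheme.Modules.pullback π).obj G₀, π ⁻¹ᵁ U.1) (π.appLE U.1 (π ⁻¹ᵁ U.1) le_rfl).hom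
    haveI : IsScalarTower Γ(D.obj i₀, U.1) Γ(c.pt, π ⁻¹ᵁ U.1) Γ((Scheme.Modules.pullback π).obj G₀, π ⁻¹ᵁ U.1) :=
      .of_algebraMap_smul fun _ _ => rfl
    have hbc := H8Props.PullSections.isBaseChange_pullLin π G₀ (le_refl (π ⁻¹ᵁ U.1)) hG₀.1 U.2 hV
    haveI := ((H10Coh.isCoh_iff_finite_sections G₀).1 hG₀).2 U.1 U.2
    haveI : Module.Finite Γ(c.pt, π ⁻¹ᵁ U.1) Γ((Scheme.Modules.pullback π).obj G₀, π ⁻¹ᵁ U.1) :=
      Module.Finite.equiv hbc.equiv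
    have hspan : Submodule.span Γ(c.pt, π ⁻¹ᵁ U.1) (Set.range (OmegaSh.pullSect π G₀ U.1)) = ⊤ := by
      refine eq_top_iff.2 fun x _ => ?_
      induction x using hbc.inductionOn with
      | zero => exact zero_mem _
      | tmul m => exact Submodule.subset_span ⟨m, (H10Coh.mres_self ((Scheme.Modules.pullback π).obj G₀) (le_refl (π ⁻¹ᵁ U.1)) _).symm⟩
      | smul r x hx => exact Submodule.smul_mem _ _ (hx trivial)
      | add x y hx hy => exact add_mem (hx trivial) (hy trivial)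
    let L : Γ((Scheme.Modules.pullback π).obj G₀, π ⁻¹ᵁ U.1) →ₗ[Γ(c.pt, π ⁻¹ᵁ U.1)] Γ(F, π ⁻¹ᵁ U.1) :=
      { toFun := ψ.app _, map_add' := map_add _, map_smul' := fun r x => ψ.app_smul r x }
    obtain ⟨K, hK⟩ := Module.FinitePresentation.fg_ker L (H10Coh.surjective_app_of_epi ψ hV)
    have hlift : ∀ n : ↥K, ∃ y, (kernel.ι ψ).app (π ⁻¹ᵁ U.1) y = n.1 := fun n =>
      H29Blow.exists_kernelι_app_eq ψ _ n.1 (show L n.1 = 0 from LinearMap.mem_ker.1 (hK ▸ Submodule.subset_span n.2))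
    choose y hy using hlift
    have hex : ∀ n : ↥K, ∃ (m : ℕ) (r : Fin m → Γ(c.pt, π ⁻¹ᵁ U.1)) (g : Fin m → Γ(G₀, U.1)),
        n.1 = ∑ l, r l • OmegaSh.pullSect π G₀ U.1 (g l) := by
      intro n
      obtain ⟨m, r, g, h⟩ := Submodule.mem_span_set'.1 (hspan.ge (Submodule.mem_top (x := n.1)))
      choose g' hg' using fun l => (g l).2
      exact ⟨m, r, g', by simp only [hg', h]⟩
    choose m r g hsum using hex
    refine ⟨Finset.univ.image y, Finset.univ.biUnion fun n => Finset.univ.image (r n), ?_, ?_⟩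
    · refine eq_top_iff.2 fun z _ => ?_
      have hz : (kernel.ι ψ).app (π ⁻¹ᵁ U.1) z ∈ Submodule.span Γ(c.pt, π ⁻¹ᵁ U.1) (K : Set Γ((Scheme.Modules.pullback π).obj G₀, π ⁻¹ᵁ U.1)) := by
        rw [hK, LinearMap.mem_ker]
        exact congr($(kernel.condition ψ).app (π ⁻¹ᵁ U.1) z)
      let ιl : Γ(kernel ψ, π ⁻¹ᵁ U.1) →ₗ[Γ(c.pt, π ⁻¹ᵁ U.1)] Γ((Scheme.Modules.pullback π).obj G₀, π ⁻¹ᵁ U.1) :=
        { toFun := (kernel.ι ψ).app _, map_add' := map_add _, map_smul' := fun r x => (kernel.ι ψ).app_smul r x }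
      have hrange : (K : Set Γ((Scheme.Modules.pullback π).obj G₀, π ⁻¹ᵁ U.1)) ⊆ ιl '' (Finset.univ.image y : Finset _) :=
        fun n hn => ⟨y ⟨n, hn⟩, by simp, hy ⟨n, hn⟩⟩
      obtain ⟨w, hw, hwz⟩ := (Submodule.span_image ιl).le (Submodule.span_mono hrange hz)
      rwa [← (H10Coh.injective_app_of_mono' (kernel.ι ψ) _ hwz)]
    · intro z hz
      obtain ⟨n, -, rfl⟩ := Finset.mem_image.1 hz
      exact ⟨m n, r n, g n, (hy n).trans (hsum n),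
        fun l => Finset.mem_biUnion.2 ⟨n, Finset.mem_univ _, Finset.mem_image.2 ⟨l, Finset.mem_univ _, rfl⟩⟩⟩
  choose K R hK hKR using hker
  choose jU φU tU htU using fun U : T => H7Lim.exists_secπ_eq_finite hc U.1.2 (fun x : ↥(R U.1) => x.1)
  haveI := hT.to_subtype
  obtain ⟨N, ⟨e⟩⟩ := Finite.exists_equiv_fin T
  obtain ⟨j, φ, ψj, hψj⟩ := IsCofiltered.wideCospan fun b => φU (e.symm b)
  haveI : IsAffineHom (c.π.app j) := isAffineHom_π_app D c hc j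
  obtain ⟨Fi, hFi, hiso⟩ := descend_at (c.π.app j) (D.map φ) π (c.w φ) G₀ hG₀ F hF ψ (fun U : T => U.1.1)
    (fun U => U.1.2.preimage π) hcov fun U => ⟨_, hK U.1, fun n hn => by
      obtain ⟨m, r, g, hs, hr⟩ := hKR U.1 n hn
      refine ⟨m, r, g, hs, fun l => ?_⟩
      obtain ⟨b, rfl⟩ := e.symm.surjective U
      have hcomp : ∀ (φ' : j ⟶ i₀), ψj b ≫ φU (e.symm b) = φ' →
          r l ∈ Set.range (H7Lim.secπ (c := c) φ' (e.symm b).1.1) := by
        rintro _ rfl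
        exact ⟨_, (H7Lim.secπ_secMap_apply _ _ _ _).trans (htU (e.symm b) ⟨r l, hr l⟩)⟩
      exact hcomp φ (hψj b)⟩
  exact ⟨j, φ, Fi, hFi, hiso⟩

end Groth.Agent.H17.ModDescent
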