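import Groth.Agent.H17.ConsPropModels
import Groth.Agent.H17.ModDescent
import Groth.Agent.H06EGA9.FlatConstructible

/-!
EGA IV 9.2.3 for relations involving a module, over an arbitrary base.
-/

set_option autoImplicit false
set_option linter.style.haveILetI false
set_option backward.isDefEq.respectTransparency false

universe u

open CategoryTheory Limits AlgebraicGeometry TopologicalSpace Topology Set Opposite

namespace Groth.Agent.H17.ConsProp

open H8Props.FibreCriterion

/-- Pullback of modules along the two ways round a commutative square. -/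
noncomputable def pullbackSqIso {A B C E : Scheme.{u}} {a : A ⟶ B} {b : B ⟶ E} {a' : A ⟶ C} {b' : C ⟶ E}
    (w : a ≫ b = a' ≫ b') (F : E.Modules) :
    (Scheme.Modules.pullback a).obj ((Scheme.Modules.pullback b).obj F) ≅
      (Scheme.Modules.pullback a').obj ((Scheme.Modules.pullback b').obj F) :=
  (Scheme.Modules.pullbackComp a b ≪≫ Scheme.Modules.pullbackCongr w ≪≫
    (Scheme.Modules.pullbackComp a' b').symm).app F

theorem locusMod_baseChange {P : ∀ ⦃Y T : Scheme.{u}⦄, (Y ⟶ T) → Y.Modules → Prop}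
    (hP : _root_.ConsProp.IsFieldStableMod P) {X S X' S' : Scheme.{u}} {u : X ⟶ S} {u' : X' ⟶ S'}
    {j : S' ⟶ S} {jX : X' ⟶ X} [LocallyOfFiniteType u] [QuasiCompact u] (hc : IsPullback jX u' u j)
    (F : X.Modules) (hF : Coh.IsCoh F) (F' : X'.Modules) (e : F' ≅ (Scheme.Modules.pullback jX).obj F) :
    _root_.ConsProp.locusMod P u' F' = j ⁻¹' _root_.ConsProp.locusMod P u F := by
  ext s
  haveI : LocallyOfFiniteType (u.fiberToSpecResidueField (j s)) := MorphismProperty.pullback_snd _ _ ‹_›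
  haveI : QuasiCompact (u.fiberToSpecResidueField (j s)) := MorphismProperty.pullback_snd _ _ ‹_›
  exact (hP _ _ _ _ (isPullback_fiberToSpecResidueField_of_isPullback hc s)
    ((Scheme.Modules.pullback (u.fiberι (j s))).obj F) ((Scheme.Modules.pullback (u'.fiberι s)).obj F')
    ⟨H29Fitt.isQCoh_pullback _ F hF.1, H29Fitt.isFT_pullback _ F hF.1 hF.2⟩
    ((Scheme.Modules.pullback (u'.fiberι s)).mapIso e ≪≫
      pullbackSqIso (fiberSqMap_fiberι hc.w s).symm F)).symm

theorem isFT_of_isFP {X : Scheme.{u}} {F : X.Modules} (hF : CohB1.IsFP F) : CohB1.IsFT F :=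
  haveI := hF; inferInstance

theorem isCoh_of_isFP {X : Scheme.{u}} {F : X.Modules} (hF : CohB1.IsFP F) : Coh.IsCoh F :=
  ⟨H29Fitt.isQCoh_of_isFP F hF, isFT_of_isFP hF⟩

theorem isCoh_pullback {X Y : Scheme.{u}} (f : X ⟶ Y) {F : Y.Modules} (hF : Coh.IsCoh F) :
    Coh.IsCoh ((Scheme.Modules.pullback f).obj F) :=
  ⟨H29Fitt.isQCoh_pullback _ F hF.1, H29Fitt.isFT_pullback _ F hF.1 hF.2⟩

theorem isConstructible_locusMod_noetherian {P : ∀ ⦃Y T : Scheme.{u}⦄, (Y ⟶ T) → Y.Modules → Prop}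
    (hP : _root_.ConsProp.IsConsMod P) {X S : Scheme.{u}} (u : X ⟶ S) [IsNoetherian S]
    [LocallyOfFiniteType u] [QuasiCompact u] (F : X.Modules) (hF : Coh.IsCoh F) :
    IsConstructible (_root_.ConsProp.locusMod P u F) := by
  refine isConstructible_of_restrict fun T i _ _ _ => ?_
  haveI : LocallyOfFiniteType (pullback.snd u i) := MorphismProperty.pullback_snd _ _ ‹_›
  rw [← locusMod_baseChange hP.1 (IsPullback.of_hasPullback u i) F hF _ (Iso.refl _)]
  exact hP.2 _ _ (isCoh_pullback _ hF)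

theorem exists_constructible_locusMod_noetherian {P : ∀ ⦃Y T : Scheme.{u}⦄, (Y ⟶ T) → Y.Modules → Prop}
    (hP : _root_.ConsProp.IsIndConsMod P) {X S : Scheme.{u}} (u : X ⟶ S) [IsNoetherian S]
    [LocallyOfFiniteType u] [QuasiCompact u] (F : X.Modules) (hF : Coh.IsCoh F) :
    ∀ s ∈ _root_.ConsProp.locusMod P u F,
      ∃ T, IsConstructible T ∧ s ∈ T ∧ T ⊆ _root_.ConsProp.locusMod P u F := by
  refine exists_constructible_of_restrict fun T i _ _ _ hη => ?_
  haveI : LocallyOfFiniteType (pullback.snd u i) := MorphismProperty.pullback_snd _ _ ‹_›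
  rw [← locusMod_baseChange hP.1 (IsPullback.of_hasPullback u i) F hF _ (Iso.refl _)] at hη ⊢
  exact hP.2 _ _ (isCoh_pullback _ hF) hη

section Models

open H7Lim.FPDescent

variable {R : Type u} [CommRing R]

theorem exists_mod_model {X : Scheme.{u}} (u : X ⟶ (subringCone R).pt)
    [LocallyOfFinitePresentation u] [QuasiCompact u] [QuasiSeparated u]
    (F : X.Modules) [Coh.IsQCoh F] (hF : CohB1.IsFP F) :
    ∃ (i : (Finset R)ᵒᵖ) (X₀ : Scheme.{u}) (u₀ : X₀ ⟶ ((subringFunctor R).op ⋙ Scheme.Spec).obj i)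
      (F₀ : X₀.Modules) (q : X ⟶ X₀), LocallyOfFinitePresentation u₀ ∧ QuasiCompact u₀ ∧
        IsPullback q u u₀ ((subringCone R).π.app i) ∧ Coh.IsCoh F₀ ∧
        Nonempty (F ≅ (Scheme.Modules.pullback q).obj F₀) := by
  haveI : Nonempty (Finset R) := ⟨∅⟩
  have hc := isLimitSubringCone R
  obtain ⟨i, ⟨M⟩⟩ := exists_model hc u
  let D := (subringFunctor R).op ⋙ Scheme.Spec
  haveI : ∀ j : Over i, IsNoetherian ((H7Lim.pbDiagram D i M.p).obj j) := fun j => by
    haveI : LocallyOfFiniteType (pullback.snd M.p (D.map j.hom)) := MorphismProperty.pullback_snd _ _ inferInstance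
    exact isNoetherian_of_finiteType (pullback.snd M.p (D.map j.hom))
  let e := M.hpb.isoPullback
  let F' : (pullback M.p ((subringCone R).π.app i)).Modules := (Scheme.Modules.pullback e.inv).obj F
  haveI : Coh.IsQCoh F' := H29Fitt.isQCoh_pullback _ F ‹_›
  obtain ⟨k, -, F₀, hF₀, ⟨iso⟩⟩ := ModDescent.exists_descend (c := H7Lim.pbCone D (subringCone R) i M.p)
    (H7Lim.isLimitPbCone D i M.p hc) (Over.mk (𝟙 i)) F' (H06EGA9.isFP_pullback e.inv hF)
  let π := (H7Lim.pbCone D (subringCone R) i M.p).π.app k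
  refine ⟨k.left, _, pullback.snd M.p (D.map k.hom), F₀, e.hom ≫ π, MorphismProperty.pullback_snd _ _ inferInstance,
    MorphismProperty.pullback_snd _ _ inferInstance, ?_, hF₀, ⟨?_⟩⟩
  · refine IsPullback.of_right (h₁₂ := pullback.fst M.p (D.map k.hom)) (h₂₂ := D.map k.hom) (v₁₃ := M.p) ?_ ?_
      (IsPullback.of_hasPullback _ _)
    · rw [(subringCone R).w k.hom]
      have : (e.hom ≫ π) ≫ pullback.fst M.p (D.map k.hom) = M.g := by simp [π, e]
      rw [this]
      exact M.hpb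
    · simp [π, e]
  · exact ((Scheme.Modules.pullbackId X).app F).symm ≪≫ (Scheme.Modules.pullbackCongr e.hom_inv_id.symm).app F ≪≫
      ((Scheme.Modules.pullbackComp e.hom e.inv).app F).symm ≪≫ (Scheme.Modules.pullback e.hom).mapIso iso.symm ≪≫
      (Scheme.Modules.pullbackComp e.hom π).app F₀

end Models

section Loci

variable {P : ∀ ⦃Y T : Scheme.{u}⦄, (Y ⟶ T) → Y.Modules → Prop} {X S : Scheme.{u}} (u : X ⟶ S)
  [LocallyOfFinitePresentation u] [QuasiCompact u] [QuasiSeparated u]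
  (F : X.Modules) [Coh.IsQCoh F] (hF : CohB1.IsFP F)

include hF in
theorem exists_model_locusMod (hP : _root_.ConsProp.IsFieldStableMod P) (R : CommRingCat.{u}) (a : Spec R ⟶ S) :
    ∃ (S₀ X₀ : Scheme.{u}) (_ : IsNoetherian S₀) (π : Spec R ⟶ S₀) (u₀ : X₀ ⟶ S₀) (F₀ : X₀.Modules),
      LocallyOfFiniteType u₀ ∧ QuasiCompact u₀ ∧ Coh.IsCoh F₀ ∧
      a ⁻¹' _root_.ConsProp.locusMod P u F = π ⁻¹' _root_.ConsProp.locusMod P u₀ F₀ := by
  haveI : LocallyOfFinitePresentation (pullback.snd u a) := MorphismProperty.pullback_snd _ _ ‹_›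
  haveI : QuasiSeparated (pullback.snd u a) := MorphismProperty.pullback_snd _ _ ‹_›
  let F' := (Scheme.Modules.pullback (pullback.fst u a)).obj F
  have hF' : CohB1.IsFP F' := H06EGA9.isFP_pullback _ hF
  haveI : Coh.IsQCoh F' := H29Fitt.isQCoh_of_isFP F' hF'
  obtain ⟨i, X₀, u₀, F₀, q, _, _, h1, hF₀, ⟨e⟩⟩ := exists_mod_model (R := R) (pullback.snd u a) F' hF'
  refine ⟨_, X₀, inferInstance, (subringCone R).π.app i, u₀, F₀, inferInstance, inferInstance, hF₀, ?_⟩
  rw [← locusMod_baseChange hP (IsPullback.of_hasPullback u a) F (isCoh_of_isFP hF) F' (Iso.refl _)]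
  exact locusMod_baseChange hP h1 F₀ hF₀ F' e

include hF in
theorem chartCons_locusMod (hP : _root_.ConsProp.IsConsMod P) :
    IndCons.ChartCons (_root_.ConsProp.locusMod P u F) := by
  refine IndCons.chartCons_of_models fun R a _ => ?_
  obtain ⟨S₀, X₀, _, π, u₀, F₀, _, _, hF₀, e⟩ := exists_model_locusMod u F hF hP.1 R a
  exact ⟨S₀, π, _, isConstructible_locusMod_noetherian hP u₀ F₀ hF₀, e⟩

include hF in
theorem chartInd_locusMod (hP : _root_.ConsProp.IsIndConsMod P) :
    IndCons.ChartInd (_root_.ConsProp.locusMod P u F) := by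
  refine IndCons.chartInd_of_models fun R a _ => ?_
  obtain ⟨S₀, X₀, _, π, u₀, F₀, _, _, hF₀, e⟩ := exists_model_locusMod u F hF hP.1 R a
  exact ⟨S₀, π, _, exists_constructible_locusMod_noetherian hP u₀ F₀ hF₀, e⟩

end Loci

end Groth.Agent.H17.ConsProp
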