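import Groth.Agent.H16Derived.KFlat.StalkTensor
import Groth.Agent.H06Mod.StalkFinite
import Mathlib

/-!
# The support of a tensor product of modules of finite type
-/

set_option autoImplicit false
set_option linter.style.haveILetI false

universe u

open CategoryTheory AlgebraicGeometry TensorProduct

namespace Groth.Agent.H17.SuppTensor

theorem subsingleton_tensor_local {R : Type*} [CommRing R] [IsLocalRing R] {M N : Type*} [AddCommGroup M]
    [AddCommGroup N] [Module R M] [Module R N] [Module.Finite R M] [Module.Finite R N]
    [Nontrivial M] [Nontrivial N] : Nontrivial (M ⊗[R] N) := by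
  let k := IsLocalRing.ResidueField R
  haveI : Nontrivial (k ⊗[R] M) := not_subsingleton_iff_nontrivial.1 fun h =>
    not_subsingleton M (IsLocalRing.subsingleton_tensorProduct.1 h)
  haveI : Nontrivial (k ⊗[R] N) := not_subsingleton_iff_nontrivial.1 fun h =>
    not_subsingleton N (IsLocalRing.subsingleton_tensorProduct.1 h)
  obtain ⟨v, hv⟩ := exists_ne (0 : k ⊗[R] M)
  obtain ⟨f, hf⟩ := Module.Projective.exists_dual_ne_zero k hv
  let g : M →ₗ[R] k := (f.restrictScalars R).comp ((TensorProduct.mk R k M) 1)
  have hg : Function.Surjective g := by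
    have hsurj : Function.Surjective (algebraMap R k) := IsLocalRing.residue_surjective
    have hm : ∃ m, g m ≠ 0 := by
      by_contra hc
      push Not at hc
      have hall : ∀ w : k ⊗[R] M, f w = 0 := fun w => by
        induction w using TensorProduct.induction_on with
        | zero => exact map_zero f
        | tmul c m =>
          rw [show c ⊗ₜ[R] m = c • ((1 : k) ⊗ₜ[R] m) by rw [TensorProduct.smul_tmul', smul_eq_mul, mul_one],
            map_smul, show f ((1 : k) ⊗ₜ[R] m) = 0 from hc m, smul_zero]
        | add a b ha hb => rw [map_add, ha, hb, add_zero]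
      exact hf (hall v)
    obtain ⟨m, hm⟩ := hm
    intro c
    obtain ⟨a, ha⟩ := hsurj (c * (g m)⁻¹)
    refine ⟨a • m, ?_⟩
    rw [map_smul, Algebra.smul_def, ha, mul_assoc, inv_mul_cancel₀ hm, mul_one]
  exact (LinearMap.rTensor_surjective N hg).nontrivial

variable {X : Scheme.{u}}

theorem support_tensor (M N : X.Modules) (hM : CohB1.IsFT M) (hN : CohB1.IsFT N) :
    CohB1.support (CohB1.tensorMod M N) = CohB1.support M ∩ CohB1.support N := by
  ext x
  haveI := H06Mod.finite_stalk M hM x
  haveI := H06Mod.finite_stalk N hN x
  let e := H16Derived.KFlat.Stalk.stalkEquiv M N x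
  show ¬ _ ↔ ¬ _ ∧ ¬ _
  rw [not_subsingleton_iff_nontrivial, not_subsingleton_iff_nontrivial, not_subsingleton_iff_nontrivial]
  constructor
  · intro h
    haveI : Nontrivial ((H16Derived.KFlat.Stalk.tensor M N).presheaf.stalk x) := h
    haveI := e.toEquiv.nontrivial
    constructor <;> rw [← not_subsingleton_iff_nontrivial] <;> intro hs
    all_goals
      refine not_subsingleton (M.presheaf.stalk x ⊗[X.presheaf.stalk x] N.presheaf.stalk x)
        (subsingleton_of_forall_eq 0 fun w => ?_)
      induction w using TensorProduct.induction_on with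
      | zero => rfl
      | tmul a b =>
        first
          | rw [Subsingleton.elim a 0, TensorProduct.zero_tmul]
          | rw [Subsingleton.elim b 0, TensorProduct.tmul_zero]
      | add a b ha hb => rw [ha, hb, add_zero]
  · rintro ⟨_, _⟩
    haveI : Nontrivial (M.presheaf.stalk x ⊗[X.presheaf.stalk x] N.presheaf.stalk x) := subsingleton_tensor_local
    exact e.symm.toEquiv.nontrivial

end Groth.Agent.H17.SuppTensor
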