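import Groth.Agent.S2069
import Mathlib

/-!
# Associated primes and fibres of a flat module over a local homomorphism
-/

set_option autoImplicit false
set_option linter.style.haveILetI false

universe u

open TensorProduct IsLocalRing

namespace Groth.Agent.H17.AssFlat

variable {A B : Type u} [CommRing A] [CommRing B] [Algebra A B]
  {N : Type u} [AddCommGroup N] [Module B N] [Module A N] [IsScalarTower A B N]

/-- Elements outside a prime are regular on the fibre of a flat module. -/
theorem regular_quot [Module.Flat A N] (p : Ideal A) [p.IsPrime] {a : A} (ha : a ∉ p)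
    (z : N ⧸ p.map (algebraMap A B) • (⊤ : Submodule B N)) (hz : algebraMap A B a • z = 0) : z = 0 := by
  obtain ⟨e⟩ := S2069.quotEquiv B N p
  let μ : (A ⧸ p) →ₗ[A] (A ⧸ p) := LinearMap.lsmul A (A ⧸ p) a
  have hμ : Function.Injective μ := (injective_iff_map_eq_zero μ).2 fun y hy => by
    obtain ⟨y, rfl⟩ := Submodule.Quotient.mk_surjective _ y
    have : a * y ∈ p := (Submodule.Quotient.mk_eq_zero p).1 hy
    exact (Submodule.Quotient.mk_eq_zero p).2 ((Ideal.IsPrime.mem_or_mem ‹_› this).resolve_left ha)
  have hinj := Module.Flat.lTensor_preserves_injective_linearMap (M := N) μ hμ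
  have hl : ∀ w : N ⊗[A] (A ⧸ p), μ.lTensor N w = algebraMap A B a • w := fun w => by
    induction w using TensorProduct.induction_on with
    | zero => simp
    | tmul n y =>
      rw [LinearMap.lTensor_tmul]
      show n ⊗ₜ[A] (a • y) = (algebraMap A B a • n) ⊗ₜ[A] y
      rw [algebraMap_smul, TensorProduct.smul_tmul]
    | add x y hx hy => rw [map_add, hx, hy, smul_add]
  apply e.symm.injective
  rw [map_zero]
  refine hinj ?_
  rw [hl, map_zero, ← e.symm.map_smul, hz, map_zero]

variable [IsLocalRing A] [IsLocalRing B] [IsLocalHom (algebraMap A B)]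
  {E : Type u} [AddCommGroup E] [Module A E]

/-- The closed point is associated to `N ⊗ E` iff it is associated to `E` and to the closed fibre of `N`. -/
theorem maximal_mem_ass_tensor_iff [IsNoetherianRing A] [Module.Flat A N] :
    maximalIdeal B ∈ associatedPrimes B (N ⊗[A] E) ↔
      maximalIdeal A ∈ associatedPrimes A E ∧
        maximalIdeal B ∈ associatedPrimes B (N ⧸ (maximalIdeal A).map (algebraMap A B) • (⊤ : Submodule B N)) := by
  rw [S2069.result]
  constructor
  · intro h
    obtain ⟨p, hp, hq⟩ := Set.mem_iUnion₂.1 h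
    haveI := hp.isPrime
    suffices p = maximalIdeal A by subst this; exact ⟨hp, hq⟩
    refine le_antisymm (IsLocalRing.le_maximalIdeal hp.isPrime.ne_top) fun a ha => ?_
    by_contra hap
    obtain ⟨-, z, hz⟩ := hq
    have hφ : algebraMap A B a ∈ maximalIdeal B := map_nonunit (algebraMap A B) a ha
    rw [hz] at hφ
    obtain ⟨n, hn⟩ := hφ
    rw [Submodule.mem_colon_singleton, Submodule.mem_bot, ← map_pow] at hn
    have hz0 := regular_quot p (fun h => hap (hp.isPrime.mem_of_pow_mem n h)) z hn
    subst hz0
    exact (maximalIdeal.isMaximal B).ne_top (hz.trans (Ideal.radical_eq_top.2 (by ext; simp [Submodule.mem_colon_singleton])))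
  · rintro ⟨hp, hq⟩
    exact Set.mem_iUnion₂.2 ⟨_, hp, hq⟩

theorem maximal_smul_ne_top [Module.Finite B N] [Nontrivial N] :
    maximalIdeal A • (⊤ : Submodule A N) ≠ ⊤ := by
  have hne : maximalIdeal A • (⊤ : Submodule A N) ≠ ⊤ := by
    intro h
    have hle : (⊤ : Submodule B N) ≤ maximalIdeal B • (⊤ : Submodule B N) := by
      intro n _
      have hn : n ∈ maximalIdeal A • (⊤ : Submodule A N) := by rw [h]; trivial
      refine Submodule.smul_induction_on hn (fun a ha x _ => ?_) fun x y hx hy => add_mem hx hy
      rw [← algebraMap_smul B a x]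
      exact Submodule.smul_mem_smul (map_nonunit (algebraMap A B) a ha) trivial
    have hbot : (⊤ : Submodule B N) = ⊥ := Submodule.eq_bot_of_le_smul_of_le_jacobson_bot _ _
      Module.Finite.fg_top hle (IsLocalRing.maximalIdeal_le_jacobson ⊥)
    obtain ⟨n, hn⟩ := exists_ne (0 : N)
    exact hn ((Submodule.mem_bot B).1 (hbot ▸ (Submodule.mem_top : n ∈ (⊤ : Submodule B N))))
  exact hne

theorem faithfullyFlat [Module.Flat A N] [Module.Finite B N] [Nontrivial N] : Module.FaithfullyFlat A N :=
  ⟨fun {m} hm => by rw [IsLocalRing.eq_maximalIdeal hm]; exact maximal_smul_ne_top (B := B)⟩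

/-- The closed fibre of a finite nonzero module is nonzero. -/
theorem nontrivial_fibre [Module.Finite B N] [Nontrivial N] :
    Nontrivial (N ⧸ (maximalIdeal A).map (algebraMap A B) • (⊤ : Submodule B N)) := by
  refine Submodule.Quotient.nontrivial_iff.2 fun h => ?_
  have hle : (⊤ : Submodule B N) ≤ maximalIdeal B • (⊤ : Submodule B N) :=
    h.ge.trans (Submodule.smul_mono_left (map_maximalIdeal_le (algebraMap A B)))
  have hbot : (⊤ : Submodule B N) = ⊥ := Submodule.eq_bot_of_le_smul_of_le_jacobson_bot _ _
    Module.Finite.fg_top hle (IsLocalRing.maximalIdeal_le_jacobson ⊥)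
  obtain ⟨n, hn⟩ := exists_ne (0 : N)
  exact hn ((Submodule.mem_bot B).1 (hbot ▸ (Submodule.mem_top : n ∈ (⊤ : Submodule B N))))

/-- A finite module flat over the base has a point of its support over every prime. -/
theorem exists_prime_over [Module.Flat A N] [Module.Finite B N] [Nontrivial N]
    (p : Ideal A) [p.IsPrime] :
    ∃ q : Ideal B, q.IsPrime ∧ q.comap (algebraMap A B) = p ∧ Module.annihilator B N ≤ q := by
  haveI : Module.FaithfullyFlat A N := faithfullyFlat (B := B)
  haveI : Nontrivial (N ⊗[A] p.ResidueField) := Module.FaithfullyFlat.lTensor_nontrivial A N p.ResidueField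
  obtain ⟨w, hw⟩ := exists_ne (0 : N ⊗[A] p.ResidueField)
  let φ := algebraMap A B
  have hl : ∀ (a : A) (v : N ⊗[A] p.ResidueField), φ a • v = a • v := fun a v => algebraMap_smul B a v
  have hdisj : Disjoint ((LinearMap.ker (LinearMap.toSpanSingleton B (N ⊗[A] p.ResidueField) w) : Ideal B) : Set B)
      ((p.primeCompl.map φ : Submonoid B) : Set B) := by
    rw [Set.disjoint_right]
    rintro _ ⟨a, ha, rfl⟩ hmem
    have hu : IsUnit (algebraMap A p.ResidueField a) := by
      rw [isUnit_iff_ne_zero, Ne, Ideal.algebraMap_residueField_eq_zero]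
      exact ha
    obtain ⟨c, hc⟩ := hu.exists_left_inv
    let L : N ⊗[A] p.ResidueField →ₗ[A] N ⊗[A] p.ResidueField :=
      (LinearMap.mulLeft A c).lTensor N
    have hL : ∀ v, L (a • v) = v := fun v => by
      induction v using TensorProduct.induction_on with
      | zero => simp
      | tmul n x =>
        rw [← TensorProduct.tmul_smul, LinearMap.lTensor_tmul, LinearMap.mulLeft_apply, Algebra.smul_def,
          ← mul_assoc, hc, one_mul]
      | add x y hx hy => rw [smul_add, map_add, hx, hy]
    have hz : a • w = 0 := by rw [← hl]; simpa using hmem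
    apply hw
    rw [← hL w, hz, map_zero]
  obtain ⟨q, hq, hle, hqd⟩ := Ideal.exists_le_prime_disjoint _ _ hdisj
  refine ⟨q, hq, le_antisymm (fun a ha => ?_) (fun a ha => ?_), fun b hb => hle ?_⟩
  · by_contra hap
    exact Set.disjoint_left.1 hqd (show φ a ∈ q from ha) ⟨a, hap, rfl⟩
  · refine hle (show φ a • w = 0 from ?_)
    rw [hl]
    clear hdisj hw hle
    induction w using TensorProduct.induction_on with
    | zero => exact smul_zero _
    | tmul n x =>
      rw [← TensorProduct.tmul_smul, Algebra.smul_def, Ideal.algebraMap_residueField_eq_zero.2 ha, zero_mul,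
        TensorProduct.tmul_zero]
    | add x y hx hy => rw [smul_add, hx, hy, add_zero]
  · show b • w = 0
    clear hdisj hw hle
    induction w using TensorProduct.induction_on with
    | zero => exact smul_zero _
    | tmul n x => rw [TensorProduct.smul_tmul', Module.mem_annihilator.1 hb n, TensorProduct.zero_tmul]
    | add x y hx hy => rw [smul_add, hx, hy, add_zero]

section transfer

variable {R R' : Type u} [CommRing R] [CommRing R'] {M M' : Type u} [AddCommGroup M] [Module R M]
  [AddCommGroup M'] [Module R' M'] (σ : R →+* R') (hσ : Function.Surjective σ) (φ : M ≃+ M')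
  (h : ∀ r m, φ (r • m) = σ r • φ m)

include h hσ in
theorem length_eq : Module.length R M = Module.length R' M' := by
  let e : Submodule R M ≃o Submodule R' M' :=
    { toFun := fun P =>
        { carrier := φ '' P
          add_mem' := by rintro _ _ ⟨a, ha, rfl⟩ ⟨b, hb, rfl⟩; exact ⟨a + b, P.add_mem ha hb, map_add φ a b⟩
          zero_mem' := ⟨0, P.zero_mem, map_zero φ⟩
          smul_mem' := by
            rintro r _ ⟨a, ha, rfl⟩
            obtain ⟨s, rfl⟩ := hσ r
            exact ⟨s • a, P.smul_mem _ ha, h s a⟩ }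
      invFun := fun P =>
        { carrier := φ ⁻¹' P
          add_mem' := fun {a b} ha hb => by show φ (a + b) ∈ P; rw [map_add]; exact P.add_mem ha hb
          zero_mem' := by show φ 0 ∈ P; rw [map_zero]; exact P.zero_mem
          smul_mem' := fun r a ha => by show φ (r • a) ∈ P; rw [h]; exact P.smul_mem _ ha }
      left_inv := fun P => SetLike.coe_injective (φ.toEquiv.preimage_image P)
      right_inv := fun P => SetLike.coe_injective (φ.toEquiv.image_preimage P)
      map_rel_iff' := fun {P Q} => by
        show φ '' (P : Set M) ⊆ φ '' (Q : Set M) ↔ _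
        rw [Set.image_subset_image_iff φ.injective]; rfl }
  apply WithBot.coe_inj.1
  rw [Module.coe_length, Module.coe_length]
  exact Order.krullDim_eq_of_orderIso e

include h hσ in
theorem maximal_mem_iff [IsLocalRing R] [IsLocalRing R'] :
    maximalIdeal R ∈ associatedPrimes R M ↔ maximalIdeal R' ∈ associatedPrimes R' M' := by
  have key : ∀ m r, σ r ∈ (Submodule.colon (⊥ : Submodule R' M') {φ m}).radical ↔
      r ∈ (Submodule.colon (⊥ : Submodule R M) {m}).radical := fun m r => by
    simp only [Ideal.mem_radical_iff, Submodule.mem_colon_singleton, Submodule.mem_bot, ← map_pow, ← h,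
      φ.map_eq_zero_iff]
  have hmax : ∀ r, σ r ∈ maximalIdeal R' ↔ r ∈ maximalIdeal R := fun r => by
    rw [← Ideal.mem_comap, IsLocalRing.eq_maximalIdeal (Ideal.comap_isMaximal_of_surjective σ hσ (K := maximalIdeal R'))]
  constructor
  · rintro ⟨-, m, hm⟩
    refine ⟨inferInstance, φ m, Ideal.ext fun r => ?_⟩
    obtain ⟨r, rfl⟩ := hσ r
    rw [key, hmax, hm]
  · rintro ⟨-, m, hm⟩
    obtain ⟨m, rfl⟩ := φ.surjective m
    exact ⟨inferInstance, m, Ideal.ext fun r => by rw [← key, ← hmax, hm]⟩

end transfer

end Groth.Agent.H17.AssFlat
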