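import Groth.Agent.H06Mod.StalkPullback
import Groth.Prelude.Def_FDesc
import Mathlib.AlgebraicGeometry.OpenImmersion

/-! Associated points and lengths of stalks along open immersions. -/

set_option autoImplicit false
set_option linter.style.haveILetI false
universe u

open CategoryTheory AlgebraicGeometry TopologicalSpace TensorProduct

namespace Groth.Agent.H17.StalkTransfer

section Semilinear

variable {R R' : Type u} [CommRing R] [CommRing R'] {M M' : Type u} [AddCommGroup M] [Module R M]
  [AddCommGroup M'] [Module R' M'] (σ : R ≃+* R') (φ : M ≃+ M') (h : ∀ r m, φ (r • m) = σ r • φ m)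

include h in
theorem length_eq : Module.length R M = Module.length R' M' := by
  let e : Submodule R M ≃o Submodule R' M' :=
    { toFun := fun N =>
        { carrier := φ '' N
          add_mem' := by rintro _ _ ⟨a, ha, rfl⟩ ⟨b, hb, rfl⟩; exact ⟨a + b, N.add_mem ha hb, map_add φ a b⟩
          zero_mem' := ⟨0, N.zero_mem, map_zero φ⟩
          smul_mem' := by
            rintro r _ ⟨a, ha, rfl⟩
            exact ⟨σ.symm r • a, N.smul_mem _ ha, by rw [h, σ.apply_symm_apply]⟩ }
      invFun := fun N =>
        { carrier := φ ⁻¹' N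
          add_mem' := fun {a b} ha hb => by show φ (a + b) ∈ N; rw [map_add]; exact N.add_mem ha hb
          zero_mem' := by show φ 0 ∈ N; rw [map_zero]; exact N.zero_mem
          smul_mem' := fun r a ha => by show φ (r • a) ∈ N; rw [h]; exact N.smul_mem _ ha }
      left_inv := fun N => SetLike.coe_injective (φ.toEquiv.preimage_image N)
      right_inv := fun N => SetLike.coe_injective (φ.toEquiv.image_preimage N)
      map_rel_iff' := fun {N P} => by
        show φ '' (N : Set M) ⊆ φ '' (P : Set M) ↔ _
        rw [Set.image_subset_image_iff φ.injective]; rfl }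
  apply WithBot.coe_inj.1
  rw [Module.coe_length, Module.coe_length]
  exact Order.krullDim_eq_of_orderIso e

include h in
theorem maximal_mem_associatedPrimes_iff [IsLocalRing R] [IsLocalRing R'] :
    IsLocalRing.maximalIdeal R ∈ associatedPrimes R M ↔ IsLocalRing.maximalIdeal R' ∈ associatedPrimes R' M' := by
  have key : ∀ m r, σ r ∈ (Submodule.colon (⊥ : Submodule R' M') {φ m}).radical ↔
      r ∈ (Submodule.colon (⊥ : Submodule R M) {m}).radical := fun m r => by
    simp only [Ideal.mem_radical_iff, Submodule.mem_colon_singleton, Submodule.mem_bot, ← map_pow, ← h,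
      φ.map_eq_zero_iff]
  have hmax : ∀ r, σ r ∈ IsLocalRing.maximalIdeal R' ↔ r ∈ IsLocalRing.maximalIdeal R := fun r => by
    rw [IsLocalRing.mem_maximalIdeal, IsLocalRing.mem_maximalIdeal, mem_nonunits_iff, mem_nonunits_iff,
      MulEquiv.isUnit_map]
  constructor
  · rintro ⟨-, m, hm⟩
    refine ⟨inferInstance, φ m, Ideal.ext fun r => ?_⟩
    obtain ⟨r, rfl⟩ := σ.surjective r
    rw [key, hmax, hm]
  · rintro ⟨-, m, hm⟩
    obtain ⟨m, rfl⟩ := φ.surjective m
    exact ⟨inferInstance, m, Ideal.ext fun r => by rw [← key, ← hmax, hm]⟩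

end Semilinear

variable {X Y : Scheme.{u}} (f : X ⟶ Y) [IsOpenImmersion f] (M : Y.Modules) (x : X)

attribute [local instance] H06Mod.stalkAlgebra

theorem pullStalk_bijective : Function.Bijective (H06Mod.pullStalk f M x) := by
  have hb : Function.Bijective (algebraMap (Y.presheaf.stalk (f.base x)) (X.presheaf.stalk x)) :=
    ConcreteCategory.bijective_of_isIso (f.stalkMap x)
  let e : M.presheaf.stalk (f.base x) ≃ₗ[Y.presheaf.stalk (f.base x)]
      X.presheaf.stalk x ⊗[Y.presheaf.stalk (f.base x)] M.presheaf.stalk (f.base x) :=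
    (TensorProduct.lid _ _).symm ≪≫ₗ LinearEquiv.rTensor _
      (LinearEquiv.ofBijective (Algebra.linearMap (Y.presheaf.stalk (f.base x)) (X.presheaf.stalk x)) hb)
  have : ⇑(H06Mod.pullStalk f M x) = H06Mod.pullStalkLin f M x ∘ e := funext fun m => by
    simp [e, H06Mod.pullStalkLin_tmul]
  rw [this]
  exact (H06Mod.pullStalkLin_bijective f M x).comp e.bijective

theorem exists_stalk_equiv : ∃ (σ : Y.presheaf.stalk (f.base x) ≃+* X.presheaf.stalk x)
    (φ : M.presheaf.stalk (f.base x) ≃+ ((Scheme.Modules.pullback f).obj M).presheaf.stalk x),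
      ∀ r m, φ (r • m) = σ r • φ m :=
  ⟨(asIso (f.stalkMap x)).commRingCatIsoToRingEquiv,
    AddEquiv.ofBijective (H06Mod.pullStalk f M x).hom (pullStalk_bijective f M x),
    fun r m => H06Mod.pullStalk_smul f M x r m⟩

theorem mem_ass_pullback_iff : x ∈ AssSch.Ass ((Scheme.Modules.pullback f).obj M) ↔ f x ∈ AssSch.Ass M := by
  obtain ⟨σ, φ, h⟩ := exists_stalk_equiv f M x
  exact (maximal_mem_associatedPrimes_iff σ φ h).symm

theorem length_stalk_pullback :
    Module.length (X.presheaf.stalk x) (((Scheme.Modules.pullback f).obj M).presheaf.stalk x) =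
      Module.length (Y.presheaf.stalk (f x)) (M.presheaf.stalk (f x)) := by
  obtain ⟨σ, φ, h⟩ := exists_stalk_equiv f M x
  exact (length_eq σ φ h).symm

theorem nontrivial_stalk_pullback_iff :
    Nontrivial (((Scheme.Modules.pullback f).obj M).presheaf.stalk x) ↔ Nontrivial (M.presheaf.stalk (f x)) := by
  obtain ⟨σ, φ, h⟩ := exists_stalk_equiv f M x
  exact φ.symm.toEquiv.nontrivial_congr

end Groth.Agent.H17.StalkTransfer
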