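import Groth.Agent.H17.AssFlatSch
import Groth.Agent.H17.StalkTransfer
import Groth.Agent.H06Mod.StalkBaseChange
import Groth.Agent.H06EGA9.FlatFibreBC
import Groth.Agent.H06EGA9.StructureStalk
import Groth.Agent.H16Derived.KFlat.FinLocFree
import Groth.Agent.H10Coh.TensorBasics
import Mathlib

/-!
# Associated points of `F ⊗_S G` on a fibre product
-/

set_option autoImplicit false
set_option linter.style.haveILetI false
set_option maxHeartbeats 1000000

universe u

open CategoryTheory CategoryTheory.Limits AlgebraicGeometry IsLocalRing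

namespace Groth.Agent.H17.AssTensorS

theorem ass_congr {X : Scheme.{u}} {M N : X.Modules} (e : M ≅ N) : AssSch.Ass M = AssSch.Ass N :=
  Set.ext fun x => by
    show maximalIdeal _ ∈ associatedPrimes _ _ ↔ _
    rw [LinearEquiv.AssociatedPrimes.eq (H06EGA9.stalkIso e x)]
    rfl

theorem ass_pullback_structure {X Y : Scheme.{u}} (f : X ⟶ Y) [IsOpenImmersion f] (x : X) :
    x ∈ AssSch.Ass (Coh.structureModule X) ↔ f x ∈ AssSch.Ass (Coh.structureModule Y) := by
  rw [← ass_congr (H16Derived.KFlat.Stalk.structurePullbackIso f)]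
  exact StalkTransfer.mem_ass_pullback_iff f _ x

/-- Associated points of a flat inverse image. -/
theorem mem_ass_flat_pullback_iff {W Z : Scheme.{u}} (π : W ⟶ Z) [Flat π] (M : Z.Modules)
    (hN : ∀ z : Z, IsNoetherianRing (Z.presheaf.stalk z)) (w : W) :
    w ∈ AssSch.Ass ((Scheme.Modules.pullback π).obj M) ↔
      ∃ z ∈ AssSch.Ass M, ∃ v ∈ AssSch.Ass (Coh.structureModule (π.fiber z)), π.fiberι z v = w := by
  haveI := hN (π w)
  rw [← ass_congr (H10Coh.Tw.rightUnitIso ((Scheme.Modules.pullback π).obj M)),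
    AssFlat.mem_ass_tensor_iff π M (Coh.structureModule W)
      (fun x => (H06EGA9.isFlatOverAt_structureModule_iff π x).2 (Flat.stalkMap π x)) w]
  constructor
  · rintro ⟨hz, ha⟩
    obtain ⟨v, hv⟩ : w ∈ Set.range (π.fiberι (π w)) := by rw [π.range_fiberι]; rfl
    refine ⟨_, hz, v, ?_, hv⟩
    rw [← ass_congr (H16Derived.KFlat.Stalk.structurePullbackIso (π.fiberι _))]
    exact (AssFlat.mem_ass_fibre_iff π _ _ v).2 (by rw [hv]; exact ha)
  · rintro ⟨z, hz, v, hv, rfl⟩
    refine ⟨?_, ?_⟩
    · rw [show π (π.fiberι z v) = z from (π.range_fiberι z).subset ⟨v, rfl⟩]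
      exact hz
    · refine (AssFlat.mem_ass_fibre_iff π _ _ v).1 ?_
      rw [ass_congr (H16Derived.KFlat.Stalk.structurePullbackIso (π.fiberι _))]
      exact hv

theorem flat_specMap_residueFieldMap {X S : Scheme.{u}} (f : X ⟶ S) (x : X) :
    Flat (Spec.map (f.residueFieldMap x)) := by
  rw [HasRingHomProperty.Spec_iff (P := @Flat)]
  letI := (f.residueFieldMap x).hom.toAlgebra
  show Module.Flat (S.residueField (f x)) (X.residueField x)
  infer_instance

theorem isIso_residueFieldMap_fiberι {Y S : Scheme.{u}} (g : Y ⟶ S) (s : S) (y : g.fiber s) :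
    IsIso ((g.fiberι s).residueFieldMap y) := by
  refine (ConcreteCategory.isIso_iff_bijective _).2 ⟨RingHom.injective _, fun a => ?_⟩
  obtain ⟨b, rfl⟩ := IsLocalRing.residue_surjective a
  obtain ⟨c, rfl⟩ := (g.fiberι s).stalkMap_surjective y b
  exact ⟨IsLocalRing.residue _ c, rfl⟩

variable {X Y S : Scheme.{u}} (f : X ⟶ S) (g : Y ⟶ S) (F : X.Modules) (G : Y.Modules)

/-- The tensor product over the base. -/
noncomputable abbrev tensorS : (pullback f g).Modules :=
  CohB1.tensorMod ((Scheme.Modules.pullback (pullback.fst f g)).obj F)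
    ((Scheme.Modules.pullback (pullback.snd f g)).obj G)

/-- The monomorphism from the fibre product of two residue fields. -/
noncomputable abbrev ptMap (x : X) (y : Y) :
    pullback (X.fromSpecResidueField x ≫ f) (Y.fromSpecResidueField y ≫ g) ⟶ pullback f g :=
  pullback.map (X.fromSpecResidueField x ≫ f) (Y.fromSpecResidueField y ≫ g) f g (X.fromSpecResidueField x)
    (Y.fromSpecResidueField y) (𝟙 S) (Category.comp_id _) (Category.comp_id _)

theorem isFlatOver_snd (hG : FlatMod.IsFlatOver g G) :
    FlatMod.IsFlatOver (pullback.fst f g) ((Scheme.Modules.pullback (pullback.snd f g)).obj G) := fun z => by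
  let σ := (pullbackSymmetry f g).hom
  have h1 : σ ≫ pullback.fst g f = pullback.snd f g := pullbackSymmetry_hom_comp_fst f g
  have h2 : σ ≫ pullback.snd g f = pullback.fst f g := pullbackSymmetry_hom_comp_snd f g
  refine (H06Mod.isFlatOverAt_congr h2 _ z).1 ?_
  refine (H06EGA9.isFlatOverAt_congr_iso _
    ((Scheme.Modules.pullbackComp σ (pullback.fst g f)).app G ≪≫
      (Scheme.Modules.pullbackCongr h1).app G) z).1 ?_
  exact (H06Mod.isFlatOverAt_pullback_iff σ (pullback.snd g f) _ z).2
    (H06Mod.isFlatOverAt_baseChange g f G (σ z) (hG _))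

theorem mem_ass_tensorS_iff [IsLocallyNoetherian X] [IsLocallyNoetherian Y] (hG : FlatMod.IsFlatOver g G)
    (z : ↑(pullback f g)) :
    z ∈ AssSch.Ass (tensorS f g F G) ↔
      ∃ x ∈ AssSch.Ass F, ∃ y' ∈ AssSch.Ass ((Scheme.Modules.pullback (g.fiberι (f x))).obj G),
        ∃ v ∈ AssSch.Ass (Coh.structureModule
          (pullback (X.fromSpecResidueField x ≫ f) (Y.fromSpecResidueField (g.fiberι (f x) y') ≫ g))),
          ptMap f g x (g.fiberι (f x) y') v = z := by
  have key : ∀ (x : X) (w : (pullback.fst f g).fiber x),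
      w ∈ AssSch.Ass ((Scheme.Modules.pullback ((pullback.fst f g).fiberι x)).obj
        ((Scheme.Modules.pullback (pullback.snd f g)).obj G)) ↔
      ∃ y' ∈ AssSch.Ass ((Scheme.Modules.pullback (g.fiberι (f x))).obj G),
        ∃ v ∈ AssSch.Ass (Coh.structureModule
          (pullback (X.fromSpecResidueField x ≫ f) (Y.fromSpecResidueField (g.fiberι (f x) y') ≫ g))),
          ptMap f g x (g.fiberι (f x) y') v = (pullback.fst f g).fiberι x w := by
    intro x w
    let p := pullback.fst f g
    let q := pullback.snd f g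
    let j := p.fiberι x
    let tx := p.fiberToSpecResidueField x
    let ts := g.fiberToSpecResidueField (f x)
    have hp : IsPullback j tx p (X.fromSpecResidueField x) := IsPullback.of_hasPullback _ _
    have houter : IsPullback (j ≫ q) tx g (X.fromSpecResidueField x ≫ f) :=
      hp.paste_horiz (IsPullback.of_hasPullback f g).flip
    have hg : IsPullback (g.fiberι (f x)) ts g (S.fromSpecResidueField (f x)) := IsPullback.of_hasPullback _ _
    let π : p.fiber x ⟶ g.fiber (f x) := hg.lift (j ≫ q) (tx ≫ Spec.map (f.residueFieldMap x))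
      (by rw [houter.w, Category.assoc, Scheme.Hom.SpecMap_residueFieldMap_fromSpecResidueField])
    have hπι : π ≫ g.fiberι (f x) = j ≫ q := hg.lift_fst _ _ _
    have hW : IsPullback π tx ts (Spec.map (f.residueFieldMap x)) := by
      refine IsPullback.of_right ?_ (hg.lift_snd _ _ _) hg
      rw [hπι, Scheme.Hom.SpecMap_residueFieldMap_fromSpecResidueField]
      exact houter
    haveI : Flat π := MorphismProperty.of_isPullback hW.flip (flat_specMap_residueFieldMap f x)
    have hN : ∀ t : g.fiber (f x), IsNoetherianRing ((g.fiber (f x)).presheaf.stalk t) := fun t =>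
      isNoetherianRing_of_surjective (Y.presheaf.stalk (g.fiberι (f x) t)) _ _
        ((g.fiberι (f x)).stalkMap_surjective t)
    have eG : (Scheme.Modules.pullback j).obj ((Scheme.Modules.pullback q).obj G) ≅
        (Scheme.Modules.pullback π).obj ((Scheme.Modules.pullback (g.fiberι (f x))).obj G) :=
      (Scheme.Modules.pullbackComp j q).app G ≪≫ (Scheme.Modules.pullbackCongr hπι.symm).app G ≪≫
        ((Scheme.Modules.pullbackComp π (g.fiberι (f x))).app G).symm
    rw [ass_congr eG, mem_ass_flat_pullback_iff π _ hN]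
    have hT : ∀ y' : g.fiber (f x), ∃ e : π.fiber y' ≅
        pullback (X.fromSpecResidueField x ≫ f) (Y.fromSpecResidueField (g.fiberι (f x) y') ≫ g),
        π.fiberι y' ≫ j = e.hom ≫ ptMap f g x (g.fiberι (f x) y') := by
      intro y'
      let ty := π.fiberToSpecResidueField y'
      have h1 : IsPullback ty (π.fiberι y') ((g.fiber (f x)).fromSpecResidueField y') π :=
        (IsPullback.of_hasPullback _ _).flip
      have h2 : IsPullback π (𝟙 (p.fiber x)) (g.fiberι (f x)) (j ≫ q) :=
        IsPullback.of_vert_isIso_mono ⟨by rw [hπι, Category.id_comp]⟩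
      have h3 := (h1.paste_vert h2).paste_vert houter
      haveI := isIso_residueFieldMap_fiberι g (f x) y'
      let r := (g.fiberι (f x)).residueFieldMap y'
      have h4 : IsPullback (π.fiberι y' ≫ tx) (ty ≫ Spec.map r) (X.fromSpecResidueField x ≫ f)
          (Y.fromSpecResidueField (g.fiberι (f x) y') ≫ g) := by
        refine h3.flip.of_iso (Iso.refl _) (Iso.refl _) (asIso (Spec.map r)) (Iso.refl _) ?_ ?_ ?_ ?_
        · simp
        · simp [r, ty]
        · simp
        · simp [r]
      refine ⟨h4.isoPullback, pullback.hom_ext ?_ ?_⟩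
      · simp only [ptMap, Category.assoc, pullback.lift_fst, IsPullback.isoPullback_hom_fst_assoc]
        exact congrArg (π.fiberι y' ≫ ·) hp.w
      · simp only [ptMap, Category.assoc, pullback.lift_snd, IsPullback.isoPullback_hom_snd_assoc]
        have e1 : Spec.map r ≫ Y.fromSpecResidueField (g.fiberι (f x) y') =
            (g.fiber (f x)).fromSpecResidueField y' ≫ g.fiberι (f x) :=
          Scheme.Hom.SpecMap_residueFieldMap_fromSpecResidueField _ _
        rw [e1, reassoc_of% h1.w, hπι]
    constructor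
    · rintro ⟨y', hy', v, hv, rfl⟩
      obtain ⟨e, he⟩ := hT y'
      refine ⟨y', hy', e.hom v, (ass_pullback_structure e.hom v).1 hv, ?_⟩
      rw [← Scheme.Hom.comp_apply, ← he]
      rfl
    · rintro ⟨y', hy', v, hv, hz⟩
      obtain ⟨e, he⟩ := hT y'
      refine ⟨y', hy', e.inv v, (ass_pullback_structure e.inv v).1 hv, ?_⟩
      apply j.isEmbedding.injective
      rw [← hz]
      rw [← Scheme.Hom.comp_apply, he, ← Scheme.Hom.comp_apply, e.inv_hom_id_assoc]
  haveI : IsNoetherianRing (X.presheaf.stalk ((pullback.fst f g).base z)) := inferInstance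
  rw [AssFlat.mem_ass_tensor_iff (pullback.fst f g) F _ (isFlatOver_snd f g G hG) z]
  constructor
  · rintro ⟨hx, ha⟩
    obtain ⟨w, hw⟩ : z ∈ Set.range ((pullback.fst f g).fiberι (pullback.fst f g z)) := by
      rw [(pullback.fst f g).range_fiberι]; rfl
    obtain ⟨y', hy', v, hv, h⟩ := (key _ w).1
      ((AssFlat.mem_ass_fibre_iff _ _ _ w).2 (by rw [hw]; exact ha))
    exact ⟨_, hx, y', hy', v, hv, h.trans hw⟩
  · rintro ⟨x, hx, y', hy', v, hv, hz⟩
    have hzx : pullback.fst f g z = x := by
      rw [← hz, ← Scheme.Hom.comp_apply, pullback.lift_fst, Scheme.Hom.comp_apply]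
      exact Scheme.fromSpecResidueField_apply _ _
    obtain ⟨w, rfl⟩ : z ∈ Set.range ((pullback.fst f g).fiberι x) := by
      rw [(pullback.fst f g).range_fiberι]; exact hzx
    exact ⟨by rw [hzx]; exact hx, (AssFlat.mem_ass_fibre_iff _ _ _ w).1 ((key x w).2 ⟨y', hy', v, hv, hz⟩)⟩

end Groth.Agent.H17.AssTensorS
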