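import Groth.Agent.H17.Primary
import Mathlib.CategoryTheory.Subobject.Limits

/-! Primary decomposition, uniqueness, and filtrations with coprimary quotients. -/

set_option autoImplicit false
set_option linter.style.haveILetI false
universe u

open CategoryTheory CategoryTheory.Limits AlgebraicGeometry TopologicalSpace Opposite

namespace Groth.Agent.H17.PrimaryDecomp

open AssPts H06Mod Primary

variable {X : Scheme.{u}}

theorem exists_decomposition [IsLocallyNoetherian X] (M : X.Modules) (hM : Coh.IsCoh M) :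
    ∃ (G : AssSch.Ass M → X.Modules) (q : ∀ x, M ⟶ G x),
      (∀ x, Epi (q x)) ∧ (∀ x, Coh.IsCoh (G x)) ∧ (∀ x, AssSch.Ass (G x) = {x.1}) ∧
        (∀ (U : X.Opens) (s : Γ(M, U)), (∀ x, (q x).app U s = 0) → s = 0) ∧
        ∀ (T : X.Modules) (a b : T ⟶ M), (∀ x, a ≫ q x = b ≫ q x) → a = b := by
  choose G q hq hG hA hk using fun x : AssSch.Ass M => exists_primary_quotient M hM x.2
  have hz := eq_zero_of_quotients hM.1 q fun x v h1 h2 => hk x v h1 h2
  refine ⟨G, q, hq, hG, hA, hz, fun T a b h => ?_⟩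
  apply Scheme.Modules.hom_ext
  intro U
  ext t
  refine sub_eq_zero.1 (hz U _ fun x => ?_)
  rw [map_sub, sub_eq_zero, ← ConcreteCategory.comp_apply, ← ConcreteCategory.comp_apply,
    ← Scheme.Modules.Hom.comp_app, ← Scheme.Modules.Hom.comp_app, h]

/-- A point has a neighbourhood in which the other associated points are generizations. -/
theorem exists_nhd [IsLocallyNoetherian X] {M : X.Modules} (hM : Coh.IsCoh M) (x : X) :
    ∃ (V : X.Opens), x ∈ V ∧ ∀ z ∈ AssSch.Ass M, z ∈ V → z ⤳ x := by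
  obtain ⟨V, hV, hxV, -⟩ := exists_isAffineOpen_mem_and_subset (U := (⊤ : X.Opens)) (x := x) trivial
  let S := {z | (z ∈ AssSch.Ass M ∧ z ∈ V) ∧ ¬ z ⤳ x}
  have hS : S.Finite := (finite_ass_affine hM hV).subset fun z hz => hz.1
  have hcl : IsClosed (⋃ z ∈ S, closure ({z} : Set X)) := hS.isClosed_biUnion fun _ _ => isClosed_closure
  refine ⟨V ⊓ ⟨_, hcl.isOpen_compl⟩, ⟨hxV, ?_⟩, fun z hz hzV => ?_⟩
  · show x ∉ ⋃ z ∈ S, closure ({z} : Set X)
    simp only [Set.mem_iUnion, not_exists]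
    exact fun z hz h => hz.2 (specializes_iff_mem_closure.2 h)
  · by_contra hzx
    exact hzV.2 (Set.mem_biUnion (show z ∈ S from ⟨⟨hz, hzV.1⟩, hzx⟩) (subset_closure rfl))

theorem stalk_injective_of_noEmbedded [IsLocallyNoetherian X] {M : X.Modules} (hM : Coh.IsCoh M)
    (hne : AssSch.NoEmbedded M) (G : ↥(AssSch.Ass M) → X.Modules) (q : ∀ x, M ⟶ G x)
    (hG : ∀ x, Coh.IsCoh (G x)) (hA : ∀ x, AssSch.Ass (G x) = {x.1})
    (hm : ∀ (T : X.Modules) (a b : T ⟶ M), (∀ x, a ≫ q x = b ≫ q x) → a = b) (x : ↥(AssSch.Ass M))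
    (v : M.presheaf.stalk x.1) (hv : stalkLin (q x) x.1 v = 0) : v = 0 := by
  obtain ⟨V, hxV, hV⟩ := exists_nhd hM x.1
  obtain ⟨U, hxU, s, rfl⟩ := M.presheaf.exists_germ_eq v
  rw [stalkLin_germ] at hv
  obtain ⟨W, hxW, i, _, hW⟩ := (G x).presheaf.germ_eq x.1 hxU hxU _ _ (hv.trans (map_zero ((G x).presheaf.germ U x.1 hxU).hom).symm)
  let O := W ⊓ V
  have hOU : O ≤ U := inf_le_left.trans i.le
  have hxO : x.1 ∈ O := ⟨hxW, hxV⟩
  have h0 : M.presheaf.map (homOfLE hOU).op s = 0 := by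
    refine eq_zero_of_jointly_mono q hm O _ fun z => ?_
    by_cases hzx : z = x
    · subst hzx
      rw [show (q z).app O (M.presheaf.map (homOfLE hOU).op s) = (G z).presheaf.map (homOfLE hOU).op ((q z).app U s) from
        congr($((q z).mapPresheaf.naturality (homOfLE hOU).op) s)]
      have := congrArg ((G z).presheaf.map (homOfLE (inf_le_left : O ≤ W)).op) hW
      rw [map_zero, map_zero, ← ConcreteCategory.comp_apply, ← Functor.map_comp] at this
      exact this
    · refine TopCat.Presheaf.section_ext (⟨(G z).presheaf, (G z).isSheaf⟩ : TopCat.Sheaf Ab.{u} X) O _ _ fun y hy => ?_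
      show (G z).presheaf.germ O y hy _ = (G z).presheaf.germ O y hy 0
      rw [map_zero]
      by_contra hne0
      obtain ⟨w, hw, hwy⟩ := exists_ass_specializes (G z) (hG z).1 ⟨⟨_, 0, hne0⟩⟩
      rw [hA z, Set.mem_singleton_iff] at hw
      subst hw
      have hzO : z.1 ∈ O := hwy.mem_open O.2 hy
      exact hzx (Subtype.ext (hne x.1 x.2 z.1 z.2 (hV z.1 z.2 hzO.2)).symm)
  rw [← TopCat.Presheaf.germ_res_apply M.presheaf (homOfLE hOU) x.1 hxO s, h0, map_zero]

theorem app_eq_zero_iff [IsLocallyNoetherian X] {M G : X.Modules} (q : M ⟶ G) (hG : Coh.IsQCoh G) {x : X}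
    (hA : AssSch.Ass G = {x}) (hinj : ∀ v, stalkLin q x v = 0 → v = 0) (U : X.Opens) (s : Γ(M, U)) :
    q.app U s = 0 ↔ ∀ hx : x ∈ U, M.presheaf.germ U x hx s = 0 := by
  constructor
  · intro h hx
    refine hinj _ ?_
    rw [stalkLin_germ, h, map_zero]
  · intro h
    refine TopCat.Presheaf.section_ext (⟨G.presheaf, G.isSheaf⟩ : TopCat.Sheaf Ab.{u} X) U _ _ fun y hy => ?_
    show G.presheaf.germ U y hy _ = G.presheaf.germ U y hy 0
    rw [map_zero]
    by_contra hne
    obtain ⟨V, hV, hyV, hle⟩ := exists_isAffineOpen_mem_and_subset (U := U) hy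
    have hle' : V ≤ U := hle
    obtain ⟨z, hzV, hz, -, hz0⟩ := exists_ass_specializes_of_germ G hG hV hyV
      (s := G.presheaf.map (homOfLE hle').op (q.app U s)) (by rw [TopCat.Presheaf.germ_res_apply]; exact hne)
    rw [hA, Set.mem_singleton_iff] at hz
    subst hz
    rw [TopCat.Presheaf.germ_res_apply] at hz0
    exact hz0 (by rw [← stalkLin_germ, h (hle' hzV), map_zero])

theorem unique_decomposition [IsLocallyNoetherian X] (M : X.Modules) (hM : Coh.IsCoh M) (hne : AssSch.NoEmbedded M)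
    (G G' : ↥(AssSch.Ass M) → X.Modules) (q : ∀ x, M ⟶ G x) (q' : ∀ x, M ⟶ G' x)
    (hq : ∀ x, Epi (q x)) (hq' : ∀ x, Epi (q' x)) (hG : ∀ x, Coh.IsCoh (G x)) (hG' : ∀ x, Coh.IsCoh (G' x))
    (hA : ∀ x, AssSch.Ass (G x) = {x.1}) (hA' : ∀ x, AssSch.Ass (G' x) = {x.1})
    (hm : ∀ (T : X.Modules) (a b : T ⟶ M), (∀ x, a ≫ q x = b ≫ q x) → a = b)
    (hm' : ∀ (T : X.Modules) (a b : T ⟶ M), (∀ x, a ≫ q' x = b ≫ q' x) → a = b) (x : ↥(AssSch.Ass M)) :
    ∃ e : G x ≅ G' x, q x ≫ e.hom = q' x := by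
  haveI := hq x
  haveI := hq' x
  have i1 := app_eq_zero_iff (q x) (hG x).1 (hA x) (stalk_injective_of_noEmbedded hM hne G q hG hA hm x)
  have i2 := app_eq_zero_iff (q' x) (hG' x).1 (hA' x) (stalk_injective_of_noEmbedded hM hne G' q' hG' hA' hm' x)
  have h12 : ∀ {A B : X.Modules} (a : M ⟶ A) (b : M ⟶ B), (∀ U s, a.app U s = 0 → b.app U s = 0) →
      kernel.ι a ≫ b = 0 := fun a b h => by
    apply Scheme.Modules.hom_ext
    intro U
    ext t
    exact h U _ (congr(Scheme.Modules.Hom.app $(kernel.condition a) U t))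
  let f := Abelian.epiDesc (q x) (q' x) (h12 _ _ fun U s h => (i2 U s).2 ((i1 U s).1 h))
  let g := Abelian.epiDesc (q' x) (q x) (h12 _ _ fun U s h => (i1 U s).2 ((i2 U s).1 h))
  have hf : q x ≫ f = q' x := Abelian.comp_epiDesc _ _ _
  have hg : q' x ≫ g = q x := Abelian.comp_epiDesc _ _ _
  exact ⟨⟨f, g, (cancel_epi (q x)).1 (by rw [← Category.assoc, hf, hg, Category.comp_id]),
    (cancel_epi (q' x)).1 (by rw [← Category.assoc, hg, hf, Category.comp_id])⟩, hf⟩

theorem finite_ass [IsNoetherian X] {M : X.Modules} (hM : Coh.IsCoh M) : (AssSch.Ass M).Finite := by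
  obtain ⟨T, hT, htop⟩ :=
    (isCompact_and_isOpen_iff_finite_and_eq_biUnion_affineOpens (U := (Set.univ : Set X))).mp
      ⟨isCompact_univ, isOpen_univ⟩
  refine (hT.biUnion fun V _ => finite_ass_affine hM V.2).subset fun x hx => ?_
  obtain ⟨V, hV, hxV⟩ := Set.mem_iUnion₂.1 (htop.le (Set.mem_univ x))
  exact Set.mem_iUnion₂.2 ⟨V, hV, hx, hxV⟩

/-- The part of `P` killed by `ψ`. -/
noncomputable def kerStep {M G : X.Modules} (P : Subobject M) (ψ : M ⟶ G) : Subobject M :=
  Subobject.mk (kernel.ι (P.arrow ≫ ψ) ≫ P.arrow)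

theorem kerStep_le {M G : X.Modules} (P : Subobject M) (ψ : M ⟶ G) : kerStep P ψ ≤ P :=
  Subobject.mk_le_of_comm (kernel.ι _) rfl

theorem kerStep_comp {M G : X.Modules} (P : Subobject M) (ψ : M ⟶ G) : (kerStep P ψ).arrow ≫ ψ = 0 := by
  rw [kerStep, ← Subobject.underlyingIso_hom_comp_eq_mk, Category.assoc, Category.assoc, kernel.condition, comp_zero]

theorem isCoh_kerStep [IsLocallyNoetherian X] {M G : X.Modules} (P : Subobject M) (ψ : M ⟶ G)
    (hP : Coh.IsCoh (Subobject.underlying.obj P)) (hG : Coh.IsQCoh G) :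
    Coh.IsCoh (Subobject.underlying.obj (kerStep P ψ)) := by
  have hk := H10Coh.isCoh_kernel (P.arrow ≫ ψ) hP hG
  exact H10Coh.isCoh_of_mono (Subobject.underlyingIso (kernel.ι (P.arrow ≫ ψ) ≫ P.arrow)).hom
    (@H10Coh.isQuasicoherent_of_iso _ _ _ (Subobject.underlyingIso (kernel.ι (P.arrow ≫ ψ) ≫ P.arrow)).symm hk.1) hk

theorem exists_mono_cokernel {M G : X.Modules} (P Q : Subobject M) (ψ : M ⟶ G) (hQ : Q = kerStep P ψ) (h : Q ≤ P) :
    ∃ j : cokernel (Subobject.ofLE Q P h) ⟶ G, Mono j := by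
  subst hQ
  let u := Subobject.underlyingIso (kernel.ι (P.arrow ≫ ψ) ≫ P.arrow)
  have ht : u.hom ≫ kernel.ι (P.arrow ≫ ψ) = Subobject.ofLE (kerStep P ψ) P h := by
    apply (cancel_mono P.arrow).1
    rw [Category.assoc]
    exact (Subobject.underlyingIso_hom_comp_eq_mk _).trans (Subobject.ofLE_arrow h).symm
  exact ⟨(cokernelIsoOfEq ht.symm ≪≫ cokernelEpiComp u.hom (kernel.ι (P.arrow ≫ ψ))).hom ≫
    Abelian.factorThruCoimage (P.arrow ≫ ψ), mono_comp _ _⟩

theorem exists_filtration [IsNoetherian X] (M : X.Modules) (hM : Coh.IsCoh M) :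
    ∃ (n : ℕ) (F : Fin (n + 1) → Subobject M) (hF : Antitone F),
      F 0 = ⊤ ∧ F (Fin.last n) = ⊥ ∧ (∀ j, Coh.IsCoh (Subobject.underlying.obj (F j))) ∧
        ∀ i : Fin n,
          IsZero (cokernel (Subobject.ofLE (F i.succ) (F i.castSucc) (hF (Fin.castSucc_lt_succ (i := i)).le))) ∨
            ∃ x ∈ AssSch.Ass M,
              AssSch.Ass (cokernel (Subobject.ofLE (F i.succ) (F i.castSucc) (hF (Fin.castSucc_lt_succ (i := i)).le))) = {x} := by
  classical
  obtain ⟨G, q, hq, hG, hA, hz, -⟩ := exists_decomposition M hM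
  haveI := (finite_ass hM).to_subtype
  obtain ⟨n, ⟨e⟩⟩ := Finite.exists_equiv_fin (AssSch.Ass M)
  let step : Subobject M → ℕ → Subobject M := fun P j =>
    if h : j < n then kerStep P (q (e.symm ⟨j, h⟩)) else P
  let F : ℕ → Subobject M := fun j => Nat.rec ⊤ (fun j P => step P j) j
  have hstep : ∀ j, F (j + 1) = step (F j) j := fun j => rfl
  have hFs : ∀ j (h : j < n),
      F (j + 1) = kerStep (F j) (q (e.symm ⟨j, h⟩)) :=
    fun j h => by rw [hstep]; exact dif_pos h
  have hdec : Antitone F := antitone_nat_of_succ_le fun j => by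
    by_cases h : j < n
    · rw [hFs j h]; exact kerStep_le _ _
    · rw [hstep]; exact (dif_neg h).le
  have hcoh : ∀ j, Coh.IsCoh (Subobject.underlying.obj (F j)) := by
    intro j
    induction j with
    | zero =>
      exact H10Coh.isCoh_of_mono (⊤ : Subobject M).arrow
        (@H10Coh.isQuasicoherent_of_iso _ _ _ (asIso (⊤ : Subobject M).arrow).symm hM.1) hM
    | succ j ih =>
      by_cases h : j < n
      · rw [hFs j h]; exact isCoh_kerStep _ _ ih (hG _).1
      · rw [show F (j + 1) = F j from dif_neg h]; exact ih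
  have hkill : ∀ j, ∀ (i : Fin n), i.1 < j → (F j).arrow ≫ q (e.symm i) = 0 := by
    intro j i hij
    have h1 : (F (i.1 + 1)).arrow ≫ q (e.symm i) = 0 := by
      rw [hFs i.1 i.2]; exact kerStep_comp _ _
    rw [← Subobject.ofLE_arrow (hdec (show i.1 + 1 ≤ j by omega)), Category.assoc, h1, comp_zero]
  refine ⟨n, fun j => F j.1, fun a b h => hdec h, rfl, ?_, fun j => hcoh _, fun i => ?_⟩
  · have harrow : (F (Fin.last n).1).arrow = 0 := by
      apply Scheme.Modules.hom_ext
      intro U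
      ext t
      refine hz U _ fun x => ?_
      have h1 := hkill n (e x) (e x).2
      rw [e.symm_apply_apply] at h1
      exact congr(Scheme.Modules.Hom.app $h1 U t)
    show F n = ⊥
    exact le_bot_iff.1 (Subobject.le_of_comm 0 (zero_comp.trans harrow.symm))
  · let t := Subobject.ofLE (F i.succ.1) (F i.castSucc.1) (hdec (show i.castSucc.1 ≤ i.succ.1 by simp))
    obtain ⟨j, hj⟩ : ∃ j : cokernel t ⟶ G (e.symm i), Mono j :=
      exists_mono_cokernel (F i.castSucc.1) (F i.succ.1) _ (hFs i.1 i.2) _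
    have hqc : Coh.IsCoh (cokernel t) := H10Coh.isCoh_cokernel t (hcoh i.succ.1).1 (hcoh i.castSucc.1)
    have hsub : AssSch.Ass (cokernel t) ⊆ {(e.symm i).1} := by
      rw [← hA (e.symm i)]
      intro y hy
      exact IsAssociatedPrime.map_of_injective (stalkLin j y) hy
        (TopCat.Presheaf.stalkFunctor_map_injective_of_app_injective (f := j.mapPresheaf)
          (fun U => H10Coh.injective_app_of_mono' j U) y)
    rcases Set.subset_singleton_iff_eq.1 hsub with h | h
    · left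
      refine (IsZero.iff_id_eq_zero _).2 (Scheme.Modules.hom_ext _ _ fun U => ?_)
      ext a
      show a = 0
      refine TopCat.Presheaf.section_ext (⟨(cokernel t).presheaf, (cokernel t).isSheaf⟩ : TopCat.Sheaf Ab.{u} X) U _ _ fun y hy => ?_
      show (cokernel t).presheaf.germ U y hy _ = (cokernel t).presheaf.germ U y hy 0
      rw [map_zero]
      by_contra hne
      obtain ⟨z, hz', -⟩ := exists_ass_specializes (cokernel t) hqc.1 ⟨⟨_, 0, hne⟩⟩
      exact (h ▸ hz' : z ∈ (∅ : Set X))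
    · exact Or.inr ⟨_, (e.symm i).2, h⟩

end Groth.Agent.H17.PrimaryDecomp
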