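import Groth.Agent.H17.Imports
import Mathlib.Topology.KrullDimension

/-! Topological Krull dimension through chains of specializations. -/

open TopologicalSpace Order

namespace Groth.Agent.H17

attribute [local instance] specializationOrder

theorem topologicalKrullDim_eq_krullDim_specialization (α : Type*) [TopologicalSpace α]
    [QuasiSober α] [T0Space α] : topologicalKrullDim α = krullDim α :=
  krullDim_eq_of_orderIso irreducibleSetEquivPoints

/-- Monotone maps of finite "fibre-discreteness": strictly specializing chains map strictly. -/
theorem topologicalKrullDim_le_of_noSpecializationsInFibres {α β : Type*} [TopologicalSpace α]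
    [TopologicalSpace β] [QuasiSober α] [T0Space α] [QuasiSober β] [T0Space β] (f : α → β)
    (hf : Continuous f) (h : ∀ ⦃x y : α⦄, x ⤳ y → f x = f y → x = y) :
    topologicalKrullDim α ≤ topologicalKrullDim β := by
  rw [topologicalKrullDim_eq_krullDim_specialization, topologicalKrullDim_eq_krullDim_specialization]
  refine krullDim_le_of_strictMono f fun x y hxy => ?_
  refine lt_of_le_of_ne (hxy.le.map hf) fun e => hxy.ne ?_
  exact (h hxy.le e.symm).symm

/-- A surjective map along which generalizations lift does not lower the dimension. -/
theorem topologicalKrullDim_le_of_generalizingMap {α β : Type*} [TopologicalSpace α]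
    [TopologicalSpace β] [QuasiSober α] [T0Space α] [QuasiSober β] [T0Space β] (f : α → β)
    (hf : GeneralizingMap f) (hs : Function.Surjective f) :
    topologicalKrullDim β ≤ topologicalKrullDim α := by
  rw [topologicalKrullDim_eq_krullDim_specialization, topologicalKrullDim_eq_krullDim_specialization]
  refine iSup_le fun p => ?_
  suffices ∃ q : LTSeries α, q.length = p.length ∧ f q.last = p.last by
    obtain ⟨q, hq, -⟩ := this
    rw [← hq]; exact le_iSup (fun q : LTSeries α => ((q.length : ℕ∞) : WithBot ℕ∞)) q
  induction p using RelSeries.inductionOn' with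
  | singleton x =>
    obtain ⟨a, rfl⟩ := hs x
    exact ⟨RelSeries.singleton _ a, rfl, rfl⟩
  | snoc p x hx ih =>
    obtain ⟨q, hq, hlast⟩ := ih
    have hlt : p.last < x := hx
    obtain ⟨b, hb, hbx⟩ := hf (a := q.last) (b := x) (by rw [hlast]; exact hlt.le)
    have hqb : q.last < b := lt_of_le_of_ne hb fun e => hlt.ne (by rw [← hlast, e, hbx])
    refine ⟨q.snoc b hqb, by simp [hq], ?_⟩
    rw [RelSeries.last_snoc, RelSeries.last_snoc, hbx]

/-- Dually, a surjective map along which specializations lift does not lower the dimension. -/
theorem topologicalKrullDim_le_of_specializingMap {α β : Type*} [TopologicalSpace α]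
    [TopologicalSpace β] [QuasiSober α] [T0Space α] [QuasiSober β] [T0Space β] (f : α → β)
    (hf : SpecializingMap f) (hs : Function.Surjective f) :
    topologicalKrullDim β ≤ topologicalKrullDim α := by
  rw [topologicalKrullDim_eq_krullDim_specialization, topologicalKrullDim_eq_krullDim_specialization]
  refine iSup_le fun p => ?_
  suffices ∃ q : LTSeries α, q.length = p.length ∧ f q.head = p.head by
    obtain ⟨q, hq, -⟩ := this
    rw [← hq]; exact le_iSup (fun q : LTSeries α => ((q.length : ℕ∞) : WithBot ℕ∞)) q
  induction p using RelSeries.inductionOn with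
  | singleton x =>
    obtain ⟨a, rfl⟩ := hs x
    exact ⟨RelSeries.singleton _ a, rfl, rfl⟩
  | cons p x hx ih =>
    obtain ⟨q, hq, hhead⟩ := ih
    have hlt : x < p.head := hx
    obtain ⟨b, hb, hbx⟩ := hf (a := q.head) (b := x) (by rw [hhead]; exact hlt.le)
    have hqb : b < q.head := lt_of_le_of_ne hb fun e => hlt.ne (by rw [← hhead, ← e, hbx])
    refine ⟨q.cons b hqb, by simp [hq], ?_⟩
    rw [RelSeries.head_cons, RelSeries.head_cons, hbx]

end Groth.Agent.H17
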