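import Groth.Agent.H17.DimIneq
import Groth.Agent.H17.Dim
import Groth.Agent.H7Flat.FibreDimGeneric
import Mathlib.AlgebraicGeometry.Properties

/-! The dimension inequality for schemes, and dimension of the source of a closed dominant map. -/

set_option autoImplicit false
set_option linter.style.haveILetI false

universe u

open CategoryTheory AlgebraicGeometry TopologicalSpace Topology Cardinal
open Groth.Agent.H7Flat (evKer evKer_eq trdeg_residue_eq)

namespace Groth.Agent.H17.DimIneq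

theorem height_le_height_comap {A B : Type u} [CommRing A] [CommRing B] (φ : A →+* B)
    (hφ : Function.Surjective φ) (q : Ideal B) [q.IsPrime] : q.height ≤ (q.comap φ).height := by
  rw [PrimeSpectrum.height_eq_orderHeight ⟨q, inferInstance⟩,
    PrimeSpectrum.height_eq_orderHeight ⟨q.comap φ, inferInstance⟩]
  refine Order.height_le_height_apply_of_strictMono (PrimeSpectrum.comap φ) (fun Q Q' h => ?_) ⟨q, inferInstance⟩
  exact lt_of_le_of_ne (Ideal.comap_mono (show Q.asIdeal ≤ Q'.asIdeal from h.le))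
    fun e => h.ne (PrimeSpectrum.ext (Ideal.comap_injective_of_surjective φ hφ (congrArg PrimeSpectrum.asIdeal e)))

/-- The ring form without domain hypotheses. -/
theorem ineq_minimal (R A : Type u) [CommRing R] [IsNoetherianRing R] [CommRing A] [Algebra R A]
    [Algebra.FiniteType R A] (p : Ideal R) [p.IsPrime] (q : Ideal A) [q.IsPrime] [q.LiesOver p]
    (l : ℕ) (hl : (l : ℕ∞) ≤ q.height) :
    ∃ Q ∈ minimalPrimes A, Q ≤ q ∧ ∀ (P : Ideal R) (_ : Q.LiesOver P),
      (l : Cardinal.{u}) + Algebra.trdeg (R ⧸ p) (A ⧸ q) ≤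
        (p.height : Cardinal.{u}) + Algebra.trdeg (R ⧸ P) (A ⧸ Q) := by
  rw [PrimeSpectrum.height_eq_orderHeight ⟨q, inferInstance⟩] at hl
  obtain ⟨c, hlast, hlen⟩ := Order.exists_series_of_le_height _ hl
  haveI := c.head.2
  obtain ⟨Q, hQ, hQc⟩ := Ideal.exists_minimalPrimes_le (I := (⊥ : Ideal A)) (J := c.head.asIdeal) bot_le
  haveI hQp : Q.IsPrime := hQ.1.1
  have hQq : Q ≤ q := hQc.trans (le_of_le_of_eq (show c.head.asIdeal ≤ c.last.asIdeal from c.head_le_last)
    (congrArg PrimeSpectrum.asIdeal hlast))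
  refine ⟨Q, hQ, hQq, fun P hP => ?_⟩
  haveI := hP
  have hPp : P ≤ p := by
    rw [Ideal.LiesOver.over (p := P) (P := Q), Ideal.LiesOver.over (p := p) (P := q)]
    exact Ideal.comap_mono hQq
  haveI hPprime : P.IsPrime := by
    rw [Ideal.LiesOver.over (p := P) (P := Q)]; exact inferInstanceAs ((Q.comap _).IsPrime)
  haveI : FaithfulSMul (R ⧸ P) (A ⧸ Q) := (faithfulSMul_iff_algebraMap_injective _ _).2
    ((injective_iff_map_eq_zero _).2 fun r hr => by
      obtain ⟨r, rfl⟩ := Ideal.Quotient.mk_surjective r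
      rw [Ideal.Quotient.eq_zero_iff_mem, Ideal.LiesOver.over (p := P) (P := Q)]
      exact (Ideal.Quotient.eq_zero_iff_mem (I := Q)).1 hr)
  haveI : Algebra.FiniteType (R ⧸ P) (A ⧸ Q) :=
    haveI : Algebra.FiniteType R (A ⧸ Q) := Algebra.FiniteType.trans (R := R) (S := A) inferInstance inferInstance
    Algebra.FiniteType.of_restrictScalars_finiteType R (R ⧸ P) (A ⧸ Q)
  haveI : (p.map (Ideal.Quotient.mk P)).IsPrime :=
    Ideal.map_isPrime_of_surjective Ideal.Quotient.mk_surjective (by rwa [Ideal.mk_ker])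
  haveI : (q.map (Ideal.Quotient.mk Q)).IsPrime :=
    Ideal.map_isPrime_of_surjective Ideal.Quotient.mk_surjective (by rwa [Ideal.mk_ker])
  have hpc : (p.map (Ideal.Quotient.mk P)).comap (Ideal.Quotient.mk P) = p := by
    rw [Ideal.comap_map_of_surjective _ Ideal.Quotient.mk_surjective, ← RingHom.ker_eq_comap_bot, Ideal.mk_ker]
    exact sup_eq_left.2 hPp
  have hqc : (q.map (Ideal.Quotient.mk Q)).comap (Ideal.Quotient.mk Q) = q := by
    rw [Ideal.comap_map_of_surjective _ Ideal.Quotient.mk_surjective, ← RingHom.ker_eq_comap_bot, Ideal.mk_ker]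
    exact sup_eq_left.2 hQq
  haveI : (q.map (Ideal.Quotient.mk Q)).LiesOver (p.map (Ideal.Quotient.mk P)) := ⟨by
    ext r
    obtain ⟨r, rfl⟩ := Ideal.Quotient.mk_surjective r
    show r ∈ (p.map (Ideal.Quotient.mk P)).comap (Ideal.Quotient.mk P) ↔
      algebraMap R A r ∈ (q.map (Ideal.Quotient.mk Q)).comap (Ideal.Quotient.mk Q)
    rw [hpc, hqc, Ideal.LiesOver.over (p := p) (P := q)]
    rfl⟩
  have h := ineq (R ⧸ P) (A ⧸ Q) (p.map (Ideal.Quotient.mk P)) (q.map (Ideal.Quotient.mk Q))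
  have hht : (p.map (Ideal.Quotient.mk P)).height ≤ p.height := by
    conv_rhs => rw [← hpc]
    exact height_le_height_comap _ Ideal.Quotient.mk_surjective _
  have hlQ : (l : ℕ∞) ≤ (q.map (Ideal.Quotient.mk Q)).height := by
    rw [PrimeSpectrum.height_eq_orderHeight ⟨q.map (Ideal.Quotient.mk Q), inferInstance⟩]
    let g : Set.Ici (⟨Q, hQp⟩ : PrimeSpectrum A) → PrimeSpectrum (A ⧸ Q) := fun J =>
      ⟨J.1.asIdeal.map (Ideal.Quotient.mk Q),
        haveI := J.1.2
        Ideal.map_isPrime_of_surjective Ideal.Quotient.mk_surjective (by rw [Ideal.mk_ker]; exact J.2)⟩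
    have hg : StrictMono g := fun J J' h => lt_of_le_of_ne (Ideal.map_mono (show J.1.asIdeal ≤ J'.1.asIdeal from h.le)) fun e => h.ne (by
      have e' := congrArg (fun I : PrimeSpectrum (A ⧸ Q) => I.asIdeal.comap (Ideal.Quotient.mk Q)) e
      simp only [g, Ideal.comap_map_of_surjective _ Ideal.Quotient.mk_surjective, ← RingHom.ker_eq_comap_bot,
        Ideal.mk_ker] at e'
      rw [sup_eq_left.2 (show Q ≤ J.1.asIdeal from J.2), sup_eq_left.2 (show Q ≤ J'.1.asIdeal from J'.2)] at e'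
      exact Subtype.ext (PrimeSpectrum.ext e'))
    let c' : LTSeries (Set.Ici (⟨Q, hQp⟩ : PrimeSpectrum A)) := LTSeries.mk c.length
      (fun i => ⟨c i, le_trans (show (⟨Q, hQp⟩ : PrimeSpectrum A) ≤ c.head from hQc) (c.head_le i)⟩)
      (fun i j hij => c.strictMono hij)
    have : (c'.length : ℕ∞) ≤ Order.height (g ⟨⟨q, inferInstance⟩, hQq⟩) := by
      refine le_trans ?_ (Order.height_le_height_apply_of_strictMono g hg _)
      refine Order.length_le_height (le_of_eq ?_)
      exact Subtype.ext hlast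
    rw [← hlen]
    exact this
  let e₁ : (R ⧸ P) ⧸ p.map (Ideal.Quotient.mk P) ≃+* R ⧸ p := DoubleQuot.quotQuotEquivQuotOfLE hPp
  let e₂ : (A ⧸ Q) ⧸ q.map (Ideal.Quotient.mk Q) ≃+* A ⧸ q := DoubleQuot.quotQuotEquivQuotOfLE hQq
  have htr : Algebra.trdeg (R ⧸ p) (A ⧸ q) =
      Algebra.trdeg ((R ⧸ P) ⧸ p.map (Ideal.Quotient.mk P)) ((A ⧸ Q) ⧸ q.map (Ideal.Quotient.mk Q)) := by
    letI : Algebra ((R ⧸ P) ⧸ p.map (Ideal.Quotient.mk P)) (R ⧸ p) := e₁.toRingHom.toAlgebra
    letI : Algebra ((R ⧸ P) ⧸ p.map (Ideal.Quotient.mk P)) (A ⧸ q) :=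
      ((algebraMap (R ⧸ p) (A ⧸ q)).comp e₁.toRingHom).toAlgebra
    haveI : IsScalarTower ((R ⧸ P) ⧸ p.map (Ideal.Quotient.mk P)) (R ⧸ p) (A ⧸ q) :=
      IsScalarTower.of_algebraMap_eq fun _ => rfl
    haveI : FaithfulSMul ((R ⧸ P) ⧸ p.map (Ideal.Quotient.mk P)) (R ⧸ p) :=
      (faithfulSMul_iff_algebraMap_injective _ _).2 e₁.injective
    haveI : FaithfulSMul (R ⧸ p) (A ⧸ q) := (faithfulSMul_iff_algebraMap_injective _ _).2
      ((injective_iff_map_eq_zero _).2 fun r hr => by
        obtain ⟨r, rfl⟩ := Ideal.Quotient.mk_surjective r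
        rw [Ideal.Quotient.eq_zero_iff_mem, Ideal.LiesOver.over (p := p) (P := q)]
        exact (Ideal.Quotient.eq_zero_iff_mem (I := q)).1 hr)
    haveI : Algebra.IsAlgebraic ((R ⧸ P) ⧸ p.map (Ideal.Quotient.mk P)) (R ⧸ p) := ⟨fun r => by
      obtain ⟨r, rfl⟩ := e₁.surjective r
      exact isAlgebraic_algebraMap r⟩
    have h' := trdeg_add_eq ((R ⧸ P) ⧸ p.map (Ideal.Quotient.mk P)) (R ⧸ p) (A := A ⧸ q)
    rw [trdeg_eq_zero, zero_add] at h'
    rw [h']
    let e' : ((A ⧸ Q) ⧸ q.map (Ideal.Quotient.mk Q)) ≃ₐ[(R ⧸ P) ⧸ p.map (Ideal.Quotient.mk P)] (A ⧸ q) :=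
      AlgEquiv.ofRingEquiv (f := e₂) fun r => by
        obtain ⟨r, rfl⟩ := Ideal.Quotient.mk_surjective r
        obtain ⟨r, rfl⟩ := Ideal.Quotient.mk_surjective r
        rfl
    exact e'.trdeg_eq.symm
  rw [htr]
  refine le_trans ?_ (h.trans (add_le_add (Cardinal.ofENat_le_ofENat.2 hht) le_rfl))
  refine add_le_add ?_ le_rfl
  rw [← Cardinal.ofENat_nat]
  exact Cardinal.ofENat_le_ofENat.2 hlQ

variable {X S : Scheme.{u}} (f : X ⟶ S)

/-- The dimension inequality at a point of a morphism locally of finite type. -/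
theorem scheme_ineq [IsLocallyNoetherian S] [LocallyOfFiniteType f] (x : X) (E : ℕ)
    (hE : ∀ ξ : X, closure {ξ} ∈ irreducibleComponents ↥X → ξ ⤳ x →
      letI := (f.residueFieldMap ξ).hom.toAlgebra
      Algebra.trdeg (S.residueField (f.base ξ)) (X.residueField ξ) ≤ E) :
    ∃ b : ℕ∞, ringKrullDim (S.presheaf.stalk (f.base x)) = b ∧
      ∀ l : ℕ, (l : WithBot ℕ∞) ≤ ringKrullDim (X.presheaf.stalk x) →
        (l : Cardinal.{u}) + (letI := (f.residueFieldMap x).hom.toAlgebra
          Algebra.trdeg (S.residueField (f.base x)) (X.residueField x)) ≤ (b : Cardinal.{u}) + E := by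
  obtain ⟨V, hV, hxV, -⟩ := exists_isAffineOpen_mem_and_subset (x := f.base x) (U := ⊤) trivial
  obtain ⟨U, hU, hxU, hle⟩ := exists_isAffineOpen_mem_and_subset (x := x) (U := f ⁻¹ᵁ V) hxV
  have e1 : ringKrullDim (X.presheaf.stalk x) = (evKer U x hxU).height := by
    letI := X.presheaf.algebra_section_stalk ⟨x, hxU⟩
    haveI := hU.isLocalization_stalk ⟨x, hxU⟩
    rw [evKer_eq hU]
    exact IsLocalization.AtPrime.ringKrullDim_eq_height (hU.primeIdealOf ⟨x, hxU⟩).asIdeal _
  have e2 : ringKrullDim (S.presheaf.stalk (f.base x)) = (evKer V (f.base x) hxV).height := by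
    letI := S.presheaf.algebra_section_stalk ⟨f.base x, hxV⟩
    haveI := hV.isLocalization_stalk ⟨f.base x, hxV⟩
    rw [evKer_eq hV]
    exact IsLocalization.AtPrime.ringKrullDim_eq_height (hV.primeIdealOf ⟨f.base x, hxV⟩).asIdeal _
  refine ⟨_, e2, fun l hl => ?_⟩
  obtain ⟨hpq, htr⟩ := trdeg_residue_eq f hV hU hle x hxU
  letI := (f.appLE V U hle).hom.toAlgebra
  haveI : IsNoetherianRing Γ(S, V) := IsLocallyNoetherian.component_noetherian ⟨V, hV⟩
  haveI : Algebra.FiniteType Γ(S, V) Γ(X, U) := RingHom.finiteType_algebraMap.1 (f.finiteType_appLE hV hU hle)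
  haveI : (evKer U x hxU).LiesOver (evKer V (f.base x) hxV) := ⟨by
    ext r
    show S.evaluation V (f x) hxV r = 0 ↔ X.evaluation U x hxU (f.appLE V U hle r) = 0
    rw [← Groth.Agent.H7Flat.evaluation_appLE f hle x hxU r]
    exact ((map_eq_zero_iff _ (f.residueFieldMap x).hom.injective)).symm⟩
  rw [e1] at hl
  obtain ⟨Q, hQ, hQq, hQE⟩ := ineq_minimal Γ(S, V) Γ(X, U) (evKer V (f.base x) hxV) (evKer U x hxU) l
    (by exact_mod_cast hl)
  let Q' : PrimeSpectrum Γ(X, U) := ⟨Q, hQ.1.1⟩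
  let ξ := hU.fromSpec Q'
  have hξU : ξ ∈ U := by
    show ξ ∈ (U : Set X)
    rw [← hU.range_fromSpec]; exact ⟨Q', rfl⟩
  have hξx : ξ ⤳ x := by
    refine Specializes.trans ?_ (Inseparable.of_eq (hU.fromSpec_primeIdealOf ⟨x, hxU⟩)).specializes
    refine ((PrimeSpectrum.le_iff_specializes Q' _).mp ?_).map hU.fromSpec.continuous
    show Q ≤ (hU.primeIdealOf ⟨x, hxU⟩).asIdeal
    rw [← evKer_eq hU]; exact hQq
  have hmax : ∀ η : X, η ⤳ ξ → η = ξ := fun η hη => by
    obtain ⟨J, rfl⟩ : η ∈ Set.range hU.fromSpec := by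
      rw [hU.range_fromSpec]; exact hη.mem_open U.2 hξU
    have hJ : J.asIdeal ≤ Q :=
      (PrimeSpectrum.le_iff_specializes J Q').mpr (hU.fromSpec.isOpenEmbedding.isInducing.specializes_iff.mp hη)
    exact congrArg hU.fromSpec (PrimeSpectrum.ext (le_antisymm hJ (hQ.2 ⟨J.2, bot_le⟩ hJ)))
  have hcomp : closure {ξ} ∈ irreducibleComponents ↥X := by
    refine ⟨isIrreducible_singleton.closure, fun T hT hsub y hy => ?_⟩
    have hg := hT.isGenericPoint_genericPoint_closure
    have : hT.genericPoint ⤳ ξ := hg.specializes (subset_closure (hsub (subset_closure rfl)))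
    rw [← hmax _ this]
    exact (hg.specializes (subset_closure hy)).mem_closure
  have hEξ := hE ξ hcomp hξx
  obtain ⟨hPQ, htrξ⟩ := trdeg_residue_eq f hV hU hle ξ hξU
  have hQker : evKer U ξ hξU = Q := Groth.Agent.H7Flat.evKer_fromSpec hU Q' hξU
  haveI : (evKer U ξ hξU).LiesOver (evKer V (f.base ξ) (hle hξU)) := ⟨by
    ext r
    show S.evaluation V (f ξ) (hle hξU) r = 0 ↔ X.evaluation U ξ hξU (f.appLE V U hle r) = 0
    rw [← Groth.Agent.H7Flat.evaluation_appLE f hle ξ hξU r]
    exact ((map_eq_zero_iff _ (f.residueFieldMap ξ).hom.injective)).symm⟩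
  have key : ∀ Q₀ : Ideal Γ(X, U), Q₀ = Q → ∀ (P : Ideal Γ(S, V)) (_ : Q₀.LiesOver P),
      (l : Cardinal.{u}) + Algebra.trdeg (Γ(S, V) ⧸ evKer V (f.base x) hxV) (Γ(X, U) ⧸ evKer U x hxU) ≤
        ((evKer V (f.base x) hxV).height : Cardinal.{u}) + Algebra.trdeg (Γ(S, V) ⧸ P) (Γ(X, U) ⧸ Q₀) := by
    rintro Q₀ rfl P hP
    exact hQE P hP
  have := key _ hQker (evKer V (f.base ξ) (hle hξU)) inferInstance
  rw [htr]
  exact this.trans (add_le_add le_rfl (htrξ ▸ hEξ))

/-- The fibre closure dimension as a topological invariant of the scheme. -/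
theorem cdim_eq_dim_inter {y : S} (u : f.fiber y) :
    Groth.Agent.H8Props.FieldDim.cdim u =
      topologicalKrullDim (closure {f.fiberι y u} ∩ f ⁻¹' {y} : Set X) := by
  unfold Groth.Agent.H8Props.FieldDim.cdim
  rw [(f.fiberι y).isEmbedding.closure_eq_preimage_closure_image, Set.image_singleton,
    Groth.Agent.H8Props.FieldDim.dim_preimage (f.fiberι y).isEmbedding, f.range_fiberι]

theorem cdim_le_height [LocallyOfFiniteType f] {y : S} (u : f.fiber y) :
    Groth.Agent.H8Props.FieldDim.cdim u ≤ (Order.height (f.fiberι y u) : WithBot ℕ∞) := by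
  show topologicalKrullDim (closure ({u} : Set (f.fiber y))) ≤ _
  haveI : QuasiSober (closure ({u} : Set (f.fiber y))) :=
    isClosed_closure.isClosedEmbedding_subtypeVal.quasiSober
  rw [Order.height_eq_krullDim_Iic]
  refine Order.krullDim_le_of_strictMono
    (fun C => (⟨f.fiberι y C.2.genericPoint.1,
      ((specializes_iff_mem_closure.mpr C.2.genericPoint.2).map (f.fiberι y).continuous)⟩ :
      Set.Iic (f.fiberι y u))) fun C D hCD => ?_
  have hg : ∀ T : IrreducibleCloseds (closure ({u} : Set (f.fiber y))), IsGenericPoint T.2.genericPoint (T : Set _) :=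
    fun T => T.2.isGenericPoint_genericPoint T.3
  have hle : (f.fiberι y C.2.genericPoint.1) ≤ (f.fiberι y D.2.genericPoint.1) :=
    (((hg D).specializes (hCD.le ((hg C).mem))).map continuous_subtype_val).map (f.fiberι y).continuous
  refine lt_of_le_not_ge hle fun h => hCD.ne ?_
  have e' : C.2.genericPoint = D.2.genericPoint :=
    Subtype.ext ((f.fiberι y).isEmbedding.injective
      (Specializes.antisymm (show f.fiberι y C.2.genericPoint.1 ⤳ f.fiberι y D.2.genericPoint.1 from h) hle).eq)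
  exact IrreducibleCloseds.ext ((hg C).def.symm.trans (e' ▸ (hg D).def))

open Groth.Agent.H8Props.FieldDim in
/-- Going down along a closed map keeping the fibre dimension. -/
theorem exists_specializes [LocallyOfFiniteType f] (hf : IsClosedMap f.base) (n : ℕ) {x : X} {y' : S}
    (hy : f.base x ⤳ y') (hx : (n : WithBot ℕ∞) ≤ cdim (f.asFiber x)) :
    ∃ x', x ⤳ x' ∧ f.base x' = y' ∧ (n : WithBot ℕ∞) ≤ cdim (f.asFiber x') := by
  obtain ⟨z, hxz, hz⟩ : ∃ z, x ⤳ z ∧ f.base z = y' := by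
    obtain ⟨z, hz, hzy⟩ : y' ∈ f.base '' closure {x} :=
      (show closure {f.base x} ⊆ f.base '' closure {x} from
        closure_minimal (Set.singleton_subset_iff.2 ⟨x, subset_closure rfl, rfl⟩) (hf _ isClosed_closure))
        hy.mem_closure
    exact ⟨z, specializes_iff_mem_closure.mpr hz, hzy⟩
  rcases n with _ | m
  · exact ⟨z, hxz, hz, by
      haveI := locallyOfFiniteType_fiberToSpec f (f z)
      obtain ⟨s, hs⟩ := exists_nat_cdim (k := S.residueField (f z)) (f.fiberToSpecResidueField (f z)) (f.asFiber z)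
      rw [hs]; exact_mod_cast Nat.zero_le s⟩
  let I := Scheme.IdealSheafData.vanishingIdeal (X := X) ⟨closure {x}, isClosed_closure⟩
  let i := I.subschemeι
  have hr : Set.range i.base = closure {x} := by
    show Set.range I.subschemeι = _
    rw [Scheme.IdealSheafData.range_subschemeι, Scheme.IdealSheafData.coe_support_vanishingIdeal]
    rfl
  obtain ⟨a, ha⟩ : x ∈ Set.range i.base := hr ▸ subset_closure rfl
  obtain ⟨b, hb⟩ : z ∈ Set.range i.base := hr ▸ hxz.mem_closure
  have hab : a ⤳ b := i.isEmbedding.isInducing.specializes_iff.1 (by rw [ha, hb]; exact hxz)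
  let g := i ≫ f
  have hcd : ∀ c : I.subscheme, cdim (g.asFiber c) = cdim (f.asFiber (i.base c)) := fun c => by
    rw [cdim_eq_dim_inter, cdim_eq_dim_inter, g.fiberι_asFiber, f.fiberι_asFiber,
      i.isEmbedding.closure_eq_preimage_closure_image, Set.image_singleton]
    rw [show (i.base ⁻¹' closure {i.base c} ∩ g ⁻¹' {g c} : Set I.subscheme) =
      i.base ⁻¹' (closure {i.base c} ∩ f ⁻¹' {f (i.base c)}) from rfl, dim_preimage i.isEmbedding,
      Set.inter_eq_left.2]
    refine Set.inter_subset_left.trans (closure_minimal (Set.singleton_subset_iff.2 ⟨c, rfl⟩) ?_)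
    exact i.isClosedEmbedding.isClosed_range
  haveI := locallyOfFiniteType_fiberToSpec g (g a)
  haveI := locallyOfFiniteType_fiberToSpec g (g b)
  have hga : ¬ FlatMor.fibreDimAt g a ≤ (m : WithBot ℕ∞) := fun hle => by
    have h1 : cdim (g.asFiber a) ≤ FlatMor.fibreDimAt g a := by
      show _ ≤ FlatMor.localDim _ (g.asFiber a)
      rw [localDim_eq (k := S.residueField (g a)) (g.fiberToSpecResidueField (g a))]
      exact le_iSup (fun η : {η // η ⤳ g.asFiber a} => cdim η.1) ⟨_, specializes_rfl⟩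
    rw [hcd a, ha] at h1
    have := hx.trans (h1.trans hle)
    norm_cast at this
    omega
  have hgb : ¬ FlatMor.fibreDimAt g b ≤ (m : WithBot ℕ∞) := fun hle =>
    hga (hab.mem_open (Groth.Agent.H7Flat.isOpen_fibreDimAt_le' g _) hle)
  by_contra hcon
  push Not at hcon
  refine hgb ?_
  show FlatMor.localDim _ (g.asFiber b) ≤ _
  rw [localDim_eq (k := S.residueField (g b)) (g.fiberToSpecResidueField (g b))]
  refine iSup_le fun η => ?_
  obtain ⟨η, hη⟩ := η
  have hηb : g (g.fiberι _ η) = g b := (g.range_fiberι _).subset (Set.mem_range_self η)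
  have e : cdim η = cdim (g.asFiber (g.fiberι _ η)) := by
    rw [cdim_eq_dim_inter, cdim_eq_dim_inter, g.fiberι_asFiber, hηb]
  show cdim η ≤ _
  rw [e, hcd]
  have h2 : x ⤳ i.base (g.fiberι _ η) := by
    refine specializes_iff_mem_closure.mpr ?_
    rw [← hr]; exact ⟨_, rfl⟩
  have h3 : f.base (i.base (g.fiberι _ η)) = y' := by
    rw [← hz, ← hb]; exact hηb
  have h4 := hcon _ h2 h3
  haveI := locallyOfFiniteType_fiberToSpec f (f (i.base (g.fiberι _ η)))
  obtain ⟨s, hs⟩ := exists_nat_cdim (k := S.residueField (f (i.base (g.fiberι _ η))))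
    (f.fiberToSpecResidueField (f (i.base (g.fiberι _ η))))
    (f.asFiber (i.base (g.fiberι _ η)))
  rw [hs] at h4 ⊢
  norm_cast at h4 ⊢
  omega

/-- Chains downstairs lift with the fibre dimension added. -/
theorem add_le_height [LocallyOfFiniteType f] (hf : IsClosedMap f.base) (n : ℕ) (c : LTSeries S) :
    ∀ x : X, f.base x = c.last → (n : WithBot ℕ∞) ≤ Groth.Agent.H8Props.FieldDim.cdim (f.asFiber x) →
      ((c.length + n : ℕ) : ℕ∞) ≤ Order.height x := by
  induction c using RelSeries.inductionOn' with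
  | singleton y =>
    intro x _ hx
    have h := hx.trans (cdim_le_height f (f.asFiber x))
    rw [f.fiberι_asFiber] at h
    rw [RelSeries.singleton_length, Nat.zero_add]
    exact WithBot.coe_le_coe.1 h
  | snoc c y hy ih =>
    intro x hxy hx
    rw [RelSeries.last_snoc] at hxy
    have hsp : f.base x ⤳ c.last := hxy ▸ (show c.last ≤ y from le_of_lt hy)
    obtain ⟨x', hxx', hx'y, hx'⟩ := exists_specializes f hf n hsp hx
    have hlt : x' < x := lt_of_le_not_ge hxx' fun h => (ne_of_lt (show c.last < y from hy))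
      (hx'y.symm.trans ((congrArg f.base (Specializes.antisymm (show x' ⤳ x from h) hxx').eq).trans hxy))
    refine le_trans ?_ (Order.height_add_one_le hlt)
    rw [RelSeries.snoc_length, Nat.add_right_comm, Nat.cast_add, Nat.cast_one]
    exact add_le_add (ih x' hx'y hx') le_rfl

end Groth.Agent.H17.DimIneq
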