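import Groth.Agent.H17.PrinStalk
import Groth.Agent.S3815
import Groth.Agent.H06Mod.StalkExact
import Groth.Agent.H06DiffOp.Basic
import Mathlib.Topology.Sheaves.SheafCondition.UniqueGluing

/-!
# Differential operators of finite order, stalk by stalk

A homomorphism of abelian sheaves factors through `d^n` exactly when its stalks are differential
operators of order at most `n` over the local rings.
-/

set_option autoImplicit false
set_option linter.style.haveILetI false
universe u

open CategoryTheory CategoryTheory.Limits AlgebraicGeometry Opposite TopologicalSpace TensorProduct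

namespace Groth.Agent.H17.PrinFactor

open PrinChart PrinStalk

variable {X S : Scheme.{u}} (f : X ⟶ S) (n : ℕ)

attribute [local instance] H06Mod.stalkAlgebra

local notation "Os[" x "]" => S.presheaf.stalk (f.base x)
local notation "Ox[" x "]" => X.presheaf.stalk x

/-- `P^n(F)_x = P^n_{O_x/O_s}(F_x)`. -/
theorem exists_stalk_equiv (F : X.Modules) (x : X) :
    ∃ Ψ : PP16.PM n Os[x] Ox[x] (F.presheaf.stalk x) →+ (PrinPart.PMod f n F).presheaf.stalk x,
      Function.Bijective Ψ ∧
      (∀ (U : X.Opens) (hx : x ∈ U) (t : Γ(F, U)),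
        Ψ (PP16.dM n Os[x] Ox[x] (F.presheaf.stalk x) (F.presheaf.germ U x hx t)) =
          (PrinPart.PMod f n F).presheaf.germ U x hx (PrinPart.dP f n F U t)) ∧
      ∀ (b : Ox[x]) (m : PP16.PM n Os[x] Ox[x] (F.presheaf.stalk x)),
        Ψ (algebraMap Ox[x] (PP16.P n Os[x] Ox[x]) b • m) = b • Ψ m := by
  let y := PrinPart.toNbhd f n x
  let p₁ := PrinPart.pr1 f n
  let p₂ := PrinPart.pr2 f n
  let E := (Scheme.Modules.pullback p₂).obj F
  obtain ⟨L, hL, hLb⟩ := exists_tensor_bijective p₂ F y (pr2_toNbhd f n x) (PP16.Pr n Os[x] Ox[x])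
    (phi f n x) (phi_bijective f n x) (phi_dn f n x)
  have hind : Topology.IsInducing p₁.base :=
    (Function.LeftInverse.isEmbedding (f := PrinPart.toNbhd f n) (g := p₁)
      (toNbhd_pr1_apply f n) (PrinPart.toNbhd f n).continuous p₁.continuous).isInducing
  let P := AddEquiv.ofBijective (pushTo p₁ E y (pr1_toNbhd f n x)) (pushTo_bijective p₁ hind E y _)
  refine ⟨P.symm.toAddMonoidHom.comp L, P.symm.bijective.comp hLb, fun U hx t => ?_, fun b m => ?_⟩
  · apply P.injective
    show P (P.symm (L ((1 : PP16.Pr n Os[x] Ox[x]) ⊗ₜ F.presheaf.germ U x hx t))) = _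
    rw [P.apply_symm_apply, hL, pullTo_germ]
    refine (congrArg (· • _) (map_one (phi f n x))).trans ((one_smul _ _).trans ?_)
    refine Eq.trans ?_ (pushTo_germ p₁ E y (pr1_toNbhd f n x) U hx _).symm
    exact (TopCat.Presheaf.germ_res_apply E.presheaf (homOfLE (PrinPart.preimage_pr1 f n U).le) y
      (mem_preimage f n x hx) _).symm
  · apply P.injective
    show P (P.symm (L (algebraMap Ox[x] (PP16.P n Os[x] Ox[x]) b • m))) = P (b • P.symm (L m))
    rw [P.apply_symm_apply]
    refine Eq.trans ?_ (pushTo_smul p₁ E y (pr1_toNbhd f n x) b (P.symm (L m))).symm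
    show _ = _ • P (P.symm (L m))
    rw [P.apply_symm_apply]
    induction m using TensorProduct.induction_on with
    | zero => rw [smul_zero, map_zero]; exact (smul_zero _).symm
    | add a c ha hc => rw [smul_add, map_add, map_add, ha, hc, smul_add]
    | tmul q t =>
      rw [TensorProduct.smul_tmul']
      refine (hL _ _).trans (Eq.trans ?_ (congrArg _ (hL q t)).symm)
      rw [← mul_smul, ← phi_algebraMap]
      exact congrArg (· • _) (map_mul (phi f n x) _ q)

theorem germ_ext {G : X.Modules} {U : X.Opens} {a b : Γ(G, U)}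
    (h : ∀ (x : X) (hx : x ∈ U), G.presheaf.germ U x hx a = G.presheaf.germ U x hx b) : a = b :=
  TopCat.Presheaf.section_ext (⟨G.presheaf, G.isSheaf⟩ : TopCat.Sheaf Ab.{u} X) U a b h

theorem hom_ext_germ {F G : X.Modules} {a b : F ⟶ G}
    (h : ∀ (U : X.Opens) (s : Γ(F, U)) (x : X) (hx : x ∈ U),
      G.presheaf.germ U x hx (a.app U s) = G.presheaf.germ U x hx (b.app U s)) : a = b := by
  apply Scheme.Modules.hom_ext
  intro U
  ext s
  exact germ_ext (h U s)

/-- The stalk of a homomorphism of abelian sheaves. -/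
noncomputable abbrev stalkOp {F G : X.Modules} (D : F.presheaf ⟶ G.presheaf) (x : X) :
    F.presheaf.stalk x →+ G.presheaf.stalk x :=
  ((TopCat.Presheaf.stalkFunctor Ab.{u} x).map D).hom

theorem stalkOp_germ {F G : X.Modules} (D : F.presheaf ⟶ G.presheaf) (U : X.Opens) (x : X) (hx : x ∈ U)
    (t : Γ(F, U)) : stalkOp D x (F.presheaf.germ U x hx t) = G.presheaf.germ U x hx (D.app (op U) t) :=
  TopCat.Presheaf.stalkFunctor_map_germ_apply U x hx D t

theorem isScalarTower_stalk (F : X.Modules) (x : X) :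
    letI := FlatMod.moduleStalkOver f F x
    IsScalarTower Os[x] Ox[x] (F.presheaf.stalk x) :=
  letI := FlatMod.moduleStalkOver f F x
  .of_algebraMap_smul fun _ _ => rfl

/-- Locally every section of `P^n(F)` is a combination of the `d^n t`. -/
theorem exists_local_span (F : X.Modules) {U : X.Opens} (s : Γ(PrinPart.PMod f n F, U)) (x : X) (hx : x ∈ U) :
    ∃ (V : X.Opens) (e : V ≤ U), x ∈ V ∧ (PrinPart.PMod f n F).presheaf.map (homOfLE e).op s ∈
      Submodule.span Γ(X, V) (Set.range (PrinPart.dP f n F V)) := by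
  letI := FlatMod.moduleStalkOver f F x
  haveI := isScalarTower_stalk f F x
  obtain ⟨Ψ, hΨb, hΨd, hΨs⟩ := exists_stalk_equiv f n F x
  let P := PrinPart.PMod f n F
  have res_mem : ∀ {V W : X.Opens} (e : W ≤ V) (σ : Γ(P, V)),
      σ ∈ Submodule.span Γ(X, V) (Set.range (PrinPart.dP f n F V)) →
      P.presheaf.map (homOfLE e).op σ ∈ Submodule.span Γ(X, W) (Set.range (PrinPart.dP f n F W)) := by
    intro V W e σ hσ
    induction hσ using Submodule.span_induction with
    | mem z hz => obtain ⟨t, rfl⟩ := hz; exact Submodule.subset_span ⟨_, PrinPart.dP_map f n F e t⟩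
    | zero => rw [map_zero]; exact zero_mem _
    | add a b _ _ ha hb => rw [map_add]; exact add_mem ha hb
    | smul a z _ hz => rw [Scheme.Modules.map_smul]; exact Submodule.smul_mem _ _ hz
  suffices H : ∀ m, ∃ (V : X.Opens) (hV : x ∈ V) (σ : Γ(P, V)),
      σ ∈ Submodule.span Γ(X, V) (Set.range (PrinPart.dP f n F V)) ∧ P.presheaf.germ V x hV σ = Ψ m by
    obtain ⟨m, hm⟩ := hΨb.2 (P.presheaf.germ U x hx s)
    obtain ⟨V, hV, σ, hσ, he⟩ := H m
    obtain ⟨W, hW, eU, eV, heq⟩ := P.presheaf.germ_eq x hx hV s σ (hm.symm.trans he.symm)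
    refine ⟨W, eU.le, hW, ?_⟩
    rw [show (homOfLE eU.le) = eU from Subsingleton.elim _ _, heq,
      show eV = homOfLE eV.le from Subsingleton.elim _ _]
    exact res_mem _ _ hσ
  intro m
  induction m using TensorProduct.induction_on with
  | zero => exact ⟨⊤, trivial, 0, zero_mem _, by rw [map_zero, map_zero]⟩
  | add a b ha hb =>
    obtain ⟨V, hV, σ, hσ, he⟩ := ha
    obtain ⟨V', hV', σ', hσ', he'⟩ := hb
    refine ⟨V ⊓ V', ⟨hV, hV'⟩, _, add_mem (res_mem inf_le_left σ hσ) (res_mem inf_le_right σ' hσ'), ?_⟩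
    rw [map_add, map_add, TopCat.Presheaf.germ_res_apply, TopCat.Presheaf.germ_res_apply, he, he']
  | tmul q t =>
    obtain ⟨W, hW, t, rfl⟩ := F.presheaf.exists_germ_eq t
    change PP16.P n Os[x] Ox[x] at q
    obtain ⟨q, rfl⟩ := Ideal.Quotient.mk_surjective q
    induction q using TensorProduct.induction_on with
    | zero =>
      refine ⟨⊤, trivial, 0, zero_mem _, ?_⟩
      rw [map_zero]
      exact (map_zero Ψ).symm.trans (congrArg Ψ (TensorProduct.zero_tmul _ _).symm)
    | add a b ha hb =>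
      obtain ⟨V, hV, σ, hσ, he⟩ := ha
      obtain ⟨V', hV', σ', hσ', he'⟩ := hb
      refine ⟨V ⊓ V', ⟨hV, hV'⟩, _, add_mem (res_mem inf_le_left σ hσ) (res_mem inf_le_right σ' hσ'), ?_⟩
      rw [map_add, TopCat.Presheaf.germ_res_apply, TopCat.Presheaf.germ_res_apply, he, he', ← map_add Ψ]
      refine congrArg Ψ ((TensorProduct.add_tmul _ _ _).symm.trans ?_)
      exact congrArg (· ⊗ₜ[Ox[x]] _) (map_add (Ideal.Quotient.mk _) a b).symm
    | tmul a b =>
      obtain ⟨A, hA, a, rfl⟩ := X.presheaf.exists_germ_eq a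
      obtain ⟨B, hB, b, rfl⟩ := X.presheaf.exists_germ_eq b
      let V := A ⊓ B ⊓ W
      let a' := X.presheaf.map (homOfLE (inf_le_left.trans inf_le_left : V ≤ A)).op a
      let b' := X.presheaf.map (homOfLE (inf_le_left.trans inf_le_right : V ≤ B)).op b
      let t' := F.presheaf.map (homOfLE (inf_le_right : V ≤ W)).op t
      have hxV : x ∈ V := ⟨⟨hA, hB⟩, hW⟩
      refine ⟨V, hxV, a' • PrinPart.dP f n F V (b' • t'),
        Submodule.smul_mem _ _ (Submodule.subset_span ⟨_, rfl⟩), ?_⟩
      rw [H06Mod.germ_smul, ← hΨd, ← hΨs, H06Mod.germ_smul, S3815.smul_dM, ← mul_smul]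
      simp only [a', b', t', TopCat.Presheaf.germ_res_apply]
      refine congrArg Ψ (Eq.trans ?_ (S3815.tmul_eq_smul _ _).symm)
      rw [← H06PP.mk_tmul]

/-- Two maps out of `P^n(F)` which agree on the image of `d^n` are equal. -/
theorem hom_ext (F G : X.Modules) (a b : PrinPart.PMod f n F ⟶ G)
    (h : ∀ (U : X.Opens) (t : Γ(F, U)), a.app U (PrinPart.dP f n F U t) = b.app U (PrinPart.dP f n F U t)) :
    a = b := by
  refine hom_ext_germ fun U s x hx => ?_
  obtain ⟨V, e, hxV, hs⟩ := exists_local_span f n F s x hx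
  have key : ∀ σ ∈ Submodule.span Γ(X, V) (Set.range (PrinPart.dP f n F V)), a.app V σ = b.app V σ := by
    intro σ hσ
    induction hσ using Submodule.span_induction with
    | mem z hz => obtain ⟨t, rfl⟩ := hz; exact h V t
    | zero => rw [map_zero, map_zero]
    | add c d _ _ hc hd => rw [map_add, map_add, hc, hd]
    | smul c z _ hz => rw [Scheme.Modules.Hom.app_smul, Scheme.Modules.Hom.app_smul, hz]
  have := congrArg (G.presheaf.germ V x hxV) (key _ hs)
  rwa [show a.app V ((PrinPart.PMod f n F).presheaf.map (homOfLE e).op s) =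
      G.presheaf.map (homOfLE e).op (a.app U s) from congr($(a.mapPresheaf.naturality (homOfLE e).op) s),
    show b.app V ((PrinPart.PMod f n F).presheaf.map (homOfLE e).op s) =
      G.presheaf.map (homOfLE e).op (b.app U s) from congr($(b.mapPresheaf.naturality (homOfLE e).op) s),
    TopCat.Presheaf.germ_res_apply, TopCat.Presheaf.germ_res_apply] at this

/-- The linear extension of a stalk of a differential operator. -/
def IsLift (F G : X.Modules) (D : F.presheaf ⟶ G.presheaf) (x : X)
    (u : PP16.PM n Os[x] Ox[x] (F.presheaf.stalk x) →+ G.presheaf.stalk x) : Prop :=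
  (∀ (b : Ox[x]) (m : PP16.PM n Os[x] Ox[x] (F.presheaf.stalk x)),
      u (algebraMap Ox[x] (PP16.P n Os[x] Ox[x]) b • m) = b • u m) ∧
    ∀ m : F.presheaf.stalk x, u (PP16.dM n Os[x] Ox[x] (F.presheaf.stalk x) m) = stalkOp D x m

theorem exists_lift {F G : X.Modules} {D : F.presheaf ⟶ G.presheaf}
    (hD : PrinPart.IsDiffOpLE f F G n D) (x : X) : ∃ u, IsLift f n F G D x u := by
  obtain ⟨v, hv⟩ := hD
  obtain ⟨Ψ, -, hΨd, hΨs⟩ := exists_stalk_equiv f n F x
  refine ⟨(stalkOp v.mapPresheaf x).comp Ψ, fun b m => ?_, fun m => ?_⟩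
  · show stalkOp v.mapPresheaf x (Ψ _) = b • stalkOp v.mapPresheaf x (Ψ m)
    rw [hΨs]
    exact H06Mod.stalkMap_smul v x b _
  · obtain ⟨U, hU, t, rfl⟩ := F.presheaf.exists_germ_eq m
    show stalkOp v.mapPresheaf x (Ψ _) = _
    rw [hΨd, stalkOp_germ, stalkOp_germ]
    exact congrArg _ (hv U t).symm

/-- Stalkwise lifts glue to a linear map out of `P^n(F)`. -/
theorem exists_hom {F G : X.Modules} (D : F.presheaf ⟶ G.presheaf)
    (h : ∀ x, ∃ u, IsLift f n F G D x u) : PrinPart.IsDiffOpLE f F G n D := by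
  choose u hu using h
  choose Ψ hΨb hΨd hΨs using exists_stalk_equiv f n F
  let E := fun x => AddEquiv.ofBijective (Ψ x) (hΨb x)
  let P := PrinPart.PMod f n F
  let ν : ∀ x, P.presheaf.stalk x →+ G.presheaf.stalk x := fun x => (u x).comp (E x).symm.toAddMonoidHom
  have hνs : ∀ x (b : Ox[x]) (z : P.presheaf.stalk x), ν x (b • z) = b • ν x z := by
    intro x b z
    show u x ((E x).symm (b • z)) = b • u x ((E x).symm z)
    rw [← (hu x).1]
    congr 1
    apply (E x).injective
    rw [AddEquiv.apply_symm_apply]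
    show _ = Ψ x _
    rw [hΨs, show Ψ x ((E x).symm z) = z from (E x).apply_symm_apply z]
  have hνd : ∀ (U : X.Opens) (x : X) (hx : x ∈ U) (t : Γ(F, U)),
      ν x (P.presheaf.germ U x hx (PrinPart.dP f n F U t)) = G.presheaf.germ U x hx (D.app (op U) t) := by
    intro U x hx t
    show u x ((E x).symm _) = _
    rw [← hΨd, show (E x).symm (Ψ x _) = _ from (E x).symm_apply_apply _, (hu x).2, stalkOp_germ]
  let Good := fun (U : X.Opens) (σ : Γ(P, U)) (τ : Γ(G, U)) =>
    ∀ x (hx : x ∈ U), G.presheaf.germ U x hx τ = ν x (P.presheaf.germ U x hx σ)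
  have hloc : ∀ (U : X.Opens) (s : Γ(P, U)), ∀ x : U, ∃ (V : X.Opens) (_ : x.1 ∈ V) (e : V ≤ U) (τ : Γ(G, V)),
      Good V (P.presheaf.map (homOfLE e).op s) τ := by
    rintro U s ⟨x, hx⟩
    obtain ⟨V, e, hxV, hs⟩ := exists_local_span f n F s x hx
    refine ⟨V, hxV, e, ?_⟩
    generalize P.presheaf.map (homOfLE e).op s = σ at hs
    induction hs using Submodule.span_induction with
    | mem z hz => obtain ⟨t, rfl⟩ := hz; exact ⟨D.app (op V) t, fun y hy => (hνd V y hy t).symm⟩
    | zero => exact ⟨0, fun y hy => by rw [map_zero, map_zero, map_zero]⟩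
    | add a b _ _ ha hb =>
      obtain ⟨τ, hτ⟩ := ha; obtain ⟨τ', hτ'⟩ := hb
      exact ⟨τ + τ', fun y hy => by rw [map_add, map_add, map_add, hτ y hy, hτ' y hy]⟩
    | smul a z _ hz =>
      obtain ⟨τ, hτ⟩ := hz
      exact ⟨a • τ, fun y hy => by rw [H06Mod.germ_smul, H06Mod.germ_smul, hνs, hτ y hy]⟩
  have hglob : ∀ (U : X.Opens) (s : Γ(P, U)), ∃ τ : Γ(G, U), Good U s τ := by
    intro U s
    choose V hxV e τ hτ using hloc U s
    let Gs : TopCat.Sheaf Ab.{u} X := ⟨G.presheaf, G.isSheaf⟩
    have hgood : ∀ (i : U) (y : X) (hy : y ∈ V i),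
        G.presheaf.germ (V i) y hy (τ i) = ν y (P.presheaf.germ U y (e i hy) s) := fun i y hy => by
      rw [hτ i y hy, TopCat.Presheaf.germ_res_apply]
    obtain ⟨t, ht, -⟩ := Gs.existsUnique_gluing' V U (fun i => homOfLE (e i))
      (fun x hx => Opens.mem_iSup.mpr ⟨⟨x, hx⟩, hxV ⟨x, hx⟩⟩) τ (fun i j => by
        refine germ_ext fun y hy => ?_
        show G.presheaf.germ _ y hy (G.presheaf.map (Opens.infLELeft _ _).op (τ i)) =
          G.presheaf.germ _ y hy (G.presheaf.map (Opens.infLERight _ _).op (τ j))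
        rw [TopCat.Presheaf.germ_res_apply, TopCat.Presheaf.germ_res_apply, hgood i y hy.1, hgood j y hy.2])
    refine ⟨t, fun y hy => ?_⟩
    rw [← hgood ⟨y, hy⟩ y (hxV ⟨y, hy⟩), ← ht ⟨y, hy⟩]
    exact (TopCat.Presheaf.germ_res_apply _ _ _ _ _).symm
  choose T hT using hglob
  refine ⟨⟨PresheafOfModules.homMk
    { app := fun U => AddCommGrpCat.ofHom
        { toFun := T U.unop
          map_zero' := germ_ext fun y hy => by
            rw [hT]
            erw [map_zero, map_zero, map_zero]
          map_add' := fun a b => germ_ext fun y hy => by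
            rw [hT]
            erw [map_add, map_add, map_add]
            rw [hT, hT] }
      naturality := fun U V i => by
        ext s
        refine germ_ext fun y hy => ?_
        refine (hT _ _ y hy).trans (Eq.trans ?_ (TopCat.Presheaf.germ_res_apply' G.presheaf i y hy _).symm)
        exact (congrArg (ν y) (TopCat.Presheaf.germ_res_apply' P.presheaf i y hy s)).trans
          (hT U.unop s y (i.unop.le hy)).symm }
    fun U r a => germ_ext fun y hy => by
      show G.presheaf.germ U.unop y hy (T U.unop ((show Γ(X, U.unop) from r) • (show Γ(P, U.unop) from a))) =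
        G.presheaf.germ U.unop y hy ((show Γ(X, U.unop) from r) • T U.unop a)
      rw [hT, H06Mod.germ_smul, H06Mod.germ_smul, hνs, hT]⟩, fun U t => ?_⟩
  refine germ_ext fun y hy => ?_
  exact ((hT U (PrinPart.dP f n F U t) y hy).trans (hνd U y hy t)).symm

/-- The stalk of `D` is linear over the base. -/
def IsBaseLinear {F G : X.Modules} (D : F.presheaf ⟶ G.presheaf) (x : X) : Prop :=
  ∀ (s : Os[x]) (m : F.presheaf.stalk x),
    stalkOp D x (algebraMap Os[x] Ox[x] s • m) = algebraMap Os[x] Ox[x] s • stalkOp D x m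

/-- The stalk of `D` as a linear map over the base. -/
noncomputable def opLin {F G : X.Modules} {D : F.presheaf ⟶ G.presheaf} {x : X} (h : IsBaseLinear f D x) :
    letI := FlatMod.moduleStalkOver f F x
    letI := FlatMod.moduleStalkOver f G x
    F.presheaf.stalk x →ₗ[Os[x]] G.presheaf.stalk x :=
  letI := FlatMod.moduleStalkOver f F x
  letI := FlatMod.moduleStalkOver f G x
  { toFun := stalkOp D x, map_add' := map_add _, map_smul' := h }

/-- The stalk of `D` at `x` is a differential operator of order at most `n`. -/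
def IsStalkDiffOp {F G : X.Modules} (D : F.presheaf ⟶ G.presheaf) (x : X) : Prop :=
  letI := FlatMod.moduleStalkOver f F x
  letI := FlatMod.moduleStalkOver f G x
  haveI := isScalarTower_stalk f F x
  haveI := isScalarTower_stalk f G x
  ∃ h : IsBaseLinear f D x,
    Diff16.IsDiffOpLE Os[x] Ox[x] (F.presheaf.stalk x) (G.presheaf.stalk x) n (opLin f h)

/-- The criterion. -/
theorem isDiffOpLE_iff {F G : X.Modules} (D : F.presheaf ⟶ G.presheaf) :
    PrinPart.IsDiffOpLE f F G n D ↔ ∀ x, IsStalkDiffOp f n D x := by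
  refine ⟨fun hD x => ?_, fun h => exists_hom f n D fun x => ?_⟩
  · letI := FlatMod.moduleStalkOver f F x
    letI := FlatMod.moduleStalkOver f G x
    haveI := isScalarTower_stalk f F x
    haveI := isScalarTower_stalk f G x
    obtain ⟨u, hu⟩ := exists_lift f n hD x
    have hl : IsBaseLinear f D x := fun s m => by
      rw [← hu.2, ← hu.2, S3815.smul_dM, AlgHom.commutes,
        IsScalarTower.algebraMap_apply Os[x] Ox[x] (PP16.P n Os[x] Ox[x]), hu.1]
    exact ⟨hl, S3815.diffOp_of_hom (opLin f hl) u hu.1 hu.2⟩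
  · letI := FlatMod.moduleStalkOver f F x
    letI := FlatMod.moduleStalkOver f G x
    haveI := isScalarTower_stalk f F x
    haveI := isScalarTower_stalk f G x
    obtain ⟨hl, hd⟩ := h x
    obtain ⟨w, hw, hw'⟩ := S3815.exists_hom (opLin f hl) hd
    exact ⟨w, hw, hw'⟩

end Groth.Agent.H17.PrinFactor
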