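import Groth.Agent.H11Tilde.ModLoc
import Groth.Agent.H29Blow.IdealMod
import Groth.Agent.H10Coh.FinType2

/-!
# The exact sequence of two ideals with zero intersection
-/

set_option autoImplicit false
set_option linter.style.haveILetI false
universe u

open CategoryTheory Limits AlgebraicGeometry TopologicalSpace

namespace Groth.Agent.H17.IdealPair

variable {X : Scheme.{u}}

theorem epi_toSubscheme (I : X.IdealSheafData) : Epi (ClSub.toSubscheme I) := by
  refine H11Tilde.epi_of_locally_surjective _ fun W t x hx => ?_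
  obtain ⟨U, hU, hxU, hUW⟩ := exists_isAffineOpen_mem_and_subset hx
  exact ⟨U, hUW, hxU, I.subschemeι_app_surjective ⟨U, hU⟩ _⟩

theorem app_eq_zero_iff (I : X.IdealSheafData) {U : X.Opens} (hU : IsAffineOpen U)
    (a : Γ(Coh.structureModule X, U)) :
    (ClSub.toSubscheme I).app U a = 0 ↔ (show Γ(X, U) from a) ∈ I.ideal ⟨U, hU⟩ := by
  rw [← I.ker_subschemeι_app ⟨U, hU⟩]
  rfl

theorem main (I₁ I₂ : X.IdealSheafData) (h : I₁ ⊓ I₂ = ⊥)
    (q₁ : ClSub.quotMod I₁ ⟶ ClSub.quotMod (I₁ ⊔ I₂)) (q₂ : ClSub.quotMod I₂ ⟶ ClSub.quotMod (I₁ ⊔ I₂))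
    (hq₁ : ClSub.toSubscheme I₁ ≫ q₁ = ClSub.toSubscheme (I₁ ⊔ I₂))
    (hq₂ : ClSub.toSubscheme I₂ ≫ q₂ = ClSub.toSubscheme (I₁ ⊔ I₂)) :
    Epi (biprod.desc q₁ (-q₂)) ∧
      ∃ w : biprod.lift (ClSub.toSubscheme I₁) (ClSub.toSubscheme I₂) ≫ biprod.desc q₁ (-q₂) = 0,
        Nonempty (IsLimit (KernelFork.ofι (biprod.lift (ClSub.toSubscheme I₁) (ClSub.toSubscheme I₂)) w)) := by
  haveI := epi_toSubscheme (I₁ ⊔ I₂)
  haveI : Epi (ClSub.toSubscheme I₁ ≫ q₁) := hq₁ ▸ inferInstance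
  haveI : Epi q₁ := epi_of_epi (ClSub.toSubscheme I₁) q₁
  let d := biprod.desc q₁ (-q₂)
  let l := biprod.lift (ClSub.toSubscheme I₁) (ClSub.toSubscheme I₂)
  let p₁ : ClSub.quotMod I₁ ⊞ ClSub.quotMod I₂ ⟶ ClSub.quotMod I₁ := biprod.fst
  let p₂ : ClSub.quotMod I₁ ⊞ ClSub.quotMod I₂ ⟶ ClSub.quotMod I₂ := biprod.snd
  let j₁ : ClSub.quotMod I₁ ⟶ ClSub.quotMod I₁ ⊞ ClSub.quotMod I₂ := biprod.inl
  let j₂ : ClSub.quotMod I₂ ⟶ ClSub.quotMod I₁ ⊞ ClSub.quotMod I₂ := biprod.inr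
  haveI : Epi (biprod.inl ≫ d) := by rw [biprod.inl_desc]; infer_instance
  haveI hd : Epi d := epi_of_epi biprod.inl d
  have w : l ≫ d = 0 := by rw [biprod.lift_desc, Preadditive.comp_neg, hq₁, hq₂, add_neg_cancel]
  have hinj : ∀ (U : X.Opens), IsAffineOpen U → ∀ a : Γ(Coh.structureModule X, U), l.app U a = 0 → a = 0 := by
    intro U hU a ha
    have h1 : (ClSub.toSubscheme I₁).app U a = 0 := by
      have e : l ≫ biprod.fst = ClSub.toSubscheme I₁ := biprod.lift_fst _ _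
      rw [← e]
      show p₁.app U (l.app U a) = 0
      rw [ha]; exact map_zero _
    have h2 : (ClSub.toSubscheme I₂).app U a = 0 := by
      have e : l ≫ biprod.snd = ClSub.toSubscheme I₂ := biprod.lift_snd _ _
      rw [← e]
      show p₂.app U (l.app U a) = 0
      rw [ha]; exact map_zero _
    have hm : (show Γ(X, U) from a) ∈ (I₁ ⊓ I₂).ideal ⟨U, hU⟩ :=
      ⟨(app_eq_zero_iff I₁ hU a).mp h1, (app_eq_zero_iff I₂ hU a).mp h2⟩
    rw [h, Scheme.IdealSheafData.ideal_bot] at hm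
    exact hm
  haveI hl : Mono l := by
    refine H11Tilde.mono_of_injective l fun W t ht x hx => ?_
    obtain ⟨U, hU, hxU, hUW⟩ := exists_isAffineOpen_mem_and_subset hx
    refine ⟨U, hUW, hxU, hinj U hU _ ?_⟩
    rw [H11Tilde.app_map_apply l hUW, ht, map_zero]
  refine ⟨hd, w, ⟨?_⟩⟩
  have hex : (ShortComplex.mk l d w).Exact := by
    refine H11Tilde.exact_of_locally _ fun W t ht x hx => ?_
    obtain ⟨U, hU, hxU, hUW⟩ := exists_isAffineOpen_mem_and_subset hx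
    refine ⟨U, hUW, hxU, ?_⟩
    let z := (ClSub.quotMod I₁ ⊞ ClSub.quotMod I₂).presheaf.map (homOfLE hUW).op t
    have hz : d.app U z = 0 := by
      refine (H11Tilde.app_map_apply d hUW t).trans ?_
      exact (congrArg _ ht).trans (map_zero _)
    obtain ⟨a₁, ha₁⟩ := I₁.subschemeι_app_surjective ⟨U, hU⟩ (p₁.app U z)
    obtain ⟨a₂, ha₂⟩ := I₂.subschemeι_app_surjective ⟨U, hU⟩ (p₂.app U z)
    let b₁ : Γ(Coh.structureModule X, U) := a₁
    let b₂ : Γ(Coh.structureModule X, U) := a₂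
    have hd' : d = biprod.fst ≫ q₁ - biprod.snd ≫ q₂ := by
      apply biprod.hom_ext' <;> simp [d]
    have hsum : (ClSub.toSubscheme (I₁ ⊔ I₂)).app U (b₁ - b₂) = 0 := by
      rw [map_sub, sub_eq_zero]
      conv_lhs => rw [← hq₁]
      conv_rhs => rw [← hq₂]
      have hz' := hz
      rw [hd'] at hz'
      have hz'' : q₁.app U (p₁.app U z) - q₂.app U (p₂.app U z) = 0 := hz'
      rw [← ha₁, ← ha₂, sub_eq_zero] at hz''
      exact hz''
    have hm : (show Γ(X, U) from b₁ - b₂) ∈ I₁.ideal ⟨U, hU⟩ ⊔ I₂.ideal ⟨U, hU⟩ := by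
      have := (app_eq_zero_iff _ hU _).mp hsum
      rwa [Scheme.IdealSheafData.ideal_sup] at this
    obtain ⟨i₁, hi₁, i₂, hi₂, hii⟩ := Submodule.mem_sup.mp hm
    let a : Γ(X, U) := a₁ - i₁
    refine ⟨(a : Γ(Coh.structureModule X, U)), ?_⟩
    show l.app U _ = z
    have hz1 : (ClSub.toSubscheme I₁).app U (show Γ(Coh.structureModule X, U) from a) = p₁.app U z := by
      rw [← ha₁, ← sub_eq_zero]
      refine Eq.trans (map_sub ((ClSub.toSubscheme I₁).app U).hom _ b₁).symm ?_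
      refine (app_eq_zero_iff I₁ hU _).mpr ?_
      show a₁ - i₁ - a₁ ∈ _
      rw [sub_sub_cancel_left]; exact neg_mem hi₁
    have hz2 : (ClSub.toSubscheme I₂).app U (show Γ(Coh.structureModule X, U) from a) = p₂.app U z := by
      rw [← ha₂, ← sub_eq_zero]
      refine Eq.trans (map_sub ((ClSub.toSubscheme I₂).app U).hom _ b₂).symm ?_
      refine (app_eq_zero_iff I₂ hU _).mpr ?_
      show a₁ - i₁ - a₂ ∈ _
      have e : a₁ - a₂ = i₁ + i₂ := hii.symm
      rw [show a₁ - i₁ - a₂ = i₂ by linear_combination e]; exact hi₂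
    have htot := congr($(biprod.total (X := ClSub.quotMod I₁) (Y := ClSub.quotMod I₂)).app U z)
    refine Eq.trans ?_ htot
    show l.app U _ = j₁.app U (p₁.app U z) + j₂.app U (p₂.app U z)
    rw [← hz1, ← hz2]
    have : l = ClSub.toSubscheme I₁ ≫ biprod.inl + ClSub.toSubscheme I₂ ≫ biprod.inr := biprod.lift_eq
    rw [this]
    rfl
  exact hex.fIsKernel

end Groth.Agent.H17.IdealPair
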