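import Groth.Agent.H11Ample.QuasiAffine
import Groth.Agent.H7Lim.Separated
import Groth.Prelude.Def_LCI2
import Mathlib

/-!
# Schemes covered by affine loci of generation
-/

set_option autoImplicit false
set_option linter.style.haveILetI false

noncomputable section

universe u

open CategoryTheory CategoryTheory.Limits AlgebraicGeometry Opposite TopologicalSpace
open Groth.Agent.H11Tilde Groth.Agent.H11Ample

namespace Groth.Agent.H17.AmpleSep

variable {X : Scheme.{u}}

theorem isAffineOpen_inf_gen {M : X.Modules} (hM : PicF.IsInvertible M) (t : Γ(M, ⊤)) {U : X.Opens}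
    (hU : IsAffineOpen U) : IsAffineOpen (U ⊓ gen M t) := by
  haveI := isAffineHom_gen_ι hM t
  haveI : IsAffineHom (U.ι ⁻¹ᵁ gen M t).ι :=
    MorphismProperty.of_isPullback (isPullback_morphismRestrict U.ι (gen M t)) ‹IsAffineHom (gen M t).ι›
  haveI : IsAffine (U : Scheme.{u}) := hU
  have h : IsAffineOpen (U.ι ⁻¹ᵁ gen M t) := isAffine_of_isAffineHom (U.ι ⁻¹ᵁ gen M t).ι
  have h2 := h.image_of_isOpenImmersion U.ι
  rwa [Scheme.Hom.image_preimage_eq_opensRange_inf, Scheme.Opens.opensRange_ι] at h2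

theorem closure_resSet_gen {N : X.Modules} (s t : Γ(N, ⊤)) (hs : IsAffineOpen (gen N s)) :
    Subring.closure (H7Lim.resSet (gen N s) (gen N t) (gen N s ⊓ gen N t) inf_le_left inf_le_right) = ⊤ := by
  let U := gen N s
  let V := gen N t
  obtain ⟨g, hg⟩ := exists_coeff (isGen_gen s) (N.presheaf.map (homOfLE (le_top : U ≤ ⊤)).op t)
  obtain ⟨h, hh⟩ := exists_coeff (isGen_gen t) (N.presheaf.map (homOfLE (le_top : V ≤ ⊤)).op s)
  have hWb : U ⊓ V = X.basicOpen g := by
    rw [inf_comm]; exact gen_inf_eq_basicOpen (isGen_gen s) t g hg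
  let W := U ⊓ V
  let rU := X.presheaf.map (homOfLE (inf_le_left : W ≤ U)).op
  let rV := X.presheaf.map (homOfLE (inf_le_right : W ≤ V)).op
  let sW := N.presheaf.map (homOfLE (le_top : W ≤ ⊤)).op s
  let tW := N.presheaf.map (homOfLE (le_top : W ≤ ⊤)).op t
  have e1 : tW = rU g • sW := by
    have := congrArg (N.presheaf.map (homOfLE (inf_le_left : W ≤ U)).op) hg
    rwa [H10Coh.mres_mres, Scheme.Modules.map_smul, H10Coh.mres_mres] at this
  have e2 : sW = rV h • tW := by
    have := congrArg (N.presheaf.map (homOfLE (inf_le_right : W ≤ V)).op) hh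
    rwa [H10Coh.mres_mres, Scheme.Modules.map_smul, H10Coh.mres_mres] at this
  have hgh : rV h * rU g = 1 := by
    have hgen : IsGen N sW := by
      have := (isGen_gen s).res (inf_le_left : W ≤ U)
      rwa [H10Coh.mres_mres] at this
    apply (hgen.bijective le_rfl).1
    beta_reduce
    rw [H10Coh.mres_self, one_smul, mul_smul, ← e1, ← e2]
  refine eq_top_iff.mpr fun z _ => ?_
  letI : Algebra Γ(X, U) Γ(X, W) := rU.hom.toAlgebra
  haveI : IsLocalization.Away g Γ(X, W) :=
    IsAffineOpen.isLocalization_of_eq_basicOpen hs g (V := W) (homOfLE inf_le_left) hWb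
  obtain ⟨n, a, ha⟩ := IsLocalization.Away.surj g z
  have hz : z = rU a * rV h ^ n := by
    calc z = z * (rU g ^ n) * rV h ^ n := by rw [mul_assoc, ← mul_pow, mul_comm (rU g), hgh, one_pow, mul_one]
      _ = rU a * rV h ^ n := by rw [show z * rU g ^ n = rU a from ha]
  rw [hz]
  have h1 : rU a ∈ H7Lim.resSet U V W inf_le_left inf_le_right := Or.inl ⟨a, rfl⟩
  have h2 : rV h ∈ H7Lim.resSet U V W inf_le_left inf_le_right := Or.inr ⟨h, rfl⟩
  exact Subring.mul_mem _ (Subring.subset_closure h1) (Subring.pow_mem _ (Subring.subset_closure h2) n)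

theorem isSeparated_of_cover_gen {L : X.Modules} (hL : PicF.IsInvertible L)
    (h : ∀ x : X, ∃ (k : ℕ) (s : Γ(CohB1.tensorPow L k, ⊤)), 0 < k ∧
      x ∈ gen (CohB1.tensorPow L k) s ∧ IsAffineOpen (gen (CohB1.tensorPow L k) s)) :
    X.IsSeparated := by
  choose k s hk hx hs using h
  refine H7Lim.isSeparated_of_cover (fun x => gen (CohB1.tensorPow L (k x)) (s x))
    (IsOpenCover.mk (eq_top_iff.2 fun x _ => Opens.mem_iSup.2 ⟨x, hx x⟩)) hs
    (fun a b => isAffineOpen_inf_gen (isInvertible_tensorPow hL _) _ (hs a)) fun a b => ?_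
  obtain ⟨φ, -⟩ := exists_iso_mul hL (k a) (k b)
  obtain ⟨ψ, -⟩ := exists_iso_mul hL (k b) (k a)
  obtain ⟨s', hs'⟩ : ∃ s' : Γ(CohB1.tensorPow L (k a * k b), ⊤),
      gen _ s' = gen (CohB1.tensorPow L (k a)) (s a) :=
    ⟨φ.hom.app ⊤ (spow (s a) (k b)), by
      rw [gen_iso, gen_spow (isInvertible_tensorPow hL _) _ _ (hk b)]⟩
  obtain ⟨t', ht'⟩ := exists_section_of_eq (mul_comm (k b) (k a)) (ψ.hom.app ⊤ (spow (s b) (k a)))
  rw [gen_iso, gen_spow (isInvertible_tensorPow hL _) _ _ (hk a)] at ht'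
  have key : ∀ U V : X.Opens, gen _ s' = U → gen _ t' = V →
      Subring.closure (H7Lim.resSet U V (U ⊓ V) inf_le_left inf_le_right) = ⊤ := by
    rintro U V rfl rfl
    exact closure_resSet_gen s' t' (hs' ▸ hs a)
  exact key _ _ hs' ht'

theorem isSeparated_of_isAmple {L : X.Modules} (h : CohB1.IsAmple L) : X.IsSeparated := by
  obtain ⟨hL, -, h'⟩ := isAmple_iff.1 h
  exact isSeparated_of_cover_gen hL h'

theorem isSeparated_of_isRelAmple {S : Scheme.{u}} (f : X ⟶ S) (L : X.Modules)
    (hL : RelAmple.IsRelAmple f L) : IsSeparated f := by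
  rw [IsZariskiLocalAtTarget.iff_of_openCover (P := @IsSeparated) S.affineCover]
  intro i
  let V : S.affineOpens := ⟨_, isAffineOpen_opensRange (S.affineCover.f i)⟩
  haveI := isSeparated_of_isAmple (hL.2 V)
  have h : IsSeparated (f ∣_ V.1) := inferInstance
  exact (MorphismProperty.arrow_mk_iso_iff @IsSeparated (morphismRestrictOpensRange f (S.affineCover.f i))).mp h

set_option backward.isDefEq.respectTransparency false in
set_option backward.defeqAttrib.useBackward true in
theorem isAffineHom_diagonal (X : Scheme.{u})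
    (h : ∀ x : X, ∃ (L : X.Modules) (s : Coh.structureModule X ⟶ L), PicF.IsInvertible L ∧
      x ∈ CohB1.genLocus L s ∧ IsAffineOpen (CohB1.genLocus L s)) :
    IsAffineHom (Limits.pullback.diagonal (Limits.terminal.from X)) := by
  choose L s hL hx hs using h
  simp only [genLocus_eq_gen] at hx hs
  have key : ∀ (U : X → X.Opens), (∀ x, x ∈ U x) → (∀ a, IsAffineOpen (U a)) →
      (∀ a b, IsAffineOpen (U a ⊓ U b)) →
      IsAffineHom (Limits.pullback.diagonal (Limits.terminal.from X)) := ?_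
  · exact key (fun x => gen (L x) (SecTwist.val (s x) ⊤)) hx hs
      fun a b => isAffineOpen_inf_gen (hL b) _ (hs a)
  clear hx hs hL s L
  intro U hx hs hinf
  let 𝒰 := X.openCoverOfIsOpenCover U
    (IsOpenCover.mk (eq_top_iff.2 fun x _ => Opens.mem_iSup.2 ⟨x, hx x⟩))
  refine IsZariskiLocalAtTarget.of_openCover
    (Scheme.Pullback.openCoverOfLeftRight 𝒰 𝒰 _ _) ?_
  intro ⟨a, b⟩
  dsimp [Scheme, Scheme.Cover.pullbackHom, 𝒰]
  refine (MorphismProperty.cancel_left_of_respectsIso (P := @IsAffineHom)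
    (f := (pullbackDiagonalMapIdIso ..).inv) _).mp ?_
  let e := (isPullback_opens_inf (U a) (U b)).isoPullback
  rw [← MorphismProperty.cancel_left_of_respectsIso (P := @IsAffineHom) e.hom]
  have : IsAffine (U a : Scheme) := hs a
  have : IsAffine (U b : Scheme) := hs b
  have : IsAffine ((U a ⊓ U b : X.Opens) : Scheme) := hinf a b
  infer_instance

end Groth.Agent.H17.AmpleSep
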