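import Groth.Agent.H17.OmegaLocal
import Groth.Agent.H17.LocusBC
import Mathlib.RingTheory.Unramified.LocalRing

set_option autoImplicit false
universe u

open CategoryTheory CategoryTheory.Limits AlgebraicGeometry Opposite TopologicalSpace

namespace Groth.Agent.H17.OmegaStalk

variable {X S : Scheme.{u}} (f : X ⟶ S)

theorem dSect_eq_zero_imp [QuasiSeparated f] {U : X.Opens} (hU : IsAffineOpen U) {V : S.Opens}
    (hV : IsAffineOpen V) (h : U ≤ f ⁻¹ᵁ V) (b : Γ(X, U)) (hb : OmegaSh.dSect f U b = 0) :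
    letI := (f.appLE V U h).hom.toAlgebra
    KaehlerDifferential.D Γ(S, V) Γ(X, U) b = 0 := by
  have := OmegaLocal.isIso_toSect f hU hV h
  have hbij := (ConcreteCategory.isIso_iff_bijective (OmAff.toSect f V U h)).mp this
  refine hbij.1 ?_
  exact (OmAff.toSect_d f V U h b).trans (hb.trans (map_zero (OmAff.toSect f V U h).hom).symm)

theorem subsingleton_sections_of_formallyUnramified [QuasiSeparated f] {U : X.Opens} (hU : IsAffineOpen U)
    {V : S.Opens} (hV : IsAffineOpen V) (h : U ≤ f ⁻¹ᵁ V)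
    (hu : letI := (f.appLE V U h).hom.toAlgebra; Algebra.FormallyUnramified Γ(S, V) Γ(X, U)) :
    Subsingleton Γ(Omega.sheaf f, U) := by
  have := OmegaLocal.isIso_toSect f hU hV h
  have hbij := (ConcreteCategory.isIso_iff_bijective (OmAff.toSect f V U h)).mp this
  algebraize [(f.appLE V U h).hom]
  have : Subsingleton Ω[Γ(X, U)⁄Γ(S, V)] := (Algebra.formallyUnramified_iff _ _).mp hu
  exact ⟨fun a b => by
    obtain ⟨a', rfl⟩ := hbij.2 a
    obtain ⟨b', rfl⟩ := hbij.2 b
    exact congrArg _ (Subsingleton.elim (α := Ω[Γ(X, U)⁄Γ(S, V)]) a' b')⟩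

variable {f} in
theorem formallyUnramified_stalkMap_iff {U : X.Opens} (hU : IsAffineOpen U) {V : S.Opens}
    (hV : IsAffineOpen V) (h : U ≤ f ⁻¹ᵁ V) {x : X} (hx : x ∈ U) :
    letI := (f.appLE V U h).hom.toAlgebra
    (f.stalkMap x).hom.FormallyUnramified ↔ Algebra.IsUnramifiedAt Γ(S, V) (hU.primeIdealOf ⟨x, hx⟩).asIdeal := by
  algebraize [(f.appLE V U h).hom]
  let q := hU.primeIdealOf ⟨x, hx⟩
  have e := LocusBC.formallyUnramified_stalkMap_comp_iff hU.fromSpec f hV.fromSpec
    (Spec.map (f.appLE V U h)) (IsAffineOpen.SpecMap_appLE_fromSpec f hV hU h) q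
  have hq : hU.fromSpec q = x := hU.fromSpec_primeIdealOf ⟨x, hx⟩
  rw [hq] at e
  rw [← e]
  refine ⟨fun H => LocusBC.isUnramifiedAt_of_stalkMap_Spec q H, fun H => ?_⟩
  let p := (q.comap (algebraMap Γ(S, V) Γ(X, U))).asIdeal
  have : q.asIdeal.LiesOver p := ⟨rfl⟩
  let := Localization.AtPrime.algebraOfLiesOver p q.asIdeal
  have := RingHom.toMorphismProperty_respectsIso_iff.mp RingHom.FormallyUnramified.respectsIso
  refine ((RingHom.toMorphismProperty @RingHom.FormallyUnramified).arrow_mk_iso_iff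
    (Scheme.arrowStalkMapSpecIso (f.appLE V U h) q)).mpr ?_
  exact RingHom.formallyUnramified_algebraMap.mpr
    (Algebra.FormallyUnramified.of_restrictScalars Γ(S, V) (Localization.AtPrime p) (Localization.AtPrime q.asIdeal))

theorem subsingleton_stalk_iff [QuasiSeparated f] [LocallyOfFiniteType f] (x : X) :
    Subsingleton ((Omega.sheaf f).presheaf.stalk x) ↔ (f.stalkMap x).hom.FormallyUnramified := by
  obtain ⟨_, ⟨V, hV, rfl⟩, hxV, -⟩ :=
    S.isBasis_affineOpens.exists_subset_of_mem_open (Set.mem_univ (f x)) isOpen_univ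
  obtain ⟨_, ⟨U, hU, rfl⟩, hx, hle⟩ :=
    X.isBasis_affineOpens.exists_subset_of_mem_open (show x ∈ (f ⁻¹ᵁ V : Set X) from hxV) (f ⁻¹ᵁ V).2
  rw [formallyUnramified_stalkMap_iff hU hV hle hx]
  have hft : (f.appLE V U hle).hom.FiniteType := f.finiteType_appLE hV hU hle
  algebraize [(f.appLE V U hle).hom]
  let q := (hU.primeIdealOf ⟨x, hx⟩).asIdeal
  refine ⟨fun hs => ?_, fun hu => ?_⟩
  · let : Algebra Γ(X, U) (X.presheaf.stalk x) := (X.presheaf.germ U x hx).hom.toAlgebra
    let : Algebra Γ(S, V) (X.presheaf.stalk x) :=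
      ((X.presheaf.germ U x hx).hom.comp (f.appLE V U hle).hom).toAlgebra
    have : IsScalarTower Γ(S, V) Γ(X, U) (X.presheaf.stalk x) := .of_algebraMap_eq fun _ => rfl
    have hloc : IsLocalization.AtPrime (X.presheaf.stalk x) q := hU.isLocalization_stalk ⟨x, hx⟩
    suffices Algebra.FormallyUnramified Γ(S, V) (X.presheaf.stalk x) from
      Algebra.FormallyUnramified.of_equiv
        ((IsLocalization.algEquiv q.primeCompl (X.presheaf.stalk x) (Localization.AtPrime q)).restrictScalars Γ(S, V))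
    rw [Algebra.formallyUnramified_iff]
    have hD : ∀ t : X.presheaf.stalk x, KaehlerDifferential.D Γ(S, V) (X.presheaf.stalk x) t = 0 := by
      intro t
      obtain ⟨W, hxW, s, rfl⟩ := X.presheaf.exists_germ_eq t
      obtain ⟨W', hxW', iW, iW', hz⟩ := TopCat.Presheaf.germ_eq (F := (Omega.sheaf f).presheaf) x hxW hxW
        (OmegaSh.dSect f W s) 0 (Subsingleton.elim _ _)
      obtain ⟨_, ⟨T, hT, rfl⟩, hxT, hTle⟩ := X.isBasis_affineOpens.exists_subset_of_mem_open
        (show x ∈ (W' ⊓ U : Set X) from ⟨hxW', hx⟩) (W' ⊓ U).2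
      have hTW : T ≤ W := fun y hy => iW.le (hTle hy).1
      have hTU : T ≤ U := fun y hy => (hTle hy).2
      have h0 : OmegaSh.dSect f T (X.presheaf.map (homOfLE hTW).op s) = 0 := by
        rw [OmegaSh.dSect_map]
        have h2 := congr((Omega.sheaf f).presheaf.map (homOfLE (show T ≤ W' from fun y hy => (hTle hy).1)).op $hz)
        rw [map_zero, map_zero] at h2
        refine Eq.trans ?_ h2
        exact (OmegaSh.resM_resM (M := Omega.sheaf f) iW (homOfLE (show T ≤ W' from fun y hy => (hTle hy).1)) _).symm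
      have h1 := dSect_eq_zero_imp f hT hV (hTU.trans hle) _ h0
      let := (f.appLE V T (hTU.trans hle)).hom.toAlgebra
      let : Algebra Γ(X, T) (X.presheaf.stalk x) := (X.presheaf.germ T x hxT).hom.toAlgebra
      have : IsScalarTower Γ(S, V) Γ(X, T) (X.presheaf.stalk x) := .of_algebraMap_eq fun a => by
        show X.presheaf.germ U x hx (f.appLE V U hle a) = X.presheaf.germ T x hxT (f.appLE V T (hTU.trans hle) a)
        rw [← Scheme.Hom.appLE_map f hle (homOfLE hTU).op, CommRingCat.comp_apply, TopCat.Presheaf.germ_res_apply]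
      have h3 := congrArg (KaehlerDifferential.map Γ(S, V) Γ(S, V) Γ(X, T) (X.presheaf.stalk x)) h1
      rw [map_zero, KaehlerDifferential.map_D] at h3
      rw [← TopCat.Presheaf.germ_res_apply X.presheaf (homOfLE hTW) x hxT s]
      exact h3
    refine ⟨fun a b => ?_⟩
    suffices ∀ a : Ω[X.presheaf.stalk x⁄Γ(S, V)], a = 0 by rw [this a, this b]
    intro a
    have ha : a ∈ Submodule.span (X.presheaf.stalk x) (Set.range (KaehlerDifferential.D Γ(S, V) (X.presheaf.stalk x))) := by
      rw [KaehlerDifferential.span_range_derivation]; trivial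
    induction ha using Submodule.span_induction with
    | mem y hy => obtain ⟨t, rfl⟩ := hy; exact hD t
    | zero => rfl
    | add y z _ _ hy hz => rw [hy, hz, add_zero]
    | smul c y _ hy => rw [hy, smul_zero]
  · obtain ⟨g, hg, hug⟩ := Algebra.exists_formallyUnramified_of_isUnramifiedAt (R := Γ(S, V)) q
    rw [← Algebra.basicOpen_subset_unramifiedLocus_iff] at hug
    refine ⟨fun a b => ?_⟩
    suffices ∀ a : (Omega.sheaf f).presheaf.stalk x, a = 0 by rw [this a, this b]
    intro a
    obtain ⟨W, hxW, s, rfl⟩ := (Omega.sheaf f).presheaf.exists_germ_eq a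
    have hxg : x ∈ X.basicOpen g := by
      have h1 : hU.fromSpec (hU.primeIdealOf ⟨x, hx⟩) ∈ X.basicOpen g :=
        (hU.fromSpec_preimage_basicOpen g).ge hg
      rwa [hU.fromSpec_primeIdealOf] at h1
    obtain ⟨k, hkle, hxk⟩ := hU.exists_basicOpen_le (V := W ⊓ X.basicOpen g) ⟨x, hxW, hxg⟩ hx
    let D := X.basicOpen k
    have hD : IsAffineOpen D := hU.basicOpen k
    have hDU : D ≤ U := X.basicOpen_le k
    have hDW : D ≤ W := hkle.trans inf_le_left
    let := (f.appLE V D (hDU.trans hle)).hom.toAlgebra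
    let : Algebra Γ(X, U) Γ(X, D) := (X.presheaf.map (homOfLE hDU).op).hom.toAlgebra
    have : IsScalarTower Γ(S, V) Γ(X, U) Γ(X, D) := .of_algebraMap_eq fun a =>
      (congr($(Scheme.Hom.appLE_map f hle (homOfLE hDU).op) a)).symm
    have : IsLocalization.Away k Γ(X, D) := hU.isLocalization_basicOpen k
    have hu' : Algebra.FormallyUnramified Γ(S, V) Γ(X, D) := by
      have : Algebra.FormallyUnramified Γ(S, V) (Localization.Away k) := by
        rw [← Algebra.basicOpen_subset_unramifiedLocus_iff]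
        refine Set.Subset.trans ?_ hug
        intro y hy
        have : hU.fromSpec y ∈ X.basicOpen g := (hkle ((hU.fromSpec_preimage_basicOpen k).ge hy)).2
        exact (hU.fromSpec_preimage_basicOpen g).le this
      exact Algebra.FormallyUnramified.of_equiv
        ((IsLocalization.algEquiv (Submonoid.powers k) (Localization.Away k) Γ(X, D)).restrictScalars Γ(S, V))
    have hsub := subsingleton_sections_of_formallyUnramified f hD hV (hDU.trans hle) hu'
    rw [← TopCat.Presheaf.germ_res_apply (Omega.sheaf f).presheaf (homOfLE hDW) x hxk s,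
      Subsingleton.elim ((Omega.sheaf f).presheaf.map (homOfLE hDW).op s) 0, map_zero]

end Groth.Agent.H17.OmegaStalk
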