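import Groth.Agent.H17.QCAlgSub
import Groth.Agent.H17.FPExt.Colimit
import Groth.Agent.H16Derived.KFlat.PerfCoh
import Groth.Agent.LeadQSub.Extend
import Mathlib

/-!
# Finite type subalgebras and finite type generating submodules of quasi-coherent algebras
-/

set_option autoImplicit false
set_option linter.style.haveILetI false

universe u

open CategoryTheory CategoryTheory.Limits AlgebraicGeometry TopologicalSpace Opposite

namespace Groth.Agent.H17.QCAlgSub

variable {X : Scheme.{u}} (B : RelSpec.QCAlg X)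

theorem exists_finiteType_subAlg {E : X.Modules} (j : E ⟶ B.toModule) (hE : E.IsQuasicoherent)
    (hEt : CohB1.IsFT E) (U : X.affineOpens) (b : B.presheaf.obj (op (U : X.Opens)))
    (hb : b ∈ Set.range (japp B j U.1)) :
    ∃ (B' : RelSpec.QCAlg X) (φ : B' ⟶ B),
      (∀ V : X.Opens, Function.Injective (φ.hom.app (op V)).hom) ∧
      (∀ V : X.affineOpens, (B'.str.app (op (V : X.Opens))).hom.FiniteType) ∧
      b ∈ Set.range (φ.hom.app (op (U : X.Opens))).hom := by
  obtain ⟨e, rfl⟩ := hb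
  exact ⟨subAlg B j hE, subAlgHom B j hE, subAlgHom_injective B j hE,
    fun V => finiteType_subAlg B j hE hEt V.2, mem_range_subAlgHom B j hE U.2 (japp_mem B j U.1 e)⟩

open FPExt H29Fitt in
theorem exists_generating_submodule [CompactSpace X] [QuasiSeparatedSpace X]
    (hB : ∀ U : X.affineOpens, (B.str.app (op (U : X.Opens))).hom.FiniteType) :
    ∃ (E : X.Modules) (j : E ⟶ B.toModule), Mono j ∧ Coh.IsQCoh E ∧ CohB1.IsFT E ∧
      ∀ U : X.affineOpens, genSub B j U.1 = ⊤ := by
  classical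
  obtain ⟨t, ht⟩ := isCompact_univ.elim_finite_subcover (fun U : X.affineOpens => (U.1 : Set X))
    (fun U => U.1.isOpen) (fun x _ => by
      obtain ⟨U, hU, hxU, -⟩ := exists_isAffineOpen_mem_and_subset (X := X) (x := x) (U := ⊤) trivial
      exact Set.mem_iUnion.2 ⟨⟨U, hU⟩, hxU⟩)
  haveI : B.toModule.IsQuasicoherent := isQCoh_toModule B
  have hgen : ∀ U : X.affineOpens, ∃ L : List (Σ g : GI X, fpGen g ⟶ B.toModule),
      ∃ G : Finset (B.presheaf.obj (op U.1)),
        Subring.closure (Set.range (bstr B U.1) ∪ (G : Set (B.presheaf.obj (op U.1)))) = ⊤ ∧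
        ∀ s ∈ G, ∃ p ∈ L, s ∈ Set.range (p.2.app U.1) := by
    intro U
    letI : Algebra Γ(X, U.1) (B.presheaf.obj (op U.1)) := (bstr B U.1).toAlgebra
    haveI : Algebra.FiniteType Γ(X, U.1) (B.presheaf.obj (op U.1)) := hB U
    obtain ⟨G, hG⟩ := (inferInstance : Algebra.FiniteType Γ(X, U.1) (B.presheaf.obj (op U.1))).out
    choose g φ hφ using fun s : Γ(B.toModule, U.1) => exists_fpGen B.toModule inferInstance U s
    refine ⟨G.toList.map fun s => ⟨g s, φ s⟩, G, ?_, fun s hs =>
      ⟨⟨g s, φ s⟩, List.mem_map.2 ⟨s, Finset.mem_toList.2 hs, rfl⟩, hφ s⟩⟩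
    have h := congrArg Subalgebra.toSubring hG
    rw [Algebra.adjoin_eq_ring_closure, Algebra.top_toSubring] at h
    exact h
  choose L G hG hL using hgen
  obtain ⟨q, hq⟩ := exists_lsum_hom B.toModule (t.toList.flatMap L)
  have hNfp : CohB1.IsFP (lsum ((t.toList.flatMap L).map Sigma.fst)) := isFP_lsum _
  haveI : (lsum ((t.toList.flatMap L).map Sigma.fst)).IsQuasicoherent := isQCoh_of_isFP _ hNfp
  haveI := H10Coh.isQuasicoherent_kernel q
  have hEq : (Abelian.coimage q).IsQuasicoherent := H10Coh.isQuasicoherent_cokernel (kernel.ι q)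
  refine ⟨Abelian.coimage q, Abelian.factorThruCoimage q, inferInstance, hEq,
    H16Derived.KFlat.Stalk.isFT_of_epi (Abelian.coimage.π q) (isFT_of_isFP _ hNfp), fun V => ?_⟩
  refine genSub_eq_top B _ hEq (fun x => ?_) V.2
  obtain ⟨U, hU, hxU⟩ := Set.mem_iUnion₂.1 (ht (Set.mem_univ x))
  refine ⟨U.1, U.2, hxU, eq_top_iff.2 ((hG U).ge.trans (Subring.closure_le.2 ?_))⟩
  rintro s (hs | hs)
  · exact Subring.subset_closure (Or.inl hs)
  · obtain ⟨p, hp, r, rfl⟩ := hL U s hs
    obtain ⟨z, hz⟩ := hq p (List.mem_flatMap.2 ⟨U, Finset.mem_toList.2 hU, hp⟩) U.1 r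
    refine Subring.subset_closure (Or.inr ⟨(Abelian.coimage.π q).app U.1 z, ?_⟩)
    show ((Abelian.coimage.π q) ≫ Abelian.factorThruCoimage q).app U.1 z = _
    rw [Abelian.coimage.fac]
    exact hz

end Groth.Agent.H17.QCAlgSub
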