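import Mathlib.AlgebraicGeometry.Morphisms.QuasiCompact
import Mathlib.AlgebraicGeometry.Morphisms.Flat
import Mathlib.RingTheory.EssentialFiniteness
import Mathlib.RingTheory.RingHomProperties

/-! Morphisms locally essentially of finite type. -/

set_option autoImplicit false
set_option linter.style.haveILetI false
universe u

open CategoryTheory CategoryTheory.Limits AlgebraicGeometry TopologicalSpace TensorProduct

namespace Groth.Agent.H17.LocEFT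

variable {X Y Z : Scheme.{u}}

/-- Near every point the morphism is essentially of finite type over each affine open below. -/
def LocEss (f : X ⟶ Y) : Prop :=
  ∀ (x : X) (U : Y.affineOpens), f x ∈ U.1 → ∃ (V : X.affineOpens) (e : V.1 ≤ f ⁻¹ᵁ U.1),
    x ∈ V.1 ∧ (f.appLE U.1 V.1 e).hom.EssFiniteType

/-- The covering form of the condition over `U`. -/
def CoverOn (f : X ⟶ Y) (U : Y.affineOpens) : Prop :=
  ∃ T : Set X.affineOpens, (⋃ V ∈ T, ((V : X.Opens) : Set X)) = ((f ⁻¹ᵁ (U : Y.Opens)) : Set X) ∧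
    ∀ V ∈ T, ∃ e : (V : X.Opens) ≤ f ⁻¹ᵁ (U : Y.Opens),
      (f.appLE (U : Y.Opens) (V : X.Opens) e).hom.EssFiniteType

theorem ess_comp {A B C : Type u} [CommRing A] [CommRing B] [CommRing C] {g : A →+* B} {h : B →+* C}
    (hg : g.EssFiniteType) (hh : h.EssFiniteType) : (h.comp g).EssFiniteType := by
  algebraize [g, h, h.comp g]
  exact Algebra.EssFiniteType.comp A B C

theorem ess_of_comp {A B C : Type u} [CommRing A] [CommRing B] [CommRing C] {g : A →+* B} {h : B →+* C}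
    (hgh : (h.comp g).EssFiniteType) : h.EssFiniteType := by
  algebraize [g, h, h.comp g]
  exact Algebra.EssFiniteType.of_comp A B C

theorem ess_basicOpen {U : X.Opens} (hU : IsAffineOpen U) (r : Γ(X, U)) :
    (X.presheaf.map (homOfLE (X.basicOpen_le r)).op).hom.EssFiniteType := by
  have := hU.isLocalization_basicOpen r
  exact RingHom.essFiniteType_algebraMap.mpr
    (Algebra.EssFiniteType.of_isLocalization Γ(X, X.basicOpen r) (.powers r))

theorem coverOn_iff (f : X ⟶ Y) : LocEss f ↔ ∀ U : Y.affineOpens, CoverOn f U := by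
  refine ⟨fun H U => ⟨{V | ∃ e : V.1 ≤ f ⁻¹ᵁ U.1, (f.appLE U.1 V.1 e).hom.EssFiniteType}, ?_, fun V hV => hV⟩,
    fun H x U hx => ?_⟩
  · refine subset_antisymm (Set.iUnion₂_subset fun V hV => hV.1) fun x hx => ?_
    obtain ⟨V, e, hxV, hV⟩ := H x U hx
    exact Set.mem_biUnion (x := V) ⟨e, hV⟩ hxV
  · obtain ⟨T, hT, hTe⟩ := H U
    have : x ∈ ⋃ V ∈ T, ((V : X.Opens) : Set X) := hT ▸ hx
    obtain ⟨V, hV, hxV⟩ := Set.mem_iUnion₂.mp this
    obtain ⟨e, he⟩ := hTe V hV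
    exact ⟨V, e, hxV, he⟩

theorem locEss_of_cover (f : X ⟶ Y) (S : Set Y.affineOpens)
    (hS : (⋃ U ∈ S, ((U : Y.Opens) : Set Y)) = Set.univ) (h : ∀ U ∈ S, CoverOn f U) : LocEss f := by
  intro x U hxU
  obtain ⟨U₀, hU₀, hxU₀⟩ := Set.mem_iUnion₂.mp (hS ▸ Set.mem_univ (f x) :)
  obtain ⟨T, hT, hTe⟩ := h U₀ hU₀
  have : x ∈ ⋃ V ∈ T, ((V : X.Opens) : Set X) := hT ▸ hxU₀
  obtain ⟨V₀, hV₀, hxV₀⟩ := Set.mem_iUnion₂.mp this
  obtain ⟨e₀, he₀⟩ := hTe V₀ hV₀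
  obtain ⟨r, r₀, hrr, hxr⟩ := exists_basicOpen_le_affine_inter U.2 U₀.2 (f x) ⟨hxU, hxU₀⟩
  let D := Y.basicOpen r
  have hD₀ : D ≤ U₀.1 := hrr.le.trans (Y.basicOpen_le r₀)
  have hD₀e : (Y.presheaf.map (homOfLE hD₀).op).hom.EssFiniteType := by
    have key : ∀ (D' : Y.Opens) (h : D' ≤ U₀.1), D' = Y.basicOpen r₀ →
        (Y.presheaf.map (homOfLE h).op).hom.EssFiniteType := by
      rintro _ h rfl; exact ess_basicOpen U₀.2 r₀
    exact key D hD₀ hrr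
  let s := f.appLE U₀.1 V₀.1 e₀ r₀
  let V : X.affineOpens := ⟨X.basicOpen s, V₀.2.basicOpen s⟩
  have hs : X.basicOpen s = V₀.1 ⊓ f ⁻¹ᵁ D := by
    rw [show D = Y.basicOpen r₀ from hrr, Scheme.preimage_basicOpen]
    show X.basicOpen (X.presheaf.map (homOfLE e₀).op (f.app U₀.1 r₀)) = _
    rw [Scheme.basicOpen_res]
  have hVD : V.1 ≤ f ⁻¹ᵁ D := hs.le.trans inf_le_right
  refine ⟨V, hVD.trans (f.preimage_mono (Y.basicOpen_le r)), ?_, ?_⟩
  · show x ∈ X.basicOpen s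
    rw [hs]; exact ⟨hxV₀, hxr⟩
  · have h1 : (f.appLE U₀.1 V₀.1 e₀ ≫ X.presheaf.map (homOfLE (X.basicOpen_le s)).op).hom.EssFiniteType :=
      ess_comp he₀ (ess_basicOpen V₀.2 s)
    rw [Scheme.Hom.appLE_map, ← Scheme.Hom.map_appLE f hVD (homOfLE hD₀).op] at h1
    have h2 : (f.appLE D V.1 hVD).hom.EssFiniteType := ess_of_comp h1
    rw [← Scheme.Hom.map_appLE f hVD (homOfLE (Y.basicOpen_le r)).op]
    exact ess_comp (ess_basicOpen U.2 r) h2

theorem quasiCompact_cover_iff (f : X ⟶ Y) :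
    LocEss f ∧ QuasiCompact f ↔ ∀ U : Y.affineOpens, ∃ T : Set X.affineOpens, T.Finite ∧
      (⋃ V ∈ T, ((V : X.Opens) : Set X)) = ((f ⁻¹ᵁ (U : Y.Opens)) : Set X) ∧
      ∀ V ∈ T, ∃ e : (V : X.Opens) ≤ f ⁻¹ᵁ (U : Y.Opens),
        (f.appLE (U : Y.Opens) (V : X.Opens) e).hom.EssFiniteType := by
  constructor
  · rintro ⟨H, hq⟩ U
    obtain ⟨T, hT, hTe⟩ := (coverOn_iff f).mp H U
    have hc : IsCompact ((f ⁻¹ᵁ U.1 : X.Opens) : Set X) := f.isCompact_preimage U.2.isCompact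
    obtain ⟨T', hT'T, hfin, hsub⟩ := hc.elim_finite_subcover_image (b := T)
      (c := fun V => ((V : X.Opens) : Set X)) (fun V _ => V.1.2) hT.ge
    refine ⟨T', hfin, subset_antisymm ?_ hsub, fun V hV => hTe V (hT'T hV)⟩
    exact (Set.biUnion_subset_biUnion_left hT'T).trans hT.le
  · intro H
    refine ⟨(coverOn_iff f).mpr fun U => ?_, quasiCompact_iff_forall_isAffineOpen.mpr fun U hU => ?_⟩
    · obtain ⟨T, -, h1, h2⟩ := H U
      exact ⟨T, h1, h2⟩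
    · obtain ⟨T, hfin, h1, -⟩ := H ⟨U, hU⟩
      show IsCompact ((f ⁻¹ᵁ U : X.Opens) : Set X)
      rw [← h1]
      exact hfin.isCompact_biUnion fun V _ => V.2.isCompact

theorem locEss_comp (f : X ⟶ Y) (g : Y ⟶ Z) (hf : LocEss f) (hg : LocEss g) : LocEss (f ≫ g) := by
  intro x U hxU
  obtain ⟨V₁, e₁, hx₁, h₁⟩ := hg (f x) U hxU
  obtain ⟨V, e, hx, h⟩ := hf x V₁ hx₁
  refine ⟨V, e.trans (f.preimage_mono e₁), hx, ?_⟩
  rw [← Scheme.Hom.appLE_comp_appLE f g U.1 V₁.1 V.1 e₁ e]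
  exact ess_comp h₁ h

theorem locEss_baseChange (f : X ⟶ Y) (g : Z ⟶ Y) (hf : LocEss f) : LocEss (pullback.snd f g) := by
  intro p U hpU
  obtain ⟨U₀, hU₀, hpU₀, -⟩ := exists_isAffineOpen_mem_and_subset (Opens.mem_top (g (pullback.snd f g p)))
  obtain ⟨s, hsle, hs⟩ := U.2.exists_basicOpen_le (V := g ⁻¹ᵁ U₀) ⟨pullback.snd f g p, hpU₀⟩ hpU
  let D : Z.affineOpens := ⟨Z.basicOpen s, U.2.basicOpen s⟩
  have hx₀ : f (pullback.fst f g p) ∈ U₀ := by
    rw [← Scheme.Hom.comp_apply, pullback.condition, Scheme.Hom.comp_apply]; exact hpU₀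
  obtain ⟨V₀, e₀, hxV₀, h₀⟩ := hf (pullback.fst f g p) ⟨U₀, hU₀⟩ hx₀
  let W := pullback.fst f g ⁻¹ᵁ V₀.1 ⊓ pullback.snd f g ⁻¹ᵁ D.1
  have hW : IsAffineOpen W := by
    have : IsAffine _ := V₀.2
    have : IsAffine _ := D.2
    have : IsAffine _ := hU₀
    exact .of_isIso (Scheme.Hom.isPullback_resLE (IsPullback.of_hasPullback f g) hsle e₀ rfl).isoPullback.hom
  have hWD : W ≤ pullback.snd f g ⁻¹ᵁ D.1 := inf_le_right
  refine ⟨⟨W, hW⟩, hWD.trans ((pullback.snd f g).preimage_mono (Z.basicOpen_le s)), ⟨hxV₀, hs⟩, ?_⟩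
  rw [← Scheme.Hom.map_appLE (pullback.snd f g) hWD (homOfLE (Z.basicOpen_le s)).op]
  refine ess_comp (ess_basicOpen U.2 s) ?_
  let φ := f.appLE U₀ V₀.1 e₀
  let ψ := g.appLE U₀ D.1 hsle
  algebraize [φ.hom, ψ.hom]
  have := isIso_pushoutSection_of_isAffineOpen (IsPullback.of_hasPullback f g) (UY := W) hsle e₀ rfl hU₀ D.2 V₀.2
  have sq := (isIso_pushoutSection_iff (IsPullback.of_hasPullback f g) (UY := W) hsle e₀ rfl).mp this
  let i := IsPushout.isoIsPushout _ _ sq.flip (CommRingCat.isPushout_tensorProduct Γ(Y, U₀) Γ(Z, D.1) Γ(X, V₀.1))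
  have hr : (pullback.snd f g).appLE D.1 W hWD =
      CommRingCat.ofHom Algebra.TensorProduct.includeLeftRingHom ≫ i.inv :=
    (IsPushout.inl_isoIsPushout_inv _ _ sq.flip (CommRingCat.isPushout_tensorProduct Γ(Y, U₀) Γ(Z, D.1) Γ(X, V₀.1))).symm
  rw [show (pullback.snd f g).appLE D.1 W hWD = _ from hr]
  refine ess_comp ?_ (RingHom.FiniteType.essFiniteType (RingHom.FiniteType.of_surjective _
    (ConcreteCategory.bijective_of_isIso i.inv).2))
  exact RingHom.essFiniteType_algebraMap.mpr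
    (inferInstance : Algebra.EssFiniteType Γ(Z, D.1) (Γ(Z, D.1) ⊗[Γ(Y, U₀)] Γ(X, V₀.1)))

end Groth.Agent.H17.LocEFT
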