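import Groth.Prelude.Def_Found
import Groth.Agent.S0573
import Groth.Agent.H17.Topology
import Groth.Agent.H17.Fibre
import Groth.Agent.H17.LocEFT
import Mathlib.AlgebraicGeometry.Normalization
import Mathlib.AlgebraicGeometry.Morphisms.Finite
import Mathlib.RingTheory.RingHom.EssFiniteType
import Mathlib.AlgebraicGeometry.ResidueField

/-!
Finiteness of relative normalisations over Nagata schemes.
-/

set_option autoImplicit false
set_option linter.style.haveILetI false

universe u

open CategoryTheory CategoryTheory.Limits AlgebraicGeometry TopologicalSpace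

namespace Groth.Agent.H17.NagataNorm

/-- Over a Nagata ring the integral closure in an essentially finite type field is finite. -/
theorem finite_integralClosure_field (R : Type u) [CommRing R] (hR : CAlg.IsNagata R)
    (L : Type u) [Field L] [Algebra R L] [Algebra.EssFiniteType R L] :
    Module.Finite R (integralClosure R L) := by
  classical
  haveI := hR.1
  let p : Ideal R := RingHom.ker (algebraMap R L)
  haveI : p.IsPrime := RingHom.ker_isPrime _
  let D := R ⧸ p
  let g : D →+* L := RingHom.kerLift (algebraMap R L)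
  have hg : Function.Injective g := RingHom.kerLift_injective _
  letI : Algebra D L := g.toAlgebra
  haveI : IsScalarTower R D L := IsScalarTower.of_algebraMap_eq fun r => rfl
  letI : Algebra (FractionRing D) L := (IsFractionRing.lift hg).toAlgebra
  haveI : IsScalarTower D (FractionRing D) L :=
    IsScalarTower.of_algebraMap_eq fun z => (IsFractionRing.lift_algebraMap hg z).symm
  haveI : IsScalarTower R (FractionRing D) L := IsScalarTower.of_algebraMap_eq fun r => by
    rw [IsScalarTower.algebraMap_apply R D L, IsScalarTower.algebraMap_apply D (FractionRing D) L,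
      ← IsScalarTower.algebraMap_apply R D (FractionRing D)]
  haveI : Algebra.EssFiniteType (FractionRing D) L := .of_comp R (FractionRing D) L
  let K0 := algebraicClosure (FractionRing D) L
  haveI : FiniteDimensional (FractionRing D) K0 :=
    Groth.Agent.H1CAlg.finiteDimensional_algebraicClosure (FractionRing D) L
  haveI : Module.Finite D (integralClosure D K0) := hR.2 p K0 ‹_›
  haveI : IsScalarTower D K0 L := IsScalarTower.of_algebraMap_eq fun _ => rfl
  haveI : IsScalarTower R D K0 :=
    IsScalarTower.of_algebraMap_eq fun r => Subtype.ext (IsScalarTower.algebraMap_apply R D L r)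
  haveI : Module.Finite R D :=
    Module.Finite.of_surjective (Ideal.Quotient.mkₐ R p).toLinearMap Ideal.Quotient.mk_surjective
  haveI : Module.Finite R (integralClosure D K0) := Module.Finite.trans D _
  have hint : ∀ z : integralClosure R L, IsIntegral D (z : L) := fun z => IsIntegral.tower_top (R := R) z.2
  have hK0 : ∀ z : integralClosure R L, (z : L) ∈ K0 := fun z =>
    mem_algebraicClosure_iff.mpr ((hint z).tower_top.isAlgebraic)
  let j : integralClosure R L →ₗ[R] integralClosure D K0 :=
    { toFun := fun z => ⟨⟨_, hK0 z⟩, (isIntegral_algHom_iff (IsScalarTower.toAlgHom D K0 L)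
        Subtype.val_injective).mp (hint z)⟩
      map_add' := fun u v => rfl
      map_smul' := fun c u => rfl }
  exact Module.Finite.of_injective j fun u v huv =>
    Subtype.ext (congrArg (fun w : integralClosure D K0 => ((w : K0) : L)) huv)

/-- Over a Nagata ring the integral closure in a ring with enough essentially finite type residue fields is finite. -/
theorem finite_integralClosure_of_jointly_injective {ι : Type u} [Finite ι] (R A : Type u) [CommRing R]
    (hR : CAlg.IsNagata R) [CommRing A] [Algebra R A] (L : ι → Type u) [∀ i, Field (L i)]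
    (e : ∀ i, A →+* L i) (he : ∀ i, ((e i).comp (algebraMap R A)).EssFiniteType)
    (hinj : ∀ a, (∀ i, e i a = 0) → a = 0) :
    Module.Finite R (integralClosure R A) := by
  classical
  haveI := hR.1
  letI : ∀ i, Algebra R (L i) := fun i => ((e i).comp (algebraMap R A)).toAlgebra
  haveI : ∀ i, Module.Finite R (integralClosure R (L i)) := fun i =>
    @finite_integralClosure_field R _ hR (L i) _ _ (he i)
  let φ : ∀ i, A →ₐ[R] L i := fun i => { e i with commutes' := fun r => rfl }
  let j : integralClosure R A →ₗ[R] ((i : ι) → integralClosure R (L i)) :=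
    LinearMap.pi fun i => (((φ i).comp (integralClosure R A).val).codRestrict _
      fun z => z.2.map (φ i)).toLinearMap
  exact Module.Finite.of_injective j ((injective_iff_map_eq_zero j).mpr fun z hz => Subtype.ext
    (hinj z.1 fun i => congrArg Subtype.val (congrFun hz i)))

theorem essFiniteType_residueField {S : Scheme.{u}} {U : S.Opens} (hU : IsAffineOpen U) (s : S) (hs : s ∈ U) :
    (S.evaluation U s hs).hom.EssFiniteType := by
  have h1 : (S.presheaf.germ U s hs).hom.EssFiniteType := by
    letI := TopCat.Presheaf.algebra_section_stalk S.presheaf ⟨s, hs⟩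
    haveI := hU.isLocalization_stalk ⟨s, hs⟩
    exact RingHom.essFiniteType_algebraMap.mpr
      (Algebra.EssFiniteType.of_isLocalization _ (hU.primeIdealOf ⟨s, hs⟩).asIdeal.primeCompl)
  exact RingHom.EssFiniteType.comp h1
    (RingHom.FiniteType.of_surjective _ (Scheme.residue_surjective S s)).essFiniteType

theorem finite_generic {X : Scheme.{u}} (hfin : LocallyFinite (fun Z : ↥(irreducibleComponents ↥X) => (Z : Set ↥X)))
    {W : X.Opens} (hW : IsCompact (W : Set X)) :
    {x : X | closure {x} ∈ irreducibleComponents ↥X ∧ x ∈ W}.Finite := by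
  have h := hfin.finite_nonempty_inter_compact hW
  refine Set.Finite.of_finite_image (f := fun x => closure ({x} : Set X)) ((h.image Subtype.val).subset ?_) ?_
  · rintro _ ⟨x, ⟨hx, hxW⟩, rfl⟩
    exact ⟨⟨_, hx⟩, ⟨x, subset_closure rfl, hxW⟩, rfl⟩
  · intro x _ y _ hxy
    exact ((isGenericPoint_closure (x := x)).eq (isGenericPoint_def.2 hxy.symm :))

theorem finite_fromNormalization {X S : Scheme.{u}} (f : X ⟶ S)
    [QuasiCompact f] [QuasiSeparated f] [IsReduced X]
    (hS : ∀ U : S.affineOpens, CAlg.IsNagata Γ(S, U))
    (hfin : LocallyFinite (fun Z : ↥(irreducibleComponents ↥X) => (Z : Set ↥X)))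
    (hres : ∀ x : X, closure {x} ∈ irreducibleComponents ↥X → (f.residueFieldMap x).hom.EssFiniteType) :
    IsFinite f.fromNormalization := by
  rw [isFinite_iff]
  refine ⟨inferInstance, fun U hU => ?_⟩
  letI := (f.app U).hom.toAlgebra
  rw [f.fromNormalization_app hU, CommRingCat.hom_comp]
  refine RingHom.Finite.comp (RingHom.Finite.of_surjective _
    (ConcreteCategory.bijective_of_isIso (f.normalizationObjIso hU).inv).2) ?_
  show (algebraMap Γ(S, U) (integralClosure Γ(S, U) Γ(X, f ⁻¹ᵁ U))).Finite
  rw [RingHom.finite_algebraMap]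
  have hW : IsCompact (f ⁻¹ᵁ U : Set X) := QuasiCompact.isCompact_preimage (U : Set S) U.2 hU.isCompact
  let G := {x : X | closure {x} ∈ irreducibleComponents ↥X ∧ x ∈ f ⁻¹ᵁ U}
  haveI : Finite G := (finite_generic hfin hW).to_subtype
  refine finite_integralClosure_of_jointly_injective Γ(S, U) Γ(X, f ⁻¹ᵁ U) (hS ⟨U, hU⟩)
    (fun x : G => (X.residueField x.1 : Type u)) (fun x => (X.evaluation (f ⁻¹ᵁ U) x.1 x.2.2).hom) ?_ ?_
  · intro x
    have := RingHom.EssFiniteType.comp (essFiniteType_residueField hU (f x.1) x.2.2) (hres x.1 x.2.1)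
    rw [← CommRingCat.hom_comp, Scheme.evaluation_naturality] at this
    exact this
  · intro a ha
    refine (basicOpen_eq_bot_iff a).1 (eq_bot_iff.2 fun y hy => ?_)
    obtain ⟨g, hg, hgy⟩ := H17.exists_genericPoint_specializes y
    have hga : g ∈ X.basicOpen a := hgy.mem_open (X.basicOpen a).2 hy
    exact absurd (ha ⟨g, hg, X.basicOpen_le a hga⟩)
      ((X.evaluation_eq_zero_iff_notMem_basicOpen g (X.basicOpen_le a hga) a).not.2 (not_not_intro hga))

theorem locallyFinite_irreducibleComponents (X : Scheme.{u}) [IsLocallyNoetherian X] :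
    LocallyFinite (fun Z : ↥(irreducibleComponents ↥X) => (Z : Set ↥X)) := by
  intro x
  obtain ⟨V, hV, hxV, -⟩ := exists_isAffineOpen_mem_and_subset (X := X) (x := x) (U := ⊤) trivial
  refine ⟨V, V.2.mem_nhds hxV, ?_⟩
  haveI : IsAffine V.toScheme := hV
  haveI : IsNoetherian V.toScheme := { toIsLocallyNoetherian := LocallyOfFiniteType.isLocallyNoetherian V.ι }
  refine Set.Finite.of_finite_image (f := fun Z : ↥(irreducibleComponents ↥X) => V.ι ⁻¹' Z.1)
    ((NoetherianSpace.finite_irreducibleComponents (α := V.toScheme)).subset ?_) ?_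
  · rintro _ ⟨Z, ⟨t, htZ, htV⟩, rfl⟩
    exact preimage_mem_irreducibleComponents Z.2 V.ι.isOpenEmbedding ⟨t, htZ, (Scheme.Opens.range_ι V).ge htV⟩
  · rintro ⟨Z, hZ⟩ ⟨t, htZ, htV⟩ ⟨Z', hZ'⟩ ⟨t', htZ', htV'⟩ e
    have e' : Z ∩ V = Z' ∩ V := by
      have := congrArg (fun A => V.ι '' A) e
      dsimp only at this
      rwa [Set.image_preimage_eq_inter_range, Set.image_preimage_eq_inter_range, Scheme.Opens.range_ι] at this
    refine Subtype.ext ?_
    have key : ∀ {Z₁ : Set X}, Z₁ ∈ irreducibleComponents X → (Z₁ ∩ V).Nonempty → closure (Z₁ ∩ V) = Z₁ := by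
      intro Z₁ h₁ hne
      exact (closure_minimal Set.inter_subset_left (isClosed_of_mem_irreducibleComponents _ h₁)).antisymm
        (subset_closure_inter_of_isPreirreducible_of_isOpen h₁.1.2 V.2 hne)
    exact (key hZ ⟨t, htZ, htV⟩).symm.trans ((congrArg closure e').trans (key hZ' ⟨t', htZ', htV'⟩))

theorem isLocallyNoetherian_of_nagata (S : Scheme.{u}) (hS : ∀ U : S.affineOpens, CAlg.IsNagata Γ(S, U)) :
    IsLocallyNoetherian S := ⟨fun U => (hS U).1⟩

theorem finite_fromNormalization_of_finiteType {X S : Scheme.{u}} (f : X ⟶ S)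
    [LocallyOfFiniteType f] [QuasiCompact f] [QuasiSeparated f] [IsReduced X]
    (hS : ∀ U : S.affineOpens, CAlg.IsNagata Γ(S, U)) : IsFinite f.fromNormalization := by
  haveI := isLocallyNoetherian_of_nagata S hS
  haveI := LocallyOfFiniteType.isLocallyNoetherian f
  exact finite_fromNormalization f hS (locallyFinite_irreducibleComponents X)
    fun x _ => RingHom.EssFiniteType.residueFieldMap (LocallyOfFiniteType.stalkMap f x)

end Groth.Agent.H17.NagataNorm
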