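import Groth.Agent.H17.Reduced
import Groth.Agent.H19Grp.SchDense

/-! Scheme-theoretically dense open subschemes. -/

universe u
open CategoryTheory AlgebraicGeometry TopologicalSpace

namespace Groth.Agent.H17

theorem ker_eq_bot_homOfLE_of_injective {X : Scheme.{u}} (U W : X.Opens)
    (hU : ∀ V : X.Opens, Function.Injective
      (X.presheaf.map (homOfLE (inf_le_left : V ⊓ U ≤ V)).op)) :
    (X.homOfLE (inf_le_right : U ⊓ W ≤ W)).ker = ⊥ := by
  have hr : Set.range (X.homOfLE (inf_le_right : U ⊓ W ≤ W)) = Set.range (W.ι ⁻¹ᵁ U).ι := by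
    rw [Scheme.Opens.range_ι]
    ext x
    constructor
    · rintro ⟨y, rfl⟩
      show (X.homOfLE (inf_le_right : U ⊓ W ≤ W) y).1 ∈ U
      rw [Scheme.homOfLE_apply]; exact y.2.1
    · intro hx
      exact ⟨⟨x.1, hx, x.2⟩, Subtype.ext (Scheme.homOfLE_apply _ _)⟩
  let e := IsOpenImmersion.isoOfRangeEq (X.homOfLE (inf_le_right : U ⊓ W ≤ W)) (W.ι ⁻¹ᵁ U).ι hr
  have h1 : (W.ι ⁻¹ᵁ U).ι.ker = ⊥ := by
    refine Groth.Agent.H19Grp.ker_opens_ι_eq_bot _ fun V => ?_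
    have key : W.ι ''ᵁ (V ⊓ W.ι ⁻¹ᵁ U) = W.ι ''ᵁ V ⊓ U := by
      ext1
      exact Set.image_inter_preimage _ _ _
    intro a b hab
    apply hU (W.ι ''ᵁ V)
    have h2 : W.ι ''ᵁ (V ⊓ W.ι ⁻¹ᵁ U) ≤ W.ι ''ᵁ V := W.ι.image_mono inf_le_left
    change X.presheaf.map (homOfLE h2).op a = X.presheaf.map (homOfLE h2).op b at hab
    have := congrArg (X.presheaf.map (homOfLE key.ge).op) hab
    rw [← ConcreteCategory.comp_apply, ← ConcreteCategory.comp_apply, ← Functor.map_comp] at this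
    exact this
  have : IsSchemeTheoreticallyDominant (W.ι ⁻¹ᵁ U).ι := ⟨h1⟩
  rw [← IsOpenImmersion.isoOfRangeEq_hom_fac (X.homOfLE (inf_le_right : U ⊓ W ≤ W)) (W.ι ⁻¹ᵁ U).ι hr]
  exact IsSchemeTheoreticallyDominant.ker_eq_bot _

theorem isSchemeTheoreticallyDominant_homOfLE_of_dense {X : Scheme.{u}} [IsReduced X] (U W : X.Opens)
    (hU : Dense (U : Set X)) :
    IsSchemeTheoreticallyDominant (X.homOfLE (inf_le_right : U ⊓ W ≤ W)) := by
  have : IsDominant (X.homOfLE (inf_le_right : U ⊓ W ≤ W)) := by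
    refine ⟨(hU.preimage W.2.isOpenEmbedding_subtypeVal.isOpenMap).mono (fun x hx => ?_)⟩
    exact ⟨⟨x.1, hx, x.2⟩, Subtype.ext (Scheme.homOfLE_apply _ _)⟩
  exact .of_isDominant _

theorem ker_toImage {X Y : Scheme.{u}} (f : X ⟶ Y) [QuasiCompact f] : f.toImage.ker = ⊥ := by
  refine Scheme.IdealSheafData.ext_of_iSup_eq_top
    (fun U : Y.affineOpens => (⟨f.imageι ⁻¹ᵁ U.1, U.2.preimage f.imageι⟩ : f.image.affineOpens)) ?_ fun U => ?_
  · refine eq_top_iff.mpr fun x _ => ?_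
    obtain ⟨V, hV, hxV, -⟩ := exists_isAffineOpen_mem_and_subset (Opens.mem_top (f.imageι x))
    exact Opens.mem_iSup.mpr ⟨⟨V, hV⟩, hxV⟩
  · rw [Scheme.Hom.ker_apply, Scheme.IdealSheafData.ideal_bot]
    exact (RingHom.injective_iff_ker_eq_bot _).mp (f.toImage_app_injective U)

end Groth.Agent.H17
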