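import Groth.Agent.H17.PullSect

set_option autoImplicit false
universe u

open CategoryTheory CategoryTheory.Limits AlgebraicGeometry Opposite TensorProduct

namespace Groth.Agent.H17.OmegaBij

open PullSect OmegaAffine

theorem exists_tilde_iso (R : CommRingCat.{u}) (F : (Spec R).Modules) (h : F.IsQuasicoherent) :
    ∃ N : ModuleCat.{u} R, Nonempty (F ≅ (tilde.functor R).obj N) := by
  have := (isQuasicoherent_iff_isIso_fromTildeΓ F).mp h
  exact ⟨_, ⟨(asIso F.fromTildeΓ).symm⟩⟩

variable (A B : Type u) [CommRing A] [CommRing B] [Algebra A B]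

set_option quotPrecheck false
local notation "f" => Spec.map (CommRingCat.ofHom (algebraMap A B))
local notation "P" => pullback f f
local notation "J" => (pullback.diagonal f).ker
local notation "μ" => CommRingCat.ofHom (Algebra.TensorProduct.lmul' A (S := B)).toRingHom

theorem isQuot_diagonal : IsQuot (pullback.diagonal f) (ClSub.idealMod J) := by
  let e := (pullbackSpecIso A B B).symm
  have hs : Function.Surjective (μ).hom := fun x => ⟨x ⊗ₜ 1, by simp⟩
  have : IsClosedImmersion (Spec.map μ) := IsClosedImmersion.spec_of_surjective _ hs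
  have hd : pullback.diagonal f = Spec.map μ ≫ e.hom := diagonal_SpecMap A B
  obtain ⟨a⟩ := kernel_idealMod_aux (pullback.diagonal f)
  have h0 : (Coh.structureModule P).IsQuasicoherent := H10Coh.isQuasicoherent_unit
  have h0' : (Coh.structureModule (Spec (CommRingCat.of B))).IsQuasicoherent := H10Coh.isQuasicoherent_unit
  have h1 : ((Scheme.Modules.pushforward (pullback.diagonal f)).obj
      (Coh.structureModule (Spec (CommRingCat.of B)))).IsQuasicoherent :=
    H10Coh.isQuasicoherent_pushforward_of_isAffineHom _ _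
  have hK : (kernel (ClSub.unitToPush (pullback.diagonal f))).IsQuasicoherent := H10Coh.isQuasicoherent_kernel _
  let K := kernel (ClSub.unitToPush (pullback.diagonal f))
  let T := CommRingCat.of (B ⊗[A] B)
  let F : (Spec T).Modules := (Scheme.Modules.pushforward e.inv).obj K
  have h2 : F.IsQuasicoherent := H10Coh.isQuasicoherent_pushforward_of_isAffineHom e.inv K
  obtain ⟨N, ⟨c⟩⟩ := exists_tilde_iso T F h2
  let i : (Scheme.Modules.pullback e.hom).obj K ≅ (tilde.functor T).obj N := (pullbackIso e).app K ≪≫ c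
  have q0 : IsQuot (Spec.map μ) ((tilde.functor T).obj N) := isQuot_Spec (R := T) μ hs N
  have q1 : IsQuot (Spec.map μ ≫ e.hom) K := IsQuot.comp_iso e (IsQuot.of_iso i q0)
  have H : IsQuot (Spec.map μ ≫ e.hom) (ClSub.idealMod J) := IsQuot.of_iso a q1
  have key : ∀ (g : Spec (CommRingCat.of B) ⟶ P), g = pullback.diagonal f →
      IsQuot g (ClSub.idealMod J) → IsQuot (pullback.diagonal f) (ClSub.idealMod J) := by
    rintro _ rfl h; exact h
  exact key _ hd.symm H

noncomputable def rho : Γ(P, ⊤) →+* B ⊗[A] B :=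
  (Scheme.ΓSpecIso (CommRingCat.of (B ⊗[A] B))).hom.hom.comp ((pullbackSpecIso A B B).inv.app ⊤).hom

theorem rho_injective : Function.Injective (rho A B) :=
  (ConcreteCategory.bijective_of_isIso (Scheme.ΓSpecIso (CommRingCat.of (B ⊗[A] B))).hom).1.comp
    (ConcreteCategory.bijective_of_isIso ((pullbackSpecIso A B B).inv.app ⊤)).1

theorem rho_surjective : Function.Surjective (rho A B) :=
  (ConcreteCategory.bijective_of_isIso (Scheme.ΓSpecIso (CommRingCat.of (B ⊗[A] B))).hom).2.comp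
    (ConcreteCategory.bijective_of_isIso ((pullbackSpecIso A B B).inv.app ⊤)).2

theorem diagonal_app_eq (r : Γ(P, ⊤)) :
    (pullback.diagonal f).app ⊤ r = OmAff.toΓ B ((μ).hom (rho A B r)) := by
  have key : ∀ (g : Spec (CommRingCat.of B) ⟶ P), g = pullback.diagonal f →
      (pullback.diagonal f).appTop r = g.appTop r := by
    rintro _ rfl; rfl
  refine (key _ (diagonal_SpecMap A B).symm).trans ?_
  rw [Scheme.Hom.comp_appTop, CommRingCat.comp_apply]
  have h := congr($(Scheme.ΓSpecIso_inv_naturality μ) (rho A B r))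
  refine Eq.trans (congrArg _ ?_) h.symm
  exact ((Scheme.ΓSpecIso (CommRingCat.of (B ⊗[A] B))).commRingCatIsoToRingEquiv.symm_apply_apply _).symm

theorem rho_appLE_proj (p : P ⟶ Spec (CommRingCat.of B)) (ι : B →+* B ⊗[A] B)
    (hp : (pullbackSpecIso A B B).inv ≫ p = Spec.map (CommRingCat.ofHom ι)) (b : B) :
    rho A B (p.appTop (OmAff.toΓ B b)) = ι b := by
  show (Scheme.ΓSpecIso _).hom ((pullbackSpecIso A B B).inv.appTop (p.appTop _)) = _
  rw [show (pullbackSpecIso A B B).inv.appTop (p.appTop (OmAff.toΓ B b)) =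
      ((pullbackSpecIso A B B).inv ≫ p).appTop (OmAff.toΓ B b) by rw [Scheme.Hom.comp_appTop]; rfl, hp]
  exact ((congrArg _ (congr($(Scheme.ΓSpecIso_inv_naturality (CommRingCat.ofHom ι)) b)).symm).trans
    ((Scheme.ΓSpecIso (CommRingCat.of (B ⊗[A] B))).commRingCatIsoToRingEquiv.apply_symm_apply _))

theorem top_le_nhd : (⊤ : (P).Opens) ≤ OmegaSh.diagNbhd f ⊤ := le_inf le_top le_top

noncomputable def θ : Γ(ClSub.idealMod J, ⊤) →+ B ⊗[A] B :=
  (rho A B).toAddMonoidHom.comp (OmegaSh.idealSect J ⊤)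

noncomputable def lft (b : B) : Γ(ClSub.idealMod J, ⊤) :=
  (ClSub.idealMod J).presheaf.map (homOfLE (top_le_nhd A B)).op (OmegaSh.idealLift f ⊤ (OmAff.toΓ B b))

theorem θ_injective : Function.Injective (θ A B) :=
  (rho_injective A B).comp (OmegaSh.idealModι_app_injective (W := ⊤) J)

theorem θ_smul (r : Γ(P, ⊤)) (m : Γ(ClSub.idealMod J, ⊤)) : θ A B (r • m) = rho A B r * θ A B m := by
  show rho A B (OmegaSh.fnSect _ ⊤ ((ClSub.idealModι J).app ⊤ (r • m))) = _
  rw [Scheme.Modules.Hom.app_smul]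
  exact map_mul (rho A B) r _

theorem θ_mem (m : Γ(ClSub.idealMod J, ⊤)) : θ A B m ∈ KaehlerDifferential.ideal A B := by
  let x : Γ(P, ⊤) := OmegaSh.idealSect J ⊤ m
  have h1 : (J).subschemeι.app ⊤ x = 0 := by
    show (ClSub.idealModι J ≫ ClSub.toSubscheme J).app ⊤ m = 0
    rw [show ClSub.idealModι J ≫ ClSub.toSubscheme J = 0 from kernel.condition _]; rfl
  have h2 : (pullback.diagonal f).app ⊤ x = 0 := by
    have key : ∀ (g : Spec (CommRingCat.of B) ⟶ P), g = pullback.diagonal f →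
      (pullback.diagonal f).appTop x = g.appTop x := by
      rintro _ rfl; rfl
    refine (key _ (pullback.diagonal f).toImage_imageι).trans ?_
    rw [Scheme.Hom.comp_appTop, CommRingCat.comp_apply]
    exact (congrArg _ h1).trans (map_zero _)
  show (μ).hom (rho A B x) = 0
  apply (ConcreteCategory.bijective_of_isIso (Scheme.ΓSpecIso (CommRingCat.of B)).inv).1
  exact ((diagonal_app_eq A B x).symm.trans h2).trans (map_zero _).symm

theorem θ_lft (b : B) : θ A B (lft A B b) = (1 : B) ⊗ₜ[A] b - b ⊗ₜ[A] 1 := by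
  show rho A B (OmegaSh.fnSect _ ⊤ ((ClSub.idealModι J).app ⊤ _)) = _
  rw [lft, OmegaSh.idealModι_app_map, OmegaSh.ι_idealLift, ← OmegaSh.strSect_map]
  show rho A B ((P).presheaf.map (homOfLE (top_le_nhd A B)).op (OmegaSh.diagDiff f ⊤ (OmAff.toΓ B b))) = _
  have key : ∀ (p : P ⟶ Spec (CommRingCat.of B)) (h : OmegaSh.diagNbhd f ⊤ ≤ p ⁻¹ᵁ ⊤) (x),
      (P).presheaf.map (homOfLE (top_le_nhd A B)).op (p.appLE ⊤ (OmegaSh.diagNbhd f ⊤) h x) = p.appTop x := by
    intro p h x
    refine (congr($(Scheme.Hom.appLE_map p h (homOfLE (top_le_nhd A B)).op) x)).trans ?_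
    exact congr($((Scheme.Hom.app_eq_appLE p (U := ⊤)).symm) x)
  rw [OmegaSh.diagDiff, map_sub, map_sub]
  refine congrArg₂ (· - ·) ?_ ?_
  · exact (congrArg _ (key _ _ _)).trans (rho_appLE_proj A B _
      (Algebra.TensorProduct.includeRight (R := A) (A := B)).toRingHom (pullbackSpecIso_inv_snd A B B) b)
  · exact (congrArg _ (key _ _ _)).trans (rho_appLE_proj A B _ _ (pullbackSpecIso_inv_fst A B B) b)

theorem pullSect_lft (b : B) :
    OmegaSh.pullSect (pullback.diagonal f) (ClSub.idealMod J) ⊤ (lft A B b) =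
      OmegaSh.dSect f ⊤ (OmAff.toΓ B b) :=
  OmegaSh.pullSect_map _ _ _ _

noncomputable def Φ : Γ(ClSub.idealMod J, ⊤) →+ Γ(Omega.sheaf f, ⊤) :=
  (OmegaSh.pullSect (pullback.diagonal f) (ClSub.idealMod J) ⊤).hom

theorem Φ_smul (r : Γ(P, ⊤)) (m : Γ(ClSub.idealMod J, ⊤)) :
    Φ A B (r • m) = OmAff.toΓ B ((μ).hom (rho A B r)) • Φ A B m :=
  (OmegaSh.pullSect_smul _ _ _ _ _).trans
    (congrArg (fun (t : Γ(Spec (CommRingCat.of B), ⊤)) => t • Φ A B m) (diagonal_app_eq A B r))

theorem exists_θ_eq {x : B ⊗[A] B} (hx : x ∈ KaehlerDifferential.ideal A B) :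
    ∃ m, θ A B m = x ∧ ∀ (h : x ∈ KaehlerDifferential.ideal A B),
      Φ A B m = OmAff.toSpec A B ((KaehlerDifferential.ideal A B).toCotangent ⟨x, h⟩) := by
  have hx' : x ∈ Ideal.span (Set.range fun s : B => (1 : B) ⊗ₜ[A] s - s ⊗ₜ[A] (1 : B)) := by
    rwa [KaehlerDifferential.span_range_eq_ideal]
  clear hx
  induction hx' using Submodule.span_induction with
  | mem y hy =>
    obtain ⟨b, rfl⟩ := hy
    refine ⟨lft A B b, θ_lft A B b, fun h => ?_⟩
    refine (pullSect_lft A B b).trans ((OmAff.toSpec_D A B b).symm.trans (congrArg _ ?_))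
    rw [KaehlerDifferential.D_apply]
  | zero => exact ⟨0, map_zero _, fun h => by rw [map_zero]; exact (map_zero (OmAff.toSpec A B)).symm⟩
  | add y z hy hz iy iz =>
    obtain ⟨m, hm, hm'⟩ := iy; obtain ⟨n, hn, hn'⟩ := iz
    refine ⟨m + n, by rw [map_add, hm, hn], fun h => ?_⟩
    have my : y ∈ KaehlerDifferential.ideal A B := hm ▸ θ_mem A B m
    have mz : z ∈ KaehlerDifferential.ideal A B := hn ▸ θ_mem A B n
    rw [map_add, hm' my, hn' mz, ← map_add]
    exact congrArg _ (map_add (KaehlerDifferential.ideal A B).toCotangent ⟨y, my⟩ ⟨z, mz⟩).symm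
  | smul t y hy iy =>
    obtain ⟨m, hm, hm'⟩ := iy
    obtain ⟨r, rfl⟩ := rho_surjective A B t
    refine ⟨r • m, by rw [θ_smul, hm]; rfl, fun h => ?_⟩
    have my : y ∈ KaehlerDifferential.ideal A B := hm ▸ θ_mem A B m
    rw [Φ_smul, hm' my, ← LinearMap.map_smulₛₗ]
    congr 1
    let I := KaehlerDifferential.ideal A B
    show _ = I.toCotangent (rho A B r • (⟨y, my⟩ : I))
    rw [map_smul]
    symm
    let s := rho A B r
    have h0 : (s - ((μ).hom s) ⊗ₜ[A] (1 : B)) • I.toCotangent ⟨y, my⟩ = 0 := by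
      rw [← map_smul, Ideal.toCotangent_eq_zero, pow_two]
      exact Ideal.mul_mem_mul (RingHom.mem_ker.mpr (by simp)) my
    rw [sub_smul, sub_eq_zero] at h0
    exact h0.trans (algebraMap_smul (B ⊗[A] B) ((μ).hom s) _)

theorem bijective : Function.Bijective (OmAff.toSpec A B) := by
  have H := isQuot_diagonal A B
  have hΦ : ∀ m, Φ A B m =
      OmAff.toSpec A B ((KaehlerDifferential.ideal A B).toCotangent ⟨θ A B m, θ_mem A B m⟩) := by
    intro m
    obtain ⟨n, hn, hn'⟩ := exists_θ_eq A B (θ_mem A B m)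
    obtain rfl := θ_injective A B hn
    exact hn' _
  refine ⟨(injective_iff_map_eq_zero _).mpr fun w hw => ?_, fun z => ?_⟩
  · obtain ⟨⟨x, hx⟩, rfl⟩ := (KaehlerDifferential.ideal A B).toCotangent_surjective w
    obtain ⟨m, rfl, -⟩ := exists_θ_eq A B hx
    have h1 := H.2 m ((hΦ m).trans hw)
    refine (Ideal.toCotangent_eq_zero (KaehlerDifferential.ideal A B) ⟨_, hx⟩).mpr ?_
    rw [pow_two]
    show θ A B m ∈ _
    refine Submodule.smul_induction_on h1 (fun r hr n _ => ?_) (fun a b ha hb => by rw [map_add]; exact add_mem ha hb)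
    rw [θ_smul]
    refine Ideal.mul_mem_mul ?_ (θ_mem A B n)
    show (μ).hom (rho A B r) = 0
    apply (ConcreteCategory.bijective_of_isIso (Scheme.ΓSpecIso (CommRingCat.of B)).inv).1
    exact ((diagonal_app_eq A B r).symm.trans hr).trans (map_zero _).symm
  · obtain ⟨m, hm⟩ := H.1 z
    exact ⟨_, (hΦ m).symm.trans hm⟩

end Groth.Agent.H17.OmegaBij
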