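import Groth.Prelude.Def_P1
import Groth.Agent.H11Proj.ProjSpace
import Mathlib

/-!
# Fibres of `P^1_S → S` are irreducible
-/

set_option autoImplicit false
set_option linter.style.haveILetI false
universe u

open CategoryTheory CategoryTheory.Limits AlgebraicGeometry MvPolynomial CohB1

namespace Groth.Agent.H17.P1Fibre

open Groth.Agent.H11Proj.ProjSpace

/-- The coefficient ring. -/
abbrev A : Type u := ULift.{u} ℤ

/-- The variables of the chart `i`. -/
abbrev σ (i : Fin (1 + 1)) : Type := {j : Fin (1 + 1) // j ≠ i}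

theorem range_of_isIso {X Y : Scheme.{u}} (f : X ⟶ Y) [IsIso f] : Set.range f = Set.univ :=
  Set.range_eq_univ.mpr (Scheme.Hom.homeomorph f).surjective

/-- The `i`-th chart of `P^1_R`. -/
noncomputable def chart (R : Type u) [CommRing R] (i : Fin (1 + 1)) :
    Spec (CommRingCat.of (MvPolynomial (σ i) R)) ⟶ CohB1.ProjSpace 1 R :=
  Spec.map (CommRingCat.ofHom (chartInv 1 R i)) ≫
    Proj.awayι (polyGrading 1 R) (X i) (Groth.Agent.H11Proj.ProjSpace.X_mem 1 R i) one_pos

variable (R : Type u) [CommRing R]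

theorem chartInv_chartMap (i : Fin (1 + 1)) (p : MvPolynomial (σ i) R) :
    chartInv 1 R i (chartMap 1 R i p) = p := by
  suffices h : (chartInv 1 R i).comp (chartMap 1 R i) = RingHom.id _ from RingHom.congr_fun h p
  refine MvPolynomial.ringHom_ext (fun r => ?_) (fun j => ?_)
  · have h1 := RingHom.congr_fun (chartInv_awayProjHom 1 R i) (C r)
    rw [← chartMap_comp_dehom] at h1
    simpa [dehom] using h1
  · have h1 := RingHom.congr_fun (chartInv_awayProjHom 1 R i) (X j.1)
    rw [← chartMap_comp_dehom] at h1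
    simpa [dehom, j.2] using h1

theorem isIso_chartInv (i : Fin (1 + 1)) : IsIso (CommRingCat.ofHom (chartInv 1 R i)) := by
  refine (ConcreteCategory.isIso_iff_bijective _).2 ⟨fun a b h => ?_, fun p => ⟨_, chartInv_chartMap R i p⟩⟩
  obtain ⟨p, rfl⟩ := (chartMap_bijective 1 R i).2 a
  obtain ⟨q, rfl⟩ := (chartMap_bijective 1 R i).2 b
  exact congrArg _ ((chartInv_chartMap R i p).symm.trans (h.trans (chartInv_chartMap R i q)))

theorem range_chart (i : Fin (1 + 1)) :
    Set.range (chart R i) = SetLike.coe (Proj.basicOpen (polyGrading 1 R) (X i)) := by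
  haveI := isIso_chartInv R i
  rw [chart, Scheme.Hom.comp_base, TopCat.coe_comp, Set.range_comp,
    (Function.Surjective.range_eq ?_), Set.image_univ]
  · exact congrArg (fun U : (Proj (polyGrading 1 R)).Opens => SetLike.coe U)
      (Proj.opensRange_awayι (polyGrading 1 R) (X i) (Groth.Agent.H11Proj.ProjSpace.X_mem 1 R i) one_pos)
  · exact (Scheme.Hom.homeomorph (Spec.map (CommRingCat.ofHom (chartInv 1 R i)))).surjective

theorem chart_toSpec (i : Fin (1 + 1)) :
    chart R i ≫ CohB1.ProjSpace.toSpec 1 R =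
      Spec.map (CommRingCat.ofHom (algebraMap R (MvPolynomial (σ i) R))) := by
  rw [chart, Category.assoc]
  refine (congrArg (fun t => Spec.map (CommRingCat.ofHom (chartInv 1 R i)) ≫ t) (awayι_toSpec 1 R i)).trans ?_
  rw [← Spec.map_comp]
  congr 1
  exact CommRingCat.hom_ext (RingHom.ext fun r => chartInv_chartMap R i (C r))

theorem preconnectedSpace_pullback_chart (κ : Type u) [Field κ] [Algebra R κ] (i : Fin (1 + 1)) :
    PreconnectedSpace ↥(pullback
      (Spec.map (CommRingCat.ofHom (algebraMap R (MvPolynomial (σ i) R))))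
      (Spec.map (CommRingCat.ofHom (algebraMap R κ)))) := by
  haveI : IsDomain (TensorProduct R κ (MvPolynomial (σ i) R)) :=
    MulEquiv.isDomain (MvPolynomial (σ i) κ)
      (MvPolynomial.algebraTensorAlgEquiv (σ := σ i) R κ).toMulEquiv
  haveI : IsDomain (TensorProduct R (MvPolynomial (σ i) R) κ) :=
    MulEquiv.isDomain (TensorProduct R κ (MvPolynomial (σ i) R))
      (Algebra.TensorProduct.comm R (MvPolynomial (σ i) R) κ).toMulEquiv
  let e := pullbackSpecIso R (MvPolynomial (σ i) R) κ
  haveI : IrreducibleSpace ↥(Spec (CommRingCat.of (TensorProduct R (MvPolynomial (σ i) R) κ))) :=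
    inferInstanceAs (IrreducibleSpace (PrimeSpectrum _))
  constructor
  have h := (isPreconnected_univ (α := ↥(Spec (CommRingCat.of (TensorProduct R (MvPolynomial (σ i) R) κ))))).image
    e.inv e.inv.continuous.continuousOn
  rwa [Set.image_univ, range_of_isIso e.inv] at h

theorem isPreconnected_fibre (κ : Type u) [Field κ] [Algebra R κ] (g : Spec (CommRingCat.of κ) ⟶ Spec (CommRingCat.of R))
    (hg : g = Spec.map (CommRingCat.ofHom (algebraMap R κ))) :
    PreconnectedSpace ↥(pullback (CohB1.ProjSpace.toSpec 1 R) g) := by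
  let f := CohB1.ProjSpace.toSpec 1 R
  let W : Fin (1 + 1) → Set ↥(pullback f g) := fun i =>
    (pullback.fst f g) ⁻¹' SetLike.coe (Proj.basicOpen (polyGrading 1 R) (X i))
  have hW : ∀ i, _root_.IsPreconnected (W i) := fun i => by
    have hirr : PreconnectedSpace ↥(pullback (chart R i ≫ f) g) := by
      rw [chart_toSpec, hg]
      exact preconnectedSpace_pullback_chart R κ i
    have hr : W i = Set.range (pullback.snd (chart R i) (pullback.fst f g)) := by
      rw [Scheme.Pullback.range_snd, range_chart]; rfl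
    rw [hr]
    have h1 : _root_.IsPreconnected (Set.univ : Set ↥(pullback (chart R i ≫ f) g)) := isPreconnected_univ
    have h2 := h1.image ((pullbackRightPullbackFstIso f g (chart R i)).inv ≫
      pullback.snd (chart R i) (pullback.fst f g)) (Scheme.Hom.continuous _).continuousOn
    rwa [Set.image_univ, Scheme.Hom.comp_base, TopCat.coe_comp, Set.range_comp,
      range_of_isIso (pullbackRightPullbackFstIso f g (chart R i)).inv,
      Set.image_univ] at h2
  let v : σ 0 → κ := fun _ => 1
  let a : Spec (CommRingCat.of κ) ⟶ CohB1.ProjSpace 1 R :=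
    Spec.map (CommRingCat.ofHom (MvPolynomial.eval₂Hom (algebraMap R κ) v)) ≫ chart R 0
  have hw : a ≫ f = 𝟙 _ ≫ g := by
    rw [Category.id_comp, hg, Category.assoc, chart_toSpec, ← Spec.map_comp]
    congr 1
    exact CommRingCat.hom_ext (RingHom.ext fun r => by simp)
  let q : Spec (CommRingCat.of κ) ⟶ pullback f g :=
    pullback.lift a (𝟙 _) hw
  let z : ↥(Spec (CommRingCat.of κ)) := IsLocalRing.closedPoint κ
  have hq : ∀ i, q z ∈ W i := fun i => by
    show (q ≫ pullback.fst f g) z ∈ Proj.basicOpen (polyGrading 1 R) (X i)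
    rw [pullback.lift_fst]
    let P : PrimeSpectrum (HomogeneousLocalization.Away (polyGrading 1 R) (X (0 : Fin (1 + 1)))) :=
      PrimeSpectrum.comap ((MvPolynomial.eval₂Hom (algebraMap R κ) v).comp (chartInv 1 R 0)) z
    have h1 : P ∈ PrimeSpectrum.basicOpen (HomogeneousLocalization.Away.isLocalizationElem
        (Groth.Agent.H11Proj.ProjSpace.X_mem 1 R 0) (Groth.Agent.H11Proj.ProjSpace.X_mem 1 R i)) := by
      rw [PrimeSpectrum.mem_basicOpen]
      have hbot : z.asIdeal = ⊥ := (Ideal.eq_bot_or_top z.asIdeal).resolve_right z.isPrime.ne_top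
      show ¬ (MvPolynomial.eval₂Hom (algebraMap R κ) v (chartInv 1 R 0 _) ∈ z.asIdeal)
      rw [hbot, Ideal.mem_bot, chartInv_mk, pow_one]
      by_cases h : i = 0 <;> simp [dehom, v, h]
    rw [← Proj.awayι_preimage_basicOpen (polyGrading 1 R)
      (Groth.Agent.H11Proj.ProjSpace.X_mem 1 R 0) one_pos
      (Groth.Agent.H11Proj.ProjSpace.X_mem 1 R i) one_pos] at h1
    exact h1
  have hun : (Set.univ : Set ↥(pullback f g)) = W 0 ∪ W 1 := by
    refine (Set.eq_univ_of_forall fun x => ?_).symm
    have hx : pullback.fst f g x ∈ (⊤ : (Proj (polyGrading 1 R)).Opens) := trivial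
    rw [← iSup_basicOpen 1 R] at hx
    obtain ⟨i, hi⟩ := TopologicalSpace.Opens.mem_iSup.mp hx
    fin_cases i
    · exact Or.inl hi
    · exact Or.inr hi
  exact ⟨hun ▸ _root_.IsPreconnected.union (q z) (hq 0) (hq 1) (hW 0) (hW 1)⟩

variable (S : Scheme.{u})

/-- A clopen set of `P^1_S` is a union of fibres. -/
theorem mem_of_isClopen {V : Set ↥(CohB1.ProjSpaceOver 1 S)} (hV : IsClopen V)
    {p q : ↥(CohB1.ProjSpaceOver 1 S)}
    (h : CohB1.ProjSpaceOver.toBase 1 S p = CohB1.ProjSpaceOver.toBase 1 S q) (hp : p ∈ V) : q ∈ V := by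
  let π := CohB1.ProjSpaceOver.toBase 1 S
  let s := π p
  let e : π.fiber s ≅ pullback (CohB1.ProjSpace.toSpec 1 A.{u})
      (S.fromSpecResidueField s ≫ specULiftZIsTerminal.from S) :=
    pullbackLeftPullbackSndIso _ _ _
  letI : Algebra A.{u} (S.residueField s) :=
    ((Int.castRingHom (S.residueField s)).comp ULift.ringEquiv.toRingHom).toAlgebra
  haveI := isPreconnected_fibre A.{u} (S.residueField s)
    (S.fromSpecResidueField s ≫ specULiftZIsTerminal.from S) (specULiftZIsTerminal.hom_ext _ _)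
  have hpre : _root_.IsPreconnected (π ⁻¹' {s}) := by
    rw [← π.range_fiberι s]
    have h2 := isPreconnected_univ.image (e.inv ≫ π.fiberι s) (Scheme.Hom.continuous _).continuousOn
    rwa [Set.image_univ, Scheme.Hom.comp_base, TopCat.coe_comp, Set.range_comp,
      range_of_isIso e.inv, Set.image_univ] at h2
  exact hpre.subset_isClopen hV ⟨p, rfl, hp⟩ h.symm

theorem sect_toBase (i : Fin (1 + 1)) : P1.sect S i ≫ CohB1.ProjSpaceOver.toBase 1 S = 𝟙 S :=
  pullback.lift_snd _ _ _

/-- A clopen set disjoint from the zero section is empty. -/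
theorem eq_empty_of_disjoint_sect {V : Set ↥(CohB1.ProjSpaceOver 1 S)} (hV : IsClopen V)
    (h0 : ∀ s, P1.sect S 0 s ∉ V) : V = ∅ := by
  refine Set.eq_empty_of_forall_notMem fun p hp => h0 (CohB1.ProjSpaceOver.toBase 1 S p) (mem_of_isClopen S hV ?_ hp)
  conv_rhs => rw [← Scheme.Hom.comp_apply, sect_toBase]
  rfl

theorem preconnectedSpace [PreconnectedSpace S] : PreconnectedSpace ↥(CohB1.ProjSpaceOver 1 S) := by
  refine preconnectedSpace_iff_clopen.mpr fun V hV => ?_
  rcases isClopen_iff.mp (hV.preimage (P1.sect S 0).continuous) with h | h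
  · exact Or.inl (eq_empty_of_disjoint_sect S hV fun s hs => by simpa [h] using Set.mem_preimage.mpr hs)
  · exact Or.inr (Set.compl_empty_iff.mp (eq_empty_of_disjoint_sect S hV.compl fun s hs => hs
      (h.ge (Set.mem_univ s))))

/-- The image of a clopen set under a finite flat lfp morphism is clopen. -/
theorem isClopen_image {X Y : Scheme.{u}} (g : X ⟶ Y) [IsFinite g] [Flat g] [LocallyOfFinitePresentation g]
    {W : Set X} (hW : IsClopen W) : IsClopen (g '' W) :=
  ⟨g.isClosedMap W hW.1, g.isOpenMap W hW.2⟩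

theorem eq_univ_of_preimage_sect {X : Scheme.{u}} (g : X ⟶ CohB1.ProjSpaceOver 1 S)
    [IsFinite g] [Flat g] [LocallyOfFinitePresentation g] {W : Set X} (hW : IsClopen W)
    (h0 : ∀ x : X, g x ∈ Set.range (P1.sect S 0) → x ∈ W) : W = Set.univ := by
  have h : g '' Wᶜ = ∅ := eq_empty_of_disjoint_sect S (isClopen_image g hW.compl)
    (by rintro s ⟨x, hx, he⟩; exact hx (h0 x ⟨s, he.symm⟩))
  exact Set.compl_empty_iff.mp (Set.image_eq_empty.mp h)

/-- Over a preconnected base connected components of finite locally free covers of `P^1_S` surject. -/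
theorem exists_mem_connectedComponent {X : Scheme.{u}} [PreconnectedSpace S]
    (g : X ⟶ CohB1.ProjSpaceOver 1 S) [IsFinite g] [Flat g] [LocallyOfFinitePresentation g]
    (x : X) (p : ↥(CohB1.ProjSpaceOver 1 S)) : ∃ y ∈ connectedComponent x, g y = p := by
  haveI := preconnectedSpace S
  let F : Set X := g ⁻¹' {p}
  have hF : F.Finite := g.finite_preimage_singleton p
  have hsurj : ∀ W : Set X, IsClopen W → W.Nonempty → (W ∩ F).Nonempty := fun W hW hne => by
    obtain ⟨y, hy, he⟩ := ((isClopen_iff.mp (isClopen_image g hW)).resolve_left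
      (hne.image g).ne_empty).ge (Set.mem_univ p)
    exact ⟨y, hy, he⟩
  have heq : ∀ W W' : Set X, IsClopen W → IsClopen W' → W ∩ F = W' ∩ F → W ⊆ W' := fun W W' hW hW' h => by
    intro z hz
    by_contra hz'
    obtain ⟨y, ⟨hy, hy'⟩, hyF⟩ := hsurj (W \ W') (hW.diff hW') ⟨z, hz, hz'⟩
    exact hy' ((h.le ⟨hy, hyF⟩).1)
  have hfin : {W : Set X | IsClopen W ∧ x ∈ W}.Finite :=
    Set.Finite.of_finite_image (f := fun W => W ∩ F)
      (hF.finite_subsets.subset (by rintro _ ⟨W, -, rfl⟩; exact Set.inter_subset_right))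
      (fun W hW W' hW' h => (heq W W' hW.1 hW'.1 h).antisymm (heq W' W hW'.1 hW.1 h.symm))
  let Q : Set X := ⋂₀ {W : Set X | IsClopen W ∧ x ∈ W}
  have hQ : IsClopen Q := by
    rw [show Q = ⋂ W ∈ {W : Set X | IsClopen W ∧ x ∈ W}, W from Set.sInter_eq_biInter]
    exact hfin.isClopen_biInter fun W hW => hW.1
  have hxQ : x ∈ Q := fun W hW => hW.2
  have hpre : _root_.IsPreconnected Q := by
    rw [isPreconnected_iff_preconnectedSpace, preconnectedSpace_iff_clopen]
    intro V hV
    have hV' : IsClopen (Subtype.val '' V) :=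
      ⟨hQ.1.isClosedEmbedding_subtypeVal.isClosedMap V hV.1, hQ.2.isOpenEmbedding_subtypeVal.isOpenMap V hV.2⟩
    by_cases hx : x ∈ Subtype.val '' V
    · refine Or.inr (Set.eq_univ_of_forall fun z => ?_)
      obtain ⟨w, hw, he⟩ := z.2 (Subtype.val '' V) ⟨hV', hx⟩
      rwa [← Subtype.ext he]
    · refine Or.inl (Set.eq_empty_of_forall_notMem fun z hz => ?_)
      exact z.2 (Subtype.val '' V)ᶜ ⟨hV'.compl, hx⟩ ⟨z, hz, rfl⟩
  obtain ⟨y, hy, hyF⟩ := hsurj Q hQ ⟨x, hxQ⟩
  exact ⟨y, hpre.subset_connectedComponent hxQ hy, hyF⟩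

end Groth.Agent.H17.P1Fibre
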