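import Groth.Agent.H8Props.Generic
import Mathlib.AlgebraicGeometry.Stalk
import Mathlib.RingTheory.LocalRing.ResidueField.Basic
import Mathlib.RingTheory.Nilpotent.Lemmas

/-! The local ring at a maximal point of a scheme, when reduced, is a field. -/

set_option autoImplicit false

universe u

open CategoryTheory AlgebraicGeometry TopologicalSpace

namespace Groth.Agent.H17

theorem isField_stalk_generic (Y : Scheme.{u}) {η : Y} (hη : η ∈ genericPoints Y)
    (hred : _root_.IsReduced (Y.presheaf.stalk η)) : IsField (Y.presheaf.stalk η) := by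
  rw [IsLocalRing.isField_iff_maximalIdeal_eq]
  have huniq : ∀ J : Ideal (Y.presheaf.stalk η), J.IsPrime → J = IsLocalRing.maximalIdeal _ := by
    intro J hJ
    let q : (Spec (Y.presheaf.stalk η) : Scheme.{u}) := ⟨J, hJ⟩
    have hq : Y.fromSpecStalk η q ⤳ η := by
      have := Set.mem_range_self (f := Y.fromSpecStalk η) q
      rwa [Scheme.range_fromSpecStalk] at this
    have e : Y.fromSpecStalk η q = η := (Groth.Agent.H8Props.mem_genericPoints_iff.1 hη) _ hq
    have e' : Y.fromSpecStalk η q = Y.fromSpecStalk η (IsLocalRing.closedPoint _) := by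
      rw [e, Scheme.fromSpecStalk_closedPoint]
    exact congrArg PrimeSpectrum.asIdeal ((Y.fromSpecStalk η).isEmbedding.injective e')
  rw [← Ideal.radical_bot_of_isReduced (R := Y.presheaf.stalk η), Ideal.radical_eq_sInf]
  exact le_antisymm (le_sInf fun J ⟨_, hJ⟩ => (huniq J hJ).ge)
    (sInf_le ⟨bot_le, (IsLocalRing.maximalIdeal.isMaximal _).isPrime⟩)

end Groth.Agent.H17
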