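import Mathlib.RingTheory.Smooth.Fiber
import Mathlib.RingTheory.Smooth.Locus
import Mathlib.RingTheory.Etale.Descent
import Mathlib.RingTheory.Unramified.Locus
import Mathlib.RingTheory.Flat.FaithfullyFlat.Algebra
import Mathlib.RingTheory.Extension.Cotangent.BaseChange

set_option autoImplicit false
universe u
open TensorProduct IsLocalRing Algebra

namespace Groth.Agent.H17.SmoothPoint

local notation "𝓀[" R "]" => ResidueField R

variable {R S : Type u} [CommRing R] [CommRing S] [Algebra R S]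

/-- Fibrewise criterion at a point: flat local ring and smooth fibre imply smooth at the point. -/
theorem isSmoothAt_of_flat_localization_of_fiber [Algebra.FinitePresentation R S]
    (p : Ideal R) (q : Ideal S) [p.IsPrime] [q.IsPrime] [q.LiesOver p]
    [FormallySmooth p.ResidueField (p.Fiber S)]
    (hflat : (Localization.localRingHom p q (algebraMap R S) (q.over_def p)).Flat) :
    Algebra.IsSmoothAt R q := by
  let Rp := Localization.AtPrime p
  let Sp := Localization (algebraMapSubmonoid S p.primeCompl)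
  let Sq := Localization.AtPrime q
  let := Localization.AtPrime.algebraOfLiesOver p q
  have : Module.Flat Rp Sq := hflat
  let f : Sp →ₐ[S] Sq := IsLocalization.liftAlgHom (M := algebraMapSubmonoid S p.primeCompl)
        (f := Algebra.ofId _ _) (by
      rintro ⟨_, x, hx, rfl⟩
      simpa using! IsLocalization.map_units (M := q.primeCompl) Sq ⟨algebraMap _ _ x,
        by simp_all [q.over_def p]⟩)
  algebraize [f.toRingHom]
  have : IsScalarTower R Sp Sq := .to₁₃₄ _ S _ _
  have : IsScalarTower Rp Sp Sq := .of_algebraMap_eq' <| by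
    apply IsLocalization.ringHom_ext p.primeCompl
    simp only [RingHom.comp_assoc, ← IsScalarTower.algebraMap_eq]
  have : IsLocalization (algebraMapSubmonoid Sp q.primeCompl) Sq :=
    .isLocalization_of_submonoid_le _ _ (algebraMapSubmonoid S p.primeCompl) _
    (by rintro _ ⟨x, hx, rfl⟩; simp_all [q.over_def p])
  have : FinitePresentation Rp Sp := by
    have : Algebra.IsPushout R Rp S Sp :=
      .symm <| Algebra.isPushout_of_isLocalization p.primeCompl _ _ _
    exact .equiv (Algebra.IsPushout.equiv R Rp S Sp)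
  have : FormallySmooth 𝓀[Rp] (𝓀[Rp] ⊗[Rp] Sq) := by
    let : Algebra S (𝓀[Rp] ⊗[R] S) := TensorProduct.rightAlgebra
    have : FormallySmooth 𝓀[Rp] ((𝓀[Rp] ⊗[R] S) ⊗[S] Sq) :=
      .comp _ (𝓀[Rp] ⊗[R] S) _
    let e : 𝓀[Rp] ⊗[R] S ≃ₐ[S] S ⊗[R] 𝓀[Rp] :=
      { __ := Algebra.TensorProduct.comm _ _ _, commutes' _ := rfl }
    let e' : (𝓀[Rp] ⊗[R] S) ⊗[S] Sq ≃ₐ[R] 𝓀[Rp] ⊗[Rp] Sq :=
      ((Algebra.TensorProduct.comm _ _ _).restrictScalars R).trans <|
      ((Algebra.TensorProduct.congr (.refl (R := S)) e).restrictScalars R).trans <|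
      ((Algebra.TensorProduct.cancelBaseChange _ _ S _ _).restrictScalars R).trans <|
      (Algebra.TensorProduct.comm _ _ _).trans (Algebra.TensorProduct.equivOfCompatibleSMul ..)
    have : e'.toAlgHom.comp (IsScalarTower.toAlgHom R p.ResidueField _) =
        IsScalarTower.toAlgHom _ _ _ := by ext
    let e'' : (𝓀[Rp] ⊗[R] S) ⊗[S] Sq ≃ₐ[𝓀[Rp]] 𝓀[Rp] ⊗[Rp] Sq :=
      { __ := e', commutes' r := congr($this r) }
    exact .of_equiv e''
  have := FormallySmooth.of_formallySmooth_residueField_tensor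
    (R := Rp) (S := Sq) (P := Sp) (algebraMapSubmonoid _ q.primeCompl)
  exact .comp R Rp Sq

section descent

variable (R' : Type u) [CommRing R'] [Algebra R R']

attribute [local instance] Algebra.TensorProduct.rightAlgebra

/-- The cotangent module `H¹` of a flat base change, as a base change over the source. -/
noncomputable def h1BaseChange [Module.Flat R R'] :
    (R' ⊗[R] S) ⊗[S] H1Cotangent R S ≃ₗ[R' ⊗[R] S] H1Cotangent R' (R' ⊗[R] S) := by
  let φ : H1Cotangent R S →ₗ[S] H1Cotangent R' (R' ⊗[R] S) := H1Cotangent.map R R' S (R' ⊗[R] S)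
  let Ψ := φ.liftBaseChange (R' ⊗[R] S)
  refine LinearEquiv.ofBijective Ψ ?_
  let κ : R' ⊗[R] H1Cotangent R S →ₗ[R] (R' ⊗[R] S) ⊗[S] H1Cotangent R S :=
    TensorProduct.lift (LinearMap.mk₂ R (fun r x => ((r ⊗ₜ[R] (1 : S)) ⊗ₜ[S] x))
      (by intro a b x; simp [add_tmul])
      (by intro c a x; simp [smul_tmul'])
      (by intro a x y; simp [tmul_add])
      (by intro c a x; exact (tmul_smul c (a ⊗ₜ[R] (1 : S)) x)))
  have hκ : Function.Surjective κ := by
    intro z
    induction z with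
    | zero => exact ⟨0, map_zero _⟩
    | add a b ha hb =>
      obtain ⟨a', rfl⟩ := ha; obtain ⟨b', rfl⟩ := hb
      exact ⟨a' + b', map_add _ _ _⟩
    | tmul t x =>
      induction t with
      | zero => exact ⟨0, by simp⟩
      | add a b ha hb =>
        obtain ⟨a', ha⟩ := ha; obtain ⟨b', hb⟩ := hb
        exact ⟨a' + b', by simp [map_add, ha, hb, add_tmul]⟩
      | tmul r s =>
        refine ⟨r ⊗ₜ (s • x), ?_⟩
        show (r ⊗ₜ[R] (1 : S)) ⊗ₜ[S] (s • x) = (r ⊗ₜ[R] s) ⊗ₜ[S] x
        rw [← smul_tmul]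
        congr 1
        rw [Algebra.smul_def, TensorProduct.right_algebraMap_apply, Algebra.TensorProduct.tmul_mul_tmul, one_mul, mul_one]
  have hcomp : ∀ z, Ψ (κ z) = tensorH1CotangentOfFlat R S R' z := by
    intro z
    induction z with
    | zero => simp
    | add a b ha hb => simp [map_add, ha, hb]
    | tmul r x =>
      rw [tensorH1CotangentOfFlat_tmul]
      show (φ.liftBaseChange (R' ⊗[R] S)) ((r ⊗ₜ[R] (1 : S)) ⊗ₜ[S] x) = _
      rw [LinearMap.liftBaseChange_tmul]
      rw [← algebraMap_smul (R' ⊗[R] S) r (φ x)]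
      rfl
  have hb : Function.Bijective (Ψ ∘ κ) := by
    rw [show (Ψ ∘ κ) = tensorH1CotangentOfFlat R S R' from funext hcomp]
    exact (tensorH1CotangentOfFlat R S R').bijective
  exact ⟨hb.1.of_comp_right hκ, Function.Surjective.of_comp hb.2⟩

/-- Smoothness at a point descends along flat base change. -/
theorem isSmoothAt_of_baseChange [Module.Flat R R'] [Algebra.FinitePresentation R S]
    (q : Ideal S) [q.IsPrime] (q' : Ideal (R' ⊗[R] S)) [q'.IsPrime] [q'.LiesOver q]
    [Algebra.IsSmoothAt R' q'] : Algebra.IsSmoothAt R q := by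
  let := Localization.AtPrime.algebraOfLiesOver q q'
  let Sq := Localization.AtPrime q
  let T' := Localization.AtPrime q'
  have : IsScalarTower S (R' ⊗[R] S) T' := inferInstance
  have : Module.Flat Sq T' := by
    have : Algebra.IsPushout R S R' (R' ⊗[R] S) := Algebra.IsPushout.symm inferInstance
    have h : Module.Flat S (R' ⊗[R] S) := Module.Flat.isBaseChange R S R' _ Algebra.IsPushout.out
    exact RingHom.Flat.localRingHom (f := algebraMap S (R' ⊗[R] S)) (RingHom.flat_algebraMap_iff.mpr h) q' q (q'.over_def q)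
  have : Module.FaithfullyFlat Sq T' := Module.FaithfullyFlat.of_flat_of_isLocalHom
  refine (Algebra.formallySmooth_iff _ _).mpr ⟨?_, ?_⟩
  · have : Module.Flat Sq Ω[Sq⁄R] := by
      let e₁ : T' ⊗[S] Ω[S⁄R] ≃ₗ[T'] Ω[T'⁄R'] :=
        (AlgebraTensorModule.cancelBaseChange S (R' ⊗[R] S) T' T' Ω[S⁄R]).symm ≪≫ₗ
        (AlgebraTensorModule.congr (.refl T' T') (KaehlerDifferential.tensorKaehlerEquiv R R' S (R' ⊗[R] S))) ≪≫ₗ
        KaehlerDifferential.tensorKaehlerEquivOfFormallyEtale R' (R' ⊗[R] S) T'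
      let e₂ : T' ⊗[Sq] Ω[Sq⁄R] ≃ₗ[T'] T' ⊗[S] Ω[S⁄R] :=
        (AlgebraTensorModule.congr (.refl T' T') (KaehlerDifferential.tensorKaehlerEquivOfFormallyEtale R S Sq).symm) ≪≫ₗ
        AlgebraTensorModule.cancelBaseChange S Sq T' T' Ω[S⁄R]
      have : Module.Flat T' (T' ⊗[Sq] Ω[Sq⁄R]) := .of_linearEquiv (e₂ ≪≫ₗ e₁)
      exact Module.Flat.of_flat_tensorProduct _ _ T'
    have : Module.FinitePresentation Sq Ω[Sq⁄R] :=
      Module.FinitePresentation.of_equiv (KaehlerDifferential.tensorKaehlerEquivOfFormallyEtale R S Sq)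
    exact Module.Flat.projective_of_finitePresentation
  · let e₁ : T' ⊗[S] H1Cotangent R S ≃ₗ[T'] H1Cotangent R' T' :=
      (AlgebraTensorModule.cancelBaseChange S (R' ⊗[R] S) T' T' (H1Cotangent R S)).symm ≪≫ₗ
      (AlgebraTensorModule.congr (.refl T' T') (h1BaseChange R')) ≪≫ₗ
      Algebra.tensorH1CotangentOfIsLocalization R' T' q'.primeCompl
    let e₂ : T' ⊗[Sq] H1Cotangent R Sq ≃ₗ[T'] T' ⊗[S] H1Cotangent R S :=
      (AlgebraTensorModule.congr (.refl T' T') (Algebra.tensorH1CotangentOfIsLocalization R Sq q.primeCompl).symm) ≪≫ₗ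
      AlgebraTensorModule.cancelBaseChange S Sq T' T' (H1Cotangent R S)
    have : Subsingleton (T' ⊗[Sq] H1Cotangent R Sq) := (e₂ ≪≫ₗ e₁).subsingleton
    exact Module.FaithfullyFlat.lTensor_reflects_triviality Sq T' _

/-- Being unramified at a point descends along arbitrary base change. -/
theorem isUnramifiedAt_of_baseChange [Algebra.FiniteType R S]
    (q : Ideal S) [q.IsPrime] (q' : Ideal (R' ⊗[R] S)) [q'.IsPrime] [q'.LiesOver q]
    [Algebra.IsUnramifiedAt R' q'] : Algebra.IsUnramifiedAt R q := by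
  let := Localization.AtPrime.algebraOfLiesOver q q'
  let Sq := Localization.AtPrime q
  let T' := Localization.AtPrime q'
  let e₁ : T' ⊗[S] Ω[S⁄R] ≃ₗ[T'] Ω[T'⁄R'] :=
    (AlgebraTensorModule.cancelBaseChange S (R' ⊗[R] S) T' T' Ω[S⁄R]).symm ≪≫ₗ
    (AlgebraTensorModule.congr (.refl T' T') (KaehlerDifferential.tensorKaehlerEquiv R R' S (R' ⊗[R] S))) ≪≫ₗ
    KaehlerDifferential.tensorKaehlerEquivOfFormallyEtale R' (R' ⊗[R] S) T'
  let e₂ : T' ⊗[Sq] Ω[Sq⁄R] ≃ₗ[T'] T' ⊗[S] Ω[S⁄R] :=
    (AlgebraTensorModule.congr (.refl T' T') (KaehlerDifferential.tensorKaehlerEquivOfFormallyEtale R S Sq).symm) ≪≫ₗ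
    AlgebraTensorModule.cancelBaseChange S Sq T' T' Ω[S⁄R]
  have : Subsingleton Ω[T'⁄R'] := inferInstance
  have h0 : Subsingleton (T' ⊗[Sq] Ω[Sq⁄R]) := (e₂ ≪≫ₗ e₁).subsingleton
  have : IsLocalHom (algebraMap Sq T') := inferInstance
  have : Module.Finite Sq Ω[Sq⁄R] :=
    Module.Finite.equiv (KaehlerDifferential.tensorKaehlerEquivOfFormallyEtale R S Sq)
  have h1 : Subsingleton (ResidueField T' ⊗[Sq] Ω[Sq⁄R]) := by
    have := (AlgebraTensorModule.cancelBaseChange Sq T' (ResidueField T') (ResidueField T') Ω[Sq⁄R]).symm.subsingleton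
    exact this
  have h2 : Subsingleton (ResidueField Sq ⊗[Sq] Ω[Sq⁄R]) := by
    have := (AlgebraTensorModule.cancelBaseChange Sq (ResidueField Sq) (ResidueField T') (ResidueField T') Ω[Sq⁄R]).subsingleton
    exact Module.FaithfullyFlat.lTensor_reflects_triviality (ResidueField Sq) (ResidueField T') _
  exact ⟨IsLocalRing.subsingleton_tensorProduct.mp h2⟩

end descent

end Groth.Agent.H17.SmoothPoint
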