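import Groth.Agent.H29Slice.KoszulReg
import Mathlib

/-!
# Koszul complexes and base change
-/

set_option autoImplicit false
set_option linter.style.haveILetI false
universe u

open CategoryTheory CategoryTheory.Limits CochainComplex TensorProduct
open Groth.Agent.H8Props.PseudoCoh

namespace Groth.Agent.H17.KoszulBC

variable {A : Type u} [CommRing A] (B : Type u) [CommRing B] [Algebra A B]

/-- The terms of the Koszul complex commute with base change, compatibly with the differentials. -/
theorem exists_equiv : ∀ l : List A,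
    ∃ e : ∀ i : ℤ, B ⊗[A] (Koszul.koszul A l).X i ≃ₗ[B] (Koszul.koszul B (l.map (algebraMap A B))).X i,
      ∀ (i j : ℤ) (_ : i + 1 = j) (x : B ⊗[A] (Koszul.koszul A l).X i),
        (Koszul.koszul B (l.map (algebraMap A B))).d i j (e i x) =
          e j (((Koszul.koszul A l).d i j).hom.baseChange B x)
  | [] => by
    have h0 : ∀ i : ℤ, Nonempty (B ⊗[A] (Koszul.koszul A ([] : List A)).X i ≃ₗ[B]
        (Koszul.koszul B ([] : List B)).X i) := fun i => by
      by_cases hi : i = 0
      · subst hi
        exact ⟨(LinearEquiv.baseChange A B _ _ (HomologicalComplex.singleObjXSelf (ComplexShape.up ℤ) 0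
          (ModuleCat.of A A)).toLinearEquiv).trans ((AlgebraTensorModule.rid A B B).trans
            (HomologicalComplex.singleObjXSelf (ComplexShape.up ℤ) 0 (ModuleCat.of B B)).symm.toLinearEquiv)⟩
      · have h1 : Subsingleton ((Koszul.koszul A ([] : List A)).X i) :=
          ModuleCat.subsingleton_of_isZero (HomologicalComplex.isZero_single_obj_X _ _ _ _ hi)
        have h2 : Subsingleton ((Koszul.koszul B ([] : List B)).X i) :=
          ModuleCat.subsingleton_of_isZero (HomologicalComplex.isZero_single_obj_X _ _ _ _ hi)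
        have h3 : Subsingleton (B ⊗[A] (Koszul.koszul A ([] : List A)).X i) := inferInstance
        exact ⟨LinearEquiv.ofSubsingleton _ _⟩
    refine ⟨fun i => (h0 i).some, fun i j hij x => ?_⟩
    by_cases hi : i = 0
    · have h2 : Subsingleton ((Koszul.koszul B ([] : List B)).X j) :=
        ModuleCat.subsingleton_of_isZero (HomologicalComplex.isZero_single_obj_X _ _ _ _ (by omega))
      exact @Subsingleton.elim _ h2 _ _
    · have h1 : Subsingleton ((Koszul.koszul A ([] : List A)).X i) :=
        ModuleCat.subsingleton_of_isZero (HomologicalComplex.isZero_single_obj_X _ _ _ _ hi)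
      have : x = 0 := Subsingleton.elim _ _
      rw [this]
      simp
  | f :: l => by
    obtain ⟨e, he⟩ := exists_equiv l
    let cA := fun i : ℤ => coneXEquiv (f • 𝟙 (Koszul.koszul A l)) i (i + 1) rfl
    let cB := fun i : ℤ => coneXEquiv (algebraMap A B f • 𝟙 (Koszul.koszul B (l.map (algebraMap A B)))) i (i + 1) rfl
    let E : ∀ i : ℤ, B ⊗[A] (Koszul.koszul A (f :: l)).X i ≃ₗ[B]
        (Koszul.koszul B ((f :: l).map (algebraMap A B))).X i := fun i =>
      (LinearEquiv.baseChange A B _ _ (cA i)).trans ((TensorProduct.prodRight A B B _ _).trans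
        ((LinearEquiv.prodCongr (e (i + 1)) (e i)).trans (cB i).symm))
    refine ⟨E, fun i j hij => ?_⟩
    subst hij
    suffices hlin : ((Koszul.koszul B ((f :: l).map (algebraMap A B))).d i (i + 1)).hom ∘ₗ (E i).toLinearMap =
        (E (i + 1)).toLinearMap ∘ₗ ((Koszul.koszul A (f :: l)).d i (i + 1)).hom.baseChange B from
      fun x => LinearMap.congr_fun hlin x
    refine LinearMap.ext fun z => ?_
    induction z using TensorProduct.induction_on with
    | zero => rw [map_zero, map_zero]
    | add z z' hz hz' => rw [map_add, map_add, hz, hz']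
    | tmul b x =>
    apply (cB (i + 1)).injective
    have hA := H29Slice.koszul_cons_d f l i (i + 1) (i + 1 + 1) rfl rfl x
    have hB := H29Slice.koszul_cons_d (algebraMap A B f) (l.map (algebraMap A B)) i (i + 1) (i + 1 + 1) rfl rfl
      (E i (b ⊗ₜ x))
    have hE : ∀ (k : ℤ) (y : (Koszul.koszul A (f :: l)).X k), cB k (E k (b ⊗ₜ y)) =
        (e (k + 1) (b ⊗ₜ (cA k y).1), e k (b ⊗ₜ (cA k y).2)) := fun k y => by
      refine ((cB k).apply_symm_apply _).trans ?_
      rfl
    refine hB.trans ?_
    show _ = cB (i + 1) (E (i + 1) (b ⊗ₜ ((Koszul.koszul A (f :: l)).d i (i + 1) x)))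
    rw [hE i x, hE (i + 1) ((Koszul.koszul A (f :: l)).d i (i + 1) x)]
    refine Prod.ext ?_ ?_
    · show -_ = e (i + 1 + 1) (b ⊗ₜ (cA (i + 1) _).1)
      rw [show (cA (i + 1) ((Koszul.koszul A (f :: l)).d i (i + 1) x)).1 = _ from congrArg Prod.fst hA,
        TensorProduct.tmul_neg, map_neg]
      refine congrArg Neg.neg ?_
      exact he (i + 1) (i + 1 + 1) rfl _
    · show _ = e (i + 1) (b ⊗ₜ (cA (i + 1) _).2)
      rw [show (cA (i + 1) ((Koszul.koszul A (f :: l)).d i (i + 1) x)).2 = _ from congrArg Prod.snd hA,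
        TensorProduct.tmul_add, map_add, TensorProduct.tmul_smul,
        ← algebraMap_smul B f (b ⊗ₜ[A] _), map_smul]
      refine congrArg₂ (· + ·) ?_ ?_
      · rfl
      · exact he i (i + 1) rfl _

/-- Koszul-regular sequences stay so after flat base change. -/
theorem isKoszulRegularSeq_map [Module.Flat A B] {l : List A} (h : LCI.IsKoszulRegularSeq A l) :
    LCI.IsKoszulRegularSeq B (l.map (algebraMap A B)) := by
  intro i hi
  obtain ⟨e, he⟩ := exists_equiv B l
  rw [← HomologicalComplex.exactAt_iff_isZero_homology,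
    HomologicalComplex.exactAt_iff' _ (i - 1) i (i + 1) (by simp) (by simp),
    ShortComplex.moduleCat_exact_iff]
  have hA : Function.Exact ((Koszul.koszul A l).d (i - 1) i).hom ((Koszul.koszul A l).d i (i + 1)).hom := by
    intro x
    refine ⟨fun hx => H29Slice.exists_preimage_of_isZero_homology _ (i - 1) i (i + 1) (by omega) rfl (h i hi) x hx,
      ?_⟩
    rintro ⟨w, rfl⟩
    exact LinearMap.congr_fun (congrArg ModuleCat.Hom.hom ((Koszul.koszul A l).d_comp_d (i - 1) i (i + 1))) w
  have hT := Module.Flat.lTensor_exact B hA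
  intro z hz
  replace hz : (Koszul.koszul B (l.map (algebraMap A B))).d i (i + 1) z = 0 := hz
  obtain ⟨x, rfl⟩ := (e i).surjective z
  rw [he i (i + 1) rfl] at hz
  obtain ⟨w, hw⟩ := (hT x).mp ((e (i + 1)).map_eq_zero_iff.mp hz)
  refine ⟨e (i - 1) w, ?_⟩
  show (Koszul.koszul B (l.map (algebraMap A B))).d (i - 1) i (e (i - 1) w) = _
  rw [he (i - 1) i (by omega)]
  exact congrArg (e i) hw

end Groth.Agent.H17.KoszulBC
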