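import Groth.Agent.H17.QcImage
import Groth.Agent.H17.Fibre

/-! Finitely many points in an affine open. -/

universe u
open CategoryTheory AlgebraicGeometry TopologicalSpace

namespace Groth.Agent.H17

theorem notMem_closure_of_mem_genericPoints {X : Scheme.{u}} [QuasiSeparatedSpace X] (V : X.Opens)
    (hV : IsCompact (V : Set X)) {η : X} (hη : η ∈ genericPoints X) (h : η ∉ V) :
    η ∉ closure (V : Set X) := by
  intro hc
  have : QuasiCompact V.ι := by
    refine ⟨fun W hW hWc => ?_⟩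
    rw [V.ι.isOpenEmbedding.isInducing.isCompact_iff, Set.image_preimage_eq_inter_range,
      Scheme.Opens.range_ι]
    exact QuasiSeparatedSpace.inter_isCompact W V hW hWc V.2 hV
  rw [← V.range_ι] at hc
  obtain ⟨x, hx⟩ := exists_specializes_of_mem_closure_range V.ι hc
  exact h ((mem_genericPoints_iff.mp hη _ hx) ▸ x.2)

/-- Finitely many generic points have pairwise disjoint affine neighbourhoods inside given ones. -/
theorem exists_disjoint_affine_nhds {X : Scheme.{u}} [QuasiSeparatedSpace X] (s : Set X)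
    (hs : s.Finite) (hgen : s ⊆ genericPoints X) (W : X → X.Opens) (hW : ∀ η ∈ s, η ∈ W η) :
    ∃ U : X → X.Opens, (∀ η ∈ s, IsAffineOpen (U η) ∧ η ∈ U η ∧ U η ≤ W η) ∧
      s.PairwiseDisjoint U := by
  have h0 : ∀ η ∈ s, ∃ V : X.Opens, IsAffineOpen V ∧ η ∈ V ∧ ∀ η' ∈ s, η' ≠ η → η' ∉ V := by
    intro η hη
    have hcl : IsClosed (⋃ η' ∈ s \ {η}, closure ({η'} : Set X)) :=
      hs.sdiff.isClosed_biUnion fun _ _ => isClosed_closure
    obtain ⟨V, hV, hηV, hVle⟩ := exists_isAffineOpen_mem_and_subset (x := η)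
      (U := ⟨_, hcl.isOpen_compl⟩) (by
        simp only [Opens.mem_mk, Set.mem_compl_iff, Set.mem_iUnion, not_exists]
        intro η' hη' hc
        exact hη'.2 (mem_genericPoints_iff.mp (hgen hη) η' (specializes_iff_mem_closure.mpr hc)))
    refine ⟨V, hV, hηV, fun η' hη' hne hV' => hVle hV' ?_⟩
    exact Set.mem_biUnion ⟨hη', hne⟩ (subset_closure rfl)
  have h1 : ∀ η, ∃ V : X.Opens, η ∈ s → IsAffineOpen V ∧ η ∈ V ∧ ∀ η' ∈ s, η' ≠ η → η' ∉ V := by
    intro η
    by_cases hη : η ∈ s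
    · obtain ⟨V, hV⟩ := h0 η hη; exact ⟨V, fun _ => hV⟩
    · exact ⟨⊥, fun h => absurd h hη⟩
  choose V hV using h1
  have h2 : ∀ η ∈ s, ∃ U : X.Opens, IsAffineOpen U ∧ η ∈ U ∧ U ≤ W η ∧ U ≤ V η ∧
      ∀ η' ∈ s, η' ≠ η → Disjoint (U : Set X) (V η') := by
    intro η hη
    have hcl : IsClosed (⋃ η' ∈ s \ {η}, closure (V η' : Set X)) :=
      hs.sdiff.isClosed_biUnion fun _ _ => isClosed_closure
    obtain ⟨U, hU, hηU, hUle⟩ := exists_isAffineOpen_mem_and_subset (x := η)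
      (U := W η ⊓ V η ⊓ ⟨_, hcl.isOpen_compl⟩) ⟨⟨hW η hη, (hV η hη).2.1⟩, by
        simp only [Opens.mem_mk, SetLike.mem_coe, Set.mem_compl_iff, Set.mem_iUnion, not_exists]
        intro η' hη' hc
        exact notMem_closure_of_mem_genericPoints _ (hV η' hη'.1).1.isCompact (hgen hη)
          ((hV η' hη'.1).2.2 η hη (Ne.symm hη'.2)) hc⟩
    refine ⟨U, hU, hηU, fun _ hz => (hUle hz).1.1, fun _ hz => (hUle hz).1.2,
      fun η' hη' hne => Set.disjoint_left.mpr fun z hz hz' => (hUle hz).2 ?_⟩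
    exact Set.mem_biUnion ⟨hη', hne⟩ (subset_closure hz')
  choose! U hU hmem hUW hUV hdisj using h2
  refine ⟨U, fun η hη => ⟨hU η hη, hmem η hη, hUW η hη⟩, fun η hη η' hη' hne => ?_⟩
  rw [Function.onFun, ← Opens.coe_disjoint]
  exact (hdisj η hη η' hη' hne.symm).mono_right (SetLike.coe_subset_coe.mpr (hUV η' hη'))

end Groth.Agent.H17
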