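import Groth.Agent.H17.GenFinite
import Groth.Agent.H17.FiniteAffine
import Mathlib.AlgebraicGeometry.FunctionField

/-! Finite over dense opens. -/

set_option autoImplicit false

universe u

open CategoryTheory Limits AlgebraicGeometry TopologicalSpace

namespace Groth.Agent.H17.GenFinite

variable {X Y : Scheme.{u}}

/-- No specializations inside a finite fibre of a morphism locally of finite type. -/
theorem eq_of_specializes_of_finite_fibre (f : X ⟶ Y) [LocallyOfFiniteType f] {η : Y}
    (hfin : (f.base ⁻¹' {η}).Finite) {x x' : X} (hx : f x = η) (hx' : f x' = η) (h : x' ⤳ x) :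
    x' = x := by
  haveI : Finite (f.fiber η) := (f.fiberHomeo η).finite_iff.mpr hfin
  haveI : LocallyOfFiniteType (f.fiberToSpecResidueField η) :=
    MorphismProperty.pullback_snd (P := @LocallyOfFiniteType) _ _ inferInstance
  haveI : JacobsonSpace (f.fiber η) := LocallyOfFiniteType.jacobsonSpace (f.fiberToSpecResidueField η)
  let z : f.fiber η := (f.fiberHomeo η).symm ⟨x, hx⟩
  let z' : f.fiber η := (f.fiberHomeo η).symm ⟨x', hx'⟩
  have hz : z' ⤳ z := Specializes.map
    ((Topology.IsInducing.subtypeVal).specializes_iff.mp h : (⟨x', hx'⟩ : f.base ⁻¹' {η}) ⤳ ⟨x, hx⟩)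
    (f.fiberHomeo η).symm.continuous
  have hmem : z ∈ closure {z'} := hz.mem_closure
  have hz'c : IsClosed ({z'} : Set (f.fiber η)) := isClosed_discrete _
  rw [hz'c.closure_eq] at hmem
  exact congrArg Subtype.val ((f.fiberHomeo η).symm.injective hmem.symm :
    (⟨x', hx'⟩ : f.base ⁻¹' {η}) = ⟨x, hx⟩)

/-- The points of a finite fibre over a maximal point are maximal. -/
theorem mem_genericPoints_of_finite_fibre (f : X ⟶ Y) [LocallyOfFiniteType f] {η : Y}
    (hη : η ∈ genericPoints Y) (hfin : (f.base ⁻¹' {η}).Finite) {x : X} (hx : f x = η) :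
    x ∈ genericPoints X := by
  refine mem_genericPoints_iff.2 fun x' h => eq_of_specializes_of_finite_fibre f hfin hx ?_ h
  exact mem_genericPoints_iff.1 hη _ (hx ▸ h.map f.continuous)

/-- Disjoint open neighbourhoods of the maximal points when there are finitely many components. -/
theorem exists_disjoint_nhds (hX : (irreducibleComponents (X : Type u)).Finite) :
    ∃ O : X → X.Opens, (∀ η ∈ genericPoints X, η ∈ O η) ∧ (genericPoints X).PairwiseDisjoint O := by
  have hfin : (genericPoints X).Finite := genericPoints.finite hX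
  let O : X → X.Opens := fun η => ⟨(⋃ γ ∈ genericPoints X \ {η}, closure ({γ} : Set X))ᶜ,
    (hfin.sdiff.isClosed_biUnion fun _ _ => isClosed_closure).isOpen_compl⟩
  refine ⟨O, fun η hη => ?_, fun a ha b hb hab => ?_⟩
  · show η ∈ (⋃ γ ∈ genericPoints X \ {η}, closure ({γ} : Set X))ᶜ
    simp only [Set.mem_compl_iff, Set.mem_iUnion, not_exists]
    intro γ hγ hc
    exact hγ.2 (mem_genericPoints_iff.1 hη γ (specializes_iff_mem_closure.2 hc))
  · rw [Function.onFun, ← Opens.coe_disjoint, Set.disjoint_left]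
    intro z hza hzb
    obtain ⟨γ, hγ, hγz⟩ := exists_genericPoint_specializes z
    have h1 : γ = a := by
      by_contra hne
      exact hza (Set.mem_biUnion ⟨hγ, hne⟩ hγz.mem_closure)
    have h2 : γ = b := by
      by_contra hne
      exact hzb (Set.mem_biUnion ⟨hγ, hne⟩ hγz.mem_closure)
    exact hab (h1.symm.trans h2)

theorem dense_of_genericPoints_subset {U : Set X} (h : genericPoints X ⊆ U) : Dense U := by
  intro z
  obtain ⟨γ, hγ, hγz⟩ := exists_genericPoint_specializes z
  exact closure_mono (Set.singleton_subset_iff.2 (h hγ)) hγz.mem_closure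

theorem map_genericPoint_of_isDominant [IrreducibleSpace X] [IrreducibleSpace Y] (f : X ⟶ Y)
    [IsDominant f] : f (genericPoint X) = genericPoint Y := by
  apply ((genericPoint_spec Y).eq _).symm
  have h := (genericPoint_spec X).image f.continuous
  rwa [Set.image_univ, f.denseRange.closure_range] at h

theorem isFinite_morphismRestrict_iSup (f : X ⟶ Y) {ι : Type u} (V : ι → Y.Opens)
    (h : ∀ i, IsFinite (f ∣_ V i)) : IsFinite (f ∣_ ⨆ i, V i) := by
  let U : Y.Opens := ⨆ i, V i
  let W : ι → U.toScheme.Opens := fun i => U.ι ⁻¹ᵁ V i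
  have hW : ⨆ i, W i = ⊤ := by
    refine eq_top_iff.mpr fun z _ => ?_
    obtain ⟨i, hi⟩ := Opens.mem_iSup.mp z.2
    exact Opens.mem_iSup.mpr ⟨i, hi⟩
  rw [IsZariskiLocalAtTarget.iff_of_iSup_eq_top (P := @IsFinite) _ hW]
  intro i
  rw [MorphismProperty.arrow_mk_iso_iff (P := @IsFinite) (morphismRestrictRestrict f U (W i))]
  have : U.ι ''ᵁ W i = V i := by
    simp only [W, Scheme.Hom.image_preimage_eq_opensRange_inf, Scheme.Opens.opensRange_ι]
    exact inf_eq_right.mpr (le_iSup V i)
  rw [MorphismProperty.arrow_mk_iso_iff (P := @IsFinite) (morphismRestrictEq f this)]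
  exact h i

theorem isFinite_resLE_iff (f : X ⟶ Y) {U : X.Opens} {V : Y.Opens} (hU : IsAffineOpen U)
    (hV : IsAffineOpen V) (e : U ≤ f ⁻¹ᵁ V) :
    IsFinite (f.resLE V U e) ↔ (f.appLE V U e).hom.Finite := by
  haveI : IsAffine (U : Scheme.{u}) := hU
  haveI : IsAffine (V : Scheme.{u}) := hV
  rw [HasAffineProperty.iff_of_isAffine (P := @IsFinite)]
  constructor
  · rintro ⟨-, h⟩
    change ((f.resLE V U e).app ⊤).hom.Finite at h
    rw [Scheme.Hom.resLE_app_top] at h
    have h1 := RingHom.finite_respectsIso.1 _ (U.topIso).commRingCatIsoToRingEquiv h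
    have h2 := RingHom.finite_respectsIso.2 _ (V.topIso.symm).commRingCatIsoToRingEquiv h1
    have he : V.topIso.inv ≫ (V.topIso.hom ≫ f.appLE V U e ≫ U.topIso.inv) ≫ U.topIso.hom =
        f.appLE V U e := by
      simp only [Category.assoc, Iso.inv_hom_id, Category.comp_id, Iso.inv_hom_id_assoc]
    rw [← he]
    exact h2
  · intro h
    refine ⟨hU, ?_⟩
    show ((f.resLE V U e).app ⊤).hom.Finite
    rw [Scheme.Hom.resLE_app_top]
    have h1 := RingHom.finite_respectsIso.1 _ (U.topIso.symm).commRingCatIsoToRingEquiv h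
    exact RingHom.finite_respectsIso.2 _ (V.topIso).commRingCatIsoToRingEquiv h1

end Groth.Agent.H17.GenFinite
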