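import Groth.Agent.H17.Imports

/-! Criteria of separatedness. -/

universe u
open CategoryTheory Limits AlgebraicGeometry

namespace Groth.Agent.H17

theorem isSeparated_of_surjective_universallyClosed {X Y S : Scheme.{u}} (π : X ⟶ Y) (q : Y ⟶ S)
    [Surjective π] [UniversallyClosed π] [IsSeparated (π ≫ q)] : IsSeparated q := by
  let m := pullback.map (π ≫ q) (π ≫ q) q q π π (𝟙 S) (Category.comp_id _) (Category.comp_id _)
  have hm : UniversallyClosed m :=
    MorphismProperty.pullbackMap (P := @UniversallyClosed) ‹_› ‹_› rfl rfl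
  have hcomm : π ≫ pullback.diagonal q = pullback.diagonal (π ≫ q) ≫ m := by
    apply pullback.hom_ext <;> simp only [m, Category.assoc, pullback.map, pullback.lift_fst, pullback.lift_snd, pullback.diagonal_fst_assoc, pullback.diagonal_snd_assoc, pullback.diagonal_fst, pullback.diagonal_snd, Category.comp_id]
  have hr : Set.range (pullback.diagonal q) = m '' Set.range (pullback.diagonal (π ≫ q)) := by
    rw [← Set.range_comp, ← TopCat.coe_comp, ← Scheme.Hom.comp_base, ← hcomm, Scheme.Hom.comp_base,
      TopCat.coe_comp]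
    exact (π.surjective.range_comp _).symm
  refine ⟨IsClosedImmersion.of_isPreimmersion _ ?_⟩
  rw [hr]
  exact m.isClosedMap _ (pullback.diagonal (π ≫ q)).isClosedEmbedding.isClosed_range

theorem isSeparated_of_fibre_pairs {X S : Scheme.{u}} [IsAffine S] (f : X ⟶ S)
    (h : ∀ x y : X, f x = f y → ∃ U : X.Opens, IsAffineOpen U ∧ x ∈ U ∧ y ∈ U) :
    IsSeparated f := by
  refine ⟨IsClosedImmersion.of_isPreimmersion _ (isClosed_of_closure_subset fun z hz => ?_)⟩
  have hzf : f (pullback.fst f f z) = f (pullback.snd f f z) :=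
    congr($(pullback.condition (f := f) (g := f)) z)
  obtain ⟨U, hU, h1, h2⟩ := h _ _ hzf
  have : IsAffine U.toScheme := hU
  have : IsSeparated (U.ι ≫ f) := inferInstance
  let m := pullback.map (U.ι ≫ f) (U.ι ≫ f) f f U.ι U.ι (𝟙 S) (Category.comp_id _) (Category.comp_id _)
  have hm : IsOpenImmersion m := MorphismProperty.pullbackMap (P := @IsOpenImmersion) inferInstance inferInstance rfl rfl
  have hcomm : pullback.diagonal (U.ι ≫ f) ≫ m = U.ι ≫ pullback.diagonal f := by
    apply pullback.hom_ext <;> simp only [m, Category.assoc, pullback.map, pullback.lift_fst, pullback.lift_snd, pullback.diagonal_fst_assoc, pullback.diagonal_snd_assoc, pullback.diagonal_fst, pullback.diagonal_snd, Category.comp_id]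
  have hzm : z ∈ Set.range m := by
    rw [Scheme.Pullback.range_map, Scheme.Opens.range_ι]; exact ⟨h1, h2⟩
  obtain ⟨z', rfl⟩ := hzm
  have hz' : z' ∈ closure (Set.range (pullback.diagonal (U.ι ≫ f))) := by
    refine mem_closure_iff.mpr fun O hO hzO => ?_
    obtain ⟨_, ⟨w, hw, rfl⟩, x, hx⟩ := mem_closure_iff.mp hz _ (m.isOpenEmbedding.isOpenMap O hO) ⟨z', hzO, rfl⟩
    refine ⟨w, hw, ?_⟩
    have hxU : x ∈ U := by
      have : m w ∈ Set.range m := Set.mem_range_self w
      rw [← hx, Scheme.Pullback.range_map, Scheme.Opens.range_ι] at this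
      have e : pullback.fst f f (pullback.diagonal f x) = x := congr($(pullback.diagonal_fst f) x)
      exact e ▸ this.1
    refine ⟨⟨x, hxU⟩, m.isOpenEmbedding.injective ?_⟩
    exact (congr($hcomm ⟨x, hxU⟩)).trans hx
  rw [(pullback.diagonal (U.ι ≫ f)).isClosedEmbedding.isClosed_range.closure_eq] at hz'
  obtain ⟨x, rfl⟩ := hz'
  exact ⟨U.ι x, (congr($hcomm x)).symm⟩

end Groth.Agent.H17
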