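import Groth.Prelude.Def_FEt
import Groth.Agent.H4LC.TopClass
import Groth.Agent.H4LC.NonvanishingHeight
import Groth.Agent.S17753
import Mathlib

/-!
# An affine punctured spectrum forces dimension at most one
-/

set_option autoImplicit false
set_option linter.style.haveILetI false
universe u

open CategoryTheory AlgebraicGeometry IsLocalRing

namespace Groth.Agent.H17.PuncturedAffine

variable {A : Type u} [CommRing A] [IsLocalRing A] [IsNoetherianRing A]

theorem exists_nat_dim (A : Type u) [CommRing A] [IsLocalRing A] [IsNoetherianRing A] :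
    ∃ n : ℕ, ringKrullDim A = n := by
  rw [← IsLocalRing.maximalIdeal_height_eq_ringKrullDim]
  obtain ⟨h, hh⟩ := ENat.ne_top_iff_exists.1 (Ideal.height_ne_top (I := maximalIdeal A) (Ideal.IsPrime.ne_top'))
  exact ⟨h, by rw [← hh]; rfl⟩

/-- A noetherian local ring of dimension at least two has no algebra `B` with `m B = B` whose
structure map has `m`-torsion kernel and cokernel. -/
theorem ringKrullDim_le_one (B : Type u) [CommRing B] [Algebra A B]
    (htop : (maximalIdeal A).map (algebraMap A B) = ⊤)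
    (hcok : ∀ x ∈ maximalIdeal A, ∀ y : B, ∃ N : ℕ, algebraMap A B x ^ N * y ∈ Set.range (algebraMap A B))
    (hker : ∀ x ∈ maximalIdeal A, ∀ r : A, algebraMap A B r = 0 → ∃ N : ℕ, x ^ N * r = 0) :
    ringKrullDim A ≤ 1 := by
  classical
  obtain ⟨n, hn⟩ : ∃ n : ℕ, ringKrullDim A = n := Groth.Agent.H17.PuncturedAffine.exists_nat_dim A
  rw [hn]
  by_contra hlt
  have h2 : 2 ≤ n := by
    by_contra h; exact hlt (by exact_mod_cast (show n ≤ 1 by omega))
  obtain ⟨a, ha, hrad⟩ := Groth.Agent.S17753.result A n hn (maximalIdeal A) (Ideal.IsPrime.ne_top')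
  rw [(maximalIdeal.isMaximal A).isPrime.radical] at hrad
  -- the powers of the `a i` generate the unit ideal of `B`
  have hgen : ∀ t : ℕ, Ideal.span (Set.range fun i => algebraMap A B (a i ^ t)) = ⊤ := by
    intro t
    refine Ideal.eq_top_iff_one _ |>.mpr ?_
    have h1 : (Ideal.span (Set.range fun i => algebraMap A B (a i))) = ⊤ := by
      rw [← Ideal.radical_eq_top, eq_top_iff, ← htop]
      refine Ideal.map_le_iff_le_comap.mpr (fun x hx => ?_)
      rw [hrad] at hx
      obtain ⟨k, hk⟩ := hx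
      refine ⟨k, ?_⟩
      have := Ideal.mem_map_of_mem (algebraMap A B) hk
      rw [Ideal.map_span, ← Set.range_comp] at this
      rw [← map_pow]; exact this
    have h2' : Ideal.span (Set.range fun i => algebraMap A B (a i ^ t)) =
        Ideal.span ((fun z : B => z ^ t) '' Set.range fun i => algebraMap A B (a i)) := by
      rw [← Set.range_comp]; simp [Function.comp_def]
    rw [h2', Ideal.span_pow_eq_top _ h1 t]; trivial
  -- hence `(∏ a)^M ∈ (a ^ (M + t))` for every `t`
  have hrel : ∀ t : ℕ, ∃ M, (∏ i, a i) ^ M ∈ Ideal.span (Set.range fun i => a i ^ (M + t)) := by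
    intro t
    have h1 : (1 : B) ∈ Ideal.span (Set.range fun i => algebraMap A B (a i ^ t)) :=
      (hgen t).symm ▸ Submodule.mem_top
    obtain ⟨b, hb⟩ := (Submodule.mem_span_range_iff_exists_fun B).1 h1
    choose N hN using fun p : Fin n × Fin n => hcok (a p.1) (ha p.1) (b p.2)
    let M := Finset.univ.sup N
    have hc : ∀ i, ∃ c : A, algebraMap A B c = algebraMap A B ((∏ j ∈ Finset.univ.erase i, a j) ^ M) * b i := by
      intro i
      obtain ⟨j, hj⟩ : ∃ j, j ∈ Finset.univ.erase i := by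
        refine Finset.card_pos.mp ?_
        rw [Finset.card_erase_of_mem (Finset.mem_univ i), Finset.card_univ, Fintype.card_fin]
        omega
      obtain ⟨c, hc⟩ := hN (j, i)
      refine ⟨(∏ l ∈ (Finset.univ.erase i).erase j, a l) ^ M * a j ^ (M - N (j, i)) * c, ?_⟩
      have hle : N (j, i) ≤ M := Finset.le_sup (Finset.mem_univ _)
      rw [← Finset.mul_prod_erase _ _ hj, mul_pow, map_mul, map_mul, map_mul, hc]
      simp only [map_pow]
      rw [← pow_sub_mul_pow (algebraMap A B (a j)) hle]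
      ring
    choose c hc using hc
    let d : A := (∏ i, a i) ^ M - ∑ i, a i ^ (M + t) * c i
    have hd : algebraMap A B d = 0 := by
      simp only [d, map_sub, map_sum, map_mul, hc, map_pow]
      rw [sub_eq_zero]
      calc algebraMap A B (∏ i, a i) ^ M
          = algebraMap A B (∏ i, a i) ^ M * ∑ i, b i • algebraMap A B (a i ^ t) := by rw [hb, mul_one]
        _ = _ := by
          rw [Finset.mul_sum]
          refine Finset.sum_congr rfl fun i _ => ?_
          rw [← Finset.mul_prod_erase _ _ (Finset.mem_univ i), map_mul, smul_eq_mul, map_pow, pow_add]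
          ring
    have hprod : (∏ i, a i) ∈ maximalIdeal A :=
      Ideal.prod_mem (I := maximalIdeal A) (s := Finset.univ) (f := a) (i := ⟨0, by omega⟩)
        (Finset.mem_univ _) (ha _)
    obtain ⟨L, hL⟩ := hker _ hprod d hd
    refine ⟨L + M, ?_⟩
    have : (∏ i, a i) ^ (L + M) = ∑ i, a i ^ (L + M + t) * ((∏ j ∈ Finset.univ.erase i, a j) ^ L * c i) := by
      rw [pow_add, show (∏ i, a i) ^ M = d + ∑ i, a i ^ (M + t) * c i by simp [d], mul_add, hL, zero_add,
        Finset.mul_sum]
      refine Finset.sum_congr rfl fun i _ => ?_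
      rw [← Finset.mul_prod_erase _ _ (Finset.mem_univ i), mul_pow, pow_add, pow_add, pow_add]
      ring
    rw [this]
    exact Ideal.sum_mem _ fun i _ => Ideal.mul_mem_right _ _ (Ideal.subset_span ⟨i, rfl⟩)
  -- so the top local cohomology vanishes
  obtain ⟨Φ⟩ := Groth.Agent.H4LC.exists_topClasses A n a _ rfl
  have hsub : Subsingleton (LocCoh.H (Ideal.span (Set.range a)) n A) := by
    refine subsingleton_of_forall_eq 0 fun z => ?_
    obtain ⟨t, m, rfl⟩ := Φ.exists_eq z
    obtain ⟨M, hM⟩ := hrel t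
    rw [← Φ.compat_add t M m, add_comm t M]
    exact Φ.killed_span _ hM _
  obtain ⟨e⟩ := Groth.Agent.H4LC.nonempty_H_equiv_of_radical_eq
    (hrad.symm.trans (maximalIdeal.isMaximal A).isPrime.radical.symm) A n
  exact not_subsingleton_iff_nontrivial.2 (Groth.Agent.H4LC.nontrivial_H_ringKrullDim n hn)
    (e.toEquiv.subsingleton_congr.1 hsub)

/-- If the complement of the closed point of `Spec A` is an affine open then `dim A ≤ 1`. -/
theorem ringKrullDim_le_one_of_isAffineOpen (W : (Spec (CommRingCat.of A)).Opens)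
    (hW : IsAffineOpen W) (hmem : ∀ p : PrimeSpectrum A, p ∈ W ↔ p ≠ closedPoint A) :
    ringKrullDim A ≤ 1 := by
  let S := Spec (CommRingCat.of A)
  let φ : A →+* Γ(S, W) :=
    ((Scheme.ΓSpecIso (CommRingCat.of A)).inv ≫ S.presheaf.map (homOfLE (le_top : W ≤ ⊤)).op).hom
  letI := φ.toAlgebra
  have hbo : ∀ x : A, S.basicOpen (φ x) = W ⊓ PrimeSpectrum.basicOpen x := fun x => by
    show S.basicOpen (S.presheaf.map _ ((Scheme.ΓSpecIso (CommRingCat.of A)).inv x)) = _
    rw [Scheme.basicOpen_res, basicOpen_eq_of_affine]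
  have hle : ∀ x ∈ maximalIdeal A, S.basicOpen (φ x) = PrimeSpectrum.basicOpen x := fun x hx => by
    rw [hbo]
    refine inf_eq_right.mpr fun p hp => (hmem p).mpr fun he => ?_
    subst he
    exact hp hx
  refine ringKrullDim_le_one Γ(S, W) ?_ (fun x hx y => ?_) (fun x hx r hr => ?_)
  · rw [Ideal.map, ← hW.self_le_iSup_basicOpen_iff]
    intro p hp
    obtain ⟨x, hx, hxp⟩ : ∃ x ∈ maximalIdeal A, x ∉ p.asIdeal := by
      by_contra! h
      exact (hmem p).mp hp (PrimeSpectrum.ext
        ((maximalIdeal.isMaximal A).eq_of_le p.isPrime.ne_top h).symm)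
    refine TopologicalSpace.Opens.mem_iSup.mpr ⟨⟨φ x, x, hx, rfl⟩, ?_⟩
    rw [hle x hx]
    exact hxp
  · let θ := S.presheaf.map (homOfLE (le_top : W ≤ ⊤)).op
    let ρ := S.presheaf.map (homOfLE (S.basicOpen_le (φ x))).op
    let x' : Γ(S, ⊤) := (Scheme.ΓSpecIso (CommRingCat.of A)).inv x
    let ψ := S.presheaf.map (homOfLE (le_top : S.basicOpen (φ x) ≤ ⊤)).op
    have hψ : ∀ z, ρ (θ z) = ψ z := fun z => by
      simp only [ρ, θ, ψ, ← CommRingCat.comp_apply, ← Functor.map_comp]
      rfl
    letI : Algebra Γ(S, ⊤) Γ(S, S.basicOpen (φ x)) := ψ.hom.toAlgebra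
    haveI : IsLocalization.Away x' Γ(S, S.basicOpen (φ x)) :=
      IsAffineOpen.isLocalization_of_eq_basicOpen (isAffineOpen_top S) x' (V := S.basicOpen (φ x))
        (homOfLE le_top) (by rw [hle x hx]; exact (basicOpen_eq_of_affine (R := CommRingCat.of A) x).symm)
    haveI : IsLocalization.Away (φ x) Γ(S, S.basicOpen (φ x)) := hW.isLocalization_basicOpen (φ x)
    obtain ⟨k, c', hc⟩ := IsLocalization.Away.surj x' (ρ y)
    obtain ⟨c, hcc⟩ : ∃ c, (Scheme.ΓSpecIso (CommRingCat.of A)).inv c = c' :=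
      (Scheme.ΓSpecIso (CommRingCat.of A)).symm.commRingCatIsoToRingEquiv.surjective c'
    have hzero : ρ (φ x ^ k * y - φ c) = 0 := by
      rw [map_sub, map_mul, map_pow]
      show ρ (θ x') ^ k * ρ y - ρ (θ ((Scheme.ΓSpecIso (CommRingCat.of A)).inv c)) = 0
      rw [hcc, hψ, hψ, sub_eq_zero]
      exact (mul_comm _ _).trans hc
    obtain ⟨⟨_, m, rfl⟩, hm⟩ := (IsLocalization.map_eq_zero_iff (Submonoid.powers (φ x))
      Γ(S, S.basicOpen (φ x)) _).mp hzero
    refine ⟨m + k, x ^ m * c, ?_⟩
    show φ (x ^ m * c) = φ x ^ (m + k) * y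
    rw [map_mul, map_pow]
    change φ x ^ m * (φ x ^ k * y - φ c) = 0 at hm
    linear_combination -hm
  · let x' : Γ(S, ⊤) := (Scheme.ΓSpecIso (CommRingCat.of A)).inv x
    let ψ := S.presheaf.map (homOfLE (le_top : S.basicOpen (φ x) ≤ ⊤)).op
    letI : Algebra Γ(S, ⊤) Γ(S, S.basicOpen (φ x)) := ψ.hom.toAlgebra
    haveI : IsLocalization.Away x' Γ(S, S.basicOpen (φ x)) :=
      IsAffineOpen.isLocalization_of_eq_basicOpen (isAffineOpen_top S) x' (V := S.basicOpen (φ x))
        (homOfLE le_top) (by rw [hle x hx]; exact (basicOpen_eq_of_affine (R := CommRingCat.of A) x).symm)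
    have hz : ψ ((Scheme.ΓSpecIso (CommRingCat.of A)).inv r) = 0 := by
      have h1 : S.presheaf.map (homOfLE (S.basicOpen_le (φ x))).op (φ r) = 0 := by
        show S.presheaf.map _ (algebraMap A Γ(S, W) r) = 0
        rw [hr, map_zero]
      rw [← h1]
      simp only [φ, ψ, CommRingCat.hom_comp, RingHom.comp_apply, ← CommRingCat.comp_apply, ← Functor.map_comp]
      rfl
    obtain ⟨⟨_, m, rfl⟩, hm⟩ := (IsLocalization.map_eq_zero_iff
      (Submonoid.powers x') Γ(S, S.basicOpen (φ x)) _).mp hz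
    refine ⟨m, (Scheme.ΓSpecIso (CommRingCat.of A)).symm.commRingCatIsoToRingEquiv.injective ?_⟩
    simp only [map_mul, map_pow, map_zero]
    exact hm

end Groth.Agent.H17.PuncturedAffine
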