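import Groth.Agent.H29Slice.TransBC
import Groth.Agent.H13CInt.Spread
import Groth.Agent.H06QR.Regular
import Mathlib

/-!
# Regular and quasi-regular immersions over locally noetherian schemes
-/

set_option autoImplicit false
set_option linter.style.haveILetI false
universe u

open AlgebraicGeometry CategoryTheory CategoryTheory.Limits TopologicalSpace RingTheory.Sequence

namespace Groth.Agent.H17.RegQuasi

variable {X Z : Scheme.{u}}

theorem quasi_of_regular {R : Type u} [CommRing R] {rs : List R}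
    (h : RegImm.Kind.regular.Seq R rs) : RegImm.Kind.quasi.Seq R rs :=
  H06QR.Regular.isQuasiRegular_of_isWeaklyRegular rs.get (by rw [List.ofFn_get]; exact h.1)

/-- A quasi-regular sequence vanishing at a point spreads to a regular one nearby. -/
theorem exists_basicOpen_weaklyRegular [IsLocallyNoetherian X] (U : X.affineOpens) (x : X) (hx : x ∈ U.1)
    (rs : List Γ(X, U.1)) (hq : RegImm.Kind.quasi.Seq Γ(X, U.1) rs)
    (hmem : ∀ f ∈ rs, x ∉ X.basicOpen f) :
    ∃ t : Γ(X, U.1), x ∈ X.basicOpen t ∧ ∃ bs : List Γ(X, X.basicOpen t),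
      IsWeaklyRegular Γ(X, X.basicOpen t) bs ∧
        Ideal.ofList (rs.map (X.presheaf.map (homOfLE (X.basicOpen_le t)).op).hom) = Ideal.ofList bs := by
  let R := Γ(X, U.1)
  haveI : IsNoetherianRing R := IsLocallyNoetherian.component_noetherian U
  let p := (U.2.primeIdealOf ⟨x, hx⟩).asIdeal
  letI : Algebra R (X.presheaf.stalk x) := (X.presheaf.germ U.1 x hx).hom.toAlgebra
  haveI : IsLocalization.AtPrime (X.presheaf.stalk x) p := U.2.isLocalization_stalk ⟨x, hx⟩
  have hp : ∀ f : R, x ∉ X.basicOpen f ↔ f ∈ p := fun f => by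
    rw [X.mem_basicOpen f x hx, ← not_iff_not, not_not]
    exact IsLocalization.AtPrime.isUnit_to_map_iff (X.presheaf.stalk x) p f
  have hqA : RegImm.Kind.quasi.Seq (X.presheaf.stalk x) (rs.map (algebraMap R _)) :=
    H29Slice.seq_localization (Or.inr rfl) p.primeCompl hq
  let f : Fin (rs.map (algebraMap R (X.presheaf.stalk x))).length → X.presheaf.stalk x :=
    (rs.map (algebraMap R _)).get
  haveI : IsNoetherianRing (X.presheaf.stalk x) := IsLocalization.isNoetherianRing p.primeCompl _ inferInstance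
  have hw : IsWeaklyRegular (X.presheaf.stalk x) (List.ofFn f) := by
    refine H29Slice.isWeaklyRegular_of_isQuasiRegular _ f (fun i => ?_) hqA
    rw [IsLocalRing.jacobson_eq_maximalIdeal _ bot_ne_top]
    obtain ⟨g, hg, he⟩ := List.mem_map.mp (List.get_mem (rs.map (algebraMap R (X.presheaf.stalk x))) i)
    show f i ∈ _
    rw [show f i = algebraMap R _ g from he.symm]
    exact (IsLocalization.AtPrime.to_map_mem_maximal_iff (X.presheaf.stalk x) p g).mpr ((hp g).mp (hmem g hg))
  obtain ⟨t, ht, b, hb⟩ := H13CInt.exists_away_isWeaklyRegular p (Ideal.ofList rs) f hw (by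
    rw [Ideal.map_ofList]
    exact congrArg Ideal.span (Set.ext fun r => List.mem_iff_get))
  refine ⟨t, not_not.mp fun h => ht ((hp t).mp h), ?_⟩
  letI : Algebra R Γ(X, X.basicOpen t) := (X.presheaf.map (homOfLE (X.basicOpen_le t)).op).hom.toAlgebra
  haveI : IsLocalization.Away t Γ(X, X.basicOpen t) := U.2.isLocalization_basicOpen t
  obtain ⟨h1, h2⟩ := hb Γ(X, X.basicOpen t)
  refine ⟨_, h2, ?_⟩
  rw [Ideal.map_ofList] at h1
  exact h1.trans (congrArg Ideal.span (Set.ext fun r => List.mem_ofFn.symm))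

theorem regularImmersionAt_of_quasi [IsLocallyNoetherian X] (j : Z ⟶ X) (z : Z)
    (h : RegImm.IsRegularImmersionAt RegImm.Kind.quasi j z) :
    RegImm.IsRegularImmersionAt RegImm.Kind.regular j z := by
  obtain ⟨U, hz, hcl, rs, hrs, hker⟩ := h
  have hmem : ∀ f ∈ rs, j z ∉ X.basicOpen f := fun f hf hb => by
    have h0 : j.app U.1 f = 0 := (hker.ge (Ideal.subset_span hf) :)
    have h1 : z ∈ j ⁻¹ᵁ X.basicOpen f := hb
    rw [Scheme.preimage_basicOpen, h0, Scheme.basicOpen_zero] at h1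
    exact h1
  obtain ⟨t, hxt, bs, hbs, hideal⟩ := exists_basicOpen_weaklyRegular U (j z) hz rs hrs hmem
  have hle := X.basicOpen_le t
  have H : IsPullback (𝟙 Z) j j (𝟙 X) := IsPullback.of_horiz_isIso ⟨by simp⟩
  obtain ⟨hcl', hker'⟩ := H29Slice.restrict_baseChange H U.2 hcl (U.2.basicOpen t) (e := hle)
  have hk : RingHom.ker (j.app (X.basicOpen t)).hom = Ideal.ofList bs := by
    rw [← hideal, hker', hker, Ideal.map_ofList]
    simp only [Scheme.Hom.appLE, Scheme.Hom.id_app]
    rfl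
  exact ⟨⟨X.basicOpen t, U.2.basicOpen t⟩, hxt, hcl', bs, H29Slice.isRegular_of_mem j z hxt hbs hk, hk⟩

theorem regularIdeal_of_quasi [IsLocallyNoetherian X] (I : X.IdealSheafData)
    (h : RegImm.IsRegularIdeal RegImm.Kind.quasi I) : RegImm.IsRegularIdeal RegImm.Kind.regular I := by
  intro x hx
  obtain ⟨U, hxU, rs, hrs, hI⟩ := h x hx
  have hmem : ∀ f ∈ rs, x ∉ X.basicOpen f := fun f hf =>
    (Scheme.mem_zeroLocus_iff X _ x).mp ((I.mem_support_iff_of_mem hxU).mp hx) f (hI.ge (Ideal.subset_span hf))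
  obtain ⟨t, hxt, bs, hbs, hideal⟩ := exists_basicOpen_weaklyRegular U x hxU rs hrs hmem
  have hV : I.ideal ⟨X.basicOpen t, U.2.basicOpen t⟩ = Ideal.ofList bs := by
    rw [← hideal, ← I.map_ideal (V := U) (U := ⟨X.basicOpen t, U.2.basicOpen t⟩) (X.basicOpen_le t), hI,
      Ideal.map_ofList]
    rfl
  refine ⟨⟨X.basicOpen t, U.2.basicOpen t⟩, hxt, bs, ⟨hbs, ?_⟩, hV⟩
  rw [smul_eq_mul, Ideal.mul_top, ← hV]
  intro he
  have h1 := (Scheme.mem_zeroLocus_iff X _ x).mp
    ((I.mem_support_iff_of_mem (U := ⟨X.basicOpen t, U.2.basicOpen t⟩) hxt).mp hx)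
  refine h1 1 (he ▸ Submodule.mem_top) ?_
  rw [Scheme.basicOpen_of_isUnit X isUnit_one]
  exact hxt

end Groth.Agent.H17.RegQuasi
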