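import Groth.Agent.H17.Fibre

/-! Properties of a scheme near a point read off from the local ring. -/

universe u
open CategoryTheory AlgebraicGeometry TopologicalSpace

namespace Groth.Agent.H17

theorem isPrime_nilradical_stalk_iff (X : Scheme.{u}) (x : X) :
    (nilradical (X.presheaf.stalk x)).IsPrime ↔ ∃! g, g ∈ genericPoints X ∧ g ⤳ x := by
  let j := X.fromSpecStalk x
  have hr : ∀ {z : X}, z ⤳ x → ∃ a, j a = z := fun {z} hz => by
    have : z ∈ Set.range j := by rw [Scheme.range_fromSpecStalk]; exact hz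
    exact this
  have hr' : ∀ a, j a ⤳ x := fun a => by
    have : j a ∈ Set.range j := Set.mem_range_self a
    rw [Scheme.range_fromSpecStalk] at this; exact this
  have hgen : ∀ a, a ∈ genericPoints (Spec (X.presheaf.stalk x)) ↔ j a ∈ genericPoints X := by
    intro a
    rw [mem_genericPoints_iff, mem_genericPoints_iff]
    constructor
    · intro h z hz
      obtain ⟨b, rfl⟩ := hr (hz.trans (hr' a))
      rw [h b (j.isEmbedding.isInducing.specializes_iff.mp hz)]
    · intro h b hb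
      exact j.isEmbedding.injective (h _ (hb.map j.continuous))
  rw [← PrimeSpectrum.irreducibleSpace_iff_isPrime_nilradical]
  change IrreducibleSpace (Spec (X.presheaf.stalk x)) ↔ _
  constructor
  · intro _
    refine ⟨j (genericPoint (Spec (X.presheaf.stalk x))), ⟨(hgen _).mp ?_, hr' _⟩, ?_⟩
    · rw [genericPoints_eq_singleton]; rfl
    · rintro g ⟨hg, hgx⟩
      obtain ⟨a, rfl⟩ := hr hgx
      have := (hgen a).mpr hg
      rw [genericPoints_eq_singleton] at this
      exact congrArg _ this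
  · rintro ⟨g, ⟨hg, hgx⟩, huniq⟩
    obtain ⟨a, rfl⟩ := hr hgx
    have : closure ({a} : Set (Spec (X.presheaf.stalk x))) = Set.univ := by
      refine Set.eq_univ_of_forall fun b => ?_
      obtain ⟨c, hc, hcb⟩ := exists_genericPoint_specializes b
      rw [j.isEmbedding.injective (huniq (j c) ⟨(hgen c).mp hc, hr' c⟩)] at hcb
      exact specializes_iff_mem_closure.mp hcb
    refine (irreducibleSpace_def _).mpr ?_
    show IsIrreducible (Set.univ : Set (Spec (X.presheaf.stalk x)))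
    rw [← this]; exact isIrreducible_singleton.closure

/-- An affine neighbourhood of `x` all of whose irreducible components pass through `x`, provided
there are only finitely many components nearby. -/
theorem exists_affine_nhd_forall_generic_specializes {X : Scheme.{u}} (x : X) (W : X.Opens)
    (hxW : x ∈ W) (hfin : (genericPoints X ∩ (W : Set X)).Finite) :
    ∃ U : X.Opens, IsAffineOpen U ∧ x ∈ U ∧ U ≤ W ∧
      ∀ z ∈ U, ∀ g ∈ genericPoints X, g ⤳ z → g ⤳ x := by
  let G := {g ∈ genericPoints X ∩ (W : Set X) | ¬ g ⤳ x}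
  have hG : G.Finite := hfin.subset fun g h => h.1
  let O : X.Opens := ⟨(W : Set X) ∩ (⋃ g ∈ G, closure {g})ᶜ,
    W.2.inter (hG.isClosed_biUnion fun _ _ => isClosed_closure).isOpen_compl⟩
  have hxO : x ∈ O := ⟨hxW, fun h => by
    obtain ⟨g, hg, hx⟩ := Set.mem_iUnion₂.mp h
    exact hg.2 (specializes_iff_mem_closure.mpr hx)⟩
  obtain ⟨_, ⟨U, hU, rfl⟩, hxU, hUO⟩ := X.isBasis_affineOpens.exists_subset_of_mem_open hxO O.2
  refine ⟨U, hU, hxU, fun z hz => (hUO hz).1, fun z hz g hg hgz => ?_⟩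
  by_contra hgx
  exact (hUO hz).2 (Set.mem_iUnion₂.mpr
    ⟨g, ⟨⟨hg, hgz.mem_open W.2 (hUO hz).1⟩, hgx⟩, specializes_iff_mem_closure.mp hgz⟩)

theorem finite_genericPoints_inter_affine {X : Scheme.{u}} [IsLocallyNoetherian X] (W : X.Opens)
    (hW : IsAffineOpen W) : (genericPoints X ∩ (W : Set X)).Finite := by
  have : IsNoetherianRing Γ(X, W) := IsLocallyNoetherian.component_noetherian ⟨W, hW⟩
  have : NoetherianSpace W := noetherianSpace_of_isAffineOpen W hW
  have : NoetherianSpace ↥(W : Set X) := ‹NoetherianSpace W›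
  have : QuasiSober ↥(W : Set X) := W.2.isOpenEmbedding_subtypeVal.quasiSober
  refine (((genericPoints.finite (α := ↥(W : Set X)) NoetherianSpace.finite_irreducibleComponents).image
    Subtype.val)).subset ?_
  rintro g ⟨hg, hgW⟩
  refine ⟨⟨g, hgW⟩, mem_genericPoints_iff.mpr fun y hy => ?_, rfl⟩
  exact Subtype.ext (mem_genericPoints_iff.mp hg _ (hy.map continuous_subtype_val))

theorem exists_irreducible_nhd {X : Scheme.{u}} (x : X) (W : X.Opens) (hxW : x ∈ W)
    (hfin : (genericPoints X ∩ (W : Set X)).Finite)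
    (hx : (nilradical (X.presheaf.stalk x)).IsPrime) :
    ∃ U : X.Opens, x ∈ U ∧ U ≤ W ∧ IsAffineOpen U ∧ IsIrreducible (U : Set X) := by
  obtain ⟨g, ⟨hg, hgx⟩, huniq⟩ := (isPrime_nilradical_stalk_iff X x).mp hx
  obtain ⟨U, hU, hxU, hUW, hUg⟩ := exists_affine_nhd_forall_generic_specializes x W hxW hfin
  refine ⟨U, hxU, hUW, hU, ⟨x, hxU⟩, ?_⟩
  have key : ∀ z ∈ U, g ⤳ z := fun z hz => by
    obtain ⟨g', hg', hz'⟩ := exists_genericPoint_specializes z
    exact huniq g' ⟨hg', hUg z hz g' hg' hz'⟩ ▸ hz'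
  rintro u v hu hv ⟨a, ha, hau⟩ ⟨b, hb, hbv⟩
  exact ⟨g, hgx.mem_open U.2 hxU, (key a ha).mem_open hu hau, (key b hb).mem_open hv hbv⟩

theorem exists_reduced_nhd {X : Scheme.{u}} [IsLocallyNoetherian X] (x : X)
    [_root_.IsReduced (X.presheaf.stalk x)] :
    ∃ U : X.Opens, x ∈ U ∧ AlgebraicGeometry.IsReduced (U : Scheme.{u}) := by
  obtain ⟨_, ⟨(W : X.Opens), hW, rfl⟩, hxW, -⟩ :=
    X.isBasis_affineOpens.exists_subset_of_mem_open (Set.mem_univ x) isOpen_univ
  replace hW : IsAffineOpen W := hW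
  have : IsNoetherianRing Γ(X, W) := IsLocallyNoetherian.component_noetherian ⟨W, hW⟩
  let p := hW.primeIdealOf ⟨x, hxW⟩
  let := TopCat.Presheaf.algebra_section_stalk X.presheaf ⟨x, hxW⟩
  have hloc := hW.isLocalization_stalk ⟨x, hxW⟩
  have hkill : ∀ a ∈ nilradical Γ(X, W), ∃ s ∈ p.asIdeal.primeCompl, s * a = 0 := fun a ha => by
    have : algebraMap Γ(X, W) (X.presheaf.stalk x) a = 0 := by
      exact (IsNilpotent.map ha (algebraMap Γ(X, W) (X.presheaf.stalk x))).eq_zero
    obtain ⟨⟨s, hs⟩, h⟩ := (IsLocalization.map_eq_zero_iff p.asIdeal.primeCompl _ a).mp this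
    exact ⟨s, hs, h⟩
  obtain ⟨T, hT⟩ := IsNoetherian.noetherian (nilradical Γ(X, W))
  choose s hs hsa using fun a : T => hkill a (hT ▸ Ideal.subset_span a.2)
  let f := ∏ a : T, s a
  have hf : f ∈ p.asIdeal.primeCompl := prod_mem fun a _ => hs a
  have hfn : ∀ a ∈ nilradical Γ(X, W), f * a = 0 := fun a ha => by
    rw [← hT] at ha
    refine Submodule.span_induction (fun b hb => ?_) (mul_zero _)
      (fun _ _ _ _ h1 h2 => by rw [mul_add, h1, h2, add_zero])
      (fun c _ _ h => by rw [smul_eq_mul, mul_left_comm, h, mul_zero]) ha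
    obtain ⟨k, hk⟩ := Finset.dvd_prod_of_mem s (Finset.mem_univ (⟨b, hb⟩ : T))
    show (∏ a : T, s a) * b = 0
    rw [hk, mul_right_comm, hsa ⟨b, hb⟩, zero_mul]
  have hxf : x ∈ X.basicOpen f := by
    have h2 : p ∈ hW.fromSpec ⁻¹ᵁ X.basicOpen f := by
      rw [hW.fromSpec_preimage_basicOpen]; exact hf
    have h3 : hW.fromSpec p = x := hW.fromSpec_primeIdealOf _
    exact h3 ▸ h2
  refine ⟨X.basicOpen f, hxf, ?_⟩
  let := (X.presheaf.map (homOfLE (X.basicOpen_le f)).op).hom.toAlgebra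
  have : IsLocalization.Away f Γ(X, X.basicOpen f) := hW.isLocalization_of_eq_basicOpen _ _ rfl
  have hred : _root_.IsReduced Γ(X, X.basicOpen f) := by
    refine ⟨fun a ⟨n, hn⟩ => ?_⟩
    obtain ⟨a, t, rfl⟩ := IsLocalization.exists_mk'_eq (Submonoid.powers f) a
    rw [← IsLocalization.mk'_pow, IsLocalization.mk'_eq_zero_iff] at hn
    obtain ⟨⟨_, k, rfl⟩, hm⟩ := hn
    rw [IsLocalization.mk'_eq_zero_iff]
    refine ⟨⟨f ^ (k + 1), k + 1, rfl⟩, ?_⟩
    have hnil : IsNilpotent (f ^ k * a) := ⟨n + 1, by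
      rw [mul_pow, ← pow_mul, pow_succ a, ← mul_assoc]
      calc f ^ (k * (n + 1)) * a ^ n * a = f ^ (k * n) * (f ^ k * a ^ n) * a := by ring
        _ = 0 := by rw [show f ^ k * a ^ n = 0 from hm, mul_zero, zero_mul]⟩
    calc f ^ (k + 1) * a = f * (f ^ k * a) := by ring
      _ = 0 := hfn _ hnil
  have : IsAffine (X.basicOpen f).toScheme := hW.basicOpen f
  have : _root_.IsReduced Γ((X.basicOpen f).toScheme, ⊤) :=
    isReduced_of_injective (X.basicOpen f).topIso.hom.hom
      (ConcreteCategory.bijective_of_isIso (X.basicOpen f).topIso.hom).1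
  exact isReduced_of_isAffine_isReduced _

end Groth.Agent.H17
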