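import Groth.Agent.H17.AssPts
import Mathlib.RingTheory.Ideal.GoingUp
import Mathlib.AlgebraicGeometry.Morphisms.Integral

/-!
Associated points of direct images.
-/

set_option autoImplicit false

universe u

open CategoryTheory Limits AlgebraicGeometry TopologicalSpace Opposite

namespace Groth.Agent.H17.AssPts

variable {X Y : Scheme.{u}}

theorem push_map (f : X ⟶ Y) (M : X.Modules) {V W : Y.Opens} (h : W ≤ V)
    (s : Γ((Coh.push f).obj M, V)) :
    ((Coh.push f).obj M).presheaf.map (homOfLE h).op s =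
      (show Γ((Coh.push f).obj M, W) from
        M.presheaf.map (homOfLE (fun z hz => h hz : f ⁻¹ᵁ W ≤ f ⁻¹ᵁ V)).op
          (show Γ(M, f ⁻¹ᵁ V) from s)) := rfl

theorem push_smul (f : X ⟶ Y) (M : X.Modules) {V : Y.Opens} (r : Γ(Y, V))
    (s : Γ((Coh.push f).obj M, V)) :
    r • s = (show Γ((Coh.push f).obj M, V) from f.app V r • (show Γ(M, f ⁻¹ᵁ V) from s)) := rfl

theorem mem_basicOpen_app (f : X ⟶ Y) {V : Y.Opens} (t : Γ(Y, V)) (z : X) :
    z ∈ X.basicOpen (f.app V t) ↔ f z ∈ Y.basicOpen t := by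
  rw [← Scheme.preimage_basicOpen]
  rfl

/-- Associated points of a direct image come from associated points. -/
theorem ass_push_subset [IsLocallyNoetherian X] [IsLocallyNoetherian Y] (f : X ⟶ Y) [QuasiCompact f]
    (M : X.Modules) (hM : Coh.IsQCoh M) :
    AssSch.Ass ((Coh.push f).obj M) ⊆ f.base '' AssSch.Ass M := by
  classical
  intro x hx
  obtain ⟨V, hV, hxV, s, -, hne, hs⟩ := exists_section_of_ass _ hx (O := ⊤) trivial
  let s' : Γ(M, f ⁻¹ᵁ V) := s
  obtain ⟨G, hG, hGV⟩ := (isCompact_iff_finite_and_eq_biUnion_affineOpens (X := X)).1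
    (f.isCompact_preimage hV.isCompact)
  have hle : ∀ W ∈ G, (W : X.affineOpens).1 ≤ f ⁻¹ᵁ V := fun W hW z hz => by
    show z ∈ ((f ⁻¹ᵁ V : X.Opens) : Set X)
    rw [hGV]
    simp only [Opens.coe_iSup, Set.mem_iUnion]
    exact ⟨W, hW, hz⟩
  let J : X.affineOpens → Ideal Γ(Y, V) := fun W => if hW : W ∈ G then
    Ideal.comap (f.appLE V W.1 (hle W hW)).hom
      (LinearMap.ker (LinearMap.toSpanSingleton Γ(X, W.1) Γ(M, W.1)
        (M.presheaf.map (homOfLE (hle W hW)).op s'))) else ⊤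
  have hinf : hG.toFinset.inf J ≤ (hV.primeIdealOf ⟨x, hxV⟩).asIdeal := by
    intro t ht
    rw [mem_primeIdealOf hV hxV]
    intro hu
    refine hne (germ_eq_zero_of_smul _ hxV hu (s := s) ?_)
    show (show Γ((Coh.push f).obj M, V) from f.app V t • s') = _
    refine TopCat.Presheaf.section_ext (⟨M.presheaf, M.isSheaf⟩ : TopCat.Sheaf Ab.{u} X) (f ⁻¹ᵁ V)
      (f.app V t • s') 0 fun z hz => ?_
    obtain ⟨W, hW, hzW⟩ : ∃ W ∈ G, z ∈ (W : X.affineOpens).1 := by
      have hz' : z ∈ ((f ⁻¹ᵁ V : X.Opens) : Set X) := hz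
      rw [hGV] at hz'
      simpa using hz'
    have h1 : t ∈ J W := (Submodule.mem_finsetInf.1 ht) W (hG.mem_toFinset.2 hW)
    simp only [J, dif_pos hW, Ideal.mem_comap, LinearMap.mem_ker,
      LinearMap.toSpanSingleton_apply] at h1
    show M.presheaf.germ (f ⁻¹ᵁ V) z hz (f.app V t • s') = M.presheaf.germ (f ⁻¹ᵁ V) z hz 0
    rw [map_zero, ← TopCat.Presheaf.germ_res_apply M.presheaf (homOfLE (hle W hW)) z hzW,
      Scheme.Modules.map_smul]
    refine Eq.trans ?_ (map_zero (M.presheaf.germ W.1 z hzW).hom)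
    exact congrArg (M.presheaf.germ W.1 z hzW) h1
  obtain ⟨W, hW, hWle⟩ := ((hV.primeIdealOf ⟨x, hxV⟩).isPrime.inf_le').1 hinf
  rw [hG.mem_toFinset] at hW
  simp only [J, dif_pos hW] at hWle
  set φ := (f.appLE V W.1 (hle W hW)).hom
  set sW := M.presheaf.map (homOfLE (hle W hW)).op s'
  set K : Ideal Γ(X, W.1) := LinearMap.ker (LinearMap.toSpanSingleton Γ(X, W.1) Γ(M, W.1) sW)
  have : IsNoetherianRing Γ(X, W.1) := IsLocallyNoetherian.component_noetherian W
  have hfin : K.minimalPrimes.Finite := K.finite_minimalPrimes_of_isNoetherianRing _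
  have hrad : hfin.toFinset.inf (fun P => P.comap φ) ≤ (hV.primeIdealOf ⟨x, hxV⟩).asIdeal := by
    intro t ht
    have h1 : φ t ∈ K.radical := by
      rw [← Ideal.sInf_minimalPrimes, Ideal.mem_sInf]
      exact fun {P} hP => (Submodule.mem_finsetInf.1 ht) P (hfin.mem_toFinset.2 hP)
    obtain ⟨n, hn⟩ := h1
    exact (hV.primeIdealOf ⟨x, hxV⟩).isPrime.mem_of_pow_mem n (hWle (by
      rw [Ideal.mem_comap, map_pow]; exact hn))
  obtain ⟨P, hP, hPle⟩ := ((hV.primeIdealOf ⟨x, hxV⟩).isPrime.inf_le').1 hrad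
  rw [hfin.mem_toFinset] at hP
  obtain ⟨⟨z, hzW⟩, hz⟩ := H29Blow.exists_primeIdealOf_eq W.2 ⟨P, hP.1.1⟩
  have hzP : (W.2.primeIdealOf ⟨z, hzW⟩).asIdeal = P := congrArg PrimeSpectrum.asIdeal hz
  have hzV : f z ∈ V := hle W hW hzW
  obtain ⟨hw, -⟩ := isWeakAssPoint_of_minimal M hM W.2 hzW sW (hzP.symm ▸ hP)
  have hmem : ∀ r : Γ(Y, V), φ r ∈ P ↔ r ∈ (hV.primeIdealOf ⟨f z, hzV⟩).asIdeal := by
    intro r
    rw [← hzP, mem_primeIdealOf W.2 hzW, mem_primeIdealOf hV hzV, ← mem_basicOpen_app f]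
    rw [show φ r = X.presheaf.map (homOfLE (hle W hW)).op (f.app V r) from rfl, X.basicOpen_res]
    exact not_congr (and_iff_right hzW)
  refine ⟨z, (H29Blow.isAssPoint_iff_isWeakAssPoint M z).2 hw, ?_⟩
  have hfzx : f z ⤳ x := (H29Blow.primeIdealOf_le_iff hV ⟨f z, hzV⟩ ⟨x, hxV⟩).1
    fun r hr => hPle ((hmem r).2 hr)
  refine (hfzx.antisymm ?_).eq
  by_contra hnsp
  obtain ⟨t, hzt, -, n, hn⟩ := hs (f z) hzV hnsp
  have h1 : φ t ∈ P := by
    refine hP.1.1.mem_of_pow_mem n (hP.1.2 ?_)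
    rw [← map_pow]
    show φ (t ^ n) ∈ K
    rw [LinearMap.mem_ker, LinearMap.toSpanSingleton_apply]
    have h2 : M.presheaf.map (homOfLE (hle W hW)).op (f.app V (t ^ n) • s') = 0 := by
      rw [show f.app V (t ^ n) • s' = (0 : Γ(M, f ⁻¹ᵁ V)) from hn, map_zero]
    rw [Scheme.Modules.map_smul] at h2
    exact h2
  exact (mem_primeIdealOf hV hzV t).1 ((hmem t).1 h1) hzt

/-- An associated point maps to an associated point of the direct image if it lies in an open with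
affine preimage of an affine open. -/
theorem map_mem_ass_push [IsLocallyNoetherian X] (f : X ⟶ Y) (M : X.Modules) (hM : Coh.IsQCoh M)
    {z : X} (hz : z ∈ AssSch.Ass M) {V : Y.Opens} (hV : IsAffineOpen V)
    (hfV : IsAffineOpen (f ⁻¹ᵁ V)) (hzV : f z ∈ V) :
    f z ∈ AssSch.Ass ((Coh.push f).obj M) := by
  classical
  obtain ⟨-, m, hm⟩ := hz
  have hm0 : m ≠ 0 := fun h0 => by
    subst h0
    exact (IsLocalRing.maximalIdeal.isMaximal (X.presheaf.stalk z)).ne_top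
      (hm.trans (Ideal.radical_eq_top.2 (by ext; simp [Submodule.mem_colon_singleton])))
  have hzW : z ∈ f ⁻¹ᵁ V := hzV
  obtain ⟨t, s, ht, hts⟩ := exists_smul_germ_eq M hM hfV hzW m
  have : IsNoetherianRing Γ(X, f ⁻¹ᵁ V) := IsLocallyNoetherian.component_noetherian ⟨_, hfV⟩
  set P := (hfV.primeIdealOf ⟨z, hzW⟩).asIdeal
  obtain ⟨G, hG⟩ := IsNoetherian.noetherian P
  have hk : ∀ r ∈ G, ∃ (n : ℕ) (u : Γ(X, f ⁻¹ᵁ V)), z ∈ X.basicOpen u ∧ u • r ^ n • s = 0 := by
    intro r hr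
    have hmem : X.presheaf.germ _ z hzW r ∈ IsLocalRing.maximalIdeal (X.presheaf.stalk z) := by
      rw [IsLocalRing.mem_maximalIdeal, mem_nonunits_iff, isUnit_germ_iff]
      exact (mem_primeIdealOf hfV hzW r).1 (show r ∈ P from hG ▸ Submodule.subset_span hr)
    rw [hm] at hmem
    obtain ⟨n, hn⟩ := hmem
    rw [Submodule.mem_colon_singleton, Submodule.mem_bot] at hn
    refine ⟨n, exists_smul_eq_zero_of_germ M hM hfV hzW ?_⟩
    rw [germ_smul', map_pow, ← hts, smul_comm, hn, smul_zero]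
  choose n u hu hnu using hk
  set w : Γ(X, f ⁻¹ᵁ V) := ∏ r : G, u r.1 r.2
  have hw : z ∈ X.basicOpen w := by
    rw [← isUnit_germ_iff hzW, map_prod, IsUnit.prod_iff]
    exact fun r _ => (isUnit_germ_iff hzW _).2 (hu r.1 r.2)
  set K : Ideal Γ(X, f ⁻¹ᵁ V) :=
    LinearMap.ker (LinearMap.toSpanSingleton Γ(X, f ⁻¹ᵁ V) Γ(M, f ⁻¹ᵁ V) (w • s))
  have hPK : P ≤ K.radical := by
    rw [← hG, Submodule.span_le]
    intro r hr
    refine ⟨n r hr, ?_⟩
    show r ^ n r hr • w • s = 0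
    have : u r hr ∣ w := Finset.dvd_prod_of_mem (fun r : G => u r.1 r.2) (Finset.mem_univ ⟨r, hr⟩)
    obtain ⟨c, hc⟩ := this
    rw [hc, ← mul_smul, show r ^ n r hr * (u r hr * c) = c * (u r hr * r ^ n r hr) by ring, mul_smul,
      mul_smul, hnu r hr, smul_zero]
  have hne : M.presheaf.germ _ z hzW (w • s) ≠ 0 := by
    rw [germ_smul', Ne, ((isUnit_germ_iff hzW w).2 hw).smul_eq_zero, ← hts,
      ((isUnit_germ_iff hzW t).2 ht).smul_eq_zero]
    exact hm0
  set σ : Γ((Coh.push f).obj M, V) := w • s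
  set a := ((Coh.push f).obj M).presheaf.germ V (f z) hzV σ
  refine ⟨(IsLocalRing.maximalIdeal.isMaximal _).isPrime, a, le_antisymm ?_ ?_⟩
  · intro b hb
    letI := TopCat.Presheaf.algebra_section_stalk Y.presheaf (⟨f z, hzV⟩ : V)
    haveI := hV.isLocalization_stalk ⟨f z, hzV⟩
    obtain ⟨⟨b₀, v⟩, hbv⟩ := IsLocalization.surj (hV.primeIdealOf ⟨f z, hzV⟩).asIdeal.primeCompl b
    have hv : IsUnit (Y.presheaf.germ V (f z) hzV v.1) :=
      IsLocalization.map_units (Y.presheaf.stalk (f z)) v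
    have hb₀ : f.app V b₀ ∈ P := by
      rw [mem_primeIdealOf hfV hzW, mem_basicOpen_app, ← isUnit_germ_iff hzV]
      intro hb'
      have : IsUnit (b * Y.presheaf.germ V (f z) hzV v.1) := hbv.symm ▸ hb'
      exact hb (isUnit_of_mul_isUnit_left this)
    obtain ⟨k, hk⟩ := hPK hb₀
    refine ⟨k, ?_⟩
    rw [Submodule.mem_colon_singleton, Submodule.mem_bot]
    have h1 : Y.presheaf.germ V (f z) hzV (b₀ ^ k) • a = 0 := by
      refine (germ_smul' ((Coh.push f).obj M) hzV (b₀ ^ k) σ).symm.trans ?_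
      refine Eq.trans (congrArg _ ?_) (map_zero (((Coh.push f).obj M).presheaf.germ V (f z) hzV).hom)
      show f.app V (b₀ ^ k) • (w • s) = (0 : Γ(M, f ⁻¹ᵁ V))
      rw [map_pow]
      exact hk
    rw [map_pow, show Y.presheaf.germ V (f z) hzV b₀ = b * Y.presheaf.germ V (f z) hzV v.1 from
      hbv.symm, mul_pow, mul_comm, mul_smul] at h1
    exact (hv.pow k).smul_eq_zero.1 h1
  · refine IsLocalRing.le_maximalIdeal fun h => ?_
    rw [Ideal.radical_eq_top, Ideal.eq_top_iff_one, Submodule.mem_colon_singleton, Submodule.mem_bot,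
      one_smul] at h
    obtain ⟨V', hzV', i, j, hV'⟩ := ((Coh.push f).obj M).presheaf.germ_eq (f z) hzV hzV _ _
      (h.trans (map_zero (((Coh.push f).obj M).presheaf.germ V (f z) hzV).hom).symm)
    refine hne ?_
    have h2 := hV'.trans (map_zero _)
    rw [← TopCat.Presheaf.germ_res_apply M.presheaf ((Opens.map f.base).map i) z hzV']
    exact (congrArg (M.presheaf.germ (f ⁻¹ᵁ V') z hzV') h2).trans (map_zero _)

/-- No specializations within the fibres of an integral morphism. -/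
theorem eq_of_specializes_of_map_eq (f : X ⟶ Y) [IsIntegralHom f] {x y : X} (h : y ⤳ x)
    (he : f y = f x) : y = x := by
  obtain ⟨V, hV, hxV, -⟩ := exists_isAffineOpen_mem_and_subset (U := (⊤ : Y.Opens)) (x := f x) trivial
  have hfV : IsAffineOpen (f ⁻¹ᵁ V) := hV.preimage f
  have hx : x ∈ f ⁻¹ᵁ V := hxV
  have hy : y ∈ f ⁻¹ᵁ V := h.mem_open (f ⁻¹ᵁ V).2 hx
  have hint : (f.app V).hom.IsIntegral := IsIntegralHom.isIntegral_app f V hV
  letI := (f.app V).hom.toAlgebra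
  haveI : Algebra.IsIntegral Γ(Y, V) Γ(X, f ⁻¹ᵁ V) := ⟨hint⟩
  have hle := (H29Blow.primeIdealOf_le_iff hfV ⟨y, hy⟩ ⟨x, hx⟩).2 h
  have heq : (hfV.primeIdealOf ⟨y, hy⟩).asIdeal = (hfV.primeIdealOf ⟨x, hx⟩).asIdeal := by
    refine le_antisymm hle fun b hb => ?_
    by_contra hb'
    have hlt := Ideal.comap_lt_comap_of_integral_mem_sdiff (R := Γ(Y, V)) hle ⟨hb, hb'⟩
      (Algebra.IsIntegral.isIntegral b)
    refine hlt.ne (Ideal.ext fun r => ?_)
    simp only [Ideal.mem_comap, RingHom.algebraMap_toAlgebra]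
    rw [mem_primeIdealOf hfV hy, mem_primeIdealOf hfV hx, mem_basicOpen_app, mem_basicOpen_app, he]
  exact ((((H29Blow.primeIdealOf_le_iff hfV ⟨x, hx⟩ ⟨y, hy⟩).1 heq.ge)).antisymm h).eq.symm

end Groth.Agent.H17.AssPts
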