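import Groth.Agent.H17.Imports
import Mathlib.AlgebraicGeometry.SpreadingOut
import Mathlib.RingTheory.Ideal.MinimalPrime.Noetherian

/-! Gluing two morphisms on opens; integral neighbourhoods of points with domain local ring. -/

set_option autoImplicit false
universe u
open CategoryTheory AlgebraicGeometry TopologicalSpace Limits

namespace Groth.Agent.H17

theorem exists_glue_two {X Y : Scheme.{u}} (U V : X.Opens) (a : U.toScheme ⟶ Y) (b : V.toScheme ⟶ Y)
    (h : X.homOfLE inf_le_left ≫ a = X.homOfLE (inf_le_right : U ⊓ V ≤ V) ≫ b) :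
    ∃ c : (U ⊔ V).toScheme ⟶ Y, X.homOfLE le_sup_left ≫ c = a ∧ X.homOfLE le_sup_right ≫ c = b := by
  let W : ULift.{u} Bool → X.Opens := fun i => if i.down then U else V
  let g : ∀ i : ULift.{u} Bool, (W i).toScheme ⟶ Y
    | ⟨true⟩ => a
    | ⟨false⟩ => b
  have hcomp : ∀ i j, X.homOfLE inf_le_left ≫ g i = X.homOfLE (inf_le_right : W i ⊓ W j ≤ W j) ≫ g j := by
    rintro ⟨_ | _⟩ ⟨_ | _⟩
    · rfl
    · have e : V ⊓ U ≤ U ⊓ V := le_inf inf_le_right inf_le_left
      have h1 := congrArg (X.homOfLE e ≫ ·) h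
      simp only [Scheme.homOfLE_homOfLE_assoc] at h1
      exact h1.symm
    · exact h
    · rfl
  let 𝒰 := Scheme.Opens.iSupOpenCover W
  let c := 𝒰.glueMorphisms (Y := Y) g (fun i j => by
    have h1 := isPullback_opens_inf_le (le_iSup W i) (le_iSup W j)
    refine (cancel_epi h1.isoPullback.hom).mp ?_
    show h1.isoPullback.hom ≫ pullback.fst _ _ ≫ g i = h1.isoPullback.hom ≫ pullback.snd _ _ ≫ g j
    rw [h1.isoPullback_hom_fst_assoc, h1.isoPullback_hom_snd_assoc]
    exact hcomp i j)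
  have hW : U ⊔ V ≤ ⨆ i, W i := sup_le (le_iSup W ⟨true⟩) (le_iSup W ⟨false⟩)
  refine ⟨X.homOfLE hW ≫ c, ?_, ?_⟩
  · rw [Scheme.homOfLE_homOfLE_assoc]; exact 𝒰.ι_glueMorphisms _ _ ⟨true⟩
  · rw [Scheme.homOfLE_homOfLE_assoc]; exact 𝒰.ι_glueMorphisms _ _ ⟨false⟩

theorem finite_irreducibleComponents_of_isOpenEmbedding {X Y : Type u} [TopologicalSpace X]
    [TopologicalSpace Y] {f : Y → X} (hf : Topology.IsOpenEmbedding f)
    (hX : (irreducibleComponents X).Finite) : (irreducibleComponents Y).Finite := by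
  refine (hX.image (f ⁻¹' ·)).subset fun Z hZ => ?_
  obtain ⟨T, hT, hle⟩ := exists_mem_irreducibleComponents_subset_of_isIrreducible _
    (hZ.1.image f hf.continuous.continuousOn)
  obtain ⟨z, hz⟩ := hZ.1.1
  have h := preimage_mem_irreducibleComponents hT hf ⟨f z, hle ⟨z, hz, rfl⟩, z, rfl⟩
  exact ⟨T, hT, (hZ.eq_of_ge h.1 (Set.image_subset_iff.mp hle))⟩

/-- If a localisation at a prime is a domain, then so is a basic localisation, under finiteness. -/
theorem exists_notMem_isDomain_away {A : Type u} [CommRing A] (p : Ideal A) [p.IsPrime]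
    [IsDomain (Localization.AtPrime p)]
    (hA : IsNoetherianRing A ∨ (_root_.IsReduced A ∧ (minimalPrimes A).Finite)) :
    ∃ s ∉ p, IsDomain (Localization.Away s) := by
  let P := RingHom.ker (algebraMap A (Localization.AtPrime p))
  have hP : P.IsPrime := RingHom.ker_isPrime _
  have hPmem : ∀ a ∈ P, ∃ t ∉ p, t * a = 0 := fun a ha => by
    obtain ⟨t, ht⟩ := (IsLocalization.map_eq_zero_iff p.primeCompl _ a).mp ha
    exact ⟨t, t.2, ht⟩
  suffices ∃ s ∉ p, ∀ a ∈ P, s * a = 0 by
    obtain ⟨s, hs, hsP⟩ := this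
    refine ⟨s, hs, ?_⟩
    let φ : Localization.Away s →+* Localization.AtPrime p :=
      IsLocalization.lift (M := Submonoid.powers s) (g := algebraMap A _) fun y => by
        obtain ⟨n, hn⟩ := y.2
        rw [show (y : A) = s ^ n from hn.symm, map_pow]
        exact (IsLocalization.map_units (M := p.primeCompl) _ ⟨s, hs⟩).pow n
    refine Function.Injective.isDomain φ ((injective_iff_map_eq_zero φ).mpr fun z hz => ?_)
    obtain ⟨a, m, rfl⟩ := IsLocalization.exists_mk'_eq (Submonoid.powers s) z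
    simp only [φ, IsLocalization.lift_mk', Units.mul_inv_eq_iff_eq_mul, zero_mul] at hz
    rw [IsLocalization.mk'_eq_zero_iff]
    exact ⟨⟨s, Submonoid.mem_powers s⟩, hsP a hz⟩
  rcases hA with hA | ⟨hred, hfin⟩
  · obtain ⟨S, hS⟩ := (isNoetherianRing_iff_ideal_fg A).mp hA P
    classical
    choose t ht hta using fun a : S => hPmem a.1 (hS ▸ Ideal.subset_span a.2)
    refine ⟨∏ a, t a, fun h => ?_, fun a ha => ?_⟩
    · obtain ⟨i, -, hi⟩ := (Ideal.IsPrime.prod_mem_iff (p := p)).mp h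
      exact ht i hi
    · rw [← hS] at ha
      induction ha using Submodule.span_induction with
      | mem a ha =>
        rw [Finset.prod_eq_mul_prod_sdiff_singleton_of_mem (Finset.mem_univ (⟨a, ha⟩ : S)), mul_comm (t _), mul_assoc,
          hta, mul_zero]
      | zero => simp
      | add a b _ _ ha hb => rw [mul_add, ha, hb, add_zero]
      | smul c a _ h => rw [smul_eq_mul, mul_left_comm, h, mul_zero]
  · have key : ∀ Q ∈ minimalPrimes A, Q ≠ P → ∃ t ∈ Q, t ∉ p := fun Q hQ hne => by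
      by_contra! h
      have hQp : Q.IsPrime := hQ.1.1
      have hPQ : P ≤ Q := fun a ha => by
        obtain ⟨t, ht, hta⟩ := hPmem a ha
        exact (hQp.mem_or_mem (hta ▸ Q.zero_mem)).resolve_left fun htQ => ht (h t htQ)
      exact hne (le_antisymm (hQ.2 ⟨hP, bot_le⟩ hPQ) hPQ)
    choose! t htQ htp using key
    classical
    refine ⟨∏ Q ∈ hfin.toFinset.erase P, t Q, fun h => ?_, fun a ha => ?_⟩
    · obtain ⟨Q, hQ, hi⟩ := (Ideal.IsPrime.prod_mem_iff (p := p)).mp h
      rw [Finset.mem_erase, Set.Finite.mem_toFinset] at hQ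
      exact htp Q hQ.2 hQ.1 hi
    · have h0 : ∀ Q ∈ minimalPrimes A, (∏ Q ∈ hfin.toFinset.erase P, t Q) * a ∈ Q := fun Q hQ => by
        by_cases hQP : Q = P
        · exact Ideal.mul_mem_left _ _ (hQP ▸ ha)
        · exact Ideal.mul_mem_right _ _ (Ideal.mem_of_dvd _ (Finset.dvd_prod_of_mem t (Finset.mem_erase.mpr ⟨hQP, hfin.mem_toFinset.mpr hQ⟩)) (htQ Q hQ hQP))
      have : (∏ Q ∈ hfin.toFinset.erase P, t Q) * a ∈ nilradical A := by
        rw [nilradical, ← Ideal.sInf_minimalPrimes]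
        exact Ideal.mem_sInf.mpr fun {Q} hQ => h0 Q hQ
      rwa [nilradical_eq_zero, Submodule.zero_eq_bot, Submodule.mem_bot] at this

theorem exists_isIntegral_nhd {X : Scheme.{u}} (x : X) [IsDomain (X.presheaf.stalk x)]
    (hX : IsLocallyNoetherian X ∨ (IsReduced X ∧ (irreducibleComponents X).Finite)) :
    ∃ W : X.Opens, x ∈ W ∧ IsAffineOpen W ∧ IsIntegral W.toScheme := by
  obtain ⟨_, ⟨(V : X.Opens), hV, rfl⟩, hxV, -⟩ :=
    X.isBasis_affineOpens.exists_subset_of_mem_open (Set.mem_univ x) isOpen_univ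
  replace hV : IsAffineOpen V := hV
  let p := (hV.primeIdealOf ⟨x, hxV⟩).asIdeal
  let := X.presheaf.algebra_section_stalk ⟨x, hxV⟩
  have := hV.isLocalization_stalk ⟨x, hxV⟩
  have : IsDomain (Localization.AtPrime p) :=
    (IsLocalization.algEquiv p.primeCompl (Localization.AtPrime p) (X.presheaf.stalk x)).toRingEquiv.toMulEquiv.isDomain
  obtain ⟨s, hs, hdom⟩ := exists_notMem_isDomain_away p (by
    rcases hX with hX | ⟨hr, hf⟩
    · exact Or.inl (IsLocallyNoetherian.component_noetherian ⟨V, hV⟩)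
    · refine Or.inr ⟨inferInstance, ?_⟩
      have h1 := finite_irreducibleComponents_of_isOpenEmbedding hV.fromSpec.isOpenEmbedding hf
      have : Finite (irreducibleComponents (PrimeSpectrum Γ(X, V)))ᵒᵈ := h1.to_subtype
      exact Set.finite_coe_iff.mp (Finite.of_equiv _ (minimalPrimes.equivIrreducibleComponents _).toEquiv.symm))
  have := hV.isLocalization_basicOpen s
  have : IsDomain Γ(X, X.basicOpen s) :=
    (IsLocalization.algEquiv (Submonoid.powers s) (Localization.Away s) Γ(X, X.basicOpen s)).symm.toRingEquiv.toMulEquiv.isDomain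
  have hb := hV.basicOpen s
  refine ⟨X.basicOpen s, ?_, hb, ?_⟩
  · have h4 : hV.primeIdealOf ⟨x, hxV⟩ ∈ hV.fromSpec ⁻¹ᵁ X.basicOpen s := by
      rw [hV.fromSpec_preimage_basicOpen]; exact hs
    have h5 : hV.fromSpec (hV.primeIdealOf ⟨x, hxV⟩) ∈ X.basicOpen s := h4
    rwa [hV.fromSpec_primeIdealOf] at h5
  · have : IsIntegral (Spec Γ(X, X.basicOpen s)) := inferInstance
    have : Nonempty (X.basicOpen s).toScheme := by
      obtain ⟨q⟩ := (inferInstance : Nonempty (Spec Γ(X, X.basicOpen s)))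
      exact ⟨hb.isoSpec.inv q⟩
    exact isIntegral_of_isOpenImmersion hb.isoSpec.hom

end Groth.Agent.H17
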