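import Groth.Prelude.Def_ProCons
import Groth.Agent.H28Top.Noeth
import Groth.Agent.H28Top.Spectral
import Groth.Agent.H7Lim.Topology

/-!
Sets on a scheme which, on affine charts, come from constructible or ind-constructible sets of
Noetherian schemes (EGA IV 9.2.3, 9.3.3: topological part).
-/

set_option autoImplicit false
set_option linter.style.haveILetI false

universe u

open CategoryTheory Limits AlgebraicGeometry TopologicalSpace Topology Set

namespace Groth.Agent.H17.IndCons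

variable {S : Scheme.{u}} {E : Set S}

/-- `E` is constructible on every affine chart. -/
def ChartCons (E : Set S) : Prop :=
  ∀ (R : CommRingCat.{u}) (a : Spec R ⟶ S) [IsOpenImmersion a], IsConstructible (a ⁻¹' E)

/-- `E` is a union of constructible sets on every affine chart. -/
def ChartInd (E : Set S) : Prop :=
  ∀ (R : CommRingCat.{u}) (a : Spec R ⟶ S) [IsOpenImmersion a], ∀ y ∈ a ⁻¹' E,
    ∃ T, IsConstructible T ∧ y ∈ T ∧ T ⊆ a ⁻¹' E

theorem ChartCons.chartInd (h : ChartCons E) : ChartInd E :=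
  fun R a _ y hy => ⟨_, h R a, hy, subset_rfl⟩

theorem ChartCons.compl (h : ChartCons E) : ChartCons Eᶜ := fun R a _ => (h R a).compl

theorem exists_chart (x : S) :
    ∃ (R : CommRingCat.{u}) (a : Spec R ⟶ S), IsOpenImmersion a ∧ x ∈ range a := by
  obtain ⟨_, ⟨U, hU : IsAffineOpen U, rfl⟩, hxU, -⟩ :=
    S.isBasis_affineOpens.exists_subset_of_mem_open (mem_univ x) isOpen_univ
  exact ⟨Γ(S, U), hU.fromSpec, inferInstance, hU.range_fromSpec.ge hxU⟩

theorem ChartCons.isLocallyConstructible (h : ChartCons E) : IsLocallyConstructible E := by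
  intro x
  obtain ⟨R, a, _, hx⟩ := exists_chart x
  refine ⟨range a, a.isOpenEmbedding.isOpen_range.mem_nhds hx, a.isOpenEmbedding.isOpen_range, ?_⟩
  let e := a.isOpenEmbedding.toIsEmbedding.toHomeomorph
  have h2 : e '' (a ⁻¹' E) = Subtype.val ⁻¹' E := by
    ext ⟨y, z, rfl⟩
    constructor
    · rintro ⟨z', hz', he⟩
      have h3 : a z' = a z := congrArg Subtype.val he
      show a z ∈ E
      rw [← h3]
      exact hz'
    · exact fun h => ⟨z, h, Subtype.ext rfl⟩
  rw [← h2]
  exact (h R a).image_of_isOpenEmbedding e.isOpenEmbedding (by rw [e.surjective.range_eq]; exact IsRetrocompact.univ)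

theorem ChartInd.isIndConstructible (h : ChartInd E) : ProCons.IsIndConstructible E := by
  intro x
  obtain ⟨R, a, _, hx⟩ := exists_chart x
  let e := a.isOpenEmbedding.toIsEmbedding.toHomeomorph
  refine ⟨range a, a.isOpenEmbedding.isOpen_range, hx,
    (fun T => e '' T) '' {T | IsConstructible T ∧ T ⊆ a ⁻¹' E}, ?_, ?_⟩
  · rintro _ ⟨T, ⟨hT, -⟩, rfl⟩
    exact (hT.image_of_isOpenEmbedding e.isOpenEmbedding
      (by rw [e.surjective.range_eq]; exact IsRetrocompact.univ)).isLocallyConstructible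
  · ext ⟨y, z, rfl⟩
    constructor
    · intro hz
      obtain ⟨T, hT, hzT, hsub⟩ := h R a z hz
      exact ⟨_, ⟨T, ⟨hT, hsub⟩, rfl⟩, z, hzT, Subtype.ext rfl⟩
    · rintro ⟨_, ⟨T, ⟨-, hsub⟩, rfl⟩, z', hz', he⟩
      have h3 : a z' = a z := congrArg Subtype.val he
      show a z ∈ E
      rw [← h3]
      exact hsub hz'

/-- An ind-constructible set containing the generic point is a neighbourhood of it. -/
theorem ChartInd.genericPoint_mem_interior [IrreducibleSpace S] (h : ChartInd E)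
    (hη : genericPoint S ∈ E) : genericPoint S ∈ interior E := by
  obtain ⟨R, a, _, y, hy⟩ := exists_chart (genericPoint S)
  obtain ⟨T, hT, hyT, hsub⟩ := h R a y (show a y ∈ E from hy.symm ▸ hη)
  have hgen : closure ({y} : Set (Spec R)) = univ := by
    refine eq_univ_of_forall fun z => (a.isEmbedding.isInducing.specializes_iff.1 ?_).mem_closure
    exact hy.symm ▸ genericPoint_specializes (a z)
  haveI : Nonempty (Spec R) := ⟨y⟩
  obtain ⟨U, hU, ⟨z, hzU, -⟩, hUT⟩ := H28Top.IsConstructible.exists_isOpen_inter_subset (Y := univ) hT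
    (hgen ▸ isIrreducible_singleton.closure) (by
      rw [inter_univ, ← hgen]
      exact closure_mono (singleton_subset_iff.2 hyT))
  have hyU : y ∈ U := (specializes_iff_mem_closure.mpr (hgen ▸ mem_univ z)).mem_open hU hzU
  refine interior_maximal ?_ (a.isOpenEmbedding.isOpenMap U hU) ⟨y, hyU, hy⟩
  rintro _ ⟨w, hw, rfl⟩
  exact hsub (hUT ⟨hw, mem_univ w⟩)

/-! ### Charts coming from Noetherian schemes -/

theorem chartCons_of_models
    (h : ∀ (R : CommRingCat.{u}) (a : Spec R ⟶ S) [IsOpenImmersion a],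
      ∃ (S₀ : Scheme.{u}) (π : Spec R ⟶ S₀) (E₀ : Set S₀),
        IsConstructible E₀ ∧ a ⁻¹' E = π ⁻¹' E₀) : ChartCons E := by
  intro R a _
  obtain ⟨S₀, π, E₀, hE₀, e⟩ := h R a
  exact e ▸ (H7Lim.isLocallyConstructible_preimage hE₀.isLocallyConstructible π).isConstructible

theorem chartInd_of_models
    (h : ∀ (R : CommRingCat.{u}) (a : Spec R ⟶ S) [IsOpenImmersion a],
      ∃ (S₀ : Scheme.{u}) (π : Spec R ⟶ S₀) (E₀ : Set S₀),
        (∀ s ∈ E₀, ∃ T, IsConstructible T ∧ s ∈ T ∧ T ⊆ E₀) ∧ a ⁻¹' E = π ⁻¹' E₀) : ChartInd E := by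
  intro R a _ y hy
  obtain ⟨S₀, π, E₀, hE₀, e⟩ := h R a
  rw [e] at hy ⊢
  obtain ⟨T, hT, hyT, hsub⟩ := hE₀ (π y) hy
  exact ⟨π ⁻¹' T, (H7Lim.isLocallyConstructible_preimage hT.isLocallyConstructible π).isConstructible,
    hyT, preimage_mono hsub⟩

/-! ### Limits -/

/-- If the preimage of an ind-constructible set in the limit is everything, this holds at some stage. -/
theorem exists_stage_eq_univ {I : Type u} [Category.{u} I] [IsCofiltered I] {D : I ⥤ Scheme.{u}}
    {c : Cone D} (hc : IsLimit c) [∀ (i j : I) (f : i ⟶ j), IsAffineHom (D.map f)] (i : I)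
    [CompactSpace ↥(D.obj i)] {E : Set (D.obj i)} (hE : ChartInd E)
    (h : c.π.app i ⁻¹' E = univ) : ∃ (j : I) (φ : j ⟶ i), D.map φ ⁻¹' E = univ := by
  have key : ∀ x : D.obj i, ∃ (U : (D.obj i).Opens) (F : Set (D.obj i)), x ∈ U ∧
      H7Lim.QCImage F ∧ c.π.app i ⁻¹' F = ∅ ∧ (U : Set (D.obj i)) \ F ⊆ E := by
    intro x
    obtain ⟨R, a, _, hx⟩ := exists_chart x
    haveI : IsAffineHom (c.π.app i) := isAffineHom_π_app D c hc i
    let q := pullback.fst a (c.π.app i)
    haveI : IsAffine (pullback a (c.π.app i)) := isAffine_of_isAffineHom q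
    let P := pullback a (c.π.app i)
    have hcov : (univ : Set P) ⊆ ⋃ T : {T : Set (Spec R) // IsConstructible T ∧ T ⊆ a ⁻¹' E}, q ⁻¹' T.1 := by
      intro z _
      have hz : a (q z) ∈ E := by
        rw [← Scheme.Hom.comp_apply, pullback.condition, Scheme.Hom.comp_apply]
        exact h.ge (mem_univ _)
      obtain ⟨T, hT, hzT, hsub⟩ := hE R a (q z) hz
      exact mem_iUnion.2 ⟨⟨T, hT, hsub⟩, hzT⟩
    obtain ⟨t, ht⟩ := @IsCompact.elim_finite_subcover P (constructibleTopology P) _ _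
      (@CompactSpace.isCompact_univ _ (constructibleTopology P) (H28Top.compactSpace_constr P))
      (fun T : {T : Set (Spec R) // IsConstructible T ∧ T ⊆ a ⁻¹' E} => q ⁻¹' T.1)
      (fun T => H28Top.isOpen_constr_of_isConstructible
        (H7Lim.isLocallyConstructible_preimage T.2.1.isLocallyConstructible q).isConstructible) hcov
    let T₀ : Set (Spec R) := ⋃ T ∈ t, T.1
    have hT₀ : IsConstructible T₀ := IsConstructible.biUnion t.finite_toSet fun T _ => T.2.1
    obtain ⟨S, _, φ, hφ⟩ := PrimeSpectrum.exists_range_eq_of_isConstructible hT₀.compl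
    refine ⟨a.opensRange, range (Spec.map (CommRingCat.ofHom φ) ≫ a), hx, H7Lim.qcImage_range _, ?_, ?_⟩
    · refine eq_empty_of_forall_notMem fun z hz => ?_
      rw [mem_preimage, Scheme.Hom.comp_base, TopCat.coe_comp, range_comp] at hz
      obtain ⟨w, hw, hwz⟩ := hz
      obtain ⟨p, hp₁, hp₂⟩ := Scheme.Pullback.exists_preimage_pullback (f := a) (g := c.π.app i) w z hwz
      have hw' : w ∈ T₀ᶜ := hφ.le hw
      obtain ⟨T, hT, hpT⟩ := mem_iUnion₂.1 (ht (mem_univ p))
      exact hw' (mem_iUnion₂.2 ⟨T, hT, hp₁ ▸ hpT⟩)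
    · rintro _ ⟨⟨w, rfl⟩, hw⟩
      rw [Scheme.Hom.comp_base, TopCat.coe_comp, range_comp] at hw
      have : w ∈ T₀ := by_contra fun hn => hw ⟨w, hφ.ge hn, rfl⟩
      obtain ⟨T, -, hwT⟩ := mem_iUnion₂.1 this
      exact T.2.2 hwT
  choose U F hxU hF hF0 hUF using key
  obtain ⟨t, ht⟩ := isCompact_univ.elim_finite_subcover (fun x => (U x : Set (D.obj i)))
    (fun x => (U x).isOpen) (fun x _ => mem_iUnion.2 ⟨x, hxU x⟩)
  obtain ⟨j, φ, hφ⟩ := (H7Lim.qcImage_biUnion t.finite_toSet (fun x _ => hF x)).exists_preimage_eq_empty hc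
    (by rw [preimage_iUnion₂]; simp [hF0])
  refine ⟨j, φ, eq_univ_of_forall fun z => ?_⟩
  obtain ⟨x, hx, hzU⟩ := mem_iUnion₂.1 (ht (mem_univ (D.map φ z)))
  exact hUF x ⟨hzU, fun hzF => (eq_empty_iff_forall_notMem.1 hφ) z (mem_iUnion₂.2 ⟨x, hx, hzF⟩)⟩

end Groth.Agent.H17.IndCons
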