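import Mathlib.AlgebraicGeometry.Normalization
import Mathlib.AlgebraicGeometry.Noetherian
import Groth.Prelude.Def_Pi1
import Groth.Agent.H17.GenericStalk
import Groth.Agent.H17.Fibre

/-! The relative normalization in a normal scheme with locally finitely many components is normal. -/

set_option autoImplicit false
set_option linter.style.haveILetI false
universe u
open CategoryTheory CategoryTheory.Limits AlgebraicGeometry TopologicalSpace Opposite

namespace Groth.Agent.H17.NormalNormalization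

section Algebra

variable {A B : Type u} [CommRing A] [CommRing B] [Algebra A B] {ι : Type u} [Finite ι]
  (K : ι → Type u) [∀ i, Field (K i)] (χ : ∀ i, B →+* K i)
  (hinj : ∀ b, (∀ i, χ i b = 0) → b = 0)
  (hsurj : ∀ i (x : K i), (∃ p : Polynomial B, p.Monic ∧ p.eval₂ (χ i) x = 0) →
    ∃ b, χ i b = x ∧ ∀ j, j ≠ i → χ j b = 0)

omit [Finite ι] in
include hsurj in
theorem exists_idem (i : ι) : ∃ e, χ i e = 1 ∧ ∀ j, j ≠ i → χ j e = 0 :=
  hsurj i 1 ⟨Polynomial.X - Polynomial.C 1, Polynomial.monic_X_sub_C 1, by simp⟩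

include hinj in
theorem exists_ker_le (p : Ideal B) [p.IsPrime] : ∃ i, RingHom.ker (χ i) ≤ p := by
  classical
  cases nonempty_fintype ι
  by_contra hcon
  push Not at hcon
  choose b hb hbp using fun i => SetLike.not_le_iff_exists.1 (hcon i)
  have h0 : ∏ i, b i = 0 := hinj _ fun i => by
    rw [map_prod]; exact Finset.prod_eq_zero (Finset.mem_univ i) (hb i)
  obtain ⟨i, -, hi⟩ := (Ideal.IsPrime.prod_mem_iff (p := p)).1 (h0 ▸ p.zero_mem)
  exact hbp i hi

omit [Finite ι] in
include hsurj in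
theorem ker_eq_of_le {i j : ι} (h : RingHom.ker (χ i) ≤ RingHom.ker (χ j)) : i = j := by
  obtain ⟨e, he, he'⟩ := exists_idem K χ hsurj j
  by_contra hne
  exact one_ne_zero (he.symm.trans (h (he' i hne)))

include hinj hsurj in
theorem normal_atPrime (p : Ideal B) [p.IsPrime] :
    IsDomain (Localization.AtPrime p) ∧ IsIntegrallyClosed (Localization.AtPrime p) := by
  obtain ⟨i, hi⟩ := exists_ker_le K χ hinj p
  let T := Localization.AtPrime p
  have hu : ∀ u : p.primeCompl, IsUnit (χ i u) := fun u =>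
    (isUnit_iff_ne_zero).2 fun h0 => u.2 (hi h0)
  let θ : T →+* K i := IsLocalization.lift hu
  have hθ : ∀ b, θ (algebraMap B T b) = χ i b := IsLocalization.lift_eq hu
  obtain ⟨e, he, he'⟩ := exists_idem K χ hsurj i
  have hep : e ∉ p := fun h => by
    have h1 : (1 - e) ∈ RingHom.ker (χ i) := by simp [RingHom.mem_ker, he]
    exact (Ideal.IsPrime.ne_top inferInstance) ((Ideal.eq_top_iff_one p).2 (by simpa using add_mem (hi h1) h))
  have hθi : Function.Injective θ := by
    rw [injective_iff_map_eq_zero]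
    intro x hx
    obtain ⟨b, u, rfl⟩ := IsLocalization.exists_mk'_eq p.primeCompl x
    rw [IsLocalization.mk'_eq_zero_iff]
    have h1 := congrArg θ (IsLocalization.mk'_spec T b u)
    rw [map_mul, hx, zero_mul, hθ] at h1
    refine ⟨⟨e, hep⟩, hinj _ fun j => ?_⟩
    show χ j (e * b) = 0
    by_cases hj : j = i
    · subst hj; rw [map_mul, ← h1, mul_zero]
    · rw [map_mul, he' j hj, zero_mul]
  haveI : IsDomain T := hθi.isDomain θ
  refine ⟨inferInstance, (isIntegrallyClosed_iff (FractionRing T)).2 fun {z} hz => ?_⟩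
  let φ : FractionRing T →+* K i := IsFractionRing.lift hθi
  have hφ : ∀ t, φ (algebraMap T (FractionRing T) t) = θ t := IsFractionRing.lift_algebraMap hθi
  obtain ⟨c, hc⟩ := IsIntegral.exists_multiple_integral_of_isLocalization p.primeCompl z hz
  obtain ⟨f, hf, hfz⟩ := hc
  have hcomp : φ.comp (algebraMap B (FractionRing T)) = χ i := RingHom.ext fun b => by
    rw [RingHom.comp_apply, IsScalarTower.algebraMap_apply B T (FractionRing T), hφ, hθ]
  obtain ⟨b, hb, -⟩ := hsurj i (φ (c • z)) ⟨f, hf, by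
    rw [← hcomp, ← Polynomial.hom_eval₂, hfz, map_zero]⟩
  refine ⟨IsLocalization.mk' T b c, φ.injective ?_⟩
  have h2 := congrArg θ (IsLocalization.mk'_spec T b c)
  rw [map_mul, hθ, hθ, hb, Submonoid.smul_def, Algebra.smul_def, map_mul,
    show φ (algebraMap B (FractionRing T) c) = χ i c from congr($hcomp _), mul_comm (χ i c)] at h2
  rw [hφ]
  exact mul_right_cancel₀ (hu c).ne_zero h2

include hinj hsurj in
theorem mem_minimalPrimes_iff (p : Ideal B) :
    p ∈ minimalPrimes B ↔ ∃ i, RingHom.ker (χ i) = p := by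
  constructor
  · intro hp
    haveI := Ideal.minimalPrimes_isPrime hp
    obtain ⟨i, hi⟩ := exists_ker_le K χ hinj p
    exact ⟨i, le_antisymm hi (hp.2 ⟨RingHom.ker_isPrime _, bot_le⟩ hi)⟩
  · rintro ⟨i, rfl⟩
    refine ⟨⟨RingHom.ker_isPrime _, bot_le⟩, fun q hq hqi => ?_⟩
    haveI := hq.1
    obtain ⟨j, hj⟩ := exists_ker_le K χ hinj q
    obtain rfl := ker_eq_of_le K χ hsurj (hj.trans hqi)
    exact hj

end Algebra

section Scheme

variable {Y : Scheme.{u}}

/-- At a point whose local ring is a domain the map to the stalk at a generic point is injective, with fractions. -/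
theorem stalkSpecializes_injective {y g : Y} [IsDomain (Y.presheaf.stalk y)]
    [Nontrivial (Y.presheaf.stalk g)] (h : g ⤳ y) :
    Function.Injective (Y.presheaf.stalkSpecializes h).hom := by
  rw [injective_iff_map_eq_zero]
  intro s hs
  obtain ⟨U, hyU, s, rfl⟩ := Y.presheaf.exists_germ_eq s
  obtain ⟨_, ⟨U', hU', rfl⟩, hyU', hU'U⟩ :=
    Y.isBasis_affineOpens.exists_subset_of_mem_open hyU U.2
  rw [← TopCat.Presheaf.germ_res_apply Y.presheaf (homOfLE (show U' ≤ U from hU'U)) y hyU' s] at hs ⊢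
  generalize Y.presheaf.map (homOfLE (show U' ≤ U from hU'U)).op s = a at hs ⊢
  rw [TopCat.Presheaf.germ_stalkSpecializes_apply] at hs
  have hgU : g ∈ U' := h.mem_open U'.2 hyU'
  letI := TopCat.Presheaf.algebra_section_stalk Y.presheaf (U := U') ⟨g, hgU⟩
  haveI := hU'.isLocalization_stalk ⟨g, hgU⟩
  obtain ⟨⟨b, hb⟩, hba⟩ := (IsLocalization.map_eq_zero_iff
    (hU'.primeIdealOf ⟨g, hgU⟩).asIdeal.primeCompl (Y.presheaf.stalk g) a).1 hs
  have h1 : Y.presheaf.germ U' y hyU' b * Y.presheaf.germ U' y hyU' a = 0 := by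
    rw [← map_mul]; exact (congrArg _ hba).trans (map_zero _)
  refine (mul_eq_zero.1 h1).resolve_left fun hb0 => ?_
  have h2 := congrArg (Y.presheaf.stalkSpecializes h) hb0
  rw [TopCat.Presheaf.germ_stalkSpecializes_apply, map_zero] at h2
  exact (IsLocalization.map_units (Y.presheaf.stalk g)
    (⟨b, hb⟩ : (hU'.primeIdealOf ⟨g, hgU⟩).asIdeal.primeCompl)).ne_zero h2

theorem stalkSpecializes_exists_div {y g : Y} (h : g ⤳ y) (z : Y.presheaf.stalk g) :
    ∃ a b : Y.presheaf.stalk y, IsUnit ((Y.presheaf.stalkSpecializes h).hom b) ∧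
      z * (Y.presheaf.stalkSpecializes h).hom b = (Y.presheaf.stalkSpecializes h).hom a := by
  obtain ⟨_, ⟨U, hU, rfl⟩, hyU, -⟩ :=
    Y.isBasis_affineOpens.exists_subset_of_mem_open (Set.mem_univ y) isOpen_univ
  have hgU : g ∈ U := h.mem_open U.2 hyU
  letI := TopCat.Presheaf.algebra_section_stalk Y.presheaf (U := U) ⟨g, hgU⟩
  haveI := hU.isLocalization_stalk ⟨g, hgU⟩
  obtain ⟨a, b, rfl⟩ := IsLocalization.exists_mk'_eq (hU.primeIdealOf ⟨g, hgU⟩).asIdeal.primeCompl z
  refine ⟨Y.presheaf.germ U y hyU a, Y.presheaf.germ U y hyU b, ?_, ?_⟩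
  · rw [TopCat.Presheaf.germ_stalkSpecializes_apply]
    exact IsLocalization.map_units (Y.presheaf.stalk g) b
  · rw [TopCat.Presheaf.germ_stalkSpecializes_apply, TopCat.Presheaf.germ_stalkSpecializes_apply]
    exact IsLocalization.mk'_spec (Y.presheaf.stalk g) a b

/-- An element of the stalk at `g` integral over the local ring at a normal `y` comes from it. -/
theorem exists_eq_of_integral {y g : Y} [IsDomain (Y.presheaf.stalk y)] [IsIntegrallyClosed (Y.presheaf.stalk y)]
    (hg : IsField (Y.presheaf.stalk g)) (h : g ⤳ y) (z : Y.presheaf.stalk g)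
    (hz : ∃ p : Polynomial (Y.presheaf.stalk y), p.Monic ∧ p.eval₂ (Y.presheaf.stalkSpecializes h).hom z = 0) :
    ∃ s, (Y.presheaf.stalkSpecializes h).hom s = z := by
  letI : Field (Y.presheaf.stalk g) := hg.toField
  have hψ := stalkSpecializes_injective h
  let φ : FractionRing (Y.presheaf.stalk y) →+* Y.presheaf.stalk g := IsFractionRing.lift hψ
  have hφ : ∀ t, φ (algebraMap _ _ t) = (Y.presheaf.stalkSpecializes h).hom t :=
    IsFractionRing.lift_algebraMap hψ
  obtain ⟨a, b, hbu, hab⟩ := stalkSpecializes_exists_div h z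
  let w := algebraMap _ (FractionRing (Y.presheaf.stalk y)) a / algebraMap _ _ b
  have hw : φ w = z := by
    rw [map_div₀, hφ, hφ, ← hab, mul_div_assoc, div_self hbu.ne_zero, mul_one]
  obtain ⟨p, hp, hpz⟩ := hz
  have : _root_.IsIntegral (Y.presheaf.stalk y) w := ⟨p, hp, φ.injective (by
    rw [map_zero, Polynomial.hom_eval₂, hw,
      show φ.comp (algebraMap _ _) = (Y.presheaf.stalkSpecializes h).hom from RingHom.ext hφ]
    exact hpz)⟩
  obtain ⟨s, hs⟩ := IsIntegrallyClosed.isIntegral_iff.1 this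
  exact ⟨s, by rw [← hφ, hs, hw]⟩

variable (hY : Pi1.IsNormalScheme Y)
  (hfin : LocallyFinite (fun Z : ↥(irreducibleComponents ↥Y) => (Z : Set ↥Y)))

include hY in
theorem isReduced_of_normal : IsReduced Y := by
  haveI : ∀ y, _root_.IsReduced (Y.presheaf.stalk y) := fun y => by
    haveI := (hY y).1; infer_instance
  exact isReduced_of_isReduced_stalk Y

include hY in
/-- In a normal scheme only one generic point specializes to a given point. -/
theorem generic_unique {g g' y : Y} (hg : g ∈ genericPoints Y) (hg' : g' ∈ genericPoints Y)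
    (h : g ⤳ y) (h' : g' ⤳ y) : g = g' := by
  haveI := (hY y).1
  let b : (Spec (Y.presheaf.stalk y) : Scheme.{u}) := ⟨⊥, Ideal.isPrime_bot⟩
  have key : ∀ k ∈ genericPoints Y, k ⤳ y → Y.fromSpecStalk y b = k := fun k hk hky => by
    obtain ⟨q, hq⟩ : k ∈ Set.range (Y.fromSpecStalk y) := by rw [Scheme.range_fromSpecStalk]; exact hky
    have hbq : b ⤳ q := (PrimeSpectrum.le_iff_specializes b q).1 (bot_le : (⊥ : Ideal _) ≤ q.asIdeal)
    exact H17.mem_genericPoints_iff.1 hk _ (hq ▸ hbq.map (Y.fromSpecStalk y).continuous)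
  rw [← key g hg h, ← key g' hg' h']

include hY hfin in
theorem isOpen_component {g : Y} (hg : g ∈ genericPoints Y) : IsOpen (closure ({g} : Set Y)) := by
  classical
  have : (closure ({g} : Set Y))ᶜ = ⋃ Z : {Z : ↥(irreducibleComponents ↥Y) // (Z : Set Y) ≠ closure {g}}, (Z.1 : Set Y) := by
    ext y
    simp only [Set.mem_compl_iff, Set.mem_iUnion]
    constructor
    · intro hy
      obtain ⟨k, hk, hky⟩ := H17.exists_genericPoint_specializes y
      exact ⟨⟨⟨_, hk⟩, fun e => hy (e ▸ hky.mem_closure)⟩, hky.mem_closure⟩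
    · rintro ⟨⟨⟨Z, hZ⟩, hne⟩, hyZ⟩ hy
      obtain ⟨k, hk⟩ := QuasiSober.sober hZ.1 (isClosed_of_mem_irreducibleComponents Z hZ)
      have hkg : k ∈ genericPoints Y := by show closure ({k} : Set Y) ∈ irreducibleComponents Y; rw [hk.def]; exact hZ
      have := generic_unique hY hkg hg (hk.specializes hyZ) (specializes_iff_mem_closure.2 hy)
      subst this
      exact hne hk.def.symm
  rw [← isClosed_compl_iff, this]
  exact (hfin.comp_injective Subtype.val_injective).isClosed_iUnion fun Z =>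
    isClosed_of_mem_irreducibleComponents _ Z.1.2

variable (W : Y.Opens)

include hY in
theorem germ_injective_of_subset {g : Y} (hg : IsField (Y.presheaf.stalk g)) (hW : (W : Set Y) ⊆ closure {g})
    (hgW : g ∈ W) (s t : Γ(Y, W)) (h : Y.presheaf.germ W g hgW s = Y.presheaf.germ W g hgW t) : s = t := by
  refine TopCat.Presheaf.section_ext Y.sheaf W s t fun y hy => ?_
  haveI := (hY y).1
  haveI := hg.nontrivial
  refine stalkSpecializes_injective (specializes_iff_mem_closure.2 (hW hy)) ?_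
  show Y.presheaf.stalkSpecializes _ (Y.presheaf.germ W y hy s) = Y.presheaf.stalkSpecializes _ (Y.presheaf.germ W y hy t)
  rw [TopCat.Presheaf.germ_stalkSpecializes_apply, TopCat.Presheaf.germ_stalkSpecializes_apply]
  exact h

include hY hfin in
/-- Sections over `W` of the normal scheme realising an integral element at one generic point and zero at the others. -/
theorem exists_section {g : Y} (hg : g ∈ genericPoints Y) (hgW : g ∈ W) (x : Y.presheaf.stalk g)
    (hx : ∃ p : Polynomial Γ(Y, W), p.Monic ∧ p.eval₂ (Y.presheaf.germ W g hgW).hom x = 0) :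
    ∃ r : Γ(Y, W), Y.presheaf.germ W g hgW r = x ∧
      ∀ k ∈ genericPoints Y, ∀ hk : k ∈ W, k ≠ g → Y.presheaf.germ W k hk r = 0 := by
  classical
  haveI := isReduced_of_normal hY
  have hgf : IsField (Y.presheaf.stalk g) := H17.isField_stalk_generic Y hg inferInstance
  let Wg : Y.Opens := ⟨(W : Set Y) ∩ closure {g}, W.2.inter (isOpen_component hY hfin hg)⟩
  let O : Y.Opens := ⟨(W : Set Y) ∩ (closure {g})ᶜ, W.2.inter isClosed_closure.isOpen_compl⟩
  have loc : ∀ y : Wg, ∃ (N : Y.Opens) (hN : N ≤ Wg) (hgN : g ∈ N) (t : Γ(Y, N)),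
      y.1 ∈ N ∧ Y.presheaf.germ N g hgN t = x := by
    rintro ⟨y, hy⟩
    haveI := (hY y).1
    haveI := (hY y).2
    have hgy : g ⤳ y := specializes_iff_mem_closure.2 hy.2
    obtain ⟨p, hp, hpx⟩ := hx
    obtain ⟨s, hs⟩ := exists_eq_of_integral hgf hgy x ⟨p.map (Y.presheaf.germ W y hy.1).hom, hp.map _, by
      rw [Polynomial.eval₂_map, ← CommRingCat.hom_comp, TopCat.Presheaf.germ_stalkSpecializes]
      exact hpx⟩
    obtain ⟨N, hyN, t, rfl⟩ := Y.presheaf.exists_germ_eq s
    have hyN' : y ∈ N ⊓ Wg := ⟨hyN, hy⟩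
    refine ⟨N ⊓ Wg, inf_le_right, hgy.mem_open (N ⊓ Wg).2 hyN', Y.presheaf.map (homOfLE inf_le_left).op t, hyN', ?_⟩
    rw [TopCat.Presheaf.germ_res_apply, ← hs]
    exact (TopCat.Presheaf.germ_stalkSpecializes_apply Y.presheaf _ _ _).symm
  choose N hN hgN t hyN ht using loc
  obtain ⟨w, hw, -⟩ := Y.sheaf.existsUnique_gluing' N Wg (fun y => homOfLE (hN y))
    (fun y hy => Opens.mem_iSup.2 ⟨⟨y, hy⟩, hyN ⟨y, hy⟩⟩) t (fun a b => by
      refine germ_injective_of_subset hY (N a ⊓ N b) hgf (fun z hz => (hN a hz.1).2) ⟨hgN a, hgN b⟩ _ _ ?_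
      exact ((TopCat.Presheaf.germ_res_apply Y.presheaf _ _ _ (t a)).trans (ht a)).trans
        ((TopCat.Presheaf.germ_res_apply Y.presheaf _ _ _ (t b)).trans (ht b)).symm)
  have hgWg : g ∈ Wg := ⟨hgW, subset_closure rfl⟩
  have hwx : Y.presheaf.germ Wg g hgWg w = x := by
    rw [← ht ⟨g, hgWg⟩, ← hw ⟨g, hgWg⟩]
    exact (TopCat.Presheaf.germ_res_apply Y.presheaf _ _ _ w).symm
  have hWO : (Wg ⊔ O : Y.Opens) = W := SetLike.coe_injective (by
    show ((W : Set Y) ∩ closure {g}) ∪ ((W : Set Y) ∩ (closure {g})ᶜ) = W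
    rw [← Set.inter_union_distrib_left, Set.union_compl_self, Set.inter_univ])
  let F : Bool → Y.Opens := fun b => bif b then Wg else O
  let sf : (b : Bool) → Γ(Y, F b) := fun b => match b with | true => w | false => 0
  have hbot : ∀ (N : Y.Opens), N ≤ Wg ⊓ O → Subsingleton Γ(Y, N) := fun N h => by
    have : N = ⊥ := eq_bot_iff.2 fun z hz => ((h hz).2.2 (h hz).1.2).elim
    subst this
    infer_instance
  obtain ⟨r, hr, -⟩ := Y.sheaf.existsUnique_gluing' F W
    (fun b => homOfLE (by cases b <;> exact fun z hz => hz.1))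
    (by rw [← hWO]; exact sup_le (le_iSup F true) (le_iSup F false)) sf (fun a b => by
      cases a <;> cases b
      · exact congr($(Y.presheaf.congr_map (congrArg op (Subsingleton.elim _ _))) _)
      · exact @Subsingleton.elim _ (hbot _ (le_inf inf_le_right inf_le_left)) _ _
      · exact @Subsingleton.elim _ (hbot _ le_rfl) _ _
      · rfl)
  refine ⟨r, ?_, fun k hk hkW hne => ?_⟩
  · rw [← hwx]
    have h := congrArg (Y.presheaf.germ Wg g hgWg) (hr true)
    exact (TopCat.Presheaf.germ_res_apply Y.presheaf _ _ _ r).symm.trans h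
  · have hkO : k ∈ O := ⟨hkW, fun hmem => hne (((H17.mem_genericPoints_iff.1 hk) g
      (specializes_iff_mem_closure.2 hmem)).symm)⟩
    have h := congrArg (Y.presheaf.germ O k hkO) (hr false)
    exact ((TopCat.Presheaf.germ_res_apply Y.presheaf _ _ _ r).symm.trans h).trans (map_zero _)

include hY in
theorem eq_zero_of_germ_generic {a : Γ(Y, W)}
    (h : ∀ k ∈ genericPoints Y, ∀ hk : k ∈ W, Y.presheaf.germ W k hk a = 0) : a = 0 := by
  haveI := isReduced_of_normal hY
  refine TopCat.Presheaf.section_ext Y.sheaf W a 0 fun y hy => ?_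
  haveI := (hY y).1
  obtain ⟨k, hk, hky⟩ := H17.exists_genericPoint_specializes y
  have hkW : k ∈ W := hky.mem_open W.2 hy
  haveI := (H17.isField_stalk_generic Y hk inferInstance).nontrivial
  refine stalkSpecializes_injective hky ?_
  show Y.presheaf.stalkSpecializes _ (Y.presheaf.germ W y hy a) = Y.presheaf.stalkSpecializes _ (Y.presheaf.germ W y hy 0)
  rw [TopCat.Presheaf.germ_stalkSpecializes_apply, TopCat.Presheaf.germ_stalkSpecializes_apply, h k hk hkW, map_zero]

end Scheme

end Groth.Agent.H17.NormalNormalization
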