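import Mathlib.AlgebraicGeometry.Morphisms.Finite
import Groth.Agent.H17.NormalNormalization
import Groth.Agent.H17.NagataNorm
import Groth.Agent.H17.AssPts

/-! Normality and generic points of the relative normalization in a normal scheme. -/

set_option autoImplicit false
set_option linter.style.haveILetI false
universe u
open CategoryTheory CategoryTheory.Limits AlgebraicGeometry TopologicalSpace Opposite

namespace Groth.Agent.H17.NormalNormalizationScheme

open Groth.Agent

theorem primeIdealOf_le_iff {X : Scheme.{u}} {U : X.Opens} (hU : IsAffineOpen U) (z x : U) :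
    hU.primeIdealOf z ≤ hU.primeIdealOf x ↔ (z : X) ⤳ (x : X) := by
  refine ((PrimeSpectrum.le_iff_specializes _ _).trans
    hU.fromSpec.isEmbedding.toIsInducing.specializes_iff.symm).trans ?_
  rw [hU.fromSpec_primeIdealOf, hU.fromSpec_primeIdealOf]

theorem primeIdealOf_minimal_iff {X : Scheme.{u}} {U : X.Opens} (hU : IsAffineOpen U) (x : U) :
    (hU.primeIdealOf x).asIdeal ∈ minimalPrimes Γ(X, U) ↔ (x : X) ∈ genericPoints X := by
  rw [H17.mem_genericPoints_iff]
  constructor
  · intro hmin z hz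
    have hzU : z ∈ U := hz.mem_open U.2 x.2
    have hle := (primeIdealOf_le_iff hU ⟨z, hzU⟩ x).2 hz
    exact (hz.antisymm ((primeIdealOf_le_iff hU x ⟨z, hzU⟩).1
      (hmin.2 ⟨(hU.primeIdealOf ⟨z, hzU⟩).isPrime, bot_le⟩ hle))).eq
  · intro h
    refine ⟨⟨(hU.primeIdealOf x).isPrime, bot_le⟩, fun q hq hle => ?_⟩
    let q' : PrimeSpectrum Γ(X, U) := ⟨q, hq.1⟩
    have hs : hU.fromSpec q' ⤳ (x : X) := by
      rw [← hU.fromSpec_primeIdealOf x]
      exact ((PrimeSpectrum.le_iff_specializes q' _).1 hle).map hU.fromSpec.continuous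
    have : q' = hU.primeIdealOf x := hU.fromSpec.isEmbedding.injective
      ((h _ hs).trans (hU.fromSpec_primeIdealOf x).symm)
    exact (congrArg PrimeSpectrum.asIdeal this).ge

theorem affine_facts {X Y : Scheme.{u}} (f : Y ⟶ X) [QuasiCompact f] [QuasiSeparated f]
    (hY : Pi1.IsNormalScheme Y)
    (hfin : LocallyFinite (fun Z : ↥(irreducibleComponents ↥Y) => (Z : Set ↥Y)))
    {V : X.Opens} (hV : IsAffineOpen V) :
    (∀ x' ∈ f.fromNormalization ⁻¹ᵁ V, IsDomain (f.normalization.presheaf.stalk x') ∧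
      IsIntegrallyClosed (f.normalization.presheaf.stalk x')) ∧
    (∀ g ∈ genericPoints Y, g ∈ f ⁻¹ᵁ V → f.toNormalization g ∈ genericPoints f.normalization) ∧
    (∀ x' ∈ f.fromNormalization ⁻¹ᵁ V, x' ∈ genericPoints f.normalization →
      ∃! g, g ∈ genericPoints Y ∧ f.toNormalization g = x') ∧
    {g | g ∈ genericPoints Y ∧ g ∈ f ⁻¹ᵁ V}.Finite := by
  classical
  haveI := H17.NormalNormalization.isReduced_of_normal hY
  let W := f ⁻¹ᵁ V
  let W' := f.fromNormalization ⁻¹ᵁ V
  have hW' : IsAffineOpen W' := hV.preimage _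
  have he : W ≤ f.toNormalization ⁻¹ᵁ W' := by
    intro y hy
    show f.fromNormalization (f.toNormalization y) ∈ V
    rw [← Scheme.Hom.comp_apply, f.toNormalization_fromNormalization]
    exact hy
  have hGfin : {g | g ∈ genericPoints Y ∧ g ∈ W}.Finite :=
    NagataNorm.finite_generic hfin (QuasiCompact.isCompact_preimage (V : Set X) V.2 hV.isCompact)
  let G := {g : Y // g ∈ genericPoints Y ∧ g ∈ W}
  haveI : Finite G := hGfin.to_subtype
  let K : G → Type u := fun g => Y.presheaf.stalk g.1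
  letI : ∀ g : G, Field (K g) := fun g => (H17.isField_stalk_generic Y g.2.1 inferInstance).toField
  let τ : Γ(f.normalization, W') ⟶ Γ(Y, W) := f.toNormalization.appLE W' W he
  let χ : ∀ g : G, Γ(f.normalization, W') →+* K g := fun g => (τ ≫ Y.presheaf.germ W g.1 g.2.2).hom
  letI := (f.app V).hom.toAlgebra
  have hτ : ∀ b, τ b = ((f.normalizationObjIso hV).hom b).1 := fun b =>
    (congr($(f.normalizationObjIso_hom_val hV) b)).symm
  have hτi : Function.Injective τ := fun a b h => by
    rw [hτ, hτ] at h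
    exact (ConcreteCategory.bijective_of_isIso (f.normalizationObjIso hV).hom).1 (Subtype.ext h)
  have hinj : ∀ b, (∀ g, χ g b = 0) → b = 0 := fun b hb => hτi <| by
    rw [map_zero]
    exact H17.NormalNormalization.eq_zero_of_germ_generic hY W fun k hk hkW => hb ⟨k, hk, hkW⟩
  have hcomp : f.fromNormalization.app V ≫ τ = f.app V := by
    rw [Scheme.Hom.app_eq_appLE, Scheme.Hom.app_eq_appLE]
    simp [τ, W, W', Scheme.Hom.appLE_comp_appLE, f.toNormalization_fromNormalization]
  have hsurj : ∀ g (x : K g), (∃ p : Polynomial Γ(f.normalization, W'), p.Monic ∧ p.eval₂ (χ g) x = 0) →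
      ∃ b, χ g b = x ∧ ∀ j, j ≠ g → χ j b = 0 := by
    intro g x hx
    obtain ⟨r, hr, hr0⟩ := H17.NormalNormalization.exists_section hY hfin W g.2.1 g.2.2 x (by
      obtain ⟨p, hp, hpx⟩ := hx
      exact ⟨p.map τ.hom, hp.map _, by rw [Polynomial.eval₂_map]; exact hpx⟩)
    have hxA : ∃ q : Polynomial Γ(X, V), q.Monic ∧ q.eval₂ (f.app V ≫ Y.presheaf.germ W g.1 g.2.2).hom x = 0 := by
      letI := (f.fromNormalization.app V).hom.toAlgebra
      haveI : Algebra.IsIntegral Γ(X, V) Γ(f.normalization, W') :=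
        ⟨IsIntegralHom.isIntegral_app f.fromNormalization V hV⟩
      letI : Algebra Γ(f.normalization, W') (K g) := (χ g).toAlgebra
      letI : Algebra Γ(X, V) (K g) := ((χ g).comp (f.fromNormalization.app V).hom).toAlgebra
      haveI : IsScalarTower Γ(X, V) Γ(f.normalization, W') (K g) := .of_algebraMap_eq' rfl
      obtain ⟨q, hq, hqx⟩ := isIntegral_trans (R := Γ(X, V)) (A := Γ(f.normalization, W')) x hx
      refine ⟨q, hq, ?_⟩
      rw [← hcomp]
      exact hqx
    obtain ⟨q, hq, hqx⟩ := hxA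
    have hrint : _root_.IsIntegral Γ(X, V) r := by
      refine ⟨q * Polynomial.X, hq.mul Polynomial.monic_X, H17.NormalNormalization.eq_zero_of_germ_generic hY W fun k hk hkW => ?_⟩
      rw [Polynomial.hom_eval₂, Polynomial.eval₂_mul, Polynomial.eval₂_X]
      by_cases hkg : k = g.1
      · subst hkg
        rw [hr]
        exact mul_eq_zero_of_left hqx _
      · rw [hr0 k hk hkW hkg, mul_zero]
    refine ⟨(f.normalizationObjIso hV).inv ⟨r, hrint⟩, ?_, fun j hj => ?_⟩
    all_goals show Y.presheaf.germ W _ _ (τ _) = _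
    all_goals rw [hτ, Iso.inv_hom_id_apply]
    · exact hr
    · exact hr0 j.1 j.2.1 j.2.2 fun h => hj (Subtype.ext h)
  have hmem : ∀ g : G, f.toNormalization g.1 ∈ W' := fun g => he g.2.2
  have hprime : ∀ g : G, (hW'.primeIdealOf ⟨_, hmem g⟩).asIdeal = RingHom.ker (χ g) := fun g => by
    ext b
    rw [RingHom.mem_ker, H29Blow.mem_primeIdealOf_iff]
    have : f.toNormalization.stalkMap g.1 (f.normalization.presheaf.germ W' _ (hmem g) b) = χ g b := by
      rw [Scheme.Hom.germ_stalkMap_apply]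
      show _ = Y.presheaf.germ W g.1 g.2.2 (Y.presheaf.map _ _)
      rw [TopCat.Presheaf.germ_res_apply]
      rfl
    rw [← isUnit_map_iff (f.toNormalization.stalkMap g.1).hom]
    show ¬ IsUnit (f.toNormalization.stalkMap g.1 _) ↔ _
    rw [this]
    exact (isUnit_iff_ne_zero (G₀ := K g)).not.trans not_not
  refine ⟨fun x' hx' => ?_, fun g hg hgV => ?_, fun x' hx' hx'g => ?_, hGfin⟩
  · letI := f.normalization.presheaf.algebra_section_stalk (U := W') ⟨x', hx'⟩
    haveI := hW'.isLocalization_stalk ⟨x', hx'⟩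
    let p := (hW'.primeIdealOf ⟨x', hx'⟩).asIdeal
    let e := IsLocalization.algEquiv p.primeCompl (Localization.AtPrime p) (f.normalization.presheaf.stalk x')
    obtain ⟨h1, h2⟩ := H17.NormalNormalization.normal_atPrime K χ hinj hsurj p
    exact ⟨e.symm.toRingEquiv.toMulEquiv.isDomain _, IsIntegrallyClosed.of_equiv e.toRingEquiv⟩
  · rw [← primeIdealOf_minimal_iff hW' ⟨_, hmem ⟨g, hg, hgV⟩⟩, hprime, H17.NormalNormalization.mem_minimalPrimes_iff K χ hinj hsurj]
    exact ⟨_, rfl⟩
  · obtain ⟨g, hg⟩ := (H17.NormalNormalization.mem_minimalPrimes_iff K χ hinj hsurj _).1 ((primeIdealOf_minimal_iff hW' ⟨x', hx'⟩).2 hx'g)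
    have hgx : f.toNormalization g.1 = x' := by
      have := congrArg (fun q => hW'.fromSpec q) (PrimeSpectrum.ext ((hprime g).trans hg))
      simpa only [hW'.fromSpec_primeIdealOf] using this
    refine ⟨g.1, ⟨g.2.1, hgx⟩, fun g₂ ⟨hg₂, hg₂x⟩ => ?_⟩
    have hg₂W : g₂ ∈ W := by
      show f g₂ ∈ V
      rw [← f.toNormalization_fromNormalization, Scheme.Hom.comp_apply, hg₂x]
      exact hx'
    refine congrArg Subtype.val (H17.NormalNormalization.ker_eq_of_le K χ hsurj (i := ⟨g₂, hg₂, hg₂W⟩) (j := g) (le_of_eq ?_))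
    rw [← hprime, hg]
    simp only [hg₂x]

theorem normalization_normal {X Y : Scheme.{u}} (f : Y ⟶ X) [QuasiCompact f] [QuasiSeparated f]
    (hY : Pi1.IsNormalScheme Y)
    (hfin : LocallyFinite (fun Z : ↥(irreducibleComponents ↥Y) => (Z : Set ↥Y))) :
    Pi1.IsNormalScheme f.normalization ∧
    LocallyFinite (fun Z : ↥(irreducibleComponents ↥f.normalization) => (Z : Set ↥f.normalization)) ∧
    (∀ g ∈ genericPoints Y, f.toNormalization g ∈ genericPoints f.normalization) ∧
    (∀ x' ∈ genericPoints f.normalization, ∃! g, g ∈ genericPoints Y ∧ f.toNormalization g = x') := by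
  have key : ∀ x : X, ∃ V : X.Opens, IsAffineOpen V ∧ x ∈ V := fun x => by
    obtain ⟨V, hV, hxV, -⟩ := exists_isAffineOpen_mem_and_subset (Set.mem_univ x) (U := (⊤ : X.Opens))
    exact ⟨V, hV, hxV⟩
  refine ⟨fun x' => ?_, fun x' => ?_, fun g hg => ?_, fun x' hx' => ?_⟩
  · obtain ⟨V, hV, hxV⟩ := key (f.fromNormalization x')
    exact (affine_facts f hY hfin hV).1 x' hxV
  · obtain ⟨V, hV, hxV⟩ := key (f.fromNormalization x')
    obtain ⟨-, -, h3, h4⟩ := affine_facts f hY hfin hV
    refine ⟨_, (f.fromNormalization ⁻¹ᵁ V).2.mem_nhds hxV, ?_⟩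
    refine Set.Finite.of_finite_image (f := fun Z : ↥(irreducibleComponents ↥f.normalization) => Z.1) ?_ Subtype.val_injective.injOn
    refine (h4.image fun g => closure {f.toNormalization g}).subset ?_
    rintro _ ⟨⟨Z, hZ⟩, ⟨z, hzZ, hzV⟩, rfl⟩
    obtain ⟨k, hk⟩ := QuasiSober.sober hZ.1 (isClosed_of_mem_irreducibleComponents Z hZ)
    have hkV : k ∈ f.fromNormalization ⁻¹ᵁ V := (hk.specializes hzZ).mem_open (f.fromNormalization ⁻¹ᵁ V).2 hzV
    have hkg : k ∈ genericPoints f.normalization := by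
      show closure ({k} : Set f.normalization) ∈ irreducibleComponents f.normalization
      rw [hk.def]; exact hZ
    obtain ⟨g, ⟨hg, hgk⟩, -⟩ := h3 k hkV hkg
    refine ⟨g, ⟨hg, ?_⟩, ?_⟩
    · show f g ∈ V
      rw [← f.toNormalization_fromNormalization, Scheme.Hom.comp_apply, hgk]; exact hkV
    · show closure {f.toNormalization g} = Z
      rw [hgk]; exact hk.def
  · obtain ⟨V, hV, hxV⟩ := key (f g)
    exact (affine_facts f hY hfin hV).2.1 g hg hxV
  · obtain ⟨V, hV, hxV⟩ := key (f.fromNormalization x')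
    exact (affine_facts f hY hfin hV).2.2.1 x' hxV hx'

end Groth.Agent.H17.NormalNormalizationScheme
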