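import Groth.Prelude.Def_W4ega4s0809p4Pair
import Groth.Agent.H17.ConsPropBasic
import Groth.Agent.H7Lim.FinitelyPresentable
import Groth.Agent.H7Lim.DescendAffine
import Groth.Agent.H7Lim.DescendUnramified
import Mathlib.Algebra.Category.Ring.Under.Limits

/-! Existence, after a field extension, of a morphism with a given property is an ind-constructible
property of pairs of algebraic schemes. -/

set_option autoImplicit false
set_option linter.style.haveILetI false
set_option backward.isDefEq.respectTransparency false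

universe u

open CategoryTheory Limits AlgebraicGeometry TopologicalSpace Topology Set

namespace Groth.Agent.H17.ConsPair

/-- The relation. -/
def Ext (Q : MorphismProperty Scheme.{u}) : ∀ ⦃X Y T : Scheme.{u}⦄, (X ⟶ T) → (Y ⟶ T) → Prop :=
  fun X Y T gX gY => ∃ (T' X' Y' : Scheme.{u}) (h : T' ⟶ T) (gX' : X' ⟶ T') (gY' : Y' ⟶ T')
    (eX : X' ⟶ X) (eY : Y' ⟶ Y), IsIntegral T' ∧ Subsingleton ↥T' ∧
      IsPullback eX gX' gX h ∧ IsPullback eY gY' gY h ∧ ∃ g : X' ⟶ Y', g ≫ gY' = gX' ∧ Q g

theorem isIntegral_Spec_field (K : CommRingCat.{u}) (hK : IsField K) :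
    IsIntegral (Spec K) ∧ Subsingleton ↥(Spec K) := by
  haveI : IsDomain K := hK.isDomain
  letI := hK.toField
  exact ⟨inferInstance, inferInstanceAs (Subsingleton (PrimeSpectrum K))⟩

theorem isFieldStablePair (Q : MorphismProperty Scheme.{u}) [Q.IsStableUnderBaseChange] :
    _root_.ConsPropPair.IsFieldStablePair (Ext Q) := by
  intro X X' Y Y' T T' gX gY gX' gY' eX eY h _ _ _ _ _ _ _ _ hX hY
  constructor
  · rintro ⟨T₁, X₁, Y₁, h₁, a, b, eX₁, eY₁, _, _, hX₁, hY₁, g, hg, hQ⟩
    -- a common extension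
    haveI := ConsProp.surjective_of_subsingleton h
    obtain ⟨z, -, -⟩ := Scheme.Pullback.exists_preimage_pullback (f := h₁) (g := h) (genericPoint T₁)
      (genericPoint T') (Subsingleton.elim _ _)
    let T₂ := Spec ((pullback h₁ h).residueField z)
    let p₁ : T₂ ⟶ T₁ := (pullback h₁ h).fromSpecResidueField z ≫ pullback.fst _ _
    let p₂ : T₂ ⟶ T' := (pullback h₁ h).fromSpecResidueField z ≫ pullback.snd _ _
    have w : p₁ ≫ h₁ = p₂ ≫ h := by simp only [p₁, p₂, Category.assoc, pullback.condition]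
    -- the base changes
    let X₂ := pullback a p₁
    let Y₂ := pullback b p₁
    have hX₂ : IsPullback (pullback.fst a p₁ ≫ eX₁) (pullback.snd a p₁) gX (p₂ ≫ h) :=
      w ▸ (IsPullback.of_hasPullback a p₁).paste_horiz hX₁
    have hY₂ : IsPullback (pullback.fst b p₁ ≫ eY₁) (pullback.snd b p₁) gY (p₂ ≫ h) :=
      w ▸ (IsPullback.of_hasPullback b p₁).paste_horiz hY₁
    let uX : X₂ ⟶ X' := hX.lift (pullback.fst a p₁ ≫ eX₁) (pullback.snd a p₁ ≫ p₂)
      (hX₂.w.trans (Category.assoc _ _ _).symm)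
    let uY : Y₂ ⟶ Y' := hY.lift (pullback.fst b p₁ ≫ eY₁) (pullback.snd b p₁ ≫ p₂)
      (hY₂.w.trans (Category.assoc _ _ _).symm)
    let g₂ : X₂ ⟶ Y₂ := pullback.map a p₁ b p₁ g (𝟙 _) (𝟙 _) (by simp [hg]) (by simp)
    have hg₂ : g₂ ≫ pullback.snd b p₁ = pullback.snd a p₁ := by simp [g₂]
    refine ⟨T₂, X₂, Y₂, p₂, pullback.snd a p₁, pullback.snd b p₁, uX, uY,
      (isIntegral_Spec_field _ (Field.toIsField _)).1, (isIntegral_Spec_field _ (Field.toIsField _)).2,
      IsPullback.of_right (by simpa [uX] using hX₂) (hX.lift_snd _ _ _) hX,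
      IsPullback.of_right (by simpa [uY] using hY₂) (hY.lift_snd _ _ _) hY, g₂, hg₂, ?_⟩
    have hsq : IsPullback (pullback.fst a p₁) g₂ g (pullback.fst b p₁) :=
      IsPullback.of_bot (by simpa [hg, hg₂] using IsPullback.of_hasPullback a p₁) (by simp [g₂])
        (IsPullback.of_hasPullback b p₁)
    exact MorphismProperty.of_isPullback (P := Q) hsq hQ
  · rintro ⟨T₁, X₁, Y₁, h₁, a, b, eX₁, eY₁, i₁, i₂, hX₁, hY₁, g, hg, hQ⟩
    exact ⟨T₁, X₁, Y₁, h₁ ≫ h, a, b, eX₁ ≫ eX, eY₁ ≫ eY, i₁, i₂, hX₁.paste_horiz hX, hY₁.paste_horiz hY, g, hg, hQ⟩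

/-- A witness over a base `T → S` gives witnesses over all points of the image. -/
theorem ext_fiber {Q : MorphismProperty Scheme.{u}} [Q.IsStableUnderBaseChange] {X Y S T XT YT : Scheme.{u}}
    {u : X ⟶ S} {v : Y ⟶ S} {m : T ⟶ S} {uT : XT ⟶ T} {vT : YT ⟶ T} {eX : XT ⟶ X} {eY : YT ⟶ Y}
    (hX : IsPullback eX uT u m) (hY : IsPullback eY vT v m) (g : XT ⟶ YT) (hg : g ≫ vT = uT) (hQ : Q g) (b : T) :
    Ext Q (u.fiberToSpecResidueField (m b)) (v.fiberToSpecResidueField (m b)) := by
  subst hg
  exact ⟨_, (g ≫ vT).fiber b, vT.fiber b, Spec.map (m.residueFieldMap b), _, _, _, _,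
    (isIntegral_Spec_field _ (Field.toIsField _)).1, (isIntegral_Spec_field _ (Field.toIsField _)).2,
    isPullback_fiberToSpecResidueField_of_isPullback hX b, isPullback_fiberToSpecResidueField_of_isPullback hY b,
    MoreMor.fiberMap g vT b, pullback.lift_snd _ _ _,
    MorphismProperty.of_isPullback (H8Props.FibreCriterion.isPullback_fiberMap g vT b) hQ⟩

section field

variable (A K : Type u) [CommRing A] [CommRing K] [Algebra A K]

/-- Spectra of the finitely generated subalgebras. -/
noncomputable def specSystem : (Finset K)ᵒᵖ ⥤ Scheme.{u} :=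
  (H7Lim.adjoinFunctor A K ⋙ Under.forget _).op ⋙ Scheme.Spec

noncomputable def specCone : Cone (specSystem A K) :=
  Scheme.Spec.mapCone ((Under.forget _).mapCocone (H7Lim.adjoinCocone A K)).op

noncomputable def isLimitSpecCone : IsLimit (specCone A K) :=
  isLimitOfPreserves Scheme.Spec (isColimitOfPreserves (Under.forget _) (H7Lim.adjoinIsColimit A K)).op

instance (i j : (Finset K)ᵒᵖ) (φ : i ⟶ j) : IsAffineHom ((specSystem A K).map φ) := by
  dsimp [specSystem]; infer_instance

instance (i : (Finset K)ᵒᵖ) : IsAffine ((specSystem A K).obj i) := by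
  dsimp [specSystem]; infer_instance

/-- The structure maps. -/
noncomputable def specStr : specSystem A K ⟶ (Functor.const _).obj (Spec (CommRingCat.of A)) where
  app i := Spec.map (CommRingCat.ofHom (algebraMap A (Algebra.adjoin A (i.unop : Set K))))
  naturality i j φ := by
    dsimp [specSystem, H7Lim.adjoinFunctor]
    rw [Category.comp_id, ← Spec.map_comp]
    rfl

theorem specCone_str (i : (Finset K)ᵒᵖ) :
    (specCone A K).π.app i ≫ (specStr A K).app i = Spec.map (CommRingCat.ofHom (algebraMap A K)) := by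
  dsimp [specCone, specStr, H7Lim.adjoinCocone]
  rw [← Spec.map_comp]
  rfl

theorem locallyOfFiniteType_specStr (i : (Finset K)ᵒᵖ) : LocallyOfFiniteType ((specStr A K).app i) := by
  haveI : Algebra.FiniteType A (Algebra.adjoin A (i.unop : Set K)) :=
    (Subalgebra.fg_iff_finiteType _).1 (Subalgebra.fg_adjoin_finset _)
  exact (HasRingHomProperty.Spec_iff (P := @LocallyOfFiniteType)).2 (RingHom.finiteType_algebraMap.2 ‹_›)

end field

/-- EGA IV 9.6.1-type statement. -/
theorem isIndConsPair (Q : MorphismProperty Scheme.{u}) [Q.IsStableUnderBaseChange]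
    (hdesc : H7Lim.Descends Q @LocallyOfFinitePresentation) :
    _root_.ConsPropPair.IsIndConsPair (Ext Q) := by
  refine ⟨isFieldStablePair Q, fun X Y S u v _ _ _ _ _ _ hη => ?_⟩
  obtain ⟨T', XK, YK, h, gX, gY, eX, eY, _, _, hXK, hYK, g, hg, hQ⟩ := hη
  -- the composite square over S
  let η := genericPoint S
  let k := h ≫ S.fromSpecResidueField η
  have hXS : IsPullback (eX ≫ u.fiberι η) gX u k := hXK.paste_horiz (IsPullback.of_hasPullback _ _)
  have hYS : IsPullback (eY ≫ v.fiberι η) gY v k := hYK.paste_horiz (IsPullback.of_hasPullback _ _)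
  have hk : ∀ t : T', k t = η := fun t => by
    show S.fromSpecResidueField η (h t) = η
    exact Scheme.fromSpecResidueField_apply _ _
  obtain ⟨V, hV, hηV, -⟩ := exists_isAffineOpen_mem_and_subset (x := η) (U := (⊤ : S.Opens)) trivial
  -- T' = Spec K over Spec A
  haveI : IsAffine T' := by
    haveI : IsArtinianScheme T' := inferInstance
    infer_instance
  let A := Γ(S, V)
  let K := Γ(T', ⊤)
  let j : T' ⟶ Spec A := IsOpenImmersion.lift hV.fromSpec k (by
    rintro _ ⟨t, rfl⟩; rw [hk t, hV.range_fromSpec]; exact hηV)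
  have hj : j ≫ hV.fromSpec = k := IsOpenImmersion.lift_fac _ _ _
  let φ : A ⟶ K := Spec.preimage (T'.isoSpec.inv ≫ j)
  letI : Algebra A K := φ.hom.toAlgebra
  have hφ : Spec.map (CommRingCat.ofHom (algebraMap A K)) = T'.isoSpec.inv ≫ j :=
    Spec.map_preimage (T'.isoSpec.inv ≫ j)
  let D := specSystem A K
  let c := specCone A K
  have hc : IsLimit c := isLimitSpecCone A K
  let i₀ : (Finset K)ᵒᵖ := Opposite.op ∅
  let m : ∀ i, D.obj i ⟶ S := fun i => (specStr A K).app i ≫ hV.fromSpec
  have hm : ∀ {i i'} (ψ : i ⟶ i'), D.map ψ ≫ m i' = m i := fun ψ => by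
    simp only [m, ← Category.assoc]
    congr 1
    exact ((specStr A K).naturality ψ).trans (Category.comp_id _)
  have hcm : ∀ i, T'.isoSpec.hom ≫ c.π.app i ≫ m i = k := fun i => by
    rw [show c.π.app i ≫ m i = (T'.isoSpec.inv ≫ j) ≫ hV.fromSpec from by
      simp only [m, ← Category.assoc]; rw [specCone_str, hφ], Category.assoc, Iso.hom_inv_id_assoc, hj]
  -- X over the initial stage
  haveI : LocallyOfFinitePresentation u := H12AlgSp.lfp_of_lft_of_isLocallyNoetherian u
  haveI : LocallyOfFinitePresentation v := H12AlgSp.lfp_of_lft_of_isLocallyNoetherian v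
  haveI := ConsProp.isNoetherian_of_finiteType u
  haveI := ConsProp.isNoetherian_of_finiteType v
  haveI : QuasiSeparated u := inferInstance
  haveI : QuasiSeparated v := inferInstance
  let a₀ := pullback.snd u (m i₀)
  let E := H7Lim.pbDiagram D i₀ a₀
  let d := H7Lim.pbCone D c i₀ a₀
  have hd : IsLimit d := H7Lim.isLimitPbCone D i₀ a₀ hc
  let t : E ⟶ (Functor.const _).obj S :=
    { app := fun l => pullback.fst a₀ (D.map l.hom) ≫ a₀ ≫ m i₀
      naturality := fun l l' ψ => by simp [E] }
  haveI hEc : ∀ l, CompactSpace (E.obj l) := fun l =>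
    QuasiCompact.compactSpace_of_compactSpace (pullback.snd a₀ (D.map l.hom))
  haveI hEq : ∀ l, QuasiSeparatedSpace (E.obj l) := fun l =>
    quasiSeparatedSpace_of_quasiSeparated (pullback.snd a₀ (D.map l.hom))
  haveI : ∀ {l l' : Over i₀} (ψ : l ⟶ l'), IsAffineHom (E.map ψ) := fun ψ =>
    H7Lim.isAffineHom_pbDiagram_map D i₀ a₀ _ _ ψ
  -- the limit is `XK`
  have hXlim : IsPullback (pullback.fst a₀ (c.π.app i₀) ≫ pullback.fst u (m i₀))
      (pullback.snd a₀ (c.π.app i₀)) u (c.π.app i₀ ≫ m i₀) :=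
    (IsPullback.of_hasPullback a₀ (c.π.app i₀)).paste_horiz (IsPullback.of_hasPullback u (m i₀))
  let θ : d.pt ⟶ XK := hXS.lift (pullback.fst a₀ (c.π.app i₀) ≫ pullback.fst u (m i₀))
      (pullback.snd a₀ (c.π.app i₀) ≫ T'.isoSpec.inv) (by
    rw [hXlim.w, Category.assoc]; congr 1
    rw [← hcm i₀, Iso.inv_hom_id_assoc])
  let α : d.pt ⟶ Y := θ ≫ g ≫ eY ≫ v.fiberι η
  have hα : α ≫ v = pullback.snd a₀ (c.π.app i₀) ≫ c.π.app i₀ ≫ m i₀ := by
    simp only [α, Category.assoc]
    rw [show eY ≫ v.fiberι η ≫ v = gY ≫ k from by rw [← Category.assoc]; exact hYS.w, reassoc_of% hg,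
      ← Category.assoc θ, hXS.lift_snd, Category.assoc, ← hcm i₀, Iso.inv_hom_id_assoc]
  obtain ⟨l, gl, hgl, hglv⟩ := Scheme.exists_π_app_comp_eq_of_locallyOfFinitePresentation E t v d hd α (by
    ext l
    simp only [NatTrans.comp_app, Functor.const_map_app, t, d, H7Lim.pbCone_π_app]
    rw [pullback.lift_fst_assoc, Category.assoc, Category.id_comp, pullback.condition_assoc]
    exact hα.symm)
  -- the graph over stage `l`
  let D' := D.obj l.left
  let Xl := E.obj l
  let vl := pullback.snd v (m l.left)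
  let f₀ : Xl ⟶ pullback v (m l.left) := pullback.lift gl (pullback.snd a₀ (D.map l.hom)) (by
    rw [hglv]
    simp only [t, a₀, E]
    rw [pullback.condition_assoc]
    exact congrArg _ (hm l.hom))
  have hf₀ : f₀ ≫ vl = pullback.snd a₀ (D.map l.hom) := pullback.lift_snd _ _ _
  haveI : CompactSpace ↥(pullback v (m l.left)) := QuasiCompact.compactSpace_of_compactSpace vl
  haveI : QuasiSeparatedSpace ↥(pullback v (m l.left)) := quasiSeparatedSpace_of_quasiSeparated vl
  haveI : CompactSpace Xl := hEc l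
  haveI : QuasiSeparatedSpace Xl := hEq l
  haveI : LocallyOfFinitePresentation (f₀ ≫ vl) := by rw [hf₀]; infer_instance
  have hf₀p : LocallyOfFinitePresentation f₀ := H7Lim.locallyOfFinitePresentation_of_comp f₀ vl
  -- its base change to the limit is `g`
  let τ := T'.isoSpec
  have hY' : IsPullback (pullback.lift (eY ≫ v.fiberι η) (gY ≫ τ.hom ≫ c.π.app l.left) (by
      rw [hYS.w, Category.assoc, Category.assoc, hcm l.left]))
      (gY ≫ τ.hom) vl (c.π.app l.left) := by
    refine IsPullback.of_right ?_ (pullback.lift_snd _ _ _ |>.trans (Category.assoc _ _ _).symm)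
      (IsPullback.of_hasPullback v (m l.left))
    rw [pullback.lift_fst]
    exact hYS.of_iso (Iso.refl _) (Iso.refl _) τ (Iso.refl _) (by simp) (by simp) (by simp) (by simp [τ, hcm])
  have hXl : IsPullback (pullback.fst a₀ (D.map l.hom) ≫ pullback.fst u (m i₀)) (pullback.snd a₀ (D.map l.hom))
      u (m l.left) := by
    rw [← hm l.hom]
    exact (IsPullback.of_hasPullback a₀ (D.map l.hom)).paste_horiz (IsPullback.of_hasPullback u (m i₀))
  let qX : XK ⟶ Xl := hXl.lift (eX ≫ u.fiberι η) (gX ≫ τ.hom ≫ c.π.app l.left) (by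
    rw [hXS.w, Category.assoc, Category.assoc, hcm l.left])
  have hX' : IsPullback qX (gX ≫ τ.hom) (f₀ ≫ vl) (c.π.app l.left) := by
    rw [hf₀]
    refine IsPullback.of_right ?_ ((hXl.lift_snd _ _ _).trans (Category.assoc _ _ _).symm) hXl
    rw [hXl.lift_fst]
    exact hXS.of_iso (Iso.refl _) (Iso.refl _) τ (Iso.refl _) (by simp) (by simp) (by simp) (by simp [τ, hcm])
  have hsq : IsPullback qX g f₀ (pullback.lift (eY ≫ v.fiberι η) (gY ≫ τ.hom ≫ c.π.app l.left) (by
      rw [hYS.w, Category.assoc, Category.assoc, hcm l.left])) := by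
    refine IsPullback.of_bot ?_ ?_ hY'
    · simpa [reassoc_of% hg] using hX'
    · apply pullback.hom_ext
      · simp only [Category.assoc, pullback.lift_fst, f₀]
        -- the inverse of `θ`
        let θ' : XK ⟶ d.pt := pullback.lift (pullback.lift (eX ≫ u.fiberι η) (gX ≫ τ.hom ≫ c.π.app i₀)
          (by rw [hXS.w, Category.assoc, Category.assoc, hcm i₀])) (gX ≫ τ.hom) (by simp [a₀])
        have h1 : qX = θ' ≫ d.π.app l := by
          apply hXl.hom_ext <;> simp [qX, θ', d]
        have h2 : θ' ≫ θ = 𝟙 XK := by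
          apply hXS.hom_ext <;> simp [θ, θ', τ]
        rw [h1, Category.assoc, show d.π.app l ≫ gl = α from hgl]
        simp only [α]
        rw [reassoc_of% h2]
      · simp only [Category.assoc, pullback.lift_snd, f₀, qX, hXl.lift_snd, reassoc_of% hg]
  obtain ⟨n, ψ, Xn, Yn, fn, gn, pY, pX, hYn, hXn, hQn⟩ :=
    H7Lim.exists_descend_square hc (P := Q) (Q := @LocallyOfFinitePresentation) l.left f₀ vl hdesc hY' hsq hf₀p hQ
  -- conclude on the image of stage `n`
  have hYnS : IsPullback (pY ≫ pullback.fst v (m l.left)) gn v (m n) :=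
    hm ψ ▸ hYn.paste_horiz (IsPullback.of_hasPullback v (m l.left))
  have hXnS : IsPullback (pX ≫ pullback.fst a₀ (D.map l.hom) ≫ pullback.fst u (m i₀)) (fn ≫ gn) u (m n) :=
    hm ψ ▸ ((hXn.paste_vert hYn).of_iso (Iso.refl _) (Iso.refl _) (Iso.refl _) (Iso.refl _)
      (by simp) (by simp) (by simp [hf₀]) (by simp [D])).paste_horiz hXl
  have hsub : range (m n) ⊆ _root_.ConsPropPair.locusPair (Ext Q) u v := by
    rintro _ ⟨b, rfl⟩
    exact ext_fiber hXnS hYnS fn rfl hQn b
  haveI : LocallyOfFiniteType (m n) :=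
    haveI := locallyOfFiniteType_specStr A K n
    inferInstance
  haveI : LocallyOfFinitePresentation (m n) := H12AlgSp.lfp_of_lft_of_isLocallyNoetherian (m n)
  haveI : CompactSpace (D.obj n) := inferInstance
  have hcons : IsConstructible (range (m n)) := by
    rw [← image_univ]
    exact (m n).isConstructible_image IsConstructible.univ
  have hηn : η ∈ range (m n) := ⟨(T'.isoSpec.hom ≫ c.π.app n) (genericPoint T'), by
    rw [← Scheme.Hom.comp_apply, Category.assoc, hcm n, hk]⟩
  rcases ConsProp.interior_or_of_isConstructible hcons with h' | ⟨z, hz⟩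
  · exact h'.mono (interior_mono hsub)
  · exact absurd hηn (interior_subset ((genericPoint_specializes z).mem_open isOpen_interior hz))

end Groth.Agent.H17.ConsPair
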