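import Groth.Agent.H17.NagataNorm
import Groth.Agent.H1CAlg.Normal
import Groth.Agent.H29Blow.Basic
import Groth.Agent.H17.AssPts
import Mathlib.RingTheory.DiscreteValuationRing.TFAE
import Mathlib.AlgebraicGeometry.Morphisms.QuasiSeparated

/-! Relative normalization at a one-dimensional point outside the image is a DVR. -/

set_option autoImplicit false
set_option linter.style.haveILetI false
universe u
open CategoryTheory CategoryTheory.Limits AlgebraicGeometry TopologicalSpace Opposite

namespace Groth.Agent.H17.NormalizationDVR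

section LocalRing

variable (T : Type u) [CommRing T] [IsLocalRing T] [IsNoetherianRing T] [IsReduced T]

/-- In local dimension one a prime containing a nonzero divisor is maximal. -/
theorem eq_maximal_of_mem (hdim : ringKrullDim T = 1) {q : Ideal T} [q.IsPrime] {t : T}
    (ht : t ∈ nonZeroDivisors T) (htq : t ∈ q) : q = IsLocalRing.maximalIdeal T := by
  haveI : Ring.KrullDimLE 1 T := Ring.krullDimLE_iff.mpr hdim.le
  rcases (Ring.krullDimLE_one_iff.mp ‹_› q inferInstance) with h | h
  · exact absurd ht (fun ht => Set.disjoint_left.1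
      (Ideal.disjoint_nonZeroDivisors_of_mem_minimalPrimes h) htq ht)
  · exact IsLocalRing.eq_maximalIdeal h

theorem exists_regular (hdim : ringKrullDim T = 1) :
    ∃ t ∈ IsLocalRing.maximalIdeal T, t ∈ nonZeroDivisors T := by
  classical
  have hfin := minimalPrimes.finite_of_isNoetherianRing T
  by_contra hcon
  push Not at hcon
  have hsub : (IsLocalRing.maximalIdeal T : Set T) ⊆ ⋃ q ∈ (hfin.toFinset : Set (Ideal T)), (q : Set T) := by
    intro t ht
    by_contra h
    refine hcon t ht (mem_nonZeroDivisors_iff_right.2 fun z hz => ?_)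
    have : z ∈ nilradical T := by
      rw [nilradical, ← Ideal.sInf_minimalPrimes]
      refine Submodule.mem_sInf.2 fun q hq => ?_
      haveI := hq.1.1
      exact ((Ideal.IsPrime.mem_or_mem inferInstance (hz.symm ▸ q.zero_mem))).resolve_right fun htq =>
        h (Set.mem_iUnion₂.2 ⟨q, by simpa using hq, htq⟩)
    rwa [nilradical_eq_zero] at this
  obtain ⟨q, hq, hle⟩ := (Ideal.subset_union_prime (⊥ : Ideal T) (⊥ : Ideal T) (fun q hq _ _ =>
    Ideal.minimalPrimes_isPrime ((Set.Finite.mem_toFinset hfin).1 hq))).1 hsub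
  have hq' := (Set.Finite.mem_toFinset hfin).1 hq
  haveI := Ideal.minimalPrimes_isPrime hq'
  have hq0 : Ideal.height q = 0 := Ideal.height_eq_zero_iff.2 hq'
  have h1 : ringKrullDim T = 0 := by
    rw [← IsLocalRing.maximalIdeal_height_eq_ringKrullDim]
    have : IsLocalRing.maximalIdeal T = q :=
      (IsLocalRing.maximalIdeal.isMaximal T).eq_of_le (Ideal.minimalPrimes_isPrime hq').ne_top hle
    rw [this, hq0]; rfl
  rw [hdim] at h1
  exact one_ne_zero h1

theorem exists_pow_dvd (hdim : ringKrullDim T = 1) {t : T} (ht : t ∈ IsLocalRing.maximalIdeal T) {b : T}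
    (hb : b ∈ nonZeroDivisors T) : ∃ n, b ∣ t ^ n := by
  have : t ∈ (Ideal.span {b}).radical := by
    rw [Ideal.radical_eq_sInf]
    refine Submodule.mem_sInf.2 fun q hq => ?_
    haveI := hq.2
    rw [eq_maximal_of_mem T hdim hb (hq.1 (Ideal.mem_span_singleton_self b))]
    exact ht
  obtain ⟨n, hn⟩ := this
  exact ⟨n, Ideal.mem_span_singleton.1 hn⟩

/-- One-dimensional reduced local ring integrally closed in its total fractions is a DVR. -/
theorem isDVR_of_closed (hdim : ringKrullDim T = 1) (hic : IsIntegrallyClosedIn T (FractionRing T)) :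
    ∃ _ : IsDomain T, IsDiscreteValuationRing T := by
  have hn := H1CAlg.isNormalRing_of_isIntegrallyClosedIn (minimalPrimes.finite_of_isNoetherianRing T) hic
    (IsLocalRing.maximalIdeal T)
  let M := (IsLocalRing.maximalIdeal T).primeCompl
  have hunit : ∀ x ∈ M, IsUnit x := fun x hx => IsLocalRing.notMem_maximalIdeal.1 hx
  let e : T ≃ₐ[T] Localization.AtPrime (IsLocalRing.maximalIdeal T) := IsLocalization.atUnits T M hunit
  haveI := hn.1
  haveI hdom : IsDomain T := MulEquiv.isDomain _ e.toRingEquiv.toMulEquiv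
  haveI : IsIntegrallyClosed T := @IsIntegrallyClosed.of_equiv _ _ _ _ e.toRingEquiv.symm hn.2
  refine ⟨hdom, ?_⟩
  have hnf : ¬ IsField T := fun hf => one_ne_zero (hdim.symm.trans (ringKrullDim_eq_zero_of_isField hf))
  have htfae : IsDiscreteValuationRing T ↔ IsIntegrallyClosed T ∧ ∃! P : Ideal T, P ≠ ⊥ ∧ P.IsPrime :=
    (IsDiscreteValuationRing.TFAE T hnf).out 0 3
  refine htfae.mpr ⟨inferInstance, IsLocalRing.maximalIdeal T, ⟨?_, inferInstance⟩, ?_⟩
  · intro h
    exact hnf (IsLocalRing.isField_iff_maximalIdeal_eq.2 h)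
  · rintro q ⟨hq0, hqp⟩
    obtain ⟨b, hbq, hb0⟩ := Submodule.exists_mem_ne_zero_of_ne_bot hq0
    exact eq_maximal_of_mem T hdim (mem_nonZeroDivisors_of_ne_zero hb0) hbq

end LocalRing

open Polynomial in
/-- Fractions on a basic open that are integral come from integral sections. -/
theorem exists_integral_lift {R S S' : Type u} [CommRing R] [CommRing S] [CommRing S'] [Algebra R S]
    [Algebra R S'] [Algebra S S'] [IsScalarTower R S S'] (g : R) [IsLocalization.Away (algebraMap R S g) S']
    (y : S') (hy : _root_.IsIntegral R y) :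
    ∃ (r : S) (N : ℕ), _root_.IsIntegral R r ∧ algebraMap S S' r = algebraMap R S' g ^ N * y := by
  rcases subsingleton_or_nontrivial R with hR | hR
  · haveI := (algebraMap R S').codomain_trivial
    exact ⟨0, 0, isIntegral_zero, Subsingleton.elim _ _⟩
  obtain ⟨⟨r, ⟨_, k, rfl⟩⟩, hr⟩ := IsLocalization.surj (Submonoid.powers (algebraMap R S g)) y
  change y * algebraMap S S' (algebraMap R S g ^ k) = algebraMap S S' r at hr
  rw [map_pow, ← IsScalarTower.algebraMap_apply] at hr
  obtain ⟨q, hq, hqy⟩ := (show _root_.IsIntegral R (algebraMap R S' g ^ k * y) from (isIntegral_algebraMap.pow k).mul hy)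
  rw [mul_comm, hr, IsScalarTower.algebraMap_eq R S S', ← Polynomial.hom_eval₂,
    IsLocalization.map_eq_zero_iff (Submonoid.powers (algebraMap R S g)) S'] at hqy
  obtain ⟨⟨_, m, rfl⟩, hm⟩ := hqy
  refine ⟨algebraMap R S g ^ m * r, m + k, ⟨((q * X).scaleRoots (g ^ m)), (monic_scaleRoots_iff _).2 (hq.mul monic_X), ?_⟩, ?_⟩
  · rw [← map_pow, Polynomial.scaleRoots_eval₂_mul (algebraMap R S), eval₂_mul, eval₂_X]
    obtain ⟨d, hd⟩ := Nat.exists_eq_succ_of_ne_zero (show (q * X).natDegree ≠ 0 by
      rw [hq.natDegree_mul monic_X, natDegree_X]; omega)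
    rw [hd, map_pow, pow_succ, mul_assoc, ← mul_assoc _ _ r, show (algebraMap R S g) ^ m * eval₂ (algebraMap R S) r q = 0 from hm,
      zero_mul, mul_zero]
  · rw [map_mul, map_pow, ← IsScalarTower.algebraMap_apply, ← hr, pow_add]
    ring

theorem isDVR_stalk {X Y : Scheme.{u}} (f : Y ⟶ X)
    [LocallyOfFiniteType f] [QuasiCompact f] [QuasiSeparated f] [IsReduced Y]
    (hX : ∀ U : X.affineOpens, CAlg.IsNagata Γ(X, U))
    (x' : ↥f.normalization) (hdim : ringKrullDim (f.normalization.presheaf.stalk x') = 1)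
    (hx' : x' ∉ Set.range f.toNormalization) :
    ∃ _ : IsDomain (f.normalization.presheaf.stalk x'),
      IsDiscreteValuationRing (f.normalization.presheaf.stalk x') := by
  classical
  haveI := NagataNorm.isLocallyNoetherian_of_nagata X hX
  haveI := NagataNorm.finite_fromNormalization_of_finiteType f hX
  haveI : IsLocallyNoetherian f.normalization := LocallyOfFiniteType.isLocallyNoetherian f.fromNormalization
  obtain ⟨V, hV, hxV, -⟩ := exists_isAffineOpen_mem_and_subset
    (Set.mem_univ (f.fromNormalization x')) (U := (⊤ : X.Opens))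
  let W := f ⁻¹ᵁ V
  let W' := f.fromNormalization ⁻¹ᵁ V
  have hW' : IsAffineOpen W' := hV.preimage _
  haveI : IsNoetherianRing Γ(f.normalization, W') := IsLocallyNoetherian.component_noetherian ⟨W', hW'⟩
  have hW : IsCompact (W : Set Y) := QuasiCompact.isCompact_preimage (V : Set X) V.2 hV.isCompact
  have hW2 : IsQuasiSeparated (W : Set Y) :=
    f.isQuasiSeparated_preimage hV.isQuasiSeparated
  have he : W ≤ f.toNormalization ⁻¹ᵁ W' := by
    intro y hy
    show f.fromNormalization (f.toNormalization y) ∈ V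
    rw [← Scheme.Hom.comp_apply, f.toNormalization_fromNormalization]
    exact hy
  let τ : Γ(f.normalization, W') ⟶ Γ(Y, W) := f.toNormalization.appLE W' W he
  letI := (f.app V).hom.toAlgebra
  have hτ : ∀ b, τ b = ((f.normalizationObjIso hV).hom b).1 := fun b =>
    (congr($(f.normalizationObjIso_hom_val hV) b)).symm
  have hτi : Function.Injective τ := fun a b h => by
    rw [hτ, hτ] at h
    exact (ConcreteCategory.bijective_of_isIso (f.normalizationObjIso hV).hom).1 (Subtype.ext h)
  have hcomp : f.fromNormalization.app V ≫ τ = f.app V := by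
    rw [Scheme.Hom.app_eq_appLE, Scheme.Hom.app_eq_appLE]
    simp [τ, W, W', Scheme.Hom.appLE_comp_appLE, f.toNormalization_fromNormalization]
  have hclosed : ∀ r : Γ(Y, W), τ.hom.IsIntegralElem r → ∃ b, τ b = r := by
    intro r hr
    have hr' : _root_.IsIntegral Γ(X, V) r := by
      letI : Algebra Γ(X, V) Γ(f.normalization, W') := (f.fromNormalization.app V).hom.toAlgebra
      haveI : Algebra.IsIntegral Γ(X, V) Γ(f.normalization, W') :=
        ⟨IsIntegralHom.isIntegral_app f.fromNormalization V hV⟩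
      letI : Algebra Γ(f.normalization, W') Γ(Y, W) := τ.hom.toAlgebra
      haveI : IsScalarTower Γ(X, V) Γ(f.normalization, W') Γ(Y, W) :=
        .of_algebraMap_eq fun b => (congr($hcomp b)).symm
      exact isIntegral_trans (R := Γ(X, V)) (A := Γ(f.normalization, W')) r hr
    exact ⟨(f.normalizationObjIso hV).inv ⟨r, hr'⟩, by rw [hτ, Iso.inv_hom_id_apply]⟩
  haveI : _root_.IsReduced Γ(f.normalization, W') := isReduced_of_injective τ.hom hτi
  let P := (hW'.primeIdealOf ⟨x', hxV⟩).asIdeal
  let T := Localization.AtPrime P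
  haveI : IsNoetherianRing T := IsLocalization.isNoetherianRing P.primeCompl _ inferInstance
  letI := f.normalization.presheaf.algebra_section_stalk (U := W') ⟨x', hxV⟩
  haveI := hW'.isLocalization_stalk ⟨x', hxV⟩
  let eT : T ≃ₐ[Γ(f.normalization, W')] f.normalization.presheaf.stalk x' :=
    IsLocalization.algEquiv P.primeCompl _ _
  have hdimT : ringKrullDim T = 1 := (ringKrullDim_eq_of_ringEquiv eT.toRingEquiv).trans hdim
  suffices h : ∃ _ : IsDomain T, IsDiscreteValuationRing T by
    obtain ⟨h1, h2⟩ := h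
    haveI := eT.symm.toRingEquiv.toMulEquiv.isDomain T
    exact ⟨inferInstance, IsDiscreteValuationRing.RingEquivClass.isDiscreteValuationRing eT.toRingEquiv⟩
  refine isDVR_of_closed T hdimT ?_
  obtain ⟨t', ht'm, ht'r⟩ := exists_regular T hdimT
  obtain ⟨t, σ0, rfl⟩ := IsLocalization.exists_mk'_eq P.primeCompl t'
  have ht1 : algebraMap _ T t = IsLocalization.mk' T t σ0 * algebraMap _ T (σ0 : Γ(f.normalization, W')) :=
    (IsLocalization.mk'_spec T t σ0).symm
  have htr : algebraMap _ T t ∈ nonZeroDivisors T := by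
    rw [ht1]; exact mul_mem ht'r (IsLocalization.map_units T σ0).mem_nonZeroDivisors
  have htm : algebraMap _ T t ∈ IsLocalRing.maximalIdeal T := by rw [ht1]; exact Ideal.mul_mem_right _ _ ht'm
  have htP : t ∈ P := (IsLocalization.AtPrime.to_map_mem_maximal_iff T P t).1 htm
  -- a neighbourhood of `x'` whose preimage avoids `V(t)`
  have hs : ∃ s ∉ P, Y.basicOpen (τ s) ≤ Y.basicOpen (τ t) := by
    have piece : ∀ (U : Y.Opens) (hUW : U ≤ W), IsAffineOpen U →
        ∃ s ∉ P, U ⊓ Y.basicOpen (τ s) ≤ Y.basicOpen (τ t) := by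
      intro U hUW hU
      let ρ : Γ(f.normalization, W') →+* Γ(Y, U) := (τ ≫ Y.presheaf.map (homOfLE hUW).op).hom
      have hb : ∀ r, Y.basicOpen (ρ r) = U ⊓ Y.basicOpen (τ r) := fun r => Scheme.basicOpen_res Y (τ r) (homOfLE hUW).op
      by_cases hmeet : ∃ s ∉ P, ρ s ∈ (Ideal.span {ρ t}).radical
      · obtain ⟨s, hs, hs'⟩ := hmeet
        obtain ⟨n, hn⟩ := hs'
        obtain ⟨c, hc⟩ := Ideal.mem_span_singleton.1 hn
        refine ⟨s, hs, ?_⟩
        rw [← hb]
        intro y hy
        have hyU : y ∈ U := Y.basicOpen_le _ hy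
        have h1 : IsUnit (Y.presheaf.germ U y hyU (ρ s ^ n)) := by
          rw [map_pow]; exact ((Scheme.mem_basicOpen _ _ _ hyU).1 hy).pow n
        rw [hc, map_mul, IsUnit.mul_iff, ← Scheme.mem_basicOpen _ _ _ hyU, hb] at h1
        exact h1.1.2
      · push Not at hmeet
        exfalso
        have hdis : Disjoint ((Ideal.span {ρ t}).radical : Set Γ(Y, U)) (P.primeCompl.map ρ : Submonoid _) :=
          Set.disjoint_left.2 fun a ha ⟨s, hs, hsa⟩ => hmeet s hs (hsa ▸ ha)
        obtain ⟨Q, hQ, hQle, hQdis⟩ := Ideal.exists_le_prime_disjoint _ _ hdis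
        haveI := hQ
        have hqP : Q.comap ρ ≤ P := fun r hr => by
          by_contra h
          exact Set.disjoint_left.1 hQdis hr ⟨r, h, rfl⟩
        have htq : t ∈ Q.comap ρ := hQle (Ideal.le_radical (Ideal.mem_span_singleton_self _))
        have hqT : ((Q.comap ρ).map (algebraMap _ T)).IsPrime :=
          IsLocalization.isPrime_of_isPrime_disjoint P.primeCompl T _ inferInstance
            (Set.disjoint_left.2 fun r h1 h2 => h1 (hqP h2))
        have heqm := eq_maximal_of_mem T hdimT htr (Ideal.mem_map_of_mem (algebraMap _ T) htq)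
        have hqeq : Q.comap ρ = P := by
          rw [← IsLocalization.under_map_of_isPrime_disjoint P.primeCompl T inferInstance
            (Set.disjoint_left.2 fun r h1 h2 => h1 (hqP h2)), heqm]
          exact IsLocalization.AtPrime.under_maximalIdeal T P
        let y : Y := hU.fromSpec ⟨Q, hQ⟩
        have hyU : y ∈ U := by
          have := Set.mem_range_self (f := hU.fromSpec) (⟨Q, hQ⟩ : PrimeSpectrum Γ(Y, U))
          rwa [hU.range_fromSpec] at this
        refine hx' ⟨y, ?_⟩
        have hpy : hU.primeIdealOf ⟨y, hyU⟩ = ⟨Q, hQ⟩ :=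
          hU.fromSpec.isEmbedding.injective (hU.fromSpec_primeIdealOf ⟨y, hyU⟩)
        have h2 := IsAffineOpen.comap_primeIdealOf_appLE (f := f.toNormalization) W' hW' U hU (hUW.trans he) hyU
        rw [hpy] at h2
        have hρ : ρ = (f.toNormalization.appLE W' U (hUW.trans he)).hom := by
          exact congrArg CommRingCat.Hom.hom (f.toNormalization.appLE_map he (homOfLE hUW).op)
        have h3 : hW'.primeIdealOf ⟨f.toNormalization y, he (hUW hyU)⟩ = hW'.primeIdealOf ⟨x', hxV⟩ := by
          rw [← h2]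
          exact PrimeSpectrum.ext (by rw [PrimeSpectrum.comap_asIdeal, ← hρ]; exact hqeq)
        have h4 := congrArg hW'.fromSpec h3
        rwa [hW'.fromSpec_primeIdealOf, hW'.fromSpec_primeIdealOf] at h4
    obtain ⟨F, hFfin, hF⟩ := (isCompact_iff_finite_and_eq_biUnion_affineOpens (U := W)).1 hW
    have hle : ∀ U ∈ F, (U : Y.Opens) ≤ W := fun U hU => hF ▸ le_biSup (fun i : Y.affineOpens => (i : Y.Opens)) hU
    choose! s hsP hs using fun (U : Y.affineOpens) (hU : U ∈ F) => piece U (hle U hU) U.2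
    refine ⟨∏ U ∈ hFfin.toFinset, s U, fun h => ?_, fun y hy => ?_⟩
    · obtain ⟨U, hU, hU'⟩ := (Ideal.IsPrime.prod_mem_iff (p := P)).1 h
      exact hsP U ((Set.Finite.mem_toFinset hFfin).1 hU) hU'
    · have hyW : y ∈ W := Y.basicOpen_le _ hy
      rw [hF] at hyW
      simp only [Opens.mem_iSup] at hyW
      obtain ⟨U, hU, hyU⟩ := hyW
      refine hs U hU ⟨hyU, ?_⟩
      rw [Finset.prod_eq_mul_prod_sdiff_singleton_of_mem ((Set.Finite.mem_toFinset hFfin).2 hU) , map_mul, Scheme.basicOpen_mul] at hy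
      exact hy.1
  obtain ⟨s, hsP, hst⟩ := hs
  -- integral fractions
  let L := FractionRing T
  rw [isIntegrallyClosedIn_iff]
  refine ⟨IsFractionRing.injective T L, fun {z} hz => ?_⟩
  obtain ⟨⟨a0, b⟩, hab⟩ := IsLocalization.surj (nonZeroDivisors T) z
  obtain ⟨n, b', hb'⟩ := exists_pow_dvd T hdimT htm b.2
  obtain ⟨a, σ, ha⟩ := IsLocalization.exists_mk'_eq P.primeCompl (a0 * b')
  let uK : Γ(f.normalization, W') →+* L := (algebraMap T L).comp (algebraMap _ T)
  have hzt : uK σ * z * uK t ^ n = uK a := by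
    have h1 : algebraMap T L (a0 * b') = z * algebraMap T L (algebraMap _ T t ^ n) := by
      rw [hb', map_mul, map_mul, ← mul_assoc]; exact congrArg (· * _) hab.symm
    show algebraMap T L (algebraMap _ T (σ : Γ(f.normalization, W'))) * z * algebraMap T L (algebraMap _ T t) ^ n = algebraMap T L (algebraMap _ T a)
    rw [← IsLocalization.mk'_spec T a σ, ha, map_mul, h1, map_pow]
    ring
  obtain ⟨c, hc⟩ := IsIntegral.exists_multiple_integral_of_isLocalization P.primeCompl
    (uK σ * z) ((isIntegral_algebraMap (R := T) (x := algebraMap _ T (σ : Γ(f.normalization, W')))).mul hz)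
  obtain ⟨p, hp, hpw⟩ := hc
  rw [Submonoid.smul_def, Algebra.smul_def] at hpw
  have hcomp' : algebraMap Γ(f.normalization, W') L = uK := IsScalarTower.algebraMap_eq _ T L
  rw [hcomp'] at hpw
  have hzw : uK c * (uK σ * z) * uK (t ^ n) = uK (c * a) := by rw [map_mul, map_pow, ← hzt]; ring
  have hscale : uK ((p.scaleRoots (t ^ n)).eval ((c : Γ(f.normalization, W')) * a)) = 0 := by
    have := Polynomial.scaleRoots_eval₂_eq_zero uK (s := t ^ n) hpw
    rwa [mul_comm (uK (t ^ n)), hzw, Polynomial.eval₂_hom] at this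
  have hscaleT : algebraMap _ T ((p.scaleRoots (t ^ n)).eval ((c : Γ(f.normalization, W')) * a)) = 0 :=
    IsFractionRing.injective T L (hscale.trans (map_zero _).symm)
  obtain ⟨v, hv⟩ := (IsLocalization.map_eq_zero_iff P.primeCompl T _).1 hscaleT
  let g : Γ(f.normalization, W') := s * v
  have hgP : g ∉ P := fun h => (Ideal.IsPrime.mem_or_mem inferInstance h).elim hsP v.2
  let S' := Γ(Y, Y.basicOpen (τ g))
  letI : Algebra Γ(f.normalization, W') Γ(Y, W) := τ.hom.toAlgebra
  letI : Algebra Γ(Y, W) S' := (Y.presheaf.map (homOfLE (Y.basicOpen_le (τ g))).op).hom.toAlgebra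
  letI : Algebra Γ(f.normalization, W') S' := ((algebraMap Γ(Y, W) S').comp τ.hom).toAlgebra
  haveI : IsScalarTower Γ(f.normalization, W') Γ(Y, W) S' := .of_algebraMap_eq' rfl
  haveI : IsLocalization.Away (algebraMap Γ(f.normalization, W') Γ(Y, W) g) S' :=
    isLocalization_basicOpen_of_qcqs hW hW2 (τ g)
  let ρ := algebraMap Γ(f.normalization, W') S'
  have hunit : ∀ e, Y.basicOpen (τ g) ≤ Y.basicOpen (τ e) → IsUnit (ρ e) := fun e h => by
    have := RingedSpace.isUnit_res_basicOpen Y.toRingedSpace (τ e)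
    have h2 := this.map (Y.presheaf.map (homOfLE h).op).hom
    show IsUnit (Y.presheaf.map (homOfLE (Y.basicOpen_le (τ g))).op (τ e))
    convert h2 using 1
    show _ = (Y.presheaf.map (homOfLE h).op) (Y.presheaf.map (homOfLE (Y.basicOpen_le (τ e))).op (τ e))
    simp only [τ, ← CommRingCat.comp_apply, Category.assoc, Scheme.Hom.appLE_map]
  have hgle : Y.basicOpen (τ g) = Y.basicOpen (τ s) ⊓ Y.basicOpen (τ v) := by
    simp only [g, map_mul, Scheme.basicOpen_mul]
  obtain ⟨ut, hut⟩ := (hunit t (hgle.le.trans (inf_le_left.trans hst))).pow n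
  have huv : IsUnit (ρ v) := hunit v (hgle.le.trans inf_le_right)
  let y : S' := ρ (c * a) * ↑ut⁻¹
  have hy : ρ (t ^ n) * y = ρ (c * a) := by
    show _ * (ρ (c * a) * ↑ut⁻¹) = _
    rw [map_pow, ← hut, mul_comm (ρ (c * a)), Units.mul_inv_cancel_left]
  have hyint : _root_.IsIntegral Γ(f.normalization, W') y := by
    refine ⟨p, hp, ?_⟩
    have h0 : Polynomial.eval₂ ρ (ρ (t ^ n) * y) (p.scaleRoots (t ^ n)) = 0 := by
      rw [hy, Polynomial.eval₂_hom]
      refine (huv.mul_right_eq_zero).1 ?_
      rw [← map_mul, hv, map_zero]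
    rw [Polynomial.scaleRoots_eval₂_mul] at h0
    have : IsUnit (ρ (t ^ n) ^ p.natDegree) := by rw [map_pow, ← hut]; exact (Units.isUnit ut).pow _
    exact this.mul_right_eq_zero.1 h0
  obtain ⟨r0, N, hr0, hr0y⟩ := exists_integral_lift (S := Γ(Y, W)) g y hyint
  obtain ⟨r, rfl⟩ := hclosed r0 hr0
  have hrel : algebraMap Γ(Y, W) S' (τ (t ^ n * r - g ^ N * (c * a))) = 0 := by
    rw [map_sub, map_sub, sub_eq_zero, map_mul τ.hom (t ^ n), map_mul (algebraMap Γ(Y, W) S'), hr0y]
    show ρ (t ^ n) * (ρ g ^ N * y) = ρ (g ^ N * (c * a))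
    rw [map_mul ρ (g ^ N), ← mul_left_comm, hy, map_pow]
  obtain ⟨⟨_, m, rfl⟩, hm⟩ := (IsLocalization.map_eq_zero_iff (Submonoid.powers (algebraMap Γ(f.normalization, W') Γ(Y, W) g)) S' _).1 hrel
  change τ g ^ m * τ (t ^ n * r - g ^ N * (c * a)) = 0 at hm
  rw [← map_pow, ← map_mul] at hm
  have hm' := congrArg uK (hτi (hm.trans (map_zero _).symm))
  simp only [map_mul, map_sub, map_pow, map_zero] at hm'
  have hgu : ∀ e ∉ P, IsUnit (uK e) := fun e he => (IsLocalization.map_units T (⟨e, he⟩ : P.primeCompl)).map (algebraMap T L)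
  rw [((hgu g hgP).pow m).mul_right_eq_zero, sub_eq_zero, ← map_mul, ← hzw, map_pow] at hm'
  have htu : IsUnit (uK t ^ n) := ((IsLocalization.map_units L ⟨_, htr⟩ : IsUnit (algebraMap T L (algebraMap _ T t)))).pow n
  let d : P.primeCompl := ⟨g ^ N * (c * σ), fun h => (Ideal.IsPrime.mem_or_mem inferInstance h).elim
    (fun h => hgP (Ideal.IsPrime.mem_of_pow_mem inferInstance N h)) (fun h => (Ideal.IsPrime.mem_or_mem inferInstance h).elim c.2 σ.2)⟩
  refine ⟨IsLocalization.mk' T r d, (hgu d d.2).mul_right_cancel ?_⟩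
  show algebraMap T L (IsLocalization.mk' T r d) * algebraMap T L (algebraMap _ T (d : Γ(f.normalization, W'))) = _
  rw [← map_mul, IsLocalization.mk'_spec]
  show uK r = z * uK (g ^ N * (c * σ))
  apply htu.mul_left_cancel
  rw [hm']
  simp only [g, map_mul, map_pow]
  ring

end Groth.Agent.H17.NormalizationDVR
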