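import Groth.Agent.H06Red.Fields
import Groth.Agent.H06EGA9.StructureStalk
import Groth.Agent.H17.AssTensorS
import Mathlib

/-!
# No embedded points in the spectrum of a tensor product of fields

The construction in `minimal_aux` follows `S2512`, for weakly associated primes.
-/

set_option autoImplicit false
set_option linter.style.haveILetI false
set_option maxHeartbeats 1000000

noncomputable section

universe u

open CategoryTheory CategoryTheory.Limits AlgebraicGeometry IsLocalRing TensorProduct

namespace Groth.Agent.H17.AssFields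

/-- A prime `p` is the radical of an annihilator after localising at `p`. -/
def WeakAss {A : Type u} [CommRing A] (p : Ideal A) : Prop :=
  ∃ m : A, (∀ t ∉ p, t * m ≠ 0) ∧ ∀ r ∈ p, ∃ n : ℕ, ∃ t ∉ p, t * (r ^ n * m) = 0

theorem minimal_of_weakAss {D A : Type u} [CommRing D] [IsDomain D] [CommRing A]
    [Algebra D A] [Algebra.IsIntegral D A]
    (hreg : ∀ d : D, d ≠ 0 → Function.Injective (fun a : A => algebraMap D A d * a))
    (p : Ideal A) [p.IsPrime] (hp : WeakAss p) : p ∈ minimalPrimes A := by
  obtain ⟨m, hm, hr⟩ := hp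
  have hcomap : p.comap (algebraMap D A) = ⊥ := by
    rw [eq_bot_iff]
    intro d hd
    by_contra hd0
    obtain ⟨n, t, ht, h⟩ := hr _ hd
    refine hm t ht (hreg (d ^ n) (pow_ne_zero _ hd0) ?_)
    simpa [map_pow, mul_left_comm] using h
  refine ⟨⟨inferInstance, bot_le⟩, fun Q hQ hQP => ?_⟩
  haveI := hQ.1
  by_contra hne
  have := Ideal.IsIntegral.comap_lt_comap (R := D) (lt_of_le_not_ge hQP hne)
  rw [hcomap] at this
  exact not_lt_bot this

theorem minimal_aux {k K L : Type u} [Field k] [Field K] [Field L] [Algebra k K] [Algebra k L]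
    (F : Type u) [Field F] [Algebra k F] [Algebra F L] [IsScalarTower k F L]
    [Algebra.IsAlgebraic F L] [IsDomain (F ⊗[k] K)]
    (p : Ideal (K ⊗[k] L)) [p.IsPrime] (hp : WeakAss p) : p ∈ minimalPrimes (K ⊗[k] L) := by
  let φ : F ⊗[k] K →ₐ[k] K ⊗[k] L :=
    ((Algebra.TensorProduct.comm k L K).toAlgHom).comp
      (Algebra.TensorProduct.map (IsScalarTower.toAlgHom k F L) (AlgHom.id k K))
  letI : Algebra (F ⊗[k] K) (K ⊗[k] L) := φ.toRingHom.toAlgebra
  have : Algebra.IsIntegral (F ⊗[k] K) (K ⊗[k] L) := by
    refine ⟨fun a => ?_⟩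
    induction a using TensorProduct.induction_on with
    | zero => exact isIntegral_zero
    | add a b ha hb => exact ha.add hb
    | tmul c l =>
      rw [show c ⊗ₜ[k] l = φ ((1 : F) ⊗ₜ c) * ((1 : K) ⊗ₜ l) by simp [φ]]
      refine IsIntegral.mul isIntegral_algebraMap ?_
      obtain ⟨p, hp, hp0⟩ := Algebra.IsIntegral.isIntegral (R := F) l
      refine ⟨p.map (algebraMap F (F ⊗[k] K)), hp.map _, ?_⟩
      rw [Polynomial.eval₂_map]
      have hc : (algebraMap (F ⊗[k] K) (K ⊗[k] L)).comp (algebraMap F (F ⊗[k] K))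
          = (Algebra.TensorProduct.includeRight (R := k) (A := K) (B := L)).toRingHom.comp
              (algebraMap F L) := by
        ext a
        show φ (a ⊗ₜ (1 : K)) = (1 : K) ⊗ₜ[k] (algebraMap F L a)
        simp [φ]
      rw [hc]
      show Polynomial.eval₂ _ ((Algebra.TensorProduct.includeRight (R := k) (A := K) (B := L)).toRingHom l) p = 0
      rw [← Polynomial.hom_eval₂, hp0, map_zero]
  refine minimal_of_weakAss (D := F ⊗[k] K) (fun d hd => ?_) p hp
  let μ : F ⊗[k] K →ₗ[F] F ⊗[k] K := LinearMap.mulLeft F d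
  have hμ : Function.Injective μ := mul_right_injective₀ hd
  have h2 := Module.Flat.lTensor_preserves_injective_linearMap (M := L) μ hμ
  let e : L ⊗[F] (F ⊗[k] K) ≃ₐ[k] K ⊗[k] L :=
    ((Algebra.TensorProduct.cancelBaseChange k F F L K).restrictScalars k).trans
      (Algebra.TensorProduct.comm k L K)
  have he : ∀ z, e (LinearMap.lTensor L μ z) = φ d * e z := by
    intro z
    induction z using TensorProduct.induction_on with
    | zero => simp
    | add u v hu hv => rw [map_add, map_add, hu, hv, map_add, mul_add]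
    | tmul l y =>
      have hy : ∀ y, e (l ⊗ₜ y) = ((1 : K) ⊗ₜ l) * φ y := by
        intro y
        induction y using TensorProduct.induction_on with
        | zero => simp
        | tmul a c => simp [e, φ, Algebra.smul_def, mul_comm]
        | add u v hu hv => rw [TensorProduct.tmul_add, map_add, map_add, hu, hv, mul_add]
      rw [LinearMap.lTensor_tmul]
      show e (l ⊗ₜ (d * y)) = _
      rw [hy, hy, map_mul]; ring
  intro a b hab
  obtain ⟨a, rfl⟩ := e.surjective a
  obtain ⟨b, rfl⟩ := e.surjective b
  exact congrArg e (h2 (e.injective (by rw [he, he]; exact hab)))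

theorem minimal_tensor_fields {k K L : Type u} [Field k] [Field K] [Field L] [Algebra k K] [Algebra k L]
    (p : Ideal (K ⊗[k] L)) [p.IsPrime] (hp : WeakAss p) : p ∈ minimalPrimes (K ⊗[k] L) := by
  classical
  obtain ⟨s, hs⟩ := exists_isTranscendenceBasis k L
  let F := IntermediateField.adjoin k (Set.range (Subtype.val : s → L))
  have halg : Algebra.IsAlgebraic F L := hs.isAlgebraic_field
  let x : s → F := fun i => ⟨i.1, IntermediateField.subset_adjoin k _ ⟨i, rfl⟩⟩
  have hx : AlgebraicIndependent k x :=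
    AlgebraicIndependent.of_comp F.val (hs.1)
  have htop : IntermediateField.adjoin k (Set.range x) = ⊤ := by
    apply IntermediateField.map_injective F.val
    rw [IntermediateField.adjoin_map, ← AlgHom.fieldRange_eq_map, IntermediateField.fieldRange_val,
      ← Set.range_comp]
    rfl
  haveI := H06Red.isDomain_tensor_purelyTranscendental (k := k) K F x hx htop
  exact minimal_aux (k := k) (K := K) (L := L) F p hp

theorem weakAss_of_mem_ass (R : CommRingCat.{u}) (q : Spec R)
    (hq : q ∈ AssSch.Ass (Coh.structureModule (Spec R))) : WeakAss q.asIdeal := by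
  let A := (Spec R).presheaf.stalk q
  letI : Algebra R A := inferInstanceAs (Algebra R ((Spec.structureSheaf R).presheaf.stalk q))
  haveI : IsLocalization.AtPrime A q.asIdeal :=
    inferInstanceAs (IsLocalization.AtPrime ((Spec.structureSheaf R).presheaf.stalk q) q.asIdeal)
  have hA : maximalIdeal A ∈ associatedPrimes A A :=
    (LinearEquiv.AssociatedPrimes.eq (LinearEquiv.ofBijective
      (LinearMap.toSpanSingleton A _ (H06EGA9.oneStalk q)) (H06EGA9.bijective_smul_oneStalk q))).symm ▸ hq
  obtain ⟨-, m, hm⟩ := hA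
  obtain ⟨⟨a, s⟩, ha⟩ := IsLocalization.surj q.asIdeal.primeCompl m
  have hs : IsUnit (algebraMap R A s) := IsLocalization.map_units A s
  refine ⟨a, fun t ht h => ?_, fun r hr => ?_⟩
  · have h0 : m = 0 := by
      have h' := congrArg (algebraMap R A) h
      rw [map_mul, map_zero, ← ha] at h'
      rwa [(IsLocalization.map_units A (⟨t, ht⟩ : q.asIdeal.primeCompl)).mul_right_eq_zero,
        hs.mul_left_eq_zero] at h'
    refine (maximalIdeal.isMaximal A).ne_top ((Ideal.eq_top_iff_one _).2 ?_)
    rw [hm]
    exact Ideal.le_radical (Submodule.mem_colon_singleton.2 (by simp [h0]))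
  · have hr' : algebraMap R A r ∈ maximalIdeal A :=
      (IsLocalization.AtPrime.to_map_mem_maximal_iff A q.asIdeal r).2 hr
    rw [hm] at hr'
    obtain ⟨n, hn⟩ := hr'
    rw [Submodule.mem_colon_singleton, Submodule.mem_bot, smul_eq_mul] at hn
    have h0 : algebraMap R A (r ^ n * a) = 0 := by
      rw [map_mul, map_pow, ← ha, ← mul_assoc, hn, zero_mul]
    obtain ⟨t, ht⟩ := (IsLocalization.map_eq_zero_iff q.asIdeal.primeCompl A _).1 h0
    exact ⟨n, t, t.2, ht⟩

theorem noEmbedded_spec (R : CommRingCat.{u})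
    (h : ∀ p : Ideal R, p.IsPrime → WeakAss p → p ∈ minimalPrimes R) :
    AssSch.NoEmbedded (Coh.structureModule (Spec R)) := by
  intro x hx y _ hyx
  have h1 := (PrimeSpectrum.le_iff_specializes y x).2 hyx
  exact PrimeSpectrum.ext (le_antisymm
    ((h _ inferInstance (weakAss_of_mem_ass R x hx)).2 ⟨inferInstance, bot_le⟩ h1) h1)

theorem noEmbedded_of_iso {X Y : Scheme.{u}} (e : X ≅ Y)
    (h : AssSch.NoEmbedded (Coh.structureModule Y)) : AssSch.NoEmbedded (Coh.structureModule X) := by
  intro x hx y hy hyx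
  apply e.hom.isOpenEmbedding.injective
  exact h _ ((AssTensorS.ass_pullback_structure e.hom x).1 hx) _
    ((AssTensorS.ass_pullback_structure e.hom y).1 hy) (hyx.map e.hom.continuous)

theorem noEmbedded_pullback_fields {S : Scheme.{u}} (K L : Type u) [Field K] [Field L]
    (a : Spec (.of K) ⟶ S) (b : Spec (.of L) ⟶ S) :
    AssSch.NoEmbedded (Coh.structureModule (pullback a b)) := by
  intro x hx
  have hst : a (pullback.fst a b x) = b (pullback.snd a b x) := by
    rw [← Scheme.Hom.comp_apply, pullback.condition, Scheme.Hom.comp_apply]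
  obtain ⟨⟨s, φ⟩, rfl⟩ := (Scheme.SpecToEquivOfField K S).symm.surjective a
  obtain ⟨⟨s', ψ⟩, rfl⟩ := (Scheme.SpecToEquivOfField L S).symm.surjective b
  obtain rfl : s = s' := by
    simpa [Scheme.SpecToEquivOfField] using hst
  letI := φ.hom.toAlgebra
  letI := ψ.hom.toAlgebra
  refine noEmbedded_of_iso (Y := Spec (.of (K ⊗[S.residueField s] L))) ?_ (noEmbedded_spec _ ?_) x hx
  · exact (IsPullback.of_isLimit (pullbackIsPullbackOfCompMono (Spec.map φ) (Spec.map ψ)
      (S.fromSpecResidueField s))).isoPullback.symm ≪≫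
      pullbackSpecIso (S.residueField s) K L
  · intro p hp hw
    exact minimal_tensor_fields p hw

end Groth.Agent.H17.AssFields
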