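import Mathlib.RingTheory.Algebraic.Integral
import Mathlib.RingTheory.Jacobson.Ring
import Mathlib.RingTheory.Localization.Away.Basic
import Mathlib.RingTheory.Localization.Integral
import Mathlib.RingTheory.Ideal.GoingUp
import Mathlib.RingTheory.FiniteType

/-! Fields of finite type over a ring (Artin-Tate / Goldman style lemma). -/

namespace Groth.Agent.H17

variable {A K : Type*} [CommRing A] [Field K]

theorem exists_notMem_ker_forall_isIntegralElem (φ : A →+* K) (hφ : φ.FiniteType) :
    ∃ c : A, φ c ≠ 0 ∧ ∀ z : K, ∃ n : ℕ, φ.IsIntegralElem (φ c ^ n * z) := by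
  let P := RingHom.ker φ
  have hP : P.IsPrime := RingHom.ker_isPrime φ
  let D := A ⧸ P
  let ψ : D →+* K := RingHom.kerLift φ
  let _ : Algebra D K := ψ.toAlgebra
  let _ : Algebra (FractionRing D) K := (IsFractionRing.lift (g := ψ) (RingHom.kerLift_injective φ)).toAlgebra
  have : IsScalarTower D (FractionRing D) K :=
    .of_algebraMap_eq fun d => (IsFractionRing.lift_algebraMap (RingHom.kerLift_injective φ) d).symm
  let _ : Algebra A K := φ.toAlgebra
  have : IsScalarTower A D K := .of_algebraMap_eq fun a => rfl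
  have hA : Algebra.FiniteType A K := hφ
  have : Algebra.FiniteType D K := .of_restrictScalars_finiteType A D K
  have : Algebra.FiniteType (FractionRing D) K := .of_restrictScalars_finiteType D _ K
  have : Module.Finite (FractionRing D) K := finite_of_finite_type_of_isJacobsonRing _ _
  classical
  obtain ⟨T, hT⟩ := hA.out
  have : ∀ t : K, ∃ c : A, φ c ≠ 0 ∧ IsIntegral A (φ c * t) := fun t => by
    obtain ⟨d, hd, hint⟩ := ((IsFractionRing.isAlgebraic_iff D (FractionRing D) K).mpr
      (IsAlgebraic.of_finite (FractionRing D) t)).exists_integral_multiple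
    obtain ⟨c, rfl⟩ := Ideal.Quotient.mk_surjective d
    refine ⟨c, fun h => hd (Ideal.Quotient.eq_zero_iff_mem.mpr h), ?_⟩
    have : IsIntegral A (Ideal.Quotient.mk P c • t) := by
      have : Algebra.IsIntegral A D := .of_finite A D
      exact isIntegral_trans _ hint
    rwa [Algebra.smul_def] at this
  choose c hc hint using this
  refine ⟨∏ t ∈ T, c t, by rw [map_prod]; exact Finset.prod_ne_zero_iff.mpr fun t _ => hc t, fun z => ?_⟩
  set C := φ (∏ t ∈ T, c t)
  have hz : z ∈ Algebra.adjoin A (T : Set K) := hT ▸ trivial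
  suffices ∃ n, IsIntegral A (C ^ n * z) from this
  induction hz using Algebra.adjoin_induction with
  | mem t ht =>
    refine ⟨1, ?_⟩
    show IsIntegral A (φ (∏ s ∈ T, c s) ^ 1 * t)
    rw [pow_one, ← Finset.mul_prod_erase T c ht, map_mul, mul_right_comm]
    exact (hint t).mul isIntegral_algebraMap
  | algebraMap a => exact ⟨0, by rw [pow_zero, one_mul]; exact isIntegral_algebraMap⟩
  | add x y _ _ hx hy =>
    obtain ⟨n, hn⟩ := hx
    obtain ⟨m, hm⟩ := hy
    refine ⟨n + m, ?_⟩
    rw [show C ^ (n + m) * (x + y) = C ^ m * (C ^ n * x) + C ^ n * (C ^ m * y) by ring]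
    exact ((isIntegral_algebraMap.pow m).mul hn).add ((isIntegral_algebraMap.pow n).mul hm)
  | mul x y _ _ hx hy =>
    obtain ⟨n, hn⟩ := hx
    obtain ⟨m, hm⟩ := hy
    refine ⟨n + m, ?_⟩
    rw [show C ^ (n + m) * (x * y) = (C ^ n * x) * (C ^ m * y) by ring]
    exact hn.mul hm

/-- If a field is of finite type over `A`, then its kernel is maximal on some basic open. -/
theorem exists_notMem_forall_prime_eq_ker (φ : A →+* K) (hφ : φ.FiniteType) :
    ∃ c : A, φ c ≠ 0 ∧ ∀ Q : Ideal A, Q.IsPrime → RingHom.ker φ ≤ Q → c ∉ Q → Q = RingHom.ker φ := by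
  obtain ⟨c, hc, h⟩ := exists_notMem_ker_forall_isIntegralElem φ hφ
  refine ⟨c, hc, fun Q hQ hle hcQ => ?_⟩
  let L := Localization.Away c
  let ψ : L →+* K := IsLocalization.Away.lift c (isUnit_iff_ne_zero.mpr hc)
  have hψ : ∀ a, ψ (algebraMap A L a) = φ a := fun a => IsLocalization.Away.lift_eq _ _ _
  have hint : ψ.IsIntegral := fun z => by
    obtain ⟨n, hn⟩ := h z
    have h1 : ψ.IsIntegralElem (φ c ^ n * z) := RingHom.IsIntegralElem.of_comp
      (f := algebraMap A L) (g := ψ) (by rwa [show ψ.comp (algebraMap A L) = φ from RingHom.ext hψ])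
    obtain ⟨u, hu⟩ := (IsLocalization.Away.algebraMap_isUnit (S := L) c).pow n
    have h2 : z = ψ ↑u⁻¹ * (φ c ^ n * z) := by
      rw [← mul_assoc, ← hψ, ← map_pow, ← map_mul, ← hu, Units.inv_mul, map_one, one_mul]
    exact h2 ▸ RingHom.IsIntegralElem.mul ψ (RingHom.isIntegralElem_map ψ) h1
  have hmax : (RingHom.ker ψ).IsMaximal := by
    let _ : Algebra L K := ψ.toAlgebra
    have : Algebra.IsIntegral L K := ⟨hint⟩
    exact RingHom.ker_eq_comap_bot ψ ▸ Ideal.isMaximal_comap_of_isIntegral_of_isMaximal (R := L) (⊥ : Ideal K)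
  have hdisj : Disjoint (Submonoid.powers c : Set A) Q := by
    refine Set.disjoint_left.mpr ?_
    rintro _ ⟨n, rfl⟩ hn
    exact hcQ (hQ.mem_of_pow_mem n hn)
  have hQ' : (Q.map (algebraMap A L)).IsPrime :=
    IsLocalization.isPrime_of_isPrime_disjoint (Submonoid.powers c) L Q hQ hdisj
  have hle' : RingHom.ker ψ ≤ Q.map (algebraMap A L) := by
    intro l hl
    obtain ⟨a, s, rfl⟩ := IsLocalization.exists_mk'_eq (Submonoid.powers c) l
    rw [RingHom.mem_ker] at hl
    have : φ a = 0 := by
      rw [← hψ, ← IsLocalization.mk'_spec L a s, map_mul, hl, zero_mul]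
    exact IsLocalization.mk'_mem_iff.mpr (Ideal.mem_map_of_mem _ (hle this))
  refine le_antisymm (fun a ha => ?_) hle
  rw [RingHom.mem_ker, ← hψ]
  exact RingHom.mem_ker.mp (by
    rw [hmax.eq_of_le hQ'.ne_top hle']
    exact Ideal.mem_map_of_mem _ ha)

end Groth.Agent.H17
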