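import Groth.Prelude.Def_W4ega4s0809p4Pair
import Groth.Agent.H17.ConsPropBasic
import Groth.Agent.H17.IndCons
import Groth.Agent.H7Lim.FPDescent.Noetherian
import Groth.Agent.H8Props.FibreCriterionApps

/-!
EGA IV 9.2.3 for relations on morphisms and on pairs of schemes, over an arbitrary base.
-/

set_option autoImplicit false
set_option linter.style.haveILetI false
set_option backward.isDefEq.respectTransparency false

universe u

open CategoryTheory Limits AlgebraicGeometry TopologicalSpace Topology Set Opposite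

namespace Groth.Agent.H17.ConsProp

open H8Props.FibreCriterion

/-! ### Base change of loci -/

theorem locusMor_baseChange {P : ∀ ⦃X Y T : Scheme.{u}⦄, (X ⟶ Y) → (Y ⟶ T) → Prop}
    (hP : _root_.ConsProp.IsFieldStableMor P) {X Y S X' Y' S' : Scheme.{u}} {f : X ⟶ Y} {g : Y ⟶ S}
    {f' : X' ⟶ Y'} {g' : Y' ⟶ S'} {j : S' ⟶ S} {jY : Y' ⟶ Y} {jX : X' ⟶ X}
    [LocallyOfFiniteType g] [QuasiCompact g] [LocallyOfFiniteType (f ≫ g)] [QuasiCompact (f ≫ g)]
    (hY : IsPullback jY g' g j) (hX : IsPullback jX f' f jY) :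
    _root_.ConsProp.locusMor P f' g' = j ⁻¹' _root_.ConsProp.locusMor P f g := by
  ext s
  haveI : LocallyOfFiniteType (MoreMor.fiberMap f g (j s) ≫ g.fiberToSpecResidueField (j s)) := by
    rw [fiberMap_fiberToSpec]
    exact MorphismProperty.pullback_snd _ _ ‹_›
  haveI : QuasiCompact (MoreMor.fiberMap f g (j s) ≫ g.fiberToSpecResidueField (j s)) := by
    rw [fiberMap_fiberToSpec]
    exact MorphismProperty.pullback_snd _ _ ‹_›
  haveI : LocallyOfFiniteType (g.fiberToSpecResidueField (j s)) := MorphismProperty.pullback_snd _ _ ‹_›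
  haveI : QuasiCompact (g.fiberToSpecResidueField (j s)) := MorphismProperty.pullback_snd _ _ ‹_›
  have h1 : IsPullback (fiberSqMap hY.w s) (g'.fiberToSpecResidueField s) (g.fiberToSpecResidueField (j s))
      (Spec.map (j.residueFieldMap s)) := isPullback_fiberToSpecResidueField_of_isPullback hY s
  have h2 : IsPullback (fiberSqMap (g := f ≫ g) (g' := f' ≫ g') (hX.paste_vert hY).w s)
      ((f' ≫ g').fiberToSpecResidueField s) ((f ≫ g).fiberToSpecResidueField (j s))
      (Spec.map (j.residueFieldMap s)) := isPullback_fiberToSpecResidueField_of_isPullback (hX.paste_vert hY) s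
  rw [← fiberMap_fiberToSpec f g (j s), ← fiberMap_fiberToSpec f' g' s] at h2
  have h3 := IsPullback.of_bot h2 (fiberMap_comp_fiberSqMap f g f' g' j jY jX hY.w hX.w s).symm h1
  exact (hP _ _ _ _ _ _ _ h1 h3).symm

theorem locusPair_baseChange {P : ∀ ⦃X Y T : Scheme.{u}⦄, (X ⟶ T) → (Y ⟶ T) → Prop}
    (hP : _root_.ConsPropPair.IsFieldStablePair P) {X Y S X' Y' S' : Scheme.{u}} {u : X ⟶ S} {v : Y ⟶ S}
    {u' : X' ⟶ S'} {v' : Y' ⟶ S'} {j : S' ⟶ S} {jY : Y' ⟶ Y} {jX : X' ⟶ X}
    [LocallyOfFiniteType u] [QuasiCompact u] [LocallyOfFiniteType v] [QuasiCompact v]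
    (hX : IsPullback jX u' u j) (hY : IsPullback jY v' v j) :
    _root_.ConsPropPair.locusPair P u' v' = j ⁻¹' _root_.ConsPropPair.locusPair P u v := by
  ext s
  haveI : LocallyOfFiniteType (u.fiberToSpecResidueField (j s)) := MorphismProperty.pullback_snd _ _ ‹_›
  haveI : QuasiCompact (u.fiberToSpecResidueField (j s)) := MorphismProperty.pullback_snd _ _ ‹_›
  haveI : LocallyOfFiniteType (v.fiberToSpecResidueField (j s)) := MorphismProperty.pullback_snd _ _ ‹_›
  haveI : QuasiCompact (v.fiberToSpecResidueField (j s)) := MorphismProperty.pullback_snd _ _ ‹_›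
  exact (hP _ _ _ _ _ _ _ (isPullback_fiberToSpecResidueField_of_isPullback hX s)
    (isPullback_fiberToSpecResidueField_of_isPullback hY s)).symm

/-! ### Noetherian bases -/

theorem isConstructible_of_restrict {S : Scheme.{u}} [IsNoetherian S] {E : Set S}
    (h : ∀ (T : Scheme.{u}) (i : T ⟶ S) [IsIntegral T] [IsNoetherian T] [IsClosedImmersion i],
      (interior (i ⁻¹' E)).Nonempty ∨ (interior (i ⁻¹' E)ᶜ).Nonempty) : IsConstructible E := by
  refine H28Top.isConstructible_of_forall_irreducible fun Z hZ hi hd => ?_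
  obtain ⟨T, i, _, _, _, rfl⟩ := exists_integral_closed Z hZ hi
  rcases h T i with h | h
  · exact exists_open_inter i h
  · rw [← preimage_compl] at h
    obtain ⟨U, hU, hne, hsub⟩ := exists_open_inter i h
    exfalso
    obtain ⟨z, hzU, hzZ⟩ := hne
    obtain ⟨w, hwU, hwE, hwZ⟩ := mem_closure_iff.1 (hd hzZ) U hU hzU
    exact hsub ⟨hwU, hwZ⟩ hwE

theorem exists_constructible_of_restrict {S : Scheme.{u}} [IsNoetherian S] {E : Set S}
    (h : ∀ (T : Scheme.{u}) (i : T ⟶ S) [IsIntegral T] [IsNoetherian T] [IsClosedImmersion i],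
      genericPoint T ∈ i ⁻¹' E → (interior (i ⁻¹' E)).Nonempty) :
    ∀ s ∈ E, ∃ T, IsConstructible T ∧ s ∈ T ∧ T ⊆ E := by
  intro s hs
  obtain ⟨T, i, _, _, _, hr⟩ :=
    exists_integral_closed (closure {s}) isClosed_closure isIrreducible_singleton.closure
  obtain ⟨t, ht⟩ : s ∈ range i := hr ▸ subset_closure rfl
  have hgen : genericPoint T = t := by
    refine (genericPoint_spec T).eq (Set.eq_univ_of_forall fun w => ?_)
    refine (i.isEmbedding.isInducing.specializes_iff.1 ?_).mem_closure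
    rw [ht]
    exact specializes_iff_mem_closure.mpr (hr.subset (mem_range_self w) : i w ∈ closure ({s} : Set S))
  obtain ⟨U, hU, hne, hsub⟩ := exists_open_inter i (h T i (by rw [hgen, mem_preimage, ht]; exact hs))
  rw [hr] at hne hsub
  obtain ⟨z, hzU, hzs⟩ := hne
  exact ⟨U ∩ closure {s}, H28Top.isConstructible_of_isLocallyClosed (hU.isLocallyClosed.inter isClosed_closure.isLocallyClosed),
    ⟨(specializes_iff_mem_closure.mpr hzs).mem_open hU hzU, subset_closure rfl⟩, hsub⟩

theorem isConstructible_locusMor_noetherian {P : ∀ ⦃X Y T : Scheme.{u}⦄, (X ⟶ Y) → (Y ⟶ T) → Prop}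
    (hP : _root_.ConsProp.IsConsMor P) {X Y S : Scheme.{u}} (f : X ⟶ Y) (g : Y ⟶ S) [IsNoetherian S]
    [LocallyOfFiniteType g] [QuasiCompact g] [LocallyOfFiniteType (f ≫ g)] [QuasiCompact (f ≫ g)] :
    IsConstructible (_root_.ConsProp.locusMor P f g) := by
  refine isConstructible_of_restrict fun T i _ _ _ => ?_
  have hY := IsPullback.of_hasPullback g i
  have hX := IsPullback.of_hasPullback f (pullback.fst g i)
  haveI : LocallyOfFiniteType (pullback.snd g i) := MorphismProperty.pullback_snd _ _ ‹_›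
  haveI : LocallyOfFiniteType (pullback.snd f (pullback.fst g i) ≫ pullback.snd g i) :=
    MorphismProperty.of_isPullback (hX.paste_vert hY) ‹_›
  haveI : QuasiCompact (pullback.snd f (pullback.fst g i) ≫ pullback.snd g i) :=
    MorphismProperty.of_isPullback (hX.paste_vert hY) ‹_›
  rw [← locusMor_baseChange hP.1 hY hX]
  exact hP.2 _ _

theorem exists_constructible_locusMor_noetherian {P : ∀ ⦃X Y T : Scheme.{u}⦄, (X ⟶ Y) → (Y ⟶ T) → Prop}
    (hP : _root_.ConsProp.IsIndConsMor P) {X Y S : Scheme.{u}} (f : X ⟶ Y) (g : Y ⟶ S) [IsNoetherian S]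
    [LocallyOfFiniteType g] [QuasiCompact g] [LocallyOfFiniteType (f ≫ g)] [QuasiCompact (f ≫ g)] :
    ∀ s ∈ _root_.ConsProp.locusMor P f g,
      ∃ T, IsConstructible T ∧ s ∈ T ∧ T ⊆ _root_.ConsProp.locusMor P f g := by
  refine exists_constructible_of_restrict fun T i _ _ _ hη => ?_
  have hY := IsPullback.of_hasPullback g i
  have hX := IsPullback.of_hasPullback f (pullback.fst g i)
  haveI : LocallyOfFiniteType (pullback.snd g i) := MorphismProperty.pullback_snd _ _ ‹_›
  haveI : LocallyOfFiniteType (pullback.snd f (pullback.fst g i) ≫ pullback.snd g i) :=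
    MorphismProperty.of_isPullback (hX.paste_vert hY) ‹_›
  haveI : QuasiCompact (pullback.snd f (pullback.fst g i) ≫ pullback.snd g i) :=
    MorphismProperty.of_isPullback (hX.paste_vert hY) ‹_›
  rw [← locusMor_baseChange hP.1 hY hX] at hη ⊢
  exact hP.2 _ _ hη

theorem isConstructible_locusPair_noetherian {P : ∀ ⦃X Y T : Scheme.{u}⦄, (X ⟶ T) → (Y ⟶ T) → Prop}
    (hP : _root_.ConsPropPair.IsConsPair P) {X Y S : Scheme.{u}} (u : X ⟶ S) (v : Y ⟶ S) [IsNoetherian S]
    [LocallyOfFiniteType u] [QuasiCompact u] [LocallyOfFiniteType v] [QuasiCompact v] :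
    IsConstructible (_root_.ConsPropPair.locusPair P u v) := by
  refine isConstructible_of_restrict fun T i _ _ _ => ?_
  haveI : LocallyOfFiniteType (pullback.snd u i) := MorphismProperty.pullback_snd _ _ ‹_›
  haveI : LocallyOfFiniteType (pullback.snd v i) := MorphismProperty.pullback_snd _ _ ‹_›
  rw [← locusPair_baseChange hP.1 (IsPullback.of_hasPullback u i) (IsPullback.of_hasPullback v i)]
  exact hP.2 _ _

theorem exists_constructible_locusPair_noetherian {P : ∀ ⦃X Y T : Scheme.{u}⦄, (X ⟶ T) → (Y ⟶ T) → Prop}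
    (hP : _root_.ConsPropPair.IsIndConsPair P) {X Y S : Scheme.{u}} (u : X ⟶ S) (v : Y ⟶ S) [IsNoetherian S]
    [LocallyOfFiniteType u] [QuasiCompact u] [LocallyOfFiniteType v] [QuasiCompact v] :
    ∀ s ∈ _root_.ConsPropPair.locusPair P u v,
      ∃ T, IsConstructible T ∧ s ∈ T ∧ T ⊆ _root_.ConsPropPair.locusPair P u v := by
  refine exists_constructible_of_restrict fun T i _ _ _ hη => ?_
  haveI : LocallyOfFiniteType (pullback.snd u i) := MorphismProperty.pullback_snd _ _ ‹_›
  haveI : LocallyOfFiniteType (pullback.snd v i) := MorphismProperty.pullback_snd _ _ ‹_›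
  rw [← locusPair_baseChange hP.1 (IsPullback.of_hasPullback u i) (IsPullback.of_hasPullback v i)] at hη ⊢
  exact hP.2 _ _ hη

/-! ### Noetherian models -/

section Models

open H7Lim.FPDescent

variable (R : Type u) [CommRing R]

noncomputable abbrev subringCone : Cone ((subringFunctor R).op ⋙ Scheme.Spec) :=
  Scheme.Spec.mapCone (subringCocone R).op

noncomputable def isLimitSubringCone : IsLimit (subringCone R) :=
  isLimitOfPreserves Scheme.Spec (subringIsColimit R).op

instance (i j : (Finset R)ᵒᵖ) (φ : i ⟶ j) : IsAffineHom (((subringFunctor R).op ⋙ Scheme.Spec).map φ) :=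
  inferInstanceAs (IsAffineHom (Spec.map _))

instance (i : (Finset R)ᵒᵖ) : CompactSpace (((subringFunctor R).op ⋙ Scheme.Spec).obj i) :=
  inferInstanceAs (CompactSpace ↥(Spec _))

instance (i : (Finset R)ᵒᵖ) : QuasiSeparatedSpace (((subringFunctor R).op ⋙ Scheme.Spec).obj i) :=
  inferInstanceAs (QuasiSeparatedSpace ↥(Spec _))

instance (i : (Finset R)ᵒᵖ) : IsNoetherian (((subringFunctor R).op ⋙ Scheme.Spec).obj i) := by
  haveI : Algebra.FiniteType ℤ ↥(Algebra.adjoin ℤ ((unop i : Finset R) : Set R)) :=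
    (Algebra.adjoin ℤ ((unop i : Finset R) : Set R)).fg_iff_finiteType.1 ⟨unop i, rfl⟩
  haveI : IsNoetherianRing ↥(Algebra.adjoin ℤ ((unop i : Finset R) : Set R)) :=
    Algebra.FiniteType.isNoetherianRing ℤ _
  exact inferInstanceAs (IsNoetherian (Spec (CommRingCat.of ↥(Algebra.adjoin ℤ ((unop i : Finset R) : Set R)))))

variable {R}

theorem exists_mor_model {X Y : Scheme.{u}} (f : X ⟶ Y) (g : Y ⟶ (subringCone R).pt)
    [LocallyOfFinitePresentation g] [QuasiCompact g] [QuasiSeparated g]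
    [LocallyOfFinitePresentation (f ≫ g)] [QuasiCompact (f ≫ g)] [QuasiSeparated (f ≫ g)] :
    ∃ (i : (Finset R)ᵒᵖ) (X₀ Y₀ : Scheme.{u}) (f₀ : X₀ ⟶ Y₀)
      (g₀ : Y₀ ⟶ ((subringFunctor R).op ⋙ Scheme.Spec).obj i) (qX : X ⟶ X₀) (qY : Y ⟶ Y₀),
      LocallyOfFinitePresentation g₀ ∧ QuasiCompact g₀ ∧ LocallyOfFinitePresentation (f₀ ≫ g₀) ∧
      QuasiCompact (f₀ ≫ g₀) ∧
        IsPullback qY g g₀ ((subringCone R).π.app i) ∧ IsPullback qX f f₀ qY := by
  haveI : Nonempty (Finset R) := ⟨∅⟩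
  have hc := isLimitSubringCone R
  obtain ⟨i, ⟨M⟩⟩ := exists_model hc (f ≫ g)
  obtain ⟨i', ⟨N⟩⟩ := exists_model hc g
  let k := IsCofiltered.min i i'
  obtain ⟨j, φ, ⟨F⟩⟩ := exists_hom hc (M.shift (IsCofiltered.minToLeft i i'))
    (N.shift (IsCofiltered.minToRight i i')) f rfl
  refine ⟨j, _, _, F.o, ((N.shift (IsCofiltered.minToRight i i')).shift φ).p,
    ((M.shift (IsCofiltered.minToLeft i i')).shift φ).g, ((N.shift (IsCofiltered.minToRight i i')).shift φ).g,
    inferInstance, inferInstance,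
    ?_, ?_, ((N.shift (IsCofiltered.minToRight i i')).shift φ).hpb, ?_⟩
  · rw [F.w_p]; infer_instance
  · rw [F.w_p]; infer_instance
  · refine IsPullback.of_bot ?_ F.w_g ((N.shift (IsCofiltered.minToRight i i')).shift φ).hpb
    rw [F.w_p]
    exact ((M.shift (IsCofiltered.minToLeft i i')).shift φ).hpb

theorem exists_pair_model {X Y : Scheme.{u}} (u : X ⟶ (subringCone R).pt) (v : Y ⟶ (subringCone R).pt)
    [LocallyOfFinitePresentation u] [QuasiCompact u] [QuasiSeparated u]
    [LocallyOfFinitePresentation v] [QuasiCompact v] [QuasiSeparated v] :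
    ∃ (i : (Finset R)ᵒᵖ) (X₀ Y₀ : Scheme.{u}) (u₀ : X₀ ⟶ ((subringFunctor R).op ⋙ Scheme.Spec).obj i)
      (v₀ : Y₀ ⟶ ((subringFunctor R).op ⋙ Scheme.Spec).obj i) (qX : X ⟶ X₀) (qY : Y ⟶ Y₀),
      LocallyOfFinitePresentation u₀ ∧ QuasiCompact u₀ ∧ LocallyOfFinitePresentation v₀ ∧ QuasiCompact v₀ ∧
        IsPullback qX u u₀ ((subringCone R).π.app i) ∧ IsPullback qY v v₀ ((subringCone R).π.app i) := by
  haveI : Nonempty (Finset R) := ⟨∅⟩
  have hc := isLimitSubringCone R
  obtain ⟨i, ⟨M⟩⟩ := exists_model hc u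
  obtain ⟨i', ⟨N⟩⟩ := exists_model hc v
  refine ⟨IsCofiltered.min i i', _, _, (M.shift (IsCofiltered.minToLeft i i')).p,
    (N.shift (IsCofiltered.minToRight i i')).p, (M.shift _).g, (N.shift _).g, inferInstance, inferInstance, inferInstance, inferInstance,
    (M.shift _).hpb, (N.shift _).hpb⟩

end Models

/-! ### Loci over an arbitrary base -/

section Mor

variable {P : ∀ ⦃X Y T : Scheme.{u}⦄, (X ⟶ Y) → (Y ⟶ T) → Prop} {X Y S : Scheme.{u}} (f : X ⟶ Y) (g : Y ⟶ S)
  [LocallyOfFinitePresentation g] [QuasiCompact g] [QuasiSeparated g]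
  [LocallyOfFinitePresentation (f ≫ g)] [QuasiCompact (f ≫ g)] [QuasiSeparated (f ≫ g)]

theorem exists_model_locusMor (hP : _root_.ConsProp.IsFieldStableMor P) (R : CommRingCat.{u}) (a : Spec R ⟶ S) :
    ∃ (S₀ X₀ Y₀ : Scheme.{u}) (_ : IsNoetherian S₀) (π : Spec R ⟶ S₀) (f₀ : X₀ ⟶ Y₀) (g₀ : Y₀ ⟶ S₀),
      LocallyOfFiniteType g₀ ∧ QuasiCompact g₀ ∧ LocallyOfFiniteType (f₀ ≫ g₀) ∧ QuasiCompact (f₀ ≫ g₀) ∧
      a ⁻¹' _root_.ConsProp.locusMor P f g = π ⁻¹' _root_.ConsProp.locusMor P f₀ g₀ := by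
  have hY := IsPullback.of_hasPullback g a
  have hX := IsPullback.of_hasPullback f (pullback.fst g a)
  haveI : LocallyOfFinitePresentation (pullback.snd g a) := MorphismProperty.pullback_snd _ _ ‹_›
  haveI : QuasiSeparated (pullback.snd g a) := MorphismProperty.pullback_snd _ _ ‹_›
  haveI : LocallyOfFinitePresentation (pullback.snd f (pullback.fst g a) ≫ pullback.snd g a) :=
    MorphismProperty.of_isPullback (hX.paste_vert hY) ‹_›
  haveI : QuasiCompact (pullback.snd f (pullback.fst g a) ≫ pullback.snd g a) :=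
    MorphismProperty.of_isPullback (hX.paste_vert hY) ‹_›
  haveI : QuasiSeparated (pullback.snd f (pullback.fst g a) ≫ pullback.snd g a) :=
    MorphismProperty.of_isPullback (hX.paste_vert hY) ‹_›
  obtain ⟨i, X₀, Y₀, f₀, g₀, qX, qY, _, _, _, _, h1, h2⟩ :=
    exists_mor_model (R := R) (pullback.snd f (pullback.fst g a)) (pullback.snd g a)
  refine ⟨_, X₀, Y₀, inferInstance, (subringCone R).π.app i, f₀, g₀, inferInstance, inferInstance, inferInstance, inferInstance, ?_⟩
  rw [← locusMor_baseChange hP hY hX]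
  exact locusMor_baseChange hP h1 h2

theorem chartCons_locusMor (hP : _root_.ConsProp.IsConsMor P) :
    IndCons.ChartCons (_root_.ConsProp.locusMor P f g) := by
  refine IndCons.chartCons_of_models fun R a _ => ?_
  obtain ⟨S₀, X₀, Y₀, _, π, f₀, g₀, _, _, _, _, e⟩ := exists_model_locusMor f g hP.1 R a
  exact ⟨S₀, π, _, isConstructible_locusMor_noetherian hP f₀ g₀, e⟩

theorem chartInd_locusMor (hP : _root_.ConsProp.IsIndConsMor P) :
    IndCons.ChartInd (_root_.ConsProp.locusMor P f g) := by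
  refine IndCons.chartInd_of_models fun R a _ => ?_
  obtain ⟨S₀, X₀, Y₀, _, π, f₀, g₀, _, _, _, _, e⟩ := exists_model_locusMor f g hP.1 R a
  exact ⟨S₀, π, _, exists_constructible_locusMor_noetherian hP f₀ g₀, e⟩

end Mor

section Pair

variable {P : ∀ ⦃X Y T : Scheme.{u}⦄, (X ⟶ T) → (Y ⟶ T) → Prop} {X Y S : Scheme.{u}} (u : X ⟶ S) (v : Y ⟶ S)
  [LocallyOfFinitePresentation u] [QuasiCompact u] [QuasiSeparated u]
  [LocallyOfFinitePresentation v] [QuasiCompact v] [QuasiSeparated v]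

theorem exists_model_locusPair (hP : _root_.ConsPropPair.IsFieldStablePair P) (R : CommRingCat.{u})
    (a : Spec R ⟶ S) :
    ∃ (S₀ X₀ Y₀ : Scheme.{u}) (_ : IsNoetherian S₀) (π : Spec R ⟶ S₀) (u₀ : X₀ ⟶ S₀) (v₀ : Y₀ ⟶ S₀),
      LocallyOfFiniteType u₀ ∧ QuasiCompact u₀ ∧ LocallyOfFiniteType v₀ ∧ QuasiCompact v₀ ∧
      a ⁻¹' _root_.ConsPropPair.locusPair P u v = π ⁻¹' _root_.ConsPropPair.locusPair P u₀ v₀ := by
  haveI : LocallyOfFinitePresentation (pullback.snd u a) := MorphismProperty.pullback_snd _ _ ‹_›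
  haveI : QuasiSeparated (pullback.snd u a) := MorphismProperty.pullback_snd _ _ ‹_›
  haveI : LocallyOfFinitePresentation (pullback.snd v a) := MorphismProperty.pullback_snd _ _ ‹_›
  haveI : QuasiSeparated (pullback.snd v a) := MorphismProperty.pullback_snd _ _ ‹_›
  obtain ⟨i, X₀, Y₀, u₀, v₀, qX, qY, _, _, _, _, h1, h2⟩ :=
    exists_pair_model (R := R) (pullback.snd u a) (pullback.snd v a)
  refine ⟨_, X₀, Y₀, inferInstance, (subringCone R).π.app i, u₀, v₀, inferInstance, inferInstance, inferInstance, inferInstance, ?_⟩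
  rw [← locusPair_baseChange hP (IsPullback.of_hasPullback u a) (IsPullback.of_hasPullback v a)]
  exact locusPair_baseChange hP h1 h2

theorem chartCons_locusPair (hP : _root_.ConsPropPair.IsConsPair P) :
    IndCons.ChartCons (_root_.ConsPropPair.locusPair P u v) := by
  refine IndCons.chartCons_of_models fun R a _ => ?_
  obtain ⟨S₀, X₀, Y₀, _, π, u₀, v₀, _, _, _, _, e⟩ := exists_model_locusPair u v hP.1 R a
  exact ⟨S₀, π, _, isConstructible_locusPair_noetherian hP u₀ v₀, e⟩

theorem chartInd_locusPair (hP : _root_.ConsPropPair.IsIndConsPair P) :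
    IndCons.ChartInd (_root_.ConsPropPair.locusPair P u v) := by
  refine IndCons.chartInd_of_models fun R a _ => ?_
  obtain ⟨S₀, X₀, Y₀, _, π, u₀, v₀, _, _, _, _, e⟩ := exists_model_locusPair u v hP.1 R a
  exact ⟨S₀, π, _, exists_constructible_locusPair_noetherian hP u₀ v₀, e⟩

end Pair

end Groth.Agent.H17.ConsProp
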