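import Groth.Agent.H17.AssFlatAlg
import Groth.Agent.H17.AssPts
import Groth.Agent.S9501
import Groth.Agent.H16Derived.KFlat.StalkTensor
import Groth.Agent.H06Mod.StalkPullback
import Groth.Agent.H06Mod.StalkFinite
import Groth.Agent.H29Fitt.PullbackQCoh
import Groth.Agent.S2498
import Groth.Agent.LeadDev.Stalks
import Mathlib

/-!
# Associated points of `f^*E ⊗ F` for `F` flat over the base
-/

set_option autoImplicit false
set_option linter.style.haveILetI false

universe u

open CategoryTheory AlgebraicGeometry TensorProduct IsLocalRing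

namespace Groth.Agent.H17.AssFlat

attribute [local instance] H06Mod.stalkAlgebra

variable {X Y : Scheme.{u}} (f : X ⟶ Y) (E : Y.Modules) (F : X.Modules)

/-- The closed point of the stalk is associated to the closed fibre of the module. -/
def FibAss (x : X) : Prop :=
  maximalIdeal (X.presheaf.stalk x) ∈ associatedPrimes (X.presheaf.stalk x)
    (F.presheaf.stalk x ⧸ ((maximalIdeal (Y.presheaf.stalk (f.base x))).map (f.stalkMap x).hom •
      (⊤ : Submodule (X.presheaf.stalk x) (F.presheaf.stalk x))))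

/-- The length of the closed fibre. -/
noncomputable def fibLength (x : X) : ℕ∞ :=
  Module.length (X.presheaf.stalk x)
    (F.presheaf.stalk x ⧸ ((maximalIdeal (Y.presheaf.stalk (f.base x))).map (f.stalkMap x).hom •
      (⊤ : Submodule (X.presheaf.stalk x) (F.presheaf.stalk x))))

theorem isScalarTower_over (x : X) :
    letI := FlatMod.moduleStalkOver f F x
    IsScalarTower (Y.presheaf.stalk (f.base x)) (X.presheaf.stalk x) (F.presheaf.stalk x) :=
  letI := FlatMod.moduleStalkOver f F x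
  .of_algebraMap_smul fun _ _ => rfl

/-- The stalk of `f^*E ⊗ F`. -/
theorem nonempty_stalkEquiv (x : X) :
    letI := FlatMod.moduleStalkOver f F x
    haveI := isScalarTower_over f F x
    Nonempty ((CohB1.tensorMod ((Scheme.Modules.pullback f).obj E) F).presheaf.stalk x ≃ₗ[X.presheaf.stalk x]
      F.presheaf.stalk x ⊗[Y.presheaf.stalk (f.base x)] E.presheaf.stalk (f.base x)) := by
  letI := FlatMod.moduleStalkOver f F x
  haveI := isScalarTower_over f F x
  exact ⟨(H16Derived.KFlat.Stalk.stalkEquiv ((Scheme.Modules.pullback f).obj E) F x).symm ≪≫ₗ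
    TensorProduct.comm _ _ _ ≪≫ₗ
    TensorProduct.congr (LinearEquiv.refl _ _)
      (LinearEquiv.ofBijective _ (H06Mod.pullStalkLin_bijective f E x)).symm ≪≫ₗ
    AlgebraTensorModule.cancelBaseChange _ _ _ _ _⟩

variable (hflat : FlatMod.IsFlatOver f F)

include hflat in
theorem mem_ass_tensor_iff (x : X) [IsNoetherianRing (Y.presheaf.stalk (f.base x))] :
    x ∈ AssSch.Ass (CohB1.tensorMod ((Scheme.Modules.pullback f).obj E) F) ↔
      f x ∈ AssSch.Ass E ∧ FibAss f F x := by
  letI := FlatMod.moduleStalkOver f F x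
  haveI := isScalarTower_over f F x
  haveI : Module.Flat (Y.presheaf.stalk (f.base x)) (F.presheaf.stalk x) := hflat x
  haveI : IsLocalHom (algebraMap (Y.presheaf.stalk (f.base x)) (X.presheaf.stalk x)) :=
    inferInstanceAs (IsLocalHom (f.stalkMap x).hom)
  obtain ⟨e⟩ := nonempty_stalkEquiv f E F x
  show maximalIdeal _ ∈ associatedPrimes _ _ ↔ _
  rw [LinearEquiv.AssociatedPrimes.eq e, maximal_mem_ass_tensor_iff]
  rfl

theorem exists_fibre_equiv (y : Y) (w : f.fiber y) :
    ∃ (σ : X.presheaf.stalk (f.fiberι y w) →+* (f.fiber y).presheaf.stalk w) (_ : Function.Surjective σ)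
      (φ : (F.presheaf.stalk (f.fiberι y w) ⧸
          ((maximalIdeal (Y.presheaf.stalk (f.base (f.fiberι y w)))).map (f.stalkMap (f.fiberι y w)).hom •
            (⊤ : Submodule (X.presheaf.stalk (f.fiberι y w)) (F.presheaf.stalk (f.fiberι y w))))) ≃+
        ((Scheme.Modules.pullback (f.fiberι y)).obj F).presheaf.stalk w),
      ∀ r m, φ (r • m) = σ r • φ m := by
  let ι := f.fiberι y
  let x := ι w
  let B := X.presheaf.stalk x
  let B' := (f.fiber y).presheaf.stalk w
  obtain ⟨hsurj, hker⟩ := S9501.result f y w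
  let I : Ideal B := RingHom.ker (ι.stalkMap w).hom
  let e : (B ⧸ I) ≃ₐ[B] B' :=
    Ideal.quotientKerAlgEquivOfSurjective (f := Algebra.ofId B B') hsurj
  let Φ : (F.presheaf.stalk x ⧸ I • (⊤ : Submodule B (F.presheaf.stalk x))) ≃ₗ[B]
      B' ⊗[B] F.presheaf.stalk x :=
    (TensorProduct.quotTensorEquivQuotSMul (F.presheaf.stalk x) I).symm ≪≫ₗ
      LinearEquiv.rTensor _ e.toLinearEquiv
  have hI : (maximalIdeal (Y.presheaf.stalk (f.base x))).map (f.stalkMap x).hom = I := hker.symm
  let q := Submodule.quotEquivOfEq _ _ (congrArg (fun J : Ideal B => J • (⊤ : Submodule B (F.presheaf.stalk x))) hI)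
  refine ⟨(ι.stalkMap w).hom, hsurj, (q ≪≫ₗ Φ).toAddEquiv.trans
    (LinearEquiv.ofBijective _ (H06Mod.pullStalkLin_bijective ι F w)).toAddEquiv, fun r m => ?_⟩
  show H06Mod.pullStalkLin ι F w ((q ≪≫ₗ Φ) (r • m)) = (ι.stalkMap w).hom r • H06Mod.pullStalkLin ι F w _
  rw [map_smul, ← algebraMap_smul B' r ((q ≪≫ₗ Φ) m), map_smul]
  rfl

theorem mem_ass_fibre_iff (y : Y) (w : f.fiber y) :
    w ∈ AssSch.Ass ((Scheme.Modules.pullback (f.fiberι y)).obj F) ↔ FibAss f F (f.fiberι y w) := by
  obtain ⟨σ, hσ, φ, h⟩ := exists_fibre_equiv f F y w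
  exact (maximal_mem_iff σ hσ φ h).symm

theorem length_fibre (y : Y) (w : f.fiber y) :
    Module.length ((f.fiber y).presheaf.stalk w) (((Scheme.Modules.pullback (f.fiberι y)).obj F).presheaf.stalk w) =
      fibLength f F (f.fiberι y w) := by
  obtain ⟨σ, hσ, φ, h⟩ := exists_fibre_equiv f F y w
  exact (length_eq σ hσ φ h).symm

variable (hF : Coh.IsQCoh F) (hFt : CohB1.IsFT F)

include hF hFt in
/-- Over the base point of a point of the support there are points associated to the fibre. -/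
theorem exists_fibAss {x : X} (hx : x ∈ CohB1.support F) :
    ∃ z : X, z ⤳ x ∧ f z = f x ∧ z ∈ CohB1.support F ∧ FibAss f F z := by
  obtain ⟨w, hw⟩ : x ∈ Set.range (f.fiberι (f x)) := by rw [f.range_fiberι]; rfl
  haveI := H06Mod.finite_stalk F hFt (f.fiberι (f x) w)
  haveI : Nontrivial (F.presheaf.stalk (f.fiberι (f x) w)) := by
    rw [hw]; exact not_subsingleton_iff_nontrivial.1 hx
  obtain ⟨σ, hσ, φ, h⟩ := exists_fibre_equiv f F (f x) w
  letI := FlatMod.moduleStalkOver f F (f.fiberι (f x) w)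
  haveI := isScalarTower_over f F (f.fiberι (f x) w)
  haveI : IsLocalHom (algebraMap (Y.presheaf.stalk (f.base (f.fiberι (f x) w))) (X.presheaf.stalk (f.fiberι (f x) w))) :=
    inferInstanceAs (IsLocalHom (f.stalkMap _).hom)
  haveI : Nontrivial (F.presheaf.stalk (f.fiberι (f x) w) ⧸
      (maximalIdeal (Y.presheaf.stalk (f.base (f.fiberι (f x) w)))).map
        (algebraMap (Y.presheaf.stalk (f.base (f.fiberι (f x) w))) (X.presheaf.stalk (f.fiberι (f x) w))) •
        (⊤ : Submodule (X.presheaf.stalk (f.fiberι (f x) w)) (F.presheaf.stalk (f.fiberι (f x) w)))) :=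
    nontrivial_fibre
  obtain ⟨v, hv, hvw⟩ := AssPts.exists_ass_specializes _ (H29Fitt.isQCoh_pullback (f.fiberι (f x)) F hF)
    φ.symm.toEquiv.nontrivial
  refine ⟨f.fiberι (f x) v, (hvw.map (f.fiberι (f x)).continuous).trans (specializes_of_eq hw), (f.range_fiberι (f x)).subset ⟨v, rfl⟩, ?_,
    (mem_ass_fibre_iff f F _ v).1 hv⟩
  have h2 := (mem_ass_fibre_iff f F _ v).1 hv
  intro hsub
  obtain ⟨-, m, hm⟩ := h2
  obtain rfl : m = 0 := by
    obtain ⟨m, rfl⟩ := Submodule.Quotient.mk_surjective _ m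
    rw [Subsingleton.elim m 0]
    rfl
  exact (IsLocalRing.maximalIdeal.isMaximal (X.presheaf.stalk (f.fiberι (f x) v))).ne_top
    (hm.trans (Ideal.radical_eq_top.2 (by ext; simp [Submodule.mem_colon_singleton])))

include hF hFt in
/-- Primes of a stalk over the annihilator lie in the support. -/
theorem mem_support_of_annihilator_le (x : X) (q : PrimeSpectrum (X.presheaf.stalk x))
    (hq : Module.annihilator (X.presheaf.stalk x) (F.presheaf.stalk x) ≤ q.asIdeal) :
    X.fromSpecStalk x q ∈ CohB1.support F := by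
  intro hz
  obtain ⟨V, hV, hxV, -⟩ := exists_isAffineOpen_mem_and_subset (U := (⊤ : X.Opens)) (x := x) trivial
  haveI : F.IsQuasicoherent := hF
  haveI := H10Coh.finite_sections F hFt hV
  have hzV : X.fromSpecStalk x q ∈ V :=
    ((X.range_fromSpecStalk (x := x)).subset ⟨q, rfl⟩).mem_open V.2 hxV
  obtain ⟨n, e, he⟩ := Module.Finite.exists_fin (R := Γ(X, V)) (M := Γ(F, V))
  choose c hc hc0 using fun k => AssPts.exists_smul_eq_zero_of_germ F hF hV hzV (s := e k)
    (Subsingleton.elim (h := hz) _ _)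
  have hall : ∀ s : Γ(F, V), (∏ k, c k) • s = 0 := fun s => by
    have hs : s ∈ Submodule.span Γ(X, V) (Set.range e) := he ▸ Submodule.mem_top
    induction hs using Submodule.span_induction with
    | mem s hs =>
      obtain ⟨k, rfl⟩ := hs
      rw [← Finset.prod_erase_mul _ c (Finset.mem_univ k), mul_smul, hc0, smul_zero]
    | zero => exact smul_zero _
    | add a b _ _ ha hb => rw [smul_add, ha, hb, add_zero]
    | smul r a _ ha => rw [smul_comm, ha, smul_zero]
  have hmem : X.presheaf.germ V x hxV (∏ k, c k) ∈ q.asIdeal := hq (Module.mem_annihilator.2 fun m => by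
    obtain ⟨t, s, ht, hts⟩ := AssPts.exists_smul_germ_eq F hF hV hxV m
    apply ((AssPts.isUnit_germ_iff hxV t).2 ht).smul_eq_zero.1
    rw [smul_comm, hts, ← AssPts.germ_smul', hall, map_zero])
  have hu : X.fromSpecStalk x q ∈ X.basicOpen (∏ k, c k) :=
    Finset.prod_induction _ (LeadDev.UnitAt (X.fromSpecStalk x q) V) (fun _ _ => LeadDev.UnitAt.mul)
      (LeadDev.unitAt_one hzV) fun k _ => hc k
  have hpre : q ∈ X.fromSpecStalk x ⁻¹ᵁ X.basicOpen (∏ k, c k) := hu
  rw [Scheme.preimage_basicOpen, Scheme.fromSpecStalk_app hxV] at hpre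
  simp only [CommRingCat.comp_apply, Scheme.basicOpen_res, basicOpen_eq_of_affine] at hpre
  exact hpre.2 hmem

include hflat hF hFt in
/-- Generalizations of the base point lift to the support of a flat module. -/
theorem exists_support_over {x : X} (hx : x ∈ CohB1.support F) {y : Y} (hy : y ⤳ f x) :
    ∃ z : X, z ⤳ x ∧ f z = y ∧ z ∈ CohB1.support F := by
  obtain ⟨p, rfl⟩ : y ∈ Set.range (Y.fromSpecStalk (f x)) := by rw [Y.range_fromSpecStalk]; exact hy
  letI := FlatMod.moduleStalkOver f F x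
  haveI := isScalarTower_over f F x
  haveI : Module.Flat (Y.presheaf.stalk (f.base x)) (F.presheaf.stalk x) := hflat x
  haveI : IsLocalHom (algebraMap (Y.presheaf.stalk (f.base x)) (X.presheaf.stalk x)) :=
    inferInstanceAs (IsLocalHom (f.stalkMap x).hom)
  haveI := H06Mod.finite_stalk F hFt x
  haveI : Nontrivial (F.presheaf.stalk x) := not_subsingleton_iff_nontrivial.1 hx
  obtain ⟨q, hq, hqp, hann⟩ := exists_prime_over (B := X.presheaf.stalk x) (N := F.presheaf.stalk x) p.asIdeal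
  let q' : PrimeSpectrum (X.presheaf.stalk x) := ⟨q, hq⟩
  refine ⟨X.fromSpecStalk x q', ?_, ?_, ?_⟩
  · exact (X.range_fromSpecStalk (x := x)).subset ⟨q', rfl⟩
  · rw [← Scheme.Hom.comp_apply, ← Scheme.SpecMap_stalkMap_fromSpecStalk, Scheme.Hom.comp_apply]
    exact congrArg _ (PrimeSpectrum.ext hqp)
  · exact mem_support_of_annihilator_le F hF hFt x q' hann

end Groth.Agent.H17.AssFlat

namespace Groth.Agent.H17.AssFlat

attribute [local instance] H06Mod.stalkAlgebra

variable {X Y : Scheme.{u}} (f : X ⟶ Y) (E : Y.Modules) (F : X.Modules)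

theorem mem_support_of_fibAss {x : X} (h : FibAss f F x) : x ∈ CohB1.support F := by
  intro hsub
  obtain ⟨-, m, hm⟩ := h
  obtain ⟨m, rfl⟩ := Submodule.Quotient.mk_surjective _ m
  rw [Subsingleton.elim (h := hsub) m 0, Submodule.Quotient.mk_zero] at hm
  exact (IsLocalRing.maximalIdeal.isMaximal (X.presheaf.stalk x)).ne_top
    (hm.trans (Ideal.radical_eq_top.2 (by ext; simp [Submodule.mem_colon_singleton])))

variable (hflat : FlatMod.IsFlatOver f F) (hF : Coh.IsQCoh F) (hFt : CohB1.IsFT F) [IsLocallyNoetherian Y]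

include hflat hF hFt in
theorem noEmbedded_iff :
    AssSch.NoEmbedded (CohB1.tensorMod ((Scheme.Modules.pullback f).obj E) F) ↔
      ∀ y ∈ AssSch.Ass E ∩ f.base '' CohB1.support F,
        (∀ y' ∈ AssSch.Ass E, y' ⤳ y → y' = y) ∧
          AssSch.NoEmbedded ((Scheme.Modules.pullback (f.fiberι y)).obj F) := by
  constructor
  · rintro hT y ⟨hy, x, hx, rfl⟩
    constructor
    · intro y' hy' hspec
      obtain ⟨z₀, -, hf₀, hs₀, ha₀⟩ := exists_fibAss f F hF hFt hx
      obtain ⟨z₁, hz₁, hf₁, hs₁⟩ := exists_support_over f F hflat hF hFt hs₀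
        (show y' ⤳ f z₀ by rw [hf₀]; exact hspec)
      obtain ⟨z₂, hz₂, hf₂, -, ha₂⟩ := exists_fibAss f F hF hFt hs₁
      have h₀ := (mem_ass_tensor_iff f E F hflat z₀).2 ⟨by rw [hf₀]; exact hy, ha₀⟩
      have h₂ := (mem_ass_tensor_iff f E F hflat z₂).2 ⟨by rw [hf₂, hf₁]; exact hy', ha₂⟩
      obtain rfl := hT z₀ h₀ z₂ h₂ (hz₂.trans hz₁)
      exact (hf₁.symm.trans hf₂.symm).trans hf₀
    · intro w₁ h₁ w₂ h₂ hspec
      have hmem : ∀ w : f.fiber (f x), f (f.fiberι (f x) w) = f x := fun w =>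
        (f.range_fiberι (f x)).subset ⟨w, rfl⟩
      refine (f.fiberι (f x)).isEmbedding.injective (hT _ ((mem_ass_tensor_iff f E F hflat _).2
        ⟨by rw [hmem]; exact hy, (mem_ass_fibre_iff f F _ w₁).1 h₁⟩) _ ((mem_ass_tensor_iff f E F hflat _).2
        ⟨by rw [hmem]; exact hy, (mem_ass_fibre_iff f F _ w₂).1 h₂⟩) (hspec.map (f.fiberι (f x)).continuous))
  · intro h x₁ h₁ x₂ h₂ hspec
    obtain ⟨hE₁, ha₁⟩ := (mem_ass_tensor_iff f E F hflat x₁).1 h₁
    obtain ⟨hE₂, ha₂⟩ := (mem_ass_tensor_iff f E F hflat x₂).1 h₂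
    obtain ⟨hmax, hne⟩ := h (f x₁) ⟨hE₁, x₁, mem_support_of_fibAss f F ha₁, rfl⟩
    have hf := hmax (f x₂) hE₂ (hspec.map f.continuous)
    generalize hy : f x₁ = y at hne hf
    obtain ⟨w₁, rfl⟩ : x₁ ∈ Set.range (f.fiberι y) := by rw [f.range_fiberι]; exact hy
    obtain ⟨w₂, rfl⟩ : x₂ ∈ Set.range (f.fiberι y) := by rw [f.range_fiberι]; exact hf
    rw [hne w₁ ((mem_ass_fibre_iff f F _ w₁).2 ha₁) w₂ ((mem_ass_fibre_iff f F _ w₂).2 ha₂)
      ((f.fiberι _).isEmbedding.isInducing.specializes_iff.1 hspec)]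

end Groth.Agent.H17.AssFlat

namespace Groth.Agent.H17.AssFlat

attribute [local instance] H06Mod.stalkAlgebra

variable {X Y : Scheme.{u}} (f : X ⟶ Y) (E : Y.Modules) (F : X.Modules)
  (hE : CohB1.IsFT E) (hflat : FlatMod.IsFlatOver f F) (hF : Coh.IsQCoh F) (hFt : CohB1.IsFT F)
  [IsLocallyNoetherian Y]

theorem exists_surjective_residue {A : Type u} [CommRing A] [IsLocalRing A] {M : Type u} [AddCommGroup M]
    [Module A M] [Module.Finite A M] [Nontrivial M] :
    ∃ π : M →ₗ[A] A ⧸ maximalIdeal A, Function.Surjective π := by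
  haveI : Module.Finite A (⊤ : Submodule A M) := Module.Finite.equiv Submodule.topEquiv.symm
  obtain ⟨K, hK, -⟩ : ∃ K : Submodule A M, IsCoatom K ∧ ⊥ ≤ K :=
    (IsCoatomic.eq_top_or_exists_le_coatom (⊥ : Submodule A M)).resolve_left bot_ne_top
  haveI : IsSimpleModule A (M ⧸ K) := isSimpleModule_iff_isCoatom.2 hK
  obtain ⟨I, hI, ⟨e⟩⟩ := isSimpleModule_iff_quot_maximal.1 (inferInstance : IsSimpleModule A (M ⧸ K))
  obtain rfl := IsLocalRing.eq_maximalIdeal hI
  exact ⟨e.toLinearMap.comp K.mkQ, e.surjective.comp K.mkQ_surjective⟩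

include hflat hE hFt in
theorem length_eq_one_iff (x : X) (hx : x ∈ AssSch.Ass (CohB1.tensorMod ((Scheme.Modules.pullback f).obj E) F)) :
    Module.length (X.presheaf.stalk x)
        ((CohB1.tensorMod ((Scheme.Modules.pullback f).obj E) F).presheaf.stalk x) = 1 ↔
      Module.length (Y.presheaf.stalk (f x)) (E.presheaf.stalk (f x)) = 1 ∧ fibLength f F x = 1 := by
  obtain ⟨hEx, ha⟩ := (mem_ass_tensor_iff f E F hflat x).1 hx
  letI := FlatMod.moduleStalkOver f F x
  haveI := isScalarTower_over f F x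
  haveI : Module.Flat (Y.presheaf.stalk (f.base x)) (F.presheaf.stalk x) := hflat x
  haveI : IsLocalHom (algebraMap (Y.presheaf.stalk (f.base x)) (X.presheaf.stalk x)) :=
    inferInstanceAs (IsLocalHom (f.stalkMap x).hom)
  haveI := H06Mod.finite_stalk F hFt x
  haveI := H06Mod.finite_stalk E hE (f x)
  haveI := AssPts.nontrivial_stalk_of_ass E hEx
  haveI : Nontrivial (F.presheaf.stalk x) := not_subsingleton_iff_nontrivial.1 (mem_support_of_fibAss f F ha)
  haveI : Module.FaithfullyFlat (Y.presheaf.stalk (f.base x)) (F.presheaf.stalk x) :=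
    faithfullyFlat (B := X.presheaf.stalk x)
  obtain ⟨e⟩ := nonempty_stalkEquiv f E F x
  rw [e.length_eq]
  have hmul : fibLength f F x ≠ ⊤ → Module.length (X.presheaf.stalk x)
      (F.presheaf.stalk x ⊗[Y.presheaf.stalk (f.base x)] E.presheaf.stalk (f.base x)) =
        Module.length (Y.presheaf.stalk (f x)) (E.presheaf.stalk (f x)) * fibLength f F x := fun h =>
    S2498.result (E.presheaf.stalk (f.base x)) (F.presheaf.stalk x) (Module.length_ne_top_iff.1 h)
  constructor
  · intro h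
    obtain ⟨π, hπ⟩ := exists_surjective_residue (A := Y.presheaf.stalk (f.base x)) (M := E.presheaf.stalk (f.base x))
    obtain ⟨q⟩ := S2069.quotEquiv (X.presheaf.stalk x) (F.presheaf.stalk x) (maximalIdeal (Y.presheaf.stalk (f.base x)))
    have hle : fibLength f F x ≤ 1 := h ▸ Module.length_le_of_surjective
      (q.toLinearMap.comp (S2069.lMap (S := X.presheaf.stalk x) (F.presheaf.stalk x) π))
      (q.surjective.comp (LinearMap.lTensor_surjective _ hπ))
    have := hmul (ne_top_of_le_ne_top (by simp) hle)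
    rw [h] at this
    exact mul_eq_one.1 this.symm
  · rintro ⟨h₁, h₂⟩
    rw [hmul (by rw [h₂]; simp), h₁, h₂, one_mul]

include hflat hE hF hFt in
theorem isReducedMod_iff :
    AssSch.IsReducedMod (CohB1.tensorMod ((Scheme.Modules.pullback f).obj E) F) ↔
      ∀ y ∈ AssSch.Ass E ∩ f.base '' CohB1.support F,
        (∀ y' ∈ AssSch.Ass E, y' ⤳ y → y' = y) ∧
          Module.length (Y.presheaf.stalk y) (E.presheaf.stalk y) = 1 ∧
          AssSch.IsReducedMod ((Scheme.Modules.pullback (f.fiberι y)).obj F) := by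
  constructor
  · rintro ⟨hT, hlen⟩ y hy
    obtain ⟨hmax, hne⟩ := (noEmbedded_iff f E F hflat hF hFt).1 hT y hy
    obtain ⟨hyE, x, hx, rfl⟩ := hy
    obtain ⟨z, -, hfz, -, haz⟩ := exists_fibAss f F hF hFt hx
    have hz := (mem_ass_tensor_iff f E F hflat z).2 ⟨by rw [hfz]; exact hyE, haz⟩
    refine ⟨hmax, ?_, hne, fun w hw => ?_⟩
    · have := ((length_eq_one_iff f E F hE hflat hFt z hz).1 (hlen z hz)).1
      rwa [hfz] at this
    · have hw' : f (f.fiberι (f x) w) = f x := (f.range_fiberι (f x)).subset ⟨w, rfl⟩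
      have hwz := (mem_ass_tensor_iff f E F hflat _).2 ⟨by rw [hw']; exact hyE, (mem_ass_fibre_iff f F _ w).1 hw⟩
      rw [length_fibre]
      exact ((length_eq_one_iff f E F hE hflat hFt _ hwz).1 (hlen _ hwz)).2
  · intro h
    refine ⟨(noEmbedded_iff f E F hflat hF hFt).2 fun y hy => ⟨(h y hy).1, (h y hy).2.2.1⟩, fun x hx => ?_⟩
    obtain ⟨hE', ha⟩ := (mem_ass_tensor_iff f E F hflat x).1 hx
    obtain ⟨-, hlE, hred⟩ := h (f x) ⟨hE', x, mem_support_of_fibAss f F ha, rfl⟩
    refine (length_eq_one_iff f E F hE hflat hFt x hx).2 ⟨hlE, ?_⟩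
    generalize hy : f x = y at hred
    obtain ⟨w, rfl⟩ : x ∈ Set.range (f.fiberι y) := by rw [f.range_fiberι]; exact hy
    rw [← length_fibre]
    exact hred.2 w ((mem_ass_fibre_iff f F _ w).2 ha)

end Groth.Agent.H17.AssFlat
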