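import Groth.Agent.H29Blow.AssPoints
import Groth.Agent.H8Props.Generic
import Groth.Prelude.Def_FDesc

/-! Maximal points are associated points of the structure sheaf. -/

set_option autoImplicit false

universe u

open CategoryTheory AlgebraicGeometry TopologicalSpace

namespace Groth.Agent.H17.AssPts

theorem genericPoint_mem_ass {X : Scheme.{u}} {η : X} (hη : η ∈ genericPoints X) :
    η ∈ AssSch.Ass (Coh.structureModule X) := by
  refine (H29Blow.isAssPoint_iff_isWeakAssPoint _ η).2
    ((H29Blow.isWeakAssPoint_structureModule_iff η).2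
      ⟨(IsLocalRing.maximalIdeal.isMaximal _).isPrime, 1, ?_⟩)
  have huniq : ∀ J : Ideal (X.presheaf.stalk η), J.IsPrime → J = IsLocalRing.maximalIdeal _ := by
    intro J hJ
    let q : (Spec (X.presheaf.stalk η) : Scheme.{u}) := ⟨J, hJ⟩
    have hq : X.fromSpecStalk η q ⤳ η := by
      have := Set.mem_range_self (f := X.fromSpecStalk η) q
      rwa [Scheme.range_fromSpecStalk] at this
    have e : X.fromSpecStalk η q = η := (Groth.Agent.H8Props.mem_genericPoints_iff.1 hη) _ hq
    have e' : X.fromSpecStalk η q = X.fromSpecStalk η (IsLocalRing.closedPoint _) := by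
      rw [e, Scheme.fromSpecStalk_closedPoint]
    exact congrArg PrimeSpectrum.asIdeal ((X.fromSpecStalk η).isEmbedding.injective e')
  have hbot : Submodule.colon (⊥ : Submodule (X.presheaf.stalk η) (X.presheaf.stalk η))
      {(1 : X.presheaf.stalk η)} = ⊥ := by
    ext r
    simp [Submodule.mem_colon_singleton]
  rw [hbot]
  refine le_antisymm ?_ (le_of_le_of_eq ?_ rfl)
  · rw [Ideal.radical_eq_sInf]
    exact le_sInf fun J ⟨_, hJ⟩ => (huniq J hJ).ge
  · exact IsLocalRing.le_maximalIdeal (by rw [Ne, Ideal.radical_eq_top]; exact bot_ne_top)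

end Groth.Agent.H17.AssPts
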