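import Groth.Agent.H17.GenFiniteDense
import Mathlib.AlgebraicGeometry.Morphisms.IsIso
import Mathlib.AlgebraicGeometry.Morphisms.FinitePresentation
import Mathlib.RingTheory.FinitePresentation

/-! Morphisms inducing isomorphisms of local rings at generic points. -/

set_option autoImplicit false

universe u

open CategoryTheory Limits AlgebraicGeometry TopologicalSpace

namespace Groth.Agent.H17.Birat

open Groth.Agent.H17.GenFinite Groth.Agent.H17.AssPts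

variable {X Y : Scheme.{u}} (f : X ⟶ Y)

theorem germ_appLE_eq_stalkMap {U : X.Opens} {V : Y.Opens} (e : U ≤ f ⁻¹ᵁ V) {x : X} (hx : x ∈ U)
    (a : Γ(Y, V)) :
    X.presheaf.germ U x hx (f.appLE V U e a) = f.stalkMap x (Y.presheaf.germ V (f x) (e hx) a) := by
  rw [Scheme.Hom.germ_stalkMap_apply]
  exact TopCat.Presheaf.germ_res_apply X.presheaf (homOfLE e) x hx _

/-- Over a maximal point whose only maximal preimage has isomorphic local ring, the fibre is a point. -/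
theorem fibre_eq (x : X) (hy : f x ∈ genericPoints Y) [IsIso (f.stalkMap x)]
    (huniq : ∀ γ ∈ genericPoints X, f γ = f x → γ = x) {z : X} (hz : f z = f x) : z = x := by
  obtain ⟨γ, hγ, hγz⟩ := exists_genericPoint_specializes z
  have hfγ : f γ = f x := mem_genericPoints_iff.1 hy _ (hz ▸ hγz.map f.continuous)
  obtain rfl := huniq γ hγ hfγ
  obtain ⟨V, hV, hzV, -⟩ := exists_isAffineOpen_mem_and_subset (U := (⊤ : Y.Opens)) (x := f z) trivial
  obtain ⟨U, hU, hzU, hUle⟩ := exists_isAffineOpen_mem_and_subset (U := f ⁻¹ᵁ V) (x := z) hzV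
  have e : U ≤ f ⁻¹ᵁ V := hUle
  have hxU : γ ∈ U := hγz.mem_open U.2 hzU
  refine ((?_ : z ⤳ γ).antisymm hγz).eq
  rw [← H29Blow.primeIdealOf_le_iff hU ⟨z, hzU⟩ ⟨γ, hxU⟩]
  intro b hb
  rw [mem_primeIdealOf hU hzU] at hb
  rw [mem_primeIdealOf hU hxU]
  intro hbx
  apply hb
  letI := TopCat.Presheaf.algebra_section_stalk Y.presheaf (⟨f γ, e hxU⟩ : V)
  haveI := hV.isLocalization_stalk ⟨f γ, e hxU⟩
  obtain ⟨c, hc⟩ := (ConcreteCategory.bijective_of_isIso (f.stalkMap γ)).2 (X.presheaf.germ U γ hxU b)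
  obtain ⟨⟨a, s⟩, has⟩ := IsLocalization.surj (hV.primeIdealOf ⟨f γ, e hxU⟩).asIdeal.primeCompl c
  have hus : IsUnit (Y.presheaf.germ V (f γ) (e hxU) s.1) :=
    IsLocalization.map_units (Y.presheaf.stalk (f γ)) s
  have hua : IsUnit (Y.presheaf.germ V (f γ) (e hxU) a) := by
    rw [show Y.presheaf.germ V (f γ) (e hxU) a = c * Y.presheaf.germ V (f γ) (e hxU) s.1 from has.symm]
    refine IsUnit.mul ?_ hus
    refine isUnit_of_map_unit (f.stalkMap γ).hom c ?_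
    show IsUnit (f.stalkMap γ c)
    rw [hc]; exact (isUnit_germ_iff hxU b).2 hbx
  -- the relation at `γ` specialises to `z`
  have hrel : X.presheaf.germ U γ hxU (b * f.appLE V U e s.1 - f.appLE V U e a) = 0 := by
    rw [map_sub, map_mul, germ_appLE_eq_stalkMap, germ_appLE_eq_stalkMap, ← hc,
      show Y.presheaf.germ V (f γ) (e hxU) a = c * Y.presheaf.germ V (f γ) (e hxU) s.1 from has.symm,
      map_mul, sub_self]
  have hmem : b * f.appLE V U e s.1 - f.appLE V U e a ∈ (hU.primeIdealOf ⟨z, hzU⟩).asIdeal := by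
    refine (H29Blow.primeIdealOf_le_iff hU ⟨γ, hxU⟩ ⟨z, hzU⟩).2 hγz ?_
    rw [H29Blow.mem_primeIdealOf_iff, hrel]
    exact not_isUnit_zero
  by_contra hbz
  have h1 : f.appLE V U e a ∈ (hU.primeIdealOf ⟨z, hzU⟩).asIdeal := by
    have h2 := Ideal.sub_mem _ (Ideal.mul_mem_right (f.appLE V U e s.1) _
      ((mem_primeIdealOf hU hzU b).2 hbz)) hmem
    rwa [sub_sub_cancel] at h2
  rw [mem_primeIdealOf hU hzU, mem_basicOpen_appLE, and_iff_right hzU, hz] at h1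
  exact h1 ((isUnit_germ_iff (show f γ ∈ V from e hxU) a).1 hua)

/-- A section with zero germ at the only point over a maximal point is killed by a unit at that point. -/
theorem exists_mul_eq_zero {U : X.Opens} (hU : IsAffineOpen U) {V : Y.Opens} (hV : IsAffineOpen V)
    (e : U ≤ f ⁻¹ᵁ V) {x : X} (hxU : x ∈ U) (hy : f x ∈ genericPoints Y)
    (hfib : ∀ z ∈ U, f z = f x → z = x) {c : Γ(X, U)} (hc : X.presheaf.germ U x hxU c = 0) :
    ∃ u : Γ(Y, V), f x ∈ Y.basicOpen u ∧ f.appLE V U e u * c = 0 := by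
  set p := (hV.primeIdealOf ⟨f x, e hxU⟩).asIdeal
  by_contra hne
  push_neg at hne
  set J : Ideal Γ(X, U) := LinearMap.ker (LinearMap.toSpanSingleton Γ(X, U) Γ(X, U) c)
  obtain ⟨Q, hQ, hJQ, hQS⟩ := Ideal.exists_le_prime_disjoint J
    (p.primeCompl.map (f.appLE V U e).hom) (by
      rw [Set.disjoint_left]
      rintro w hw ⟨u, hu, rfl⟩
      refine hne u ?_ (by simpa [J] using hw)
      by_contra h
      exact hu ((mem_primeIdealOf hV (e hxU) u).2 h))
  obtain ⟨⟨z, hz⟩, hzQ⟩ := H29Blow.exists_primeIdealOf_eq hU ⟨Q, hQ⟩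
  have hQz : Q = (hU.primeIdealOf ⟨z, hz⟩).asIdeal := (congrArg PrimeSpectrum.asIdeal hzQ).symm
  have hfz : f z ⤳ f x := by
    rw [← H29Blow.primeIdealOf_le_iff hV ⟨f z, e hz⟩ ⟨f x, e hxU⟩]
    intro r hr
    by_contra hrp
    refine Set.disjoint_left.mp hQS ?_ ⟨r, hrp, rfl⟩
    show (f.appLE V U e).hom r ∈ Q
    rw [hQz, mem_primeIdealOf hU hz]
    intro h
    exact (mem_primeIdealOf hV (e hz) r).1 hr ((mem_basicOpen_appLE f e r z).1 h).2
  have hzx := hfib z hz (mem_genericPoints_iff.1 hy _ hfz)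
  subst hzx
  letI := TopCat.Presheaf.algebra_section_stalk X.presheaf (⟨z, hxU⟩ : U)
  haveI := hU.isLocalization_stalk ⟨z, hxU⟩
  obtain ⟨t, ht⟩ := (IsLocalization.map_eq_zero_iff (hU.primeIdealOf ⟨z, hxU⟩).asIdeal.primeCompl
    (X.presheaf.stalk z) c).1 hc
  exact t.2 (hQz ▸ hJQ (show t.1 ∈ J by simpa [J] using ht))

theorem isAffineOpen_inf_preimage_basicOpen {U : X.Opens} (hU : IsAffineOpen U) {V : Y.Opens}
    (e : U ≤ f ⁻¹ᵁ V) (s : Γ(Y, V)) : IsAffineOpen (U ⊓ f ⁻¹ᵁ Y.basicOpen s) := by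
  rw [← Scheme.basicOpen_appLE f U V e s]
  exact hU.basicOpen _

/-- Surjectivity after shrinking. -/
theorem exists_surjective [LocallyOfFiniteType f] {U : X.Opens} (hU : IsAffineOpen U) {V : Y.Opens}
    (hV : IsAffineOpen V) (e : U ≤ f ⁻¹ᵁ V) {x : X} (hxU : x ∈ U) (hy : f x ∈ genericPoints Y)
    (hfib : ∀ z ∈ U, f z = f x → z = x) [IsIso (f.stalkMap x)] :
    ∃ s : Γ(Y, V), f x ∈ Y.basicOpen s ∧ Function.Surjective
      (f.appLE (Y.basicOpen s) (U ⊓ f ⁻¹ᵁ Y.basicOpen s) inf_le_right) := by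
  classical
  set p := (hV.primeIdealOf ⟨f x, e hxU⟩).asIdeal with hp
  obtain ⟨G, hG⟩ := LocallyOfFiniteType.finiteType_appLE f hV hU e
  letI := (f.appLE V U e).hom.toAlgebra
  have key : ∀ b : Γ(X, U), ∃ s a : Γ(Y, V), f x ∈ Y.basicOpen s ∧
      f.appLE V U e s * b = f.appLE V U e a := by
    intro b
    letI := TopCat.Presheaf.algebra_section_stalk Y.presheaf (⟨f x, e hxU⟩ : V)
    haveI := hV.isLocalization_stalk ⟨f x, e hxU⟩
    obtain ⟨c, hc⟩ := (ConcreteCategory.bijective_of_isIso (f.stalkMap x)).2 (X.presheaf.germ U x hxU b)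
    obtain ⟨⟨a, s⟩, has⟩ := IsLocalization.surj p.primeCompl c
    have hrel : X.presheaf.germ U x hxU (f.appLE V U e s.1 * b - f.appLE V U e a) = 0 := by
      rw [map_sub, map_mul, germ_appLE_eq_stalkMap, germ_appLE_eq_stalkMap, ← hc,
        show Y.presheaf.germ V (f x) (e hxU) a = c * Y.presheaf.germ V (f x) (e hxU) s.1 from has.symm,
        map_mul, mul_comm, sub_self]
    obtain ⟨u, hu, huc⟩ := exists_mul_eq_zero f hU hV e hxU hy hfib hrel
    refine ⟨u * s.1, u * a, ?_, ?_⟩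
    · rw [← isUnit_germ_iff (show f x ∈ V from e hxU), map_mul]
      exact ((isUnit_germ_iff (show f x ∈ V from e hxU) u).2 hu).mul (IsLocalization.map_units (Y.presheaf.stalk (f x)) s)
    · rw [map_mul, map_mul, ← sub_eq_zero, ← huc]
      ring
  choose s a hs hsa using key
  set S := ∏ g ∈ G, s g
  refine ⟨S, ?_, ?_⟩
  · rw [← isUnit_germ_iff (show f x ∈ V from e hxU), map_prod, IsUnit.prod_iff]
    exact fun g _ => (isUnit_germ_iff (show f x ∈ V from e hxU) _).2 (hs g)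
  set ρX := (X.presheaf.map (homOfLE (inf_le_left : U ⊓ f ⁻¹ᵁ Y.basicOpen S ≤ U)).op).hom
  set ρY := (Y.presheaf.map (homOfLE (Y.basicOpen_le S)).op).hom
  set φ' := (f.appLE (Y.basicOpen S) (U ⊓ f ⁻¹ᵁ Y.basicOpen S) inf_le_right).hom
  have hcomm : ∀ r, φ' (ρY r) = ρX (f.appLE V U e r) := fun r => by
    have h : Y.presheaf.map (homOfLE (Y.basicOpen_le S)).op ≫
        f.appLE (Y.basicOpen S) (U ⊓ f ⁻¹ᵁ Y.basicOpen S) inf_le_right =
        f.appLE V U e ≫ X.presheaf.map (homOfLE inf_le_left).op := by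
      rw [Scheme.Hom.map_appLE, Scheme.Hom.appLE_map]
    exact congr($h r)
  have hunit : IsUnit (ρY S) := by
    haveI := hV.isLocalization_basicOpen S
    exact IsLocalization.Away.algebraMap_isUnit (S := Γ(Y, Y.basicOpen S)) S
  -- images of all sections over `U`
  have himg : ∀ b : Γ(X, U), ρX b ∈ φ'.range := by
    intro b
    have hb : b ∈ Algebra.adjoin Γ(Y, V) (G : Set Γ(X, U)) := hG ▸ Algebra.mem_top
    induction hb using Algebra.adjoin_induction with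
    | mem g hg =>
      obtain ⟨w, hw⟩ : IsUnit (ρY (s g)) := by
        have h : IsUnit (ρY (s g * ∏ g' ∈ G.erase g, s g')) :=
          (congrArg ρY (Finset.mul_prod_erase G s hg)).symm ▸ hunit
        rw [map_mul] at h
        exact isUnit_of_mul_isUnit_left h
      refine ⟨(↑w⁻¹ : Γ(Y, Y.basicOpen S)) * ρY (a g), ?_⟩
      rw [map_mul, hcomm, ← hsa, map_mul, ← hcomm, ← hw, ← mul_assoc, ← map_mul, Units.inv_mul,
        map_one, one_mul]
    | algebraMap r => exact ⟨ρY r, hcomm r⟩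
    | add b₁ b₂ _ _ h₁ h₂ => rw [map_add]; exact Subring.add_mem _ h₁ h₂
    | mul b₁ b₂ _ _ h₁ h₂ => rw [map_mul]; exact Subring.mul_mem _ h₁ h₂
  intro z
  letI := ρX.toAlgebra
  haveI : IsLocalization.Away (f.appLE V U e S) Γ(X, U ⊓ f ⁻¹ᵁ Y.basicOpen S) :=
    hU.isLocalization_of_eq_basicOpen (f.appLE V U e S) (homOfLE inf_le_left)
      (Scheme.basicOpen_appLE f U V e S).symm
  obtain ⟨k, b, hb⟩ := IsLocalization.Away.surj (f.appLE V U e S) z
  obtain ⟨w, hw⟩ := hunit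
  obtain ⟨d, hd⟩ := himg b
  refine ⟨d * (↑w⁻¹ : Γ(Y, Y.basicOpen S)) ^ k, ?_⟩
  show φ' _ = z
  rw [map_mul, map_pow, hd, show ρX b = z * ρX (f.appLE V U e S) ^ k from hb.symm, ← hcomm, ← hw,
    mul_assoc, ← mul_pow, ← map_mul, Units.mul_inv, map_one, one_pow, mul_one]

/-- Isomorphism after shrinking. -/
theorem exists_isIso_resLE [LocallyOfFiniteType f] {U : X.Opens} (hU : IsAffineOpen U) {V : Y.Opens}
    (hV : IsAffineOpen V) (e : U ≤ f ⁻¹ᵁ V) {x : X} (hxU : x ∈ U) (hy : f x ∈ genericPoints Y)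
    (hfib : ∀ z ∈ U, f z = f x → z = x) [IsIso (f.stalkMap x)]
    (h : (IsReduced Y ∧ ∀ γ ∈ genericPoints Y, γ ∈ V → γ = f x) ∨ LocallyOfFinitePresentation f) :
    ∃ V' : Y.Opens, IsAffineOpen V' ∧ V' ≤ V ∧ f x ∈ V' ∧ IsAffineOpen (U ⊓ f ⁻¹ᵁ V') ∧
      IsIso (f.resLE V' (U ⊓ f ⁻¹ᵁ V') inf_le_right) := by
  classical
  obtain ⟨s₀, hs₀, hsurj⟩ := exists_surjective f hU hV e hxU hy hfib
  set V₁ := Y.basicOpen s₀ with hV₁def
  have hV₁ : IsAffineOpen V₁ := hV.basicOpen s₀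
  set U₁ := U ⊓ f ⁻¹ᵁ V₁ with hU₁def
  have hU₁ : IsAffineOpen U₁ := isAffineOpen_inf_preimage_basicOpen f hU e s₀
  have e₁ : U₁ ≤ f ⁻¹ᵁ V₁ := inf_le_right
  have hx₁ : x ∈ U₁ := ⟨hxU, hs₀⟩
  set φ := (f.appLE V₁ U₁ e₁).hom with hφ
  obtain ⟨S, hS, hker⟩ : ∃ S : Γ(Y, V₁), f x ∈ Y.basicOpen S ∧ ∀ a, φ a = 0 → S * a = 0 := by
    have hgerm : ∀ a, φ a = 0 → Y.presheaf.germ V₁ (f x) hs₀ a = 0 := by
      intro a ha
      apply (ConcreteCategory.bijective_of_isIso (f.stalkMap x)).1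
      show f.stalkMap x _ = f.stalkMap x 0
      rw [← germ_appLE_eq_stalkMap f e₁ hx₁, map_zero]
      exact (congrArg _ ha).trans (map_zero _)
    rcases h with ⟨hred, huniq⟩ | hfp
    · refine ⟨1, by rw [Y.basicOpen_one]; exact hs₀, fun a ha => ?_⟩
      rw [one_mul]
      haveI := hred
      haveI : _root_.IsReduced Γ(Y, V₁) := IsReduced.component_reduced _
      refine IsReduced.eq_zero a ?_
      rw [← mem_nilradical, nilradical_eq_sInf, Ideal.mem_sInf]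
      intro Q hQ
      haveI : Q.IsPrime := hQ
      obtain ⟨⟨z, hz⟩, hzQ⟩ := H29Blow.exists_primeIdealOf_eq hV₁ ⟨Q, hQ⟩
      obtain ⟨γ, hγ, hγz⟩ := exists_genericPoint_specializes z
      obtain rfl := huniq γ hγ (Y.basicOpen_le s₀ (hγz.mem_open V₁.2 hz))
      rw [show Q = (hV₁.primeIdealOf ⟨z, hz⟩).asIdeal from (congrArg PrimeSpectrum.asIdeal hzQ).symm]
      refine (H29Blow.primeIdealOf_le_iff hV₁ ⟨f x, hs₀⟩ ⟨z, hz⟩).2 hγz ?_
      rw [H29Blow.mem_primeIdealOf_iff, hgerm a ha]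
      exact not_isUnit_zero
    · haveI := hfp
      have hφfp : φ.FinitePresentation :=
        LocallyOfFinitePresentation.finitePresentation_appLE f hV₁ hU₁ e₁
      letI := φ.toAlgebra
      haveI : Algebra.FinitePresentation Γ(Y, V₁) Γ(X, U₁) := hφfp
      obtain ⟨G, hG⟩ := Algebra.FinitePresentation.ker_fG_of_surjective
        (Algebra.ofId Γ(Y, V₁) Γ(X, U₁)) hsurj
      letI := TopCat.Presheaf.algebra_section_stalk Y.presheaf (⟨f x, hs₀⟩ : V₁)
      haveI := hV₁.isLocalization_stalk ⟨f x, hs₀⟩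
      have hG' : ∀ g : G, ∃ t : Γ(Y, V₁), f x ∈ Y.basicOpen t ∧ t * g.1 = 0 := by
        intro g
        have hg : φ g.1 = 0 := by
          have : g.1 ∈ RingHom.ker (Algebra.ofId Γ(Y, V₁) Γ(X, U₁)).toRingHom :=
            hG ▸ Submodule.subset_span g.2
          exact this
        obtain ⟨t, ht⟩ := (IsLocalization.map_eq_zero_iff
          (hV₁.primeIdealOf ⟨f x, hs₀⟩).asIdeal.primeCompl (Y.presheaf.stalk (f x)) g.1).1 (hgerm _ hg)
        exact ⟨t, (isUnit_germ_iff hs₀ t.1).1 (IsLocalization.map_units (Y.presheaf.stalk (f x)) t), ht⟩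
      choose t ht htg using hG'
      refine ⟨∏ g : G, t g, ?_, fun a ha => ?_⟩
      · rw [← isUnit_germ_iff hs₀, map_prod, IsUnit.prod_iff]
        exact fun g _ => (isUnit_germ_iff hs₀ _).2 (ht g)
      · have ha' : a ∈ Ideal.span (G : Set Γ(Y, V₁)) := by rw [hG]; exact ha
        induction ha' using Submodule.span_induction with
        | mem g hg =>
          rw [← Finset.prod_erase_mul _ _ (Finset.mem_univ (⟨g, hg⟩ : G)), mul_assoc, htg ⟨g, hg⟩, mul_zero]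
        | zero => exact mul_zero _
        | add b c hb hc h₁ h₂ =>
          rw [mul_add, h₁ (hG ▸ hb : b ∈ RingHom.ker _), h₂ (hG ▸ hc : c ∈ RingHom.ker _), add_zero]
        | smul r b hb h₁ =>
          rw [smul_eq_mul, mul_left_comm, h₁ (hG ▸ hb : b ∈ RingHom.ker _), mul_zero]
  set V₂ := Y.basicOpen S with hV₂def
  have hV₂V₁ : V₂ ≤ V₁ := Y.basicOpen_le S
  have hU₂e : U ⊓ f ⁻¹ᵁ V₂ = U₁ ⊓ f ⁻¹ᵁ V₂ := by
    refine le_antisymm (fun z hz => ⟨⟨hz.1, hV₂V₁ hz.2⟩, hz.2⟩) (fun z hz => ⟨hz.1.1, hz.2⟩)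
  have hU₂ : IsAffineOpen (U ⊓ f ⁻¹ᵁ V₂) := hU₂e ▸ isAffineOpen_inf_preimage_basicOpen f hU₁ e₁ S
  refine ⟨V₂, hV₁.basicOpen S, hV₂V₁.trans (Y.basicOpen_le s₀), hS, hU₂, ?_⟩
  set U₂ := U ⊓ f ⁻¹ᵁ V₂
  have hle : U₂ ≤ U₁ := fun z hz => ⟨hz.1, hV₂V₁ hz.2⟩
  set φ₂ := (f.appLE V₂ U₂ inf_le_right).hom
  letI := (Y.presheaf.map (homOfLE hV₂V₁).op).hom.toAlgebra
  letI := (X.presheaf.map (homOfLE hle).op).hom.toAlgebra
  haveI : IsLocalization.Away S Γ(Y, V₂) := hV₁.isLocalization_of_eq_basicOpen S (homOfLE hV₂V₁) rfl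
  haveI : IsLocalization.Away (φ S) Γ(X, U₂) :=
    hU₁.isLocalization_of_eq_basicOpen (φ S) (homOfLE hle)
      (hU₂e.trans (Scheme.basicOpen_appLE f U₁ V₁ e₁ S).symm)
  have hcomm : ∀ r, φ₂ (algebraMap Γ(Y, V₁) Γ(Y, V₂) r) = algebraMap Γ(X, U₁) Γ(X, U₂) (φ r) := fun r => by
    have h' : Y.presheaf.map (homOfLE hV₂V₁).op ≫ f.appLE V₂ U₂ inf_le_right =
        f.appLE V₁ U₁ e₁ ≫ X.presheaf.map (homOfLE hle).op := by
      rw [Scheme.Hom.map_appLE, Scheme.Hom.appLE_map]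
    exact congr($h' r)
  have hbij : Function.Bijective φ₂ := by
    constructor
    · rw [injective_iff_map_eq_zero]
      intro z hz
      obtain ⟨k, a, ha⟩ := IsLocalization.Away.surj S z
      have h1 : algebraMap Γ(X, U₁) Γ(X, U₂) (φ a) = 0 := by
        rw [← hcomm, ← ha, map_mul, hz, zero_mul]
      obtain ⟨⟨_, n, rfl⟩, hn⟩ :=
        (IsLocalization.map_eq_zero_iff (Submonoid.powers (φ S)) Γ(X, U₂) _).1 h1
      have h2 : S * (S ^ n * a) = 0 := hker _ (by rw [map_mul, map_pow]; exact hn)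
      have h3 : algebraMap Γ(Y, V₁) Γ(Y, V₂) a = 0 := by
        rw [IsLocalization.map_eq_zero_iff (Submonoid.powers S)]
        exact ⟨⟨S ^ (n + 1), n + 1, rfl⟩, by show S ^ (n + 1) * a = 0; rw [pow_succ', mul_assoc]; exact h2⟩
      rw [h3] at ha
      exact ((IsLocalization.Away.algebraMap_pow_isUnit (S := Γ(Y, V₂)) S k).mul_left_eq_zero).1 ha
    · intro z
      obtain ⟨k, b, hb⟩ := IsLocalization.Away.surj (φ S) z
      obtain ⟨a, ha⟩ := hsurj b
      obtain ⟨w, hw⟩ := IsLocalization.Away.algebraMap_isUnit (S := Γ(Y, V₂)) S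
      refine ⟨algebraMap Γ(Y, V₁) Γ(Y, V₂) a * (↑w⁻¹ : Γ(Y, V₂)) ^ k, ?_⟩
      rw [map_mul, map_pow, hcomm, show φ a = b from ha, ← hb, ← hcomm, ← hw, mul_assoc, ← mul_pow,
        ← map_mul, Units.mul_inv, map_one, one_pow, mul_one]
  haveI : IsAffine (U₂ : Scheme.{u}) := hU₂
  haveI : IsAffine (V₂ : Scheme.{u}) := hV₁.basicOpen S
  haveI : IsIso (f.appLE V₂ U₂ inf_le_right) := (ConcreteCategory.isIso_iff_bijective _).2 hbij
  haveI : IsIso (f.resLE V₂ U₂ inf_le_right).appTop := by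
    show IsIso ((f.resLE V₂ U₂ inf_le_right).app ⊤)
    rw [Scheme.Hom.resLE_app_top]
    exact @IsIso.comp_isIso _ _ _ _ _ _ _ inferInstance
      (@IsIso.comp_isIso _ _ _ _ _ _ _ ‹_› inferInstance)
  refine ((MorphismProperty.isomorphisms Scheme).arrow_mk_iso_iff
    (arrowIsoSpecΓOfIsAffine (f.resLE V₂ U₂ inf_le_right))).2 ?_
  show IsIso (Spec.map _)
  infer_instance

theorem isIso_stalkMap_of_comp {A B C : Scheme.{u}} (a : A ⟶ B) (b : B ⟶ C) (w : A)
    [hab : IsIso ((a ≫ b).stalkMap w)] [IsIso (a.stalkMap w)] : IsIso (b.stalkMap (a w)) := by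
  have h : IsIso (b.stalkMap (a w) ≫ a.stalkMap w) := by
    rw [← Scheme.Hom.stalkMap_comp]; exact hab
  exact IsIso.of_isIso_comp_right (b.stalkMap (a w)) (a.stalkMap w)

theorem isIso_stalkMap_congr {A B : Scheme.{u}} {g g' : A ⟶ B} (h : g = g') (w : A)
    (hw : IsIso (g.stalkMap w)) : IsIso (g'.stalkMap w) := by subst h; exact hw

theorem isIso_morphismRestrict_of_eq {U : X.Opens} {V : Y.Opens} (e : U ≤ f ⁻¹ᵁ V)
    (h : U = f ⁻¹ᵁ V) (hi : IsIso (f.resLE V U e)) : IsIso (f ∣_ V) := by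
  subst h; rw [← Scheme.Hom.resLE_eq_morphismRestrict]; exact hi

/-- Gluing of isomorphisms over pairwise disjoint opens. -/
theorem isIso_resLE_iSup {ι : Type*} (U : ι → X.Opens) (V : ι → Y.Opens)
    (e : ∀ i, U i ≤ f ⁻¹ᵁ V i) (hd : ∀ i j, i ≠ j → Disjoint (V i) (V j))
    (h : ∀ i, IsIso (f.resLE (V i) (U i) (e i))) (he : (⨆ i, U i) ≤ f ⁻¹ᵁ ⨆ i, V i) :
    IsIso (f.resLE (⨆ i, V i) (⨆ i, U i) he) := by
  set r := f.resLE (⨆ i, V i) (⨆ i, U i) he
  let a := fun i => X.homOfLE (le_iSup U i)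
  let b := fun i => Y.homOfLE (le_iSup V i)
  have hab : ∀ i, a i ≫ r = f.resLE (V i) (U i) (e i) ≫ b i := fun i => by
    rw [Scheme.Hom.map_resLE, Scheme.Hom.resLE_map]
  have hcov : ∀ z : (↑(⨆ i, U i) : Scheme.{u}), ∃ i, ∃ w, a i w = z := fun z => by
    obtain ⟨i, hi⟩ := Opens.mem_iSup.1 z.2
    exact ⟨i, ⟨z.1, hi⟩, Subtype.ext (Scheme.homOfLE_apply _ _)⟩
  have happ : ∀ i w, r (a i w) = b i (f.resLE (V i) (U i) (e i) w) := fun i w => by
    rw [← Scheme.Hom.comp_apply, hab, Scheme.Hom.comp_apply]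
  have hinj : Function.Injective r := by
    intro z z' hzz'
    obtain ⟨i, w, rfl⟩ := hcov z
    obtain ⟨j, w', rfl⟩ := hcov z'
    rw [happ, happ] at hzz'
    have h1 : ((f.resLE (V i) (U i) (e i) w).1 : Y) = (f.resLE (V j) (U j) (e j) w').1 := by
      have := congrArg Subtype.val hzz'
      rwa [Scheme.homOfLE_apply, Scheme.homOfLE_apply] at this
    by_cases hij : i = j
    · subst hij
      haveI := h i
      rw [(f.resLE (V i) (U i) (e i)).isOpenEmbedding.injective (Subtype.ext h1)]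
    · have h2 : ((f.resLE (V i) (U i) (e i) w).1 : Y) ∈ V i ⊓ V j :=
        ⟨(f.resLE (V i) (U i) (e i) w).2, h1 ▸ (f.resLE (V j) (U j) (e j) w').2⟩
      rw [(hd i j hij).eq_bot] at h2
      exact h2.elim
  have hopen : IsOpenMap r := by
    intro O hO
    have : r '' O = ⋃ i, (fun w => b i (f.resLE (V i) (U i) (e i) w)) '' ((a i) ⁻¹' O) := by
      ext z
      simp only [Set.mem_image, Set.mem_iUnion, Set.mem_preimage]
      constructor
      · rintro ⟨y, hy, rfl⟩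
        obtain ⟨i, w, rfl⟩ := hcov y
        exact ⟨i, w, hy, (happ i w).symm⟩
      · rintro ⟨i, w, hw, rfl⟩
        exact ⟨_, hw, happ i w⟩
    rw [this]
    refine isOpen_iUnion fun i => ?_
    haveI := h i
    have hopen' : IsOpen (((f.resLE (V i) (U i) (e i)) ≫ b i) '' ((a i) ⁻¹' O)) :=
      ((f.resLE (V i) (U i) (e i)) ≫ b i).isOpenEmbedding.isOpenMap _ (hO.preimage (a i).continuous)
    exact hopen'
  haveI : ∀ z, IsIso (r.stalkMap z) := fun z => by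
    obtain ⟨i, w, rfl⟩ := hcov z
    haveI := h i
    haveI : IsIso ((a i ≫ r).stalkMap w) := by rw [Scheme.Hom.stalkMap_congr_hom _ _ (hab i)]; infer_instance
    exact isIso_stalkMap_of_comp (a i) r w
  haveI : IsOpenImmersion r := IsOpenImmersion.of_isIso_stalkMap r
    (.of_continuous_injective_isOpenMap r.continuous hinj hopen)
  refine (isIso_iff_isOpenImmersion_and_surjective r).2 ⟨inferInstance, ⟨fun y => ?_⟩⟩
  obtain ⟨i, hi⟩ := Opens.mem_iSup.1 y.2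
  haveI := h i
  obtain ⟨w, hw⟩ := (f.resLE (V i) (U i) (e i)).surjective ⟨y.1, hi⟩
  exact ⟨a i w, by rw [happ, hw]; exact Subtype.ext (Scheme.homOfLE_apply _ _)⟩

/-- An open containing all maximal points over `V` and isomorphic to `V` is the full preimage, in the separated case. -/
theorem eq_preimage_of_isIso_resLE {U : X.Opens} {V : Y.Opens} (e : U ≤ f ⁻¹ᵁ V)
    [IsSeparated (f ∣_ V)] [IsIso (f.resLE V U e)]
    (hU : ∀ γ ∈ genericPoints X, f γ ∈ V → γ ∈ U) : U = f ⁻¹ᵁ V := by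
  set j := X.homOfLE e
  have hj : j ≫ (f ∣_ V) = f.resLE V U e := by
    rw [← Scheme.Hom.resLE_eq_morphismRestrict, Scheme.Hom.map_resLE]
  haveI : IsClosedImmersion (j ≫ (f ∣_ V)) := by rw [hj]; infer_instance
  haveI : IsClosedImmersion j := IsClosedImmersion.of_comp j (f ∣_ V)
  refine le_antisymm e fun z hz => ?_
  by_contra hzU
  have hopen : IsOpen ((f ⁻¹ᵁ V).ι '' (Set.range j)ᶜ) :=
    (f ⁻¹ᵁ V).ι.isOpenEmbedding.isOpenMap _ j.isClosedEmbedding.isClosed_range.isOpen_compl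
  have hmem : z ∈ (f ⁻¹ᵁ V).ι '' (Set.range j)ᶜ := by
    refine ⟨⟨z, hz⟩, ?_, rfl⟩
    rintro ⟨w, hw⟩
    have h := congrArg Subtype.val hw
    rw [Scheme.homOfLE_apply] at h
    exact hzU ((show w.1 = z from h) ▸ w.2)
  obtain ⟨γ, hγ, hγz⟩ := exists_genericPoint_specializes z
  obtain ⟨⟨v, hv⟩, hvj, rfl⟩ := hγz.mem_open hopen hmem
  exact hvj ⟨⟨v, hU v hγ hv⟩, Subtype.ext (Scheme.homOfLE_apply _ _)⟩

/-- The basic step for birational morphisms. -/
theorem exists_birational_chart [LocallyOfFiniteType f]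
    (hbij : Set.BijOn (fun x : X => f x) (genericPoints X) (genericPoints Y))
    (hiso : ∀ x ∈ genericPoints X, IsIso (f.stalkMap x))
    (hf : IsReduced Y ∨ LocallyOfFinitePresentation f)
    {x : X} (hx : x ∈ genericPoints X) {V₀ : Y.Opens} (hV₀ : IsAffineOpen V₀) (hxV : f x ∈ V₀)
    (hV₀u : ∀ γ ∈ genericPoints Y, γ ∈ V₀ → γ = f x) :
    ∃ (U : X.Opens) (V : Y.Opens) (e : U ≤ f ⁻¹ᵁ V), x ∈ U ∧ f x ∈ V ∧ V ≤ V₀ ∧
      IsIso (f.resLE V U e) := by
  haveI := hiso x hx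
  obtain ⟨U₀, hU₀, hxU, hle⟩ := exists_isAffineOpen_mem_and_subset (U := f ⁻¹ᵁ V₀) (x := x) hxV
  have hy := hbij.mapsTo hx
  obtain ⟨V', -, hV', hxV', -, hiso'⟩ := exists_isIso_resLE f hU₀ hV₀ (fun z hz => hle hz) hxU hy
    (fun z _ hz => fibre_eq f x hy (fun γ hγ h => hbij.injOn hγ hx h) hz)
    (hf.imp_left fun h => ⟨h, hV₀u⟩)
  exact ⟨_, V', inf_le_right, ⟨hxU, hxV'⟩, hxV', hV', hiso'⟩

end Groth.Agent.H17.Birat
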