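import Groth.Agent.H17.Imports
import Groth.Prelude.Def_SchLoc
import Mathlib.AlgebraicGeometry.Morphisms.Immersion
import Mathlib.AlgebraicGeometry.Morphisms.Separated
import Mathlib.AlgebraicGeometry.Morphisms.FiniteType

/-! Local immersions and local isomorphisms. -/

set_option autoImplicit false
universe u
open CategoryTheory AlgebraicGeometry TopologicalSpace Limits

namespace Groth.Agent.H17.LocalImm

variable {X Y : Scheme.{u}}

theorem isLocalImmersionAt_iff (f : X ⟶ Y) (x : X) :
    SchLoc.IsLocalImmersionAt f x ↔ ∃ U : X.Opens, x ∈ U ∧ IsImmersion (U.ι ≫ f) := by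
  constructor
  · rintro ⟨U, V, h, hx, hc⟩
    exact ⟨U, hx, by rw [← Scheme.Hom.resLE_comp_ι f h]; infer_instance⟩
  · rintro ⟨U, hx, hi⟩
    let i := U.ι ≫ f
    have h : U ≤ f ⁻¹ᵁ i.coborderRange := fun z hz =>
      subset_coborder (show f z ∈ Set.range i from ⟨⟨z, hz⟩, rfl⟩)
    refine ⟨U, i.coborderRange, h, hx, ?_⟩
    have : f.resLE i.coborderRange U h = i.liftCoborder := by
      rw [← cancel_mono i.coborderRange.ι, Scheme.Hom.resLE_comp_ι, Scheme.Hom.liftCoborder_ι]
    rw [this]; infer_instance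

theorem isImmersion_of_le (f : X ⟶ Y) {U U' : X.Opens} (h : U' ≤ U) [IsImmersion (U.ι ≫ f)] :
    IsImmersion (U'.ι ≫ f) := by
  rw [← X.homOfLE_ι h, Category.assoc]; infer_instance

/-- In an irreducible scheme, a separated local immersion is injective. -/
theorem injective_of_isSeparated (f : X ⟶ Y) [IrreducibleSpace X] [IsSeparated f]
    (hf : SchLoc.IsLocalImmersion f) : Function.Injective f.base := by
  intro a b hab
  obtain ⟨U, ha, hU⟩ := (isLocalImmersionAt_iff f a).mp (hf a)
  obtain ⟨U', hb, hU'⟩ := (isLocalImmersionAt_iff f b).mp (hf b)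
  let P := pullback (U.ι ≫ f) (U'.ι ≫ f)
  let m : P ⟶ pullback f f := pullback.map _ _ _ _ U.ι U'.ι (𝟙 Y) (by simp) (by simp)
  have hm1 : m ≫ pullback.fst f f = pullback.fst (U.ι ≫ f) (U'.ι ≫ f) ≫ U.ι := pullback.lift_fst _ _ _
  have hm2 : m ≫ pullback.snd f f = pullback.snd (U.ι ≫ f) (U'.ι ≫ f) ≫ U'.ι := pullback.lift_snd _ _ _
  have hemb : Topology.IsEmbedding (pullback.fst (U.ι ≫ f) (U'.ι ≫ f)) :=
    (pullback.fst (U.ι ≫ f) (U'.ι ≫ f)).isEmbedding
  obtain ⟨π, hπ1, hπ2⟩ := Scheme.Pullback.exists_preimage_pullback (f := U.ι ≫ f) (g := U'.ι ≫ f)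
    (⟨a, ha⟩ : U.toScheme) (⟨b, hb⟩ : U'.toScheme) hab
  have hcl : IsClosed (Set.range (pullback.diagonal f)) := (pullback.diagonal f).isClosedEmbedding.isClosed_range
  have hπ : m π ∈ Set.range (pullback.diagonal f) := by
    have hmem : π ∈ closure (pullback.fst (U.ι ≫ f) (U'.ι ≫ f) ⁻¹' {w | w.1 ∈ U'}) := by
      rw [hemb.isInducing.closure_eq_preimage_closure_image, Set.mem_preimage, hπ1]
      rw [mem_closure_iff]
      intro O hO haO
      obtain ⟨O', hO', rfl⟩ := isOpen_induced_iff.mp hO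
      obtain ⟨w, ⟨hwO, hwU⟩, hwU'⟩ :=
        (PreirreducibleSpace.isPreirreducible_univ (O' ∩ U) U' (hO'.inter U.2) U'.2
          ⟨a, trivial, haO, ha⟩ ⟨b, trivial, hb⟩).imp fun w hw => hw.2
      let z : U.toScheme := ⟨w, hwU⟩
      obtain ⟨π', h1, -⟩ := Scheme.Pullback.exists_preimage_pullback (f := U.ι ≫ f) (g := U'.ι ≫ f)
        z (⟨w, hwU'⟩ : U'.toScheme) rfl
      exact ⟨z, hwO, π', show (pullback.fst (U.ι ≫ f) (U'.ι ≫ f) π').1 ∈ U' by rw [h1]; exact hwU', h1⟩
    suffices h : pullback.fst (U.ι ≫ f) (U'.ι ≫ f) ⁻¹' {w | w.1 ∈ U'} ⊆ m ⁻¹' Set.range (pullback.diagonal f) from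
      closure_minimal h (hcl.preimage m.continuous) hmem
    intro π' hπ'
    let W : X.Opens := U ⊓ U'
    let z : W.toScheme := ⟨(pullback.fst (U.ι ≫ f) (U'.ι ≫ f) π').1, (pullback.fst (U.ι ≫ f) (U'.ι ≫ f) π').2, hπ'⟩
    let s : W.toScheme ⟶ P := pullback.lift (X.homOfLE inf_le_left) (X.homOfLE inf_le_right) (by simp [W])
    have hs : s z = π' := hemb.injective (by
      rw [← Scheme.Hom.comp_apply, pullback.lift_fst]
      exact U.ι.isEmbedding.injective (by rw [← Scheme.Hom.comp_apply, X.homOfLE_ι]; rfl))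
    refine ⟨W.ι z, ?_⟩
    have : s ≫ m = W.ι ≫ pullback.diagonal f := by
      apply pullback.hom_ext
      · rw [Category.assoc, hm1, pullback.lift_fst_assoc, X.homOfLE_ι, Category.assoc, pullback.diagonal_fst, Category.comp_id]
      · rw [Category.assoc, hm2, pullback.lift_snd_assoc, X.homOfLE_ι, Category.assoc, pullback.diagonal_snd, Category.comp_id]
    rw [← hs, ← Scheme.Hom.comp_apply, ← Scheme.Hom.comp_apply, this]
  obtain ⟨c, hc⟩ := hπ
  have h1 : pullback.fst f f (m π) = a := by
    rw [← Scheme.Hom.comp_apply, hm1, Scheme.Hom.comp_apply, hπ1]; rfl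
  have h2 : pullback.snd f f (m π) = b := by
    rw [← Scheme.Hom.comp_apply, hm2, Scheme.Hom.comp_apply, hπ2]; rfl
  rw [← hc, ← Scheme.Hom.comp_apply, pullback.diagonal_fst] at h1
  rw [← hc, ← Scheme.Hom.comp_apply, pullback.diagonal_snd] at h2
  exact h1.symm.trans h2

/-- An injective local immersion from an irreducible scheme is an immersion, locally closed onto its image. -/
theorem exists_closedImmersion_cover (f : X ⟶ Y) [IrreducibleSpace X]
    (hf : SchLoc.IsLocalImmersion f) (hi : Function.Injective f.base) :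
    ∀ x : X, ∃ V : Y.Opens, f x ∈ V ∧ IsClosedImmersion (f ∣_ V) := by
  intro x
  obtain ⟨U, V, h, hx, hc⟩ := hf x
  refine ⟨V, h hx, ?_⟩
  have hUV : f ⁻¹ᵁ V = U := by
    refine le_antisymm (fun b hb => ?_) h
    have hd : b ∈ closure (U : Set X) := U.2.dense ⟨x, hx⟩ b
    have h1 : f b ∈ closure (f '' U) := image_closure_subset_closure_image f.continuous ⟨b, hd, rfl⟩
    obtain ⟨C, hC, hCeq⟩ := isClosed_induced_iff.mp (f.resLE V U h).isClosedEmbedding.isClosed_range
    have hsub : f '' U ⊆ C := by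
      rintro _ ⟨u, hu, rfl⟩
      have : f.resLE V U h ⟨u, hu⟩ ∈ Set.range (f.resLE V U h) := ⟨_, rfl⟩
      rw [← hCeq] at this
      have e : Subtype.val (f.resLE V U h ⟨u, hu⟩) = f u := by
        show V.ι (f.resLE V U h ⟨u, hu⟩) = _
        rw [← Scheme.Hom.comp_apply, Scheme.Hom.resLE_comp_ι]; rfl
      rw [← e]; exact this
    have h2 : (⟨f b, hb⟩ : V.toScheme) ∈ Set.range (f.resLE V U h) := by
      rw [← hCeq]; exact closure_minimal hsub hC h1
    obtain ⟨u, hu⟩ := h2
    have e : f u.1 = f b := by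
      have := congrArg V.ι hu
      rw [← Scheme.Hom.comp_apply, Scheme.Hom.resLE_comp_ι] at this
      exact this
    exact hi e ▸ u.2
  subst hUV
  rw [← Scheme.Hom.resLE_eq_morphismRestrict]; exact hc

theorem isImmersion_of_injective (f : X ⟶ Y) [IrreducibleSpace X]
    (hf : SchLoc.IsLocalImmersion f) (hi : Function.Injective f.base) : IsImmersion f := by
  choose V hxV hV using exists_closedImmersion_cover f hf hi
  let O : Y.Opens := ⨆ x, V x
  have hfO : ∀ x, f x ∈ O := fun x => Opens.mem_iSup.mpr ⟨x, hxV x⟩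
  have hr : Set.range f ⊆ Set.range O.ι := by
    rw [Scheme.Opens.range_ι]; rintro _ ⟨x, rfl⟩; exact hfO x
  let g := IsOpenImmersion.lift O.ι f hr
  have hg : g ≫ O.ι = f := IsOpenImmersion.lift_fac _ _ _
  suffices IsClosedImmersion g by rw [← hg]; infer_instance
  refine (IsZariskiLocalAtTarget.iff_of_iSup_eq_top (P := @IsClosedImmersion) (fun x => O.ι ⁻¹ᵁ V x) ?_).mpr fun x => ?_
  · refine eq_top_iff.mpr fun z _ => ?_
    obtain ⟨x, hx⟩ := Opens.mem_iSup.mp z.2
    exact Opens.mem_iSup.mpr ⟨x, hx⟩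
  · have : IsClosedImmersion ((g ∣_ O.ι ⁻¹ᵁ V x) ≫ (O.ι ∣_ V x)) := by
      rw [← morphismRestrict_comp]
      exact (show ∀ g', g' = f → IsClosedImmersion (g' ∣_ V x) by rintro _ rfl; exact hV x) _ hg
    exact IsClosedImmersion.of_comp _ (O.ι ∣_ V x)

/-- Algebraic core: surjectivity on stalks spreads out for algebras of finite type. -/
theorem exists_surjective_away {R A : Type u} [CommRing R] [CommRing A] [Algebra R A]
    [Algebra.FiniteType R A] (q : Ideal A) [q.IsPrime]
    (h : Function.Surjective (Localization.localRingHom (q.comap (algebraMap R A)) q (algebraMap R A) rfl)) :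
    ∃ (r : R) (t : A), r ∉ q.comap (algebraMap R A) ∧ t ∉ q ∧
      ∃ φ : Localization.Away r →+* Localization.Away t, Function.Surjective φ ∧
        φ.comp (algebraMap R _) = (algebraMap A _).comp (algebraMap R A) := by
  classical
  set p := q.comap (algebraMap R A)
  obtain ⟨G, hG⟩ := (Algebra.FiniteType.out : (⊤ : Subalgebra R A).FG)
  have hrep : ∀ a : A, ∃ (r : R) (s : R), s ∉ p ∧ ∃ t ∉ q, t * (algebraMap R A s * a - algebraMap R A r) = 0 := by
    intro a
    obtain ⟨z, hz⟩ := h (algebraMap A _ a)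
    obtain ⟨r, s, rfl⟩ := IsLocalization.exists_mk'_eq p.primeCompl z
    refine ⟨r, s, s.2, ?_⟩
    rw [Localization.localRingHom_mk', IsLocalization.mk'_eq_iff_eq_mul, ← map_mul, IsLocalization.eq_iff_exists q.primeCompl] at hz
    obtain ⟨t, ht⟩ := hz
    exact ⟨t, t.2, by rw [mul_sub, sub_eq_zero, ht, mul_comm a]⟩
  choose r s hs t ht hts using hrep
  let S := ∏ a ∈ G, s a
  let T := ∏ a ∈ G, t a
  have hS : S ∉ p := fun h => by
    obtain ⟨a, -, ha⟩ := (Ideal.IsPrime.prod_mem_iff (p := p)).mp h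
    exact hs a ha
  have hT : T ∉ q := fun h => by
    obtain ⟨a, -, ha⟩ := (Ideal.IsPrime.prod_mem_iff (p := q)).mp h
    exact ht a ha
  let t' := algebraMap R A S * T
  have ht' : t' ∉ q := fun h => ((Ideal.IsPrime.mem_or_mem ‹_› h).elim hS hT)
  let A' := Localization.Away t'
  have hu : IsUnit (algebraMap A A' t') := IsLocalization.Away.algebraMap_isUnit t'
  rw [show algebraMap A A' t' = algebraMap A A' (algebraMap R A S) * algebraMap A A' T from map_mul _ _ _] at hu
  let φ₁ : Localization.Away S →+* A' :=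
    IsLocalization.Away.lift S (g := (algebraMap A A').comp (algebraMap R A)) (isUnit_of_mul_isUnit_left hu)
  have hφ₁ : ∀ x, φ₁ (algebraMap R _ x) = algebraMap A A' (algebraMap R A x) := fun x =>
    IsLocalization.Away.lift_eq _ _ _
  have hA : ∀ a : A, algebraMap A A' a ∈ φ₁.range := by
    intro a
    have ha : a ∈ Algebra.adjoin R (G : Set A) := hG ▸ trivial
    induction ha using Algebra.adjoin_induction with
    | algebraMap x => exact ⟨_, hφ₁ x⟩
    | add x y _ _ hx hy => rw [map_add]; exact add_mem hx hy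
    | mul x y _ _ hx hy => rw [map_mul]; exact mul_mem hx hy
    | mem a ha =>
      obtain ⟨c, hc⟩ := Finset.dvd_prod_of_mem s ha
      refine ⟨IsLocalization.Away.invSelf S * algebraMap R _ (c * r a), ?_⟩
      have h1 : algebraMap A A' (algebraMap R A (s a) * a) = algebraMap A A' (algebraMap R A (r a)) := by
        obtain ⟨d, hd⟩ := Finset.dvd_prod_of_mem t ha
        have hTu : IsUnit (algebraMap A A' (t a)) := by
          refine isUnit_of_mul_isUnit_left (y := algebraMap A A' d) ?_
          rw [← map_mul, ← hd]; exact isUnit_of_mul_isUnit_right hu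
        refine hTu.mul_left_cancel ?_
        rw [← map_mul, ← map_mul, ← sub_eq_zero, ← map_sub, ← mul_sub, hts a, map_zero]
      have h2 : φ₁ (algebraMap R _ S) * φ₁ (IsLocalization.Away.invSelf S) = 1 := by
        rw [← map_mul, IsLocalization.Away.mul_invSelf, map_one]
      have h3 : φ₁ (algebraMap R _ (c * r a)) = φ₁ (algebraMap R _ S) * algebraMap A A' a := by
        rw [hφ₁, hφ₁, map_mul, map_mul, ← h1, show S = s a * c from hc, map_mul, map_mul, map_mul]
        ring
      rw [map_mul, h3, ← mul_assoc, mul_comm _ (φ₁ (algebraMap R _ S)), h2, one_mul]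
  obtain ⟨ρ, hρ⟩ := hA T
  obtain ⟨n, r0, hr0⟩ := IsLocalization.Away.surj S ρ
  have e0 : algebraMap A A' T * algebraMap A A' (algebraMap R A (S ^ n)) = algebraMap A A' (algebraMap R A r0) := by
    rw [← hρ, ← hφ₁, ← hφ₁, ← map_mul, ← hr0, map_pow]
  have hr0u : IsUnit (algebraMap A A' (algebraMap R A r0)) := by
    rw [← e0, map_pow, map_pow]
    exact (isUnit_of_mul_isUnit_right hu).mul ((isUnit_of_mul_isUnit_left hu).pow n)
  have hr0p : r0 ∉ p := fun hr => by
    have : (q.map (algebraMap A A')).IsPrime := IsLocalization.isPrime_of_isPrime_disjoint (Submonoid.powers t') A' q ‹_›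
      (Set.disjoint_left.mpr fun z hz hzq => by
        obtain ⟨k, rfl⟩ := hz
        exact ht' (Ideal.IsPrime.mem_of_pow_mem ‹_› k hzq))
    exact this.ne_top (Ideal.eq_top_of_isUnit_mem _ (Ideal.mem_map_of_mem _ hr) hr0u)
  have hu2 : IsUnit ((algebraMap A A').comp (algebraMap R A) (S * r0)) := by
    rw [map_mul]; exact (isUnit_of_mul_isUnit_left hu).mul hr0u
  refine ⟨S * r0, t', fun h => (Ideal.IsPrime.mem_or_mem inferInstance h).elim hS hr0p, ht',
    IsLocalization.Away.lift (S * r0) hu2, ?_, ?_⟩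
  · let φ := IsLocalization.Away.lift (S * r0) (S := Localization.Away (S * r0)) hu2
    have hφ : ∀ x, φ (algebraMap R _ x) = algebraMap A A' (algebraMap R A x) := fun x =>
      IsLocalization.Away.lift_eq _ _ _
    have hle : ∀ z, φ₁ z ∈ φ.range := fun z => by
      obtain ⟨k, x, hx⟩ := IsLocalization.Away.surj S z
      refine ⟨algebraMap R _ (x * r0 ^ k) * IsLocalization.Away.invSelf (S * r0) ^ k, ?_⟩
      have h2 : φ (algebraMap R _ (S * r0)) * φ (IsLocalization.Away.invSelf (S * r0)) = 1 := by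
        rw [← map_mul, IsLocalization.Away.mul_invSelf, map_one]
      have h3 : φ (algebraMap R _ (x * r0 ^ k)) = φ₁ z * φ (algebraMap R _ (S * r0)) ^ k := by
        rw [hφ, hφ, ← hφ₁, ← hφ₁, map_mul, ← hx]
        simp only [map_mul, map_pow]
        ring
      rw [map_mul, map_pow, h3, mul_assoc, ← mul_pow, h2, one_pow, mul_one]
    intro z
    obtain ⟨a, m, rfl⟩ := IsLocalization.exists_mk'_eq (Submonoid.powers t') z
    obtain ⟨k, hk⟩ := m.2
    obtain ⟨za, hza⟩ := hA a
    obtain ⟨w1, hw1⟩ := hle za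
    refine ⟨w1 * (algebraMap R _ (S ^ n) * algebraMap R _ (1 : R) * IsLocalization.Away.invSelf (S * r0)) ^ k, ?_⟩
    show φ _ = _
    rw [map_mul, hw1, hza, IsLocalization.eq_mk'_iff_mul_eq, mul_assoc]
    refine (congrArg (algebraMap A A' a * ·) ?_).trans (mul_one _)
    rw [show (m : A) = t' ^ k from hk.symm, map_pow φ _ k, map_pow (algebraMap A A') t' k, ← mul_pow]
    refine (congrArg (· ^ k) ?_).trans (one_pow k)
    have h2 : φ (algebraMap R _ (S * r0)) * φ (IsLocalization.Away.invSelf (S * r0)) = 1 := by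
      rw [← map_mul, IsLocalization.Away.mul_invSelf, map_one]
    refine Eq.trans ?_ h2
    rw [map_mul, map_mul, map_one, map_one, mul_one, hφ, hφ, show algebraMap A A' t' =
      algebraMap A A' (algebraMap R A S) * algebraMap A A' T from map_mul _ _ _, map_mul (algebraMap R A), map_mul, ← e0]
    ring
  · exact IsLocalization.Away.lift_comp _ _

/-- An affine chart around `x` of `f`. -/
theorem exists_affine_nhd (f : X ⟶ Y) (x : X) :
    ∃ (V : Y.Opens) (U : X.Opens) (_ : IsAffineOpen V) (hU : IsAffineOpen U) (_ : U ≤ f ⁻¹ᵁ V), x ∈ U := by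
  obtain ⟨_, ⟨V, hV, rfl⟩, hxV, -⟩ :=
    Y.isBasis_affineOpens.exists_subset_of_mem_open (Set.mem_univ (f x)) isOpen_univ
  obtain ⟨_, ⟨U, hU, rfl⟩, hxU, hle⟩ :=
    X.isBasis_affineOpens.exists_subset_of_mem_open (show x ∈ (f ⁻¹ᵁ V : Set X) from hxV) (f ⁻¹ᵁ V).2
  exact ⟨V, U, hV, hU, hle, hxU⟩

theorem isLocalImmersionAt_of_surjective_stalkMap (f : X ⟶ Y) [LocallyOfFiniteType f] (x : X)
    (hsurj : Function.Surjective (f.stalkMap x)) : SchLoc.IsLocalImmersionAt f x := by
  obtain ⟨V, U, hV, hU, e, hx⟩ := exists_affine_nhd f x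
  have hft := LocallyOfFiniteType.finiteType_appLE f hV hU e
  let : Algebra Γ(Y, V) Γ(X, U) := (f.appLE V U e).hom.toAlgebra
  have : Algebra.FiniteType Γ(Y, V) Γ(X, U) := hft
  let q := hU.primeIdealOf ⟨x, hx⟩
  have hq : hU.fromSpec q = x := hU.fromSpec_primeIdealOf _
  let φA := CommRingCat.ofHom (algebraMap Γ(Y, V) Γ(X, U))
  have ea : Spec.map φA ≫ hV.fromSpec = hU.fromSpec ≫ f := IsAffineOpen.SpecMap_appLE_fromSpec f hV hU e
  have hs : Function.Surjective ((Spec.map φA).stalkMap q).hom := by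
    have hb : ∀ (g₁ g₂ : Spec Γ(X, U) ⟶ Y), g₁ = g₂ → Function.Surjective (g₁.stalkMap q).hom →
        Function.Surjective (g₂.stalkMap q).hom := by rintro g _ rfl h; exact h
    have h1 : Function.Surjective ((hU.fromSpec ≫ f).stalkMap q).hom := by
      rw [Scheme.Hom.stalkMap_comp]
      refine Function.Surjective.comp (g := (hU.fromSpec.stalkMap q).hom) (ConcreteCategory.bijective_of_isIso (hU.fromSpec.stalkMap q)).2 ?_
      have key : ∀ y, y = x → Function.Surjective (f.stalkMap y).hom := by rintro y rfl; exact hsurj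
      exact key _ hq
    have h2 := hb _ _ ea.symm h1
    rw [Scheme.Hom.stalkMap_comp] at h2
    exact Function.Surjective.of_comp (f := ((Spec.map φA).stalkMap q).hom) (g := (hV.fromSpec.stalkMap _).hom) h2
  have hloc : Function.Surjective (Localization.localRingHom (q.asIdeal.comap (algebraMap Γ(Y, V) Γ(X, U)))
      q.asIdeal (algebraMap Γ(Y, V) Γ(X, U)) rfl) := by
    have := RingHom.toMorphismProperty_respectsIso_iff.mp RingHom.surjective_respectsIso
    exact ((RingHom.toMorphismProperty (fun g => Function.Surjective g)).arrow_mk_iso_iff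
      (Scheme.arrowStalkMapSpecIso φA q)).mp hs
  obtain ⟨r, t, hr, ht, φ, hφ, hcomp⟩ := exists_surjective_away q.asIdeal hloc
  let k := Spec.map (CommRingCat.ofHom (algebraMap Γ(X, U) (Localization.Away t)))
  let l := Spec.map (CommRingCat.ofHom (algebraMap Γ(Y, V) (Localization.Away r)))
  have : IsOpenImmersion k := IsOpenImmersion.of_isLocalization t
  have : IsOpenImmersion l := IsOpenImmersion.of_isLocalization r
  have : IsClosedImmersion (Spec.map (CommRingCat.ofHom φ)) := IsClosedImmersion.spec_of_surjective _ hφ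
  have heq : (k ≫ hU.fromSpec) ≫ f = Spec.map (CommRingCat.ofHom φ) ≫ l ≫ hV.fromSpec := by
    rw [Category.assoc, ← ea]
    simp only [k, l, ← Spec.map_comp_assoc, φA, ← CommRingCat.ofHom_comp, hcomp]
  rw [isLocalImmersionAt_iff]
  refine ⟨(k ≫ hU.fromSpec).opensRange, ?_, ?_⟩
  · have : q ∈ Set.range (PrimeSpectrum.comap (algebraMap Γ(X, U) (Localization.Away t))) := by
      rw [PrimeSpectrum.localization_away_comap_range (Localization.Away t) t]; exact ht
    obtain ⟨q₀, hq₀⟩ := this
    refine ⟨q₀, ?_⟩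
    rw [Scheme.Hom.comp_apply, show k q₀ = q from hq₀, hq]
  · rw [← (k ≫ hU.fromSpec).isoOpensRange_inv_comp, Category.assoc]
    have : IsImmersion ((k ≫ hU.fromSpec) ≫ f) := by rw [heq]; infer_instance
    infer_instance

theorem surjective_stalkMap_of_isLocalImmersionAt (f : X ⟶ Y) (x : X)
    (h : SchLoc.IsLocalImmersionAt f x) : Function.Surjective (f.stalkMap x) := by
  obtain ⟨U, hx, hi⟩ := (isLocalImmersionAt_iff f x).mp h
  let z : U.toScheme := ⟨x, hx⟩
  have h1 := Scheme.Hom.stalkMap_surjective (U.ι ≫ f) z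
  rw [Scheme.Hom.stalkMap_comp] at h1
  exact Function.Surjective.of_comp_left (f := (U.ι.stalkMap z).hom) (g := (f.stalkMap x).hom) h1 (ConcreteCategory.bijective_of_isIso (U.ι.stalkMap z)).1

theorem exists_bijective_away {R A : Type u} [CommRing R] [IsNoetherianRing R] [CommRing A] [Algebra R A]
    [Algebra.FiniteType R A] (q : Ideal A) [q.IsPrime]
    (h : Function.Bijective (Localization.localRingHom (q.comap (algebraMap R A)) q (algebraMap R A) rfl)) :
    ∃ (r : R) (t : A), t ∉ q ∧
      ∃ φ : Localization.Away r →+* Localization.Away t, Function.Bijective φ ∧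
        φ.comp (algebraMap R _) = (algebraMap A _).comp (algebraMap R A) := by
  classical
  obtain ⟨r, t, hr, ht, φ, hφ, hcomp⟩ := exists_surjective_away q h.2
  set p := q.comap (algebraMap R A) with hp
  let J := RingHom.ker ((algebraMap A (Localization.Away t)).comp (algebraMap R A))
  have hJ : ∀ a ∈ J, ∃ s ∉ p, s * a = 0 := fun a ha => by
    obtain ⟨⟨_, j, rfl⟩, hj⟩ := (IsLocalization.map_eq_zero_iff (Submonoid.powers t) (Localization.Away t) _).mp ha
    have h0 : algebraMap A (Localization.AtPrime q) (algebraMap R A a) = 0 :=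
      (IsLocalization.map_eq_zero_iff q.primeCompl _ _).mpr ⟨⟨t ^ j, fun h => ht (Ideal.IsPrime.mem_of_pow_mem ‹_› j h)⟩, hj⟩
    have h1 : algebraMap R (Localization.AtPrime p) a = 0 :=
      h.1 (by rw [Localization.localRingHom_to_map, h0, map_zero])
    obtain ⟨s, hs⟩ := (IsLocalization.map_eq_zero_iff p.primeCompl _ a).mp h1
    exact ⟨s, s.2, hs⟩
  obtain ⟨G, hG⟩ := (isNoetherianRing_iff_ideal_fg R).mp ‹_› J
  choose s hs hsa using fun a : G => hJ a.1 (hG ▸ Ideal.subset_span a.2)
  let S := ∏ a, s a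
  have hS : S ∉ p := fun h => by
    obtain ⟨i, -, hi⟩ := (Ideal.IsPrime.prod_mem_iff (p := p)).mp h
    exact hs i hi
  have hSJ : ∀ a ∈ J, S * a = 0 := fun a ha => by
    rw [← hG] at ha
    induction ha using Submodule.span_induction with
    | mem a ha =>
      obtain ⟨c, hc⟩ := Finset.dvd_prod_of_mem s (Finset.mem_univ (⟨a, ha⟩ : G))
      rw [show S = s ⟨a, ha⟩ * c from hc, mul_comm (s _), mul_assoc, hsa, mul_zero]
    | zero => simp
    | add a b _ _ ha hb => rw [mul_add, ha, hb, add_zero]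
    | smul c a _ h => rw [smul_eq_mul, mul_left_comm, h, mul_zero]
  let A' := Localization.Away (t * algebraMap R A S)
  have hut := IsLocalization.Away.algebraMap_isUnit (S := A') (t * algebraMap R A S)
  rw [map_mul] at hut
  let χ : Localization.Away t →+* A' :=
    IsLocalization.Away.lift t (g := algebraMap A A') (isUnit_of_mul_isUnit_left hut)
  have hur : IsUnit (((algebraMap A A').comp (algebraMap R A)) (r * S)) := by
    rw [map_mul]
    refine IsUnit.mul ?_ (isUnit_of_mul_isUnit_right hut)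
    have h2 := congr($hcomp r)
    simp only [RingHom.comp_apply] at h2
    show IsUnit (algebraMap A A' (algebraMap R A r))
    rw [← IsLocalization.Away.lift_eq (S := Localization.Away t) t (g := algebraMap A A') (isUnit_of_mul_isUnit_left hut) (algebraMap R A r), ← h2]
    exact ((IsLocalization.Away.algebraMap_isUnit r).map φ).map χ
  let ψ := IsLocalization.Away.lift (r * S) (S := Localization.Away (r * S)) hur
  have hψ : ∀ x, ψ (algebraMap R _ x) = algebraMap A A' (algebraMap R A x) := fun x =>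
    IsLocalization.Away.lift_eq _ _ _
  refine ⟨r * S, t * algebraMap R A S, fun h => (Ideal.IsPrime.mem_or_mem ‹_› h).elim ht hS, ψ, ⟨?_, ?_⟩,
    IsLocalization.Away.lift_comp _ _⟩
  · refine (injective_iff_map_eq_zero ψ).mpr fun z hz => ?_
    obtain ⟨a, m, rfl⟩ := IsLocalization.exists_mk'_eq (Submonoid.powers (r * S)) z
    have h1 : ψ (algebraMap R _ a) = 0 := by
      rw [← IsLocalization.mk'_spec (Localization.Away (r * S)) a m, map_mul, hz, zero_mul]
    rw [hψ] at h1
    obtain ⟨⟨_, j, rfl⟩, hj⟩ := (IsLocalization.map_eq_zero_iff (Submonoid.powers (t * algebraMap R A S)) A' _).mp h1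
    have h2 : S ^ j * a ∈ J := by
      refine (IsLocalization.map_eq_zero_iff (Submonoid.powers t) (Localization.Away t) _).mpr ⟨⟨t ^ j, j, rfl⟩, ?_⟩
      show t ^ j * algebraMap R A (S ^ j * a) = 0
      have hj' : (t * algebraMap R A S) ^ j * algebraMap R A a = 0 := hj
      rw [map_mul, map_pow, ← hj']
      ring
    rw [IsLocalization.mk'_eq_zero_iff]
    refine ⟨⟨(r * S) ^ (j + 1), j + 1, rfl⟩, ?_⟩
    show (r * S) ^ (j + 1) * a = 0
    have := hSJ _ h2
    rw [show (r * S) ^ (j + 1) * a = r ^ (j + 1) * (S * (S ^ j * a)) by ring, this, mul_zero]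
  · intro z
    obtain ⟨a, m, rfl⟩ := IsLocalization.exists_mk'_eq (Submonoid.powers (t * algebraMap R A S)) z
    obtain ⟨k, hk⟩ := m.2
    obtain ⟨w, hw⟩ := hφ (IsLocalization.mk' _ a (⟨t ^ k, k, rfl⟩ : Submonoid.powers t))
    obtain ⟨n, x, hx⟩ := IsLocalization.Away.surj r w
    refine ⟨algebraMap R _ (x * r ^ k * S ^ n) * IsLocalization.Away.invSelf (r * S) ^ n *
      IsLocalization.Away.invSelf (r * S) ^ k, ?_⟩
    have hi : ψ (algebraMap R _ (r * S)) * ψ (IsLocalization.Away.invSelf (r * S)) = 1 := by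
      rw [← map_mul, IsLocalization.Away.mul_invSelf, map_one]
    rw [IsLocalization.eq_mk'_iff_mul_eq]
    show ψ _ * algebraMap A A' (m : A) = _
    have e1 : algebraMap A A' (algebraMap R A x) * algebraMap A A' (t ^ k) =
        algebraMap A A' a * algebraMap A A' (algebraMap R A (r ^ n)) := by
      have h3 := congrArg (fun u => χ (φ u)) hx
      simp only [map_mul, map_pow] at h3
      have h4 : ∀ y, χ (φ (algebraMap R _ y)) = algebraMap A A' (algebraMap R A y) := fun y => by
        rw [show φ (algebraMap R _ y) = algebraMap A _ (algebraMap R A y) from congr($hcomp y)]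
        exact IsLocalization.Away.lift_eq _ _ _
      rw [h4, h4] at h3
      have h5 : χ (φ w) * algebraMap A A' (t ^ k) = algebraMap A A' a := by
        rw [hw, ← IsLocalization.Away.lift_eq (S := Localization.Away t) t (g := algebraMap A A') (isUnit_of_mul_isUnit_left hut) (t ^ k)]
        show χ _ * χ _ = _
        rw [← map_mul, IsLocalization.mk'_spec' (Localization.Away t) a (⟨t ^ k, k, rfl⟩ : Submonoid.powers t) |> fun e => (mul_comm _ _).trans e]
        exact IsLocalization.Away.lift_eq _ _ _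
      rw [← h3, ← h5, map_pow (algebraMap R A) r n, map_pow (algebraMap A A') _ n]; ring
    rw [map_mul, map_mul, map_pow, map_pow, hψ, show (m : A) = (t * algebraMap R A S) ^ k from hk.symm]
    rw [hψ] at hi
    simp only [map_mul, map_pow] at hi e1 ⊢
    set P := algebraMap A A' (algebraMap R A x)
    set Rr := algebraMap A A' (algebraMap R A r)
    set SS := algebraMap A A' (algebraMap R A S)
    set ii := ψ (IsLocalization.Away.invSelf (r * S))
    set TT := algebraMap A A' t
    calc P * Rr ^ k * SS ^ n * ii ^ n * ii ^ k * (TT * SS) ^ k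
        = (P * TT ^ k) * SS ^ n * ii ^ n * (Rr * SS * ii) ^ k := by ring
      _ = algebraMap A A' a * (Rr * SS * ii) ^ n * (Rr * SS * ii) ^ k := by rw [e1]; ring
      _ = algebraMap A A' a := by rw [hi, one_pow, one_pow, mul_one, mul_one]

theorem isLocalIsoAt_of_isIso_stalkMap (f : X ⟶ Y) [IsLocallyNoetherian Y] [LocallyOfFiniteType f] (x : X)
    [IsIso (f.stalkMap x)] : SchLoc.IsLocalIsoAt f x := by
  obtain ⟨V, U, hV, hU, e, hx⟩ := exists_affine_nhd f x
  have hft := LocallyOfFiniteType.finiteType_appLE f hV hU e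
  let : Algebra Γ(Y, V) Γ(X, U) := (f.appLE V U e).hom.toAlgebra
  have : Algebra.FiniteType Γ(Y, V) Γ(X, U) := hft
  have : IsNoetherianRing Γ(Y, V) := IsLocallyNoetherian.component_noetherian ⟨V, hV⟩
  let q := hU.primeIdealOf ⟨x, hx⟩
  have hq : hU.fromSpec q = x := hU.fromSpec_primeIdealOf _
  let φA := CommRingCat.ofHom (algebraMap Γ(Y, V) Γ(X, U))
  have ea : Spec.map φA ≫ hV.fromSpec = hU.fromSpec ≫ f := IsAffineOpen.SpecMap_appLE_fromSpec f hV hU e
  have hs : IsIso ((Spec.map φA).stalkMap q) := by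
    have key : ∀ y, y = x → IsIso (f.stalkMap y) := by rintro y rfl; infer_instance
    have hk := key _ hq
    have hb : ∀ (g₁ g₂ : Spec Γ(X, U) ⟶ Y), g₁ = g₂ → IsIso (g₁.stalkMap q) → IsIso (g₂.stalkMap q) := by
      rintro g _ rfl h; exact h
    have h2 := hb _ _ ea.symm (by
      rw [Scheme.Hom.stalkMap_comp]
      exact @IsIso.comp_isIso _ _ _ _ _ _ _ hk inferInstance)
    rw [Scheme.Hom.stalkMap_comp] at h2
    exact @IsIso.of_isIso_comp_left _ _ _ _ _ (hV.fromSpec.stalkMap _) _ inferInstance h2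
  have hloc : Function.Bijective (Localization.localRingHom (q.asIdeal.comap (algebraMap Γ(Y, V) Γ(X, U)))
      q.asIdeal (algebraMap Γ(Y, V) Γ(X, U)) rfl) := by
    have h3 : IsIso (CommRingCat.ofHom (Localization.localRingHom (q.comap φA.hom).asIdeal q.asIdeal φA.hom rfl)) :=
      ((MorphismProperty.isomorphisms CommRingCat).arrow_mk_iso_iff (Scheme.arrowStalkMapSpecIso φA q)).mp hs
    exact ConcreteCategory.bijective_of_isIso (CommRingCat.ofHom (Localization.localRingHom (q.comap φA.hom).asIdeal q.asIdeal φA.hom rfl))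
  obtain ⟨r, t, ht, φ, hφ, hcomp⟩ := exists_bijective_away q.asIdeal hloc
  let k := Spec.map (CommRingCat.ofHom (algebraMap Γ(X, U) (Localization.Away t)))
  let l := Spec.map (CommRingCat.ofHom (algebraMap Γ(Y, V) (Localization.Away r)))
  have : IsOpenImmersion k := IsOpenImmersion.of_isLocalization t
  have : IsOpenImmersion l := IsOpenImmersion.of_isLocalization r
  have : IsIso (CommRingCat.ofHom φ) := (RingEquiv.ofBijective φ hφ).toCommRingCatIso.isIso_hom
  have heq : (k ≫ hU.fromSpec) ≫ f = Spec.map (CommRingCat.ofHom φ) ≫ l ≫ hV.fromSpec := by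
    rw [Category.assoc, ← ea]
    simp only [k, l, ← Spec.map_comp_assoc, φA, ← CommRingCat.ofHom_comp, hcomp]
  refine ⟨(k ≫ hU.fromSpec).opensRange, ?_, ?_⟩
  · have : q ∈ Set.range (PrimeSpectrum.comap (algebraMap Γ(X, U) (Localization.Away t))) := by
      rw [PrimeSpectrum.localization_away_comap_range (Localization.Away t) t]; exact ht
    obtain ⟨q₀, hq₀⟩ := this
    refine ⟨q₀, ?_⟩
    rw [Scheme.Hom.comp_apply, show k q₀ = q from hq₀, hq]
  · rw [← (k ≫ hU.fromSpec).isoOpensRange_inv_comp, Category.assoc]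
    have : IsOpenImmersion ((k ≫ hU.fromSpec) ≫ f) := by rw [heq]; infer_instance
    infer_instance

theorem isIso_stalkMap_of_isLocalIsoAt (f : X ⟶ Y) (x : X) (h : SchLoc.IsLocalIsoAt f x) :
    IsIso (f.stalkMap x) := by
  obtain ⟨U, hx, _⟩ := h
  let z : U.toScheme := ⟨x, hx⟩
  have h1 : IsIso ((U.ι ≫ f).stalkMap z) := inferInstance
  rw [Scheme.Hom.stalkMap_comp] at h1
  exact @IsIso.of_isIso_comp_right _ _ _ _ _ (f.stalkMap (U.ι z)) (U.ι.stalkMap z) inferInstance h1

end Groth.Agent.H17.LocalImm
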