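import Groth.Agent.H17.Imports

/-! Spreading out morphisms without germ-injectivity (finite presentation). -/

universe u
open CategoryTheory AlgebraicGeometry TopologicalSpace

namespace Groth.Agent.H17

/-- Finitely many germ equalities hold on a common neighbourhood. -/
theorem exists_common_nhd_eq {X : Scheme.{u}} {U : X.Opens} {x : X} (hxU : x ∈ U) {ι : Type*}
    (s : Finset ι) (a b : ι → Γ(X, U))
    (h : ∀ i ∈ s, X.presheaf.germ U x hxU (a i) = X.presheaf.germ U x hxU (b i)) :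
    ∃ V : X.Opens, IsAffineOpen V ∧ x ∈ V ∧ ∃ i : V ≤ U,
      ∀ j ∈ s, X.presheaf.map i.hom.op (a j) = X.presheaf.map i.hom.op (b j) := by
  choose W hxW iU iV hW using fun j : s => X.presheaf.germ_eq x hxU hxU (a j) (b j) (h j j.2)
  let O : X.Opens := (Finset.univ : Finset s).inf W ⊓ U
  have hxO : x ∈ O := by
    rw [← SetLike.mem_coe, Opens.coe_inf, Opens.coe_finset_inf]
    exact ⟨by simpa using hxW, hxU⟩
  obtain ⟨_, ⟨(V : X.Opens), hV, rfl⟩, hxV, hVO⟩ := X.isBasis_affineOpens.exists_subset_of_mem_open hxO O.2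
  have hVO' : V ≤ O := hVO
  refine ⟨V, hV, hxV, hVO'.trans inf_le_right, fun j hj => ?_⟩
  have hVW : V ≤ W ⟨j, hj⟩ := hVO'.trans (inf_le_left.trans (Finset.inf_le (Finset.mem_univ _)))
  have := congrArg (X.presheaf.map hVW.hom.op) (hW ⟨j, hj⟩)
  rw [← ConcreteCategory.comp_apply, ← ConcreteCategory.comp_apply, ← Functor.map_comp,
    ← Functor.map_comp] at this
  exact this

/-- Lifting a homomorphism from a finitely presented algebra to a germ. -/
theorem exists_lift_of_finitePresentation {R A : CommRingCat.{u}} {X : Scheme.{u}} {x : X}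
    {U : X.Opens} (hxU : x ∈ U) (φ : A ⟶ X.presheaf.stalk x) (φRA : R ⟶ A) (φRX : R ⟶ Γ(X, U))
    (hφRA : RingHom.FinitePresentation φRA.hom)
    (e : φRA ≫ φ = φRX ≫ X.presheaf.germ U x hxU) :
    ∃ (V : X.Opens) (hxV : x ∈ V) (φ' : A ⟶ Γ(X, V)) (i : V ≤ U), IsAffineOpen V ∧
      φ = φ' ≫ X.presheaf.germ V x hxV ∧ φRX ≫ X.presheaf.map i.hom.op = φRA ≫ φ' := by
  let _ := φRA.hom.toAlgebra
  obtain ⟨n, π, hπ, s, hs⟩ := hφRA
  choose W hxW g hg using fun k : Fin n => X.presheaf.exists_germ_eq (φ (π (MvPolynomial.X k)))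
  let O : X.Opens := (Finset.univ : Finset (Fin n)).inf W ⊓ U
  have hxO : x ∈ O := by
    rw [← SetLike.mem_coe, Opens.coe_inf, Opens.coe_finset_inf]
    exact ⟨by simpa using hxW, hxU⟩
  let g' : Fin n → Γ(X, O) := fun k =>
    X.presheaf.map (homOfLE (inf_le_left.trans (Finset.inf_le (Finset.mem_univ k)))).op (g k)
  let ψ : MvPolynomial (Fin n) R →+* Γ(X, O) :=
    MvPolynomial.eval₂Hom (φRX ≫ X.presheaf.map (homOfLE (inf_le_right (a := (Finset.univ : Finset (Fin n)).inf W))).op).hom g'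
  have hψ : (X.presheaf.germ O x hxO).hom.comp ψ = φ.hom.comp π.toRingHom := by
    refine MvPolynomial.ringHom_ext (fun r => ?_) fun k => ?_
    · show X.presheaf.germ O x hxO (ψ (MvPolynomial.C r)) = φ (π (MvPolynomial.C r))
      rw [MvPolynomial.eval₂Hom_C, show π (MvPolynomial.C r) = φRA r from π.commutes r]
      exact (X.presheaf.germ_res_apply _ _ _ _).trans (congr($e r).symm)
    · show X.presheaf.germ O x hxO (ψ (MvPolynomial.X k)) = φ (π (MvPolynomial.X k))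
      rw [MvPolynomial.eval₂Hom_X']
      exact (X.presheaf.germ_res_apply _ _ _ _).trans (hg k)
  obtain ⟨V, hV, hxV, i, hi⟩ := exists_common_nhd_eq hxO s (fun r => ψ r) (fun _ => 0) (fun r hr => by
    have h0 : π r = 0 := by
      have : r ∈ RingHom.ker π.toRingHom := hs ▸ Ideal.subset_span hr
      exact this
    have := congr($hψ r)
    simp only [RingHom.comp_apply] at this
    rw [map_zero]
    exact this.trans ((congrArg φ.hom h0).trans (map_zero _)))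
  let ψ' : MvPolynomial (Fin n) R →+* Γ(X, V) := (X.presheaf.map i.hom.op).hom.comp ψ
  have hker : RingHom.ker π.toRingHom ≤ RingHom.ker ψ' := by
    rw [← hs, Ideal.span_le]
    intro r hr
    exact (hi r hr).trans (map_zero _)
  let φ' : A →+* Γ(X, V) := RingHom.liftOfSurjective π.toRingHom hπ ⟨ψ', hker⟩
  have hφ' : ∀ q, φ' (π q) = ψ' q := RingHom.liftOfRightInverse_comp_apply π.toRingHom _ _ ⟨ψ', hker⟩
  refine ⟨V, hxV, CommRingCat.ofHom φ', i.trans inf_le_right, hV, ?_, ?_⟩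
  · ext a
    obtain ⟨q, rfl⟩ := hπ a
    show φ (π q) = X.presheaf.germ V x hxV (φ' (π q))
    rw [hφ']
    exact (congr($hψ q)).symm.trans (X.presheaf.germ_res_apply i.hom x hxV (ψ q)).symm
  · ext r
    show X.presheaf.map _ (φRX r) = φ' (φRA r)
    rw [show φRA r = π (MvPolynomial.C r) from (π.commutes r).symm, hφ']
    show _ = X.presheaf.map i.hom.op (ψ (MvPolynomial.C r))
    rw [MvPolynomial.eval₂Hom_C]
    show X.presheaf.map _ (φRX r) = X.presheaf.map i.hom.op (X.presheaf.map _ (φRX r))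
    rw [← ConcreteCategory.comp_apply (X.presheaf.map _) (X.presheaf.map _), ← Functor.map_comp]
    rfl

theorem spread_out {X Y S : Scheme.{u}} (sX : X ⟶ S) (sY : Y ⟶ S) [LocallyOfFinitePresentation sY]
    {x : X} {y : Y} (e : sX x = sY y) (φ : Y.presheaf.stalk y ⟶ X.presheaf.stalk x)
    (h : sY.stalkMap y ≫ φ =
      S.presheaf.stalkSpecializes (Inseparable.of_eq e).specializes ≫ sX.stalkMap x) :
    ∃ (U : X.Opens) (hxU : x ∈ U) (f : U.toScheme ⟶ Y),
      Spec.map φ ≫ Y.fromSpecStalk y = U.fromSpecStalkOfMem x hxU ≫ f ∧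
      f ≫ sY = U.ι ≫ sX := by
  obtain ⟨_, ⟨U, hU, rfl⟩, hxU, -⟩ :=
    S.isBasis_affineOpens.exists_subset_of_mem_open (Set.mem_univ (sX x)) isOpen_univ
  have hyU : sY y ∈ U := e ▸ hxU
  obtain ⟨_, ⟨V : Y.Opens, hV, rfl⟩, hyV, iVU⟩ :=
    Y.isBasis_affineOpens.exists_subset_of_mem_open hyU (sY ⁻¹ᵁ U).2
  have : sY.appLE U V iVU ≫ Y.presheaf.germ V y hyV ≫ φ =
      sX.app U ≫ X.presheaf.germ (sX ⁻¹ᵁ U) x hxU := by
    rw [Scheme.Hom.appLE, Category.assoc, Y.presheaf.germ_res_assoc,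
      ← Scheme.Hom.germ_stalkMap_assoc, h]
    simp
  obtain ⟨W, hxW, φ', i, hW, h₁, h₂⟩ :=
    exists_lift_of_finitePresentation (R := Γ(S, U)) (A := Γ(Y, V)) (U := sX ⁻¹ᵁ U) (x := x) hxU
    (Y.presheaf.germ _ y hyV ≫ φ) (sY.appLE U V iVU) (sX.app U)
    (LocallyOfFinitePresentation.finitePresentation_appLE sY hU hV _) this
  refine ⟨W, hxW, W.toSpecΓ ≫ Spec.map φ' ≫ IsAffineOpen.fromSpec hV, ?_, ?_⟩
  · rw [W.fromSpecStalkOfMem_toSpecΓ_assoc x hxW, ← Spec.map_comp_assoc, ← h₁,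
      Spec.map_comp, Category.assoc, ← IsAffineOpen.fromSpecStalk,
      IsAffineOpen.fromSpecStalk_eq_fromSpecStalk]
  · simp only [Category.assoc]
    rw [← IsAffineOpen.SpecMap_appLE_fromSpec sY hU hV iVU, ← Spec.map_comp_assoc, ← h₂,
      ← Scheme.Hom.appLE, ← hW.isoSpec_hom, IsAffineOpen.SpecMap_appLE_fromSpec sX hU hW i,
      ← Iso.eq_inv_comp, IsAffineOpen.isoSpec_inv_ι_assoc]

theorem spread_out_unique {X Y S : Scheme.{u}} (sY : Y ⟶ S) [LocallyOfFiniteType sY]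
    (f g : X ⟶ Y) (hfg : f ≫ sY = g ≫ sY) {x : X} (e : f x = g x)
    (H : f.stalkMap x =
      Y.presheaf.stalkSpecializes (Inseparable.of_eq e.symm).specializes ≫ g.stalkMap x) :
    ∃ U : X.Opens, x ∈ U ∧ U.ι ≫ f = U.ι ≫ g := by
  obtain ⟨_, ⟨T, hT, rfl⟩, hxT, -⟩ :=
    S.isBasis_affineOpens.exists_subset_of_mem_open (Set.mem_univ (sY (f x))) isOpen_univ
  obtain ⟨_, ⟨V : Y.Opens, hV, rfl⟩, hxV, iVT⟩ :=
    Y.isBasis_affineOpens.exists_subset_of_mem_open (show f x ∈ sY ⁻¹ᵁ T from hxT) (sY ⁻¹ᵁ T).2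
  let O := f ⁻¹ᵁ V ⊓ g ⁻¹ᵁ V
  have hxO : x ∈ O := ⟨hxV, show g x ∈ V from e ▸ hxV⟩
  have hft : (sY.appLE T V iVT).hom.FiniteType :=
    LocallyOfFiniteType.finiteType_appLE sY hT hV iVT
  let _ := (sY.appLE T V iVT).hom.toAlgebra
  obtain ⟨s, hs⟩ := hft
  have hgerm : ∀ a : Γ(Y, V), X.presheaf.germ O x hxO (f.appLE V O inf_le_left a) =
      X.presheaf.germ O x hxO (g.appLE V O inf_le_right a) := by
    intro a
    have h1 : f.appLE V O inf_le_left ≫ X.presheaf.germ O x hxO =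
        g.appLE V O inf_le_right ≫ X.presheaf.germ O x hxO := by
      simp only [Scheme.Hom.appLE, Category.assoc, X.presheaf.germ_res', ← Scheme.Hom.germ_stalkMap, H]
      simp only [TopCat.Presheaf.germ_stalkSpecializes_assoc, Scheme.Hom.germ_stalkMap]
    exact congr($h1 a)
  obtain ⟨U, hU, hxU, i, hi⟩ := exists_common_nhd_eq hxO s _ _ (fun a _ => hgerm a)
  refine ⟨U, hxU, ?_⟩
  have h1 : f.appLE V U (i.trans inf_le_left) = g.appLE V U (i.trans inf_le_right) := by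
    let F := (f.appLE V U (i.trans inf_le_left)).hom
    let G := (g.appLE V U (i.trans inf_le_right)).hom
    have hbase : ∀ r, F (algebraMap Γ(S, T) Γ(Y, V) r) = G (algebraMap Γ(S, T) Γ(Y, V) r) := fun r => by
      have : sY.appLE T V iVT ≫ f.appLE V U (i.trans inf_le_left) =
          sY.appLE T V iVT ≫ g.appLE V U (i.trans inf_le_right) := by
        rw [Scheme.Hom.appLE_comp_appLE, Scheme.Hom.appLE_comp_appLE]
        simp only [hfg]
      exact congr($this r)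
    refine CommRingCat.hom_ext (RingHom.ext fun a => ?_)
    have ha : a ∈ Algebra.adjoin Γ(S, T) (s : Set Γ(Y, V)) := hs ▸ trivial
    induction ha using Algebra.adjoin_induction with
    | mem t ht =>
      have := hi t ht
      rwa [← ConcreteCategory.comp_apply, ← ConcreteCategory.comp_apply,
        Scheme.Hom.appLE_map, Scheme.Hom.appLE_map] at this
    | algebraMap r => exact hbase r
    | add a b _ _ h1 h2 => rw [map_add, map_add, h1, h2]
    | mul a b _ _ h1 h2 => rw [map_mul, map_mul, h1, h2]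
  have h2 : hU.fromSpec ≫ f = hU.fromSpec ≫ g := by
    rw [← IsAffineOpen.SpecMap_appLE_fromSpec f hV hU (i.trans inf_le_left),
      ← IsAffineOpen.SpecMap_appLE_fromSpec g hV hU (i.trans inf_le_right), h1]
  rw [← hU.isoSpec_inv_ι, Category.assoc, Category.assoc] at h2
  exact (cancel_epi hU.isoSpec.inv).mp h2

theorem spread_out_unique' {X Y S : Scheme.{u}} (sY : Y ⟶ S) [LocallyOfFiniteType sY]
    (f g : X ⟶ Y) (hfg : f ≫ sY = g ≫ sY) {x : X}
    (e : X.fromSpecStalk x ≫ f = X.fromSpecStalk x ≫ g) :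
    ∃ U : X.Opens, x ∈ U ∧ U.ι ≫ f = U.ι ≫ g := by
  fapply spread_out_unique sY f g hfg
  · simpa using congr($e (IsLocalRing.closedPoint _))
  · apply Spec.map_injective
    rw [← cancel_mono (Y.fromSpecStalk _)]
    simpa [Scheme.SpecMap_stalkSpecializes_fromSpecStalk]

theorem fromSpecStalkOfMem_apply_closedPoint {X : Scheme.{u}} (U : X.Opens) {x : X} (hxU : x ∈ U) :
    U.fromSpecStalkOfMem x hxU (IsLocalRing.closedPoint (X.presheaf.stalk x)) = ⟨x, hxU⟩ := by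
  apply U.ι.isEmbedding.injective
  rw [← Scheme.Hom.comp_apply, Scheme.Opens.fromSpecStalkOfMem_ι, Scheme.fromSpecStalk_closedPoint]
  rfl

theorem fromSpecStalkOfMem_homOfLE {X : Scheme.{u}} {U V : X.Opens} (h : U ≤ V) {x : X} (hxU : x ∈ U) :
    U.fromSpecStalkOfMem x hxU ≫ X.homOfLE h = V.fromSpecStalkOfMem x (h hxU) := by
  rw [← cancel_mono V.ι, Category.assoc, X.homOfLE_ι, Scheme.Opens.fromSpecStalkOfMem_ι,
    Scheme.Opens.fromSpecStalkOfMem_ι]

/-- Half of spreading out an isomorphism of local rings. -/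
theorem exists_nhd_comp_eq {X Y S : Scheme.{u}} (sX : X ⟶ S) (sY : Y ⟶ S) [LocallyOfFiniteType sX]
    {x : X} {y : Y} {U : X.Opens} (hxU : x ∈ U) (f : U.toScheme ⟶ Y) (hfs : f ≫ sY = U.ι ≫ sX)
    {V : Y.Opens} (hyV : y ∈ V) (g : V.toScheme ⟶ X) (hgs : g ≫ sX = V.ι ≫ sY)
    (a : Y.presheaf.stalk y ⟶ X.presheaf.stalk x) (b : X.presheaf.stalk x ⟶ Y.presheaf.stalk y)
    [IsLocalHom a.hom] (hba : b ≫ a = 𝟙 _)
    (hf : Spec.map a ≫ Y.fromSpecStalk y = U.fromSpecStalkOfMem x hxU ≫ f)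
    (hg : Spec.map b ≫ X.fromSpecStalk x = V.fromSpecStalkOfMem y hyV ≫ g) :
    ∃ (W : X.Opens) (_ : x ∈ W) (hW : W ≤ U) (f' : W.toScheme ⟶ V.toScheme),
      f' ≫ V.ι = X.homOfLE hW ≫ f ∧ f' ≫ g = W.ι := by
  let U1 : X.Opens := U.ι ''ᵁ (f ⁻¹ᵁ V)
  have hU1 : U1 ≤ U := Scheme.Opens.ι_image_le _ _
  have hr : Set.range (X.homOfLE hU1 ≫ f) ⊆ Set.range V.ι := by
    rintro _ ⟨z, rfl⟩
    rw [Scheme.Opens.range_ι, Scheme.Hom.comp_apply]
    obtain ⟨w, hw, hwz⟩ := z.2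
    have : X.homOfLE hU1 z = w := U.ι.isEmbedding.injective (by
      rw [← Scheme.Hom.comp_apply, X.homOfLE_ι]; exact hwz.symm)
    rw [this]; exact hw
  let f1 := IsOpenImmersion.lift V.ι (X.homOfLE hU1 ≫ f) hr
  have hf1 : f1 ≫ V.ι = X.homOfLE hU1 ≫ f := IsOpenImmersion.lift_fac _ _ _
  have hfy : f ⟨x, hxU⟩ = y := by
    have h1 := congr($hf (IsLocalRing.closedPoint (X.presheaf.stalk x)))
    rw [Scheme.Hom.comp_apply, Scheme.Hom.comp_apply, fromSpecStalkOfMem_apply_closedPoint] at h1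
    rw [← h1]
    exact (congrArg (Y.fromSpecStalk y) (IsLocalRing.comap_closedPoint a.hom)).trans Scheme.fromSpecStalk_closedPoint
  have hx1 : x ∈ U1 := ⟨⟨x, hxU⟩, show f ⟨x, hxU⟩ ∈ V from hfy.symm ▸ hyV, rfl⟩
  have hs : (f1 ≫ g) ≫ sX = U1.ι ≫ sX := by
    rw [Category.assoc, hgs, reassoc_of% hf1, hfs, X.homOfLE_ι_assoc]
  have key : U1.fromSpecStalkOfMem x hx1 ≫ f1 = Spec.map a ≫ V.fromSpecStalkOfMem y hyV := by
    rw [← cancel_mono V.ι, Category.assoc, hf1, Category.assoc, Scheme.Opens.fromSpecStalkOfMem_ι, hf,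
      ← Category.assoc, fromSpecStalkOfMem_homOfLE]
  have key2 : U1.fromSpecStalkOfMem x hx1 ≫ f1 ≫ g = U1.fromSpecStalkOfMem x hx1 ≫ U1.ι := by
    rw [reassoc_of% key, ← hg, ← Spec.map_comp_assoc, hba, Spec.map_id, Category.id_comp,
      Scheme.Opens.fromSpecStalkOfMem_ι]
  have key3 : U1.toScheme.fromSpecStalk ⟨x, hx1⟩ ≫ f1 ≫ g = U1.toScheme.fromSpecStalk ⟨x, hx1⟩ ≫ U1.ι := by
    simpa [Scheme.Opens.fromSpecStalkOfMem] using key2
  obtain ⟨W, hxW, hW⟩ := spread_out_unique' sX (f1 ≫ g) U1.ι hs key3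
  refine ⟨U1.ι ''ᵁ W, ⟨⟨x, hx1⟩, hxW, rfl⟩, (Scheme.Opens.ι_image_le _ _).trans hU1,
    (U1.ι.isoImage W).inv ≫ W.ι ≫ f1, ?_, ?_⟩
  · have e1 : X.homOfLE (Scheme.Opens.ι_image_le U1 W) = (U1.ι.isoImage W).inv ≫ W.ι := by
      rw [← cancel_mono U1.ι, X.homOfLE_ι, Category.assoc, Scheme.Hom.isoImage_inv_ι]
    rw [Category.assoc, Category.assoc, hf1, ← reassoc_of% e1, X.homOfLE_homOfLE_assoc]
  · rw [Category.assoc, Category.assoc, hW, Scheme.Hom.isoImage_inv_ι]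

end Groth.Agent.H17
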