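import Groth.Agent.H17.FieldPoints
import Mathlib.FieldTheory.PurelyInseparable.Basic
import Mathlib.RingTheory.Ideal.GoingUp

/-! Universal homeomorphisms of affine schemes in terms of field valued points. -/

set_option autoImplicit false
universe u

open AlgebraicGeometry CategoryTheory

namespace Groth.Agent.H17.UnivHomeoAlg

variable (A B : Type u) [CommRing A] [CommRing B] [Algebra A B]

/-- A field valued point of `B` is determined by its restriction to `A`. -/
def Uq : Prop := ∀ (L : Type u) [Field L] (ψ ψ' : B →+* L),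
  ψ.comp (algebraMap A B) = ψ'.comp (algebraMap A B) → ψ = ψ'

/-- A field valued point of `B` takes values in the field generated by the values on `A`. -/
def Rg : Prop := ∀ (L : Type u) [Field L] (ψ : B →+* L) (F : Subfield L),
  (∀ a, ψ (algebraMap A B a) ∈ F) → ∀ b, ψ b ∈ F

/-- Geometric points lift. -/
def Lf : Prop := ∀ (K : Type u) [Field K] [IsAlgClosed K] (φ : A →+* K),
  ∃ ψ : B →+* K, ψ.comp (algebraMap A B) = φ

variable {A B}

theorem lf_of_integral [Algebra.IsIntegral A B]
    (hker : ∀ a, algebraMap A B a = 0 → IsNilpotent a) : Lf A B := by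
  intro K _ _ φ
  let p := RingHom.ker φ
  have hp : p.IsPrime := RingHom.ker_isPrime φ
  obtain ⟨q, -, hq, hqp⟩ := Ideal.exists_ideal_over_prime_of_isIntegral (R := A) (S := B) p ⊥ (fun a ha => by
    obtain ⟨n, hn⟩ := hker a ha
    exact hp.mem_of_pow_mem n (hn ▸ p.zero_mem))
  let A' := A ⧸ p
  let φ' : A' →+* K := Ideal.Quotient.lift p φ (fun a ha => ha)
  have hφ' : Function.Injective φ' := RingHom.lift_injective_of_ker_le_ideal p (fun a ha => ha) le_rfl
  let f : A' →+* B ⧸ q := Ideal.quotientMap q (algebraMap A B) hqp.ge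
  have hf : Function.Injective f := Ideal.quotientMap_injective' hqp.le
  let := f.toAlgebra
  let := φ'.toAlgebra
  have : FaithfulSMul A' (B ⧸ q) := (faithfulSMul_iff_algebraMap_injective _ _).mpr hf
  have : Module.IsTorsionFree A' K := Module.isTorsionFree_iff_algebraMap_injective.mpr hφ'
  have : Module.IsTorsionFree A' (B ⧸ q) := Module.isTorsionFree_iff_algebraMap_injective.mpr hf
  have : Algebra.IsIntegral A' (B ⧸ q) := ⟨fun x => by
    obtain ⟨b, rfl⟩ := Ideal.Quotient.mk_surjective x
    obtain ⟨P, hP, hP0⟩ := Algebra.IsIntegral.isIntegral (R := A) b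
    refine ⟨P.map (Ideal.Quotient.mk p), hP.map _, ?_⟩
    rw [Polynomial.eval₂_map, show (algebraMap A' (B ⧸ q)).comp (Ideal.Quotient.mk p) =
      (Ideal.Quotient.mk q).comp (algebraMap A B) from rfl, ← Polynomial.hom_eval₂, hP0, map_zero]⟩
  let g : B ⧸ q →ₐ[A'] K := IsAlgClosed.lift
  refine ⟨g.toRingHom.comp (Ideal.Quotient.mk q), RingHom.ext fun a => ?_⟩
  exact g.commutes (Ideal.Quotient.mk p a)

theorem uq_of_universallyInjective
    (h : UniversallyInjective (Spec.map (CommRingCat.ofHom (algebraMap A B)))) : Uq A B := by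
  intro L _ ψ ψ' hψ
  have hall : ∀ (K : Type u) [Field K], Function.Injective
      (fun g : Spec (CommRingCat.of K) ⟶ Spec (CommRingCat.of B) => g ≫ Spec.map (CommRingCat.ofHom (algebraMap A B))) :=
    ((tfae_universallyInjective (Spec.map (CommRingCat.ofHom (algebraMap A B)))).out 0 1).1 h
  have hi := hall L
  have : Spec.map (CommRingCat.ofHom ψ) = Spec.map (CommRingCat.ofHom ψ') := hi (by
    show Spec.map _ ≫ _ = Spec.map _ ≫ _
    rw [← Spec.map_comp, ← Spec.map_comp, ← CommRingCat.ofHom_comp, ← CommRingCat.ofHom_comp, hψ])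
  exact congr(($(Spec.map_injective this)).hom)

theorem universallyInjective_of_uq (hu : Uq A B) :
    UniversallyInjective (Spec.map (CommRingCat.ofHom (algebraMap A B))) := by
  refine ((tfae_universallyInjective _).out 0 1).2 fun K hK a b hab => ?_
  obtain ⟨a, rfl⟩ := Spec.map_surjective a
  obtain ⟨b, rfl⟩ := Spec.map_surjective b
  have hab' : CommRingCat.ofHom (algebraMap A B) ≫ a = CommRingCat.ofHom (algebraMap A B) ≫ b := by
    apply Spec.map_injective
    rw [Spec.map_comp, Spec.map_comp]; exact hab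
  rw [CommRingCat.hom_ext (@hu K hK a.hom b.hom congr(($hab').hom))]

theorem universallyClosed_iff :
    UniversallyClosed (Spec.map (CommRingCat.ofHom (algebraMap A B))) ↔ Algebra.IsIntegral A B := by
  rw [← algebraMap_isIntegral_iff (R := A) (A := B)]
  constructor
  · intro h
    exact IsIntegralHom.SpecMap_iff.mp (IsIntegralHom.iff_universallyClosed_and_isAffineHom.mpr ⟨h, inferInstance⟩)
  · intro h
    have : IsIntegralHom (Spec.map (CommRingCat.ofHom (algebraMap A B))) := IsIntegralHom.SpecMap_iff.mpr h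
    infer_instance

theorem isUnivHomeo_iff :
    FlatMor.IsUnivHomeo (Spec.map (CommRingCat.ofHom (algebraMap A B))) ↔
      Algebra.IsIntegral A B ∧ Uq A B ∧ Lf A B := by
  refine ⟨fun h => ?_, fun ⟨hi, hu, hl⟩ => FieldPoints.isUnivHomeo_of_points A B hu hl⟩
  obtain ⟨h1, h2, h3⟩ := (Groth.Agent.H7Flat.isUnivHomeo_iff _).mp h
  have hi : Algebra.IsIntegral A B := algebraMap_isIntegral_iff.mp (IsIntegralHom.SpecMap_iff.mp h1)
  refine ⟨hi, uq_of_universallyInjective h2, lf_of_integral fun a ha => ?_⟩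
  rw [← mem_nilradical, nilradical_eq_sInf, Submodule.mem_sInf]
  intro p hp
  obtain ⟨x, hx⟩ := h3.surj (⟨p, hp⟩ : PrimeSpectrum A)
  have : x.asIdeal.comap (algebraMap A B) = p := congr(PrimeSpectrum.asIdeal $hx)
  rw [← this, Ideal.mem_comap, ha]
  exact zero_mem _

/-- The evaluation of global functions in a residue field. -/
noncomputable def ev (R : Type u) [CommRing R] (x : Spec (CommRingCat.of R)) :
    R →+* (Spec (CommRingCat.of R)).residueField x :=
  ((Scheme.ΓSpecIso (CommRingCat.of R)).inv ≫ (Spec (CommRingCat.of R)).Γevaluation x).hom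

theorem exists_div (R : Type u) [CommRing R] (x : Spec (CommRingCat.of R))
    (z : (Spec (CommRingCat.of R)).residueField x) : ∃ a b, z = ev R x a / ev R x b := by
  let i := Scheme.Spec.residueFieldIso (CommRingCat.of R) x
  have hev : ∀ b, ev R x b = i.inv (algebraMap R x.asIdeal.ResidueField b) := fun b =>
    (congr($(Scheme.Spec.algebraMap_residueFieldIso_inv (CommRingCat.of R) x) b)).symm
  obtain ⟨a, b, -, hab⟩ := IsFractionRing.div_surjective (R ⧸ x.asIdeal) (i.hom z)
  obtain ⟨a, rfl⟩ := Ideal.Quotient.mk_surjective a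
  obtain ⟨b, rfl⟩ := Ideal.Quotient.mk_surjective b
  refine ⟨a, b, ?_⟩
  rw [hev, hev]
  exact (((map_div₀ i.inv.hom _ _).symm.trans (congrArg i.inv hab)).trans
    (i.commRingCatIsoToRingEquiv.symm_apply_apply z)).symm

theorem residueFieldMap_ev (x : Spec (CommRingCat.of B)) (a : A) :
    (Spec.map (CommRingCat.ofHom (algebraMap A B))).residueFieldMap x
      (ev A ((Spec.map (CommRingCat.ofHom (algebraMap A B))) x) a) = ev B x (algebraMap A B a) := by
  show (Spec.map (CommRingCat.ofHom (algebraMap A B))).residueFieldMap x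
      ((Spec (CommRingCat.of A)).Γevaluation _ _) =
    (Spec (CommRingCat.of B)).Γevaluation x ((Scheme.ΓSpecIso (CommRingCat.of B)).inv (algebraMap A B a))
  rw [Scheme.Γevaluation_naturality_apply]
  congr 1
  exact congr($((Scheme.ΓSpecIso_inv_naturality (CommRingCat.ofHom (algebraMap A B))).symm) a)

theorem rg_iff :
    (∀ x : Spec (CommRingCat.of B),
      Function.Surjective ((Spec.map (CommRingCat.ofHom (algebraMap A B))).residueFieldMap x)) ↔ Rg A B := by
  constructor
  · intro h L _ ψ F hF b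
    let q : Ideal B := RingHom.ker ψ
    have hq : q.IsPrime := RingHom.ker_isPrime ψ
    let x : Spec (CommRingCat.of B) := (⟨q, hq⟩ : PrimeSpectrum B)
    let χ : q.ResidueField →+* L := Ideal.ResidueField.lift q ψ le_rfl
      (fun s hs => IsUnit.mk0 _ (fun h0 => hs h0))
    let i := Scheme.Spec.residueFieldIso (CommRingCat.of B) x
    let Ψ : (Spec (CommRingCat.of B)).residueField x →+* L := χ.comp i.hom.hom
    have hev : ∀ c, Ψ (ev B x c) = ψ c := fun c => by
      have h1 : ev B x c = i.inv (algebraMap B q.ResidueField c) :=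
        (congr($(Scheme.Spec.algebraMap_residueFieldIso_inv (CommRingCat.of B) x) c)).symm
      show χ (i.hom (ev B x c)) = ψ c
      rw [h1]
      refine (congrArg χ (i.commRingCatIsoToRingEquiv.apply_symm_apply _)).trans ?_
      exact Ideal.ResidueField.lift_algebraMap ..
    obtain ⟨w, hw⟩ := h x (ev B x b)
    obtain ⟨a, a', rfl⟩ := exists_div A _ w
    rw [← hev, ← hw, map_div₀, residueFieldMap_ev, residueFieldMap_ev, map_div₀, hev, hev]
    exact div_mem (hF a) (hF a')
  · intro h x z
    let rfm := ((Spec.map (CommRingCat.ofHom (algebraMap A B))).residueFieldMap x).hom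
    have key : ∀ b, ev B x b ∈ rfm.fieldRange := fun b =>
      h _ (ev B x) rfm.fieldRange (fun a => ⟨_, residueFieldMap_ev x a⟩) b
    obtain ⟨a, b, rfl⟩ := exists_div B x z
    exact div_mem (key a) (key b)

theorem mem_closure_range_iff {L : Type u} [Field L] (φ : A →+* L) (x : L) :
    x ∈ Subfield.closure (Set.range φ) ↔ ∃ a s, x = φ a / φ s := by
  rw [Subfield.mem_closure_iff, ← RingHom.coe_range, Subring.closure_eq]
  constructor
  · rintro ⟨_, ⟨a, rfl⟩, _, ⟨s, rfl⟩, rfl⟩; exact ⟨a, s, rfl⟩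
  · rintro ⟨a, s, rfl⟩; exact ⟨_, ⟨a, rfl⟩, _, ⟨s, rfl⟩, rfl⟩

section Sub

variable (B' : Subalgebra A B)

theorem uq_subalgebra [Algebra.IsIntegral A B] (hu : Uq A B) : Uq A B' := by
  intro L _ ψ ψ' h
  have : Algebra.IsIntegral B' B := Algebra.IsIntegral.tower_top (R := A)
  have hl : Lf B' B := lf_of_integral fun a ha => ⟨1, by rw [pow_one]; exact Subtype.ext ha⟩
  let j := algebraMap L (AlgebraicClosure L)
  obtain ⟨χ, hχ⟩ := hl _ (j.comp ψ)
  obtain ⟨χ', hχ'⟩ := hl _ (j.comp ψ')
  have : χ = χ' := hu _ _ _ (RingHom.ext fun a => by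
    refine (congr($hχ (algebraMap A B' a))).trans (Eq.trans ?_ (congr($hχ' (algebraMap A B' a))).symm)
    exact congrArg j congr($h a))
  refine RingHom.ext fun b => j.injective ?_
  exact (congr($hχ b)).symm.trans ((congr($this (b : B))).trans congr($hχ' b))

theorem rg_subalgebra [Algebra.IsIntegral A B] (hr : Rg A B) : Rg A B' := by
  intro L _ ψ F hF b
  have : Algebra.IsIntegral B' B := Algebra.IsIntegral.tower_top (R := A)
  have hl : Lf B' B := lf_of_integral fun a ha => ⟨1, by rw [pow_one]; exact Subtype.ext ha⟩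
  let j := algebraMap L (AlgebraicClosure L)
  obtain ⟨χ, hχ⟩ := hl _ (j.comp ψ)
  have h1 : χ b ∈ F.map j := hr _ χ _ (fun a => by
    rw [show χ (algebraMap A B a) = j (ψ (algebraMap A B' a)) from congr($hχ (algebraMap A B' a))]
    exact Subfield.mem_map.mpr ⟨_, hF a, rfl⟩) b
  rw [show χ (b : B) = j (ψ b) from congr($hχ b)] at h1
  obtain ⟨y, hy, hy'⟩ := h1
  rwa [← j.injective hy']

theorem lf_subalgebra (hl : Lf A B) : Lf A B' := fun K _ _ φ => by
  obtain ⟨ψ, hψ⟩ := hl K φ
  exact ⟨ψ.comp B'.val.toRingHom, hψ⟩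

theorem uq_top (hu : Uq A B) : Uq B' B := fun L _ ψ ψ' h =>
  hu L ψ ψ' (RingHom.ext fun a => congr($h (algebraMap A B' a)))

theorem rg_top (hr : Rg A B) : Rg B' B := fun L _ ψ F hF =>
  hr L ψ F (fun a => hF (algebraMap A B' a))

end Sub

/-- The residue field extensions are purely inseparable. -/
theorem exists_pow_mem [Algebra.IsIntegral A B] (hu : Uq A B) {L : Type u} [Field L] (ψ : B →+* L) (b : B) :
    ∃ q n : ℕ, ExpChar L q ∧ ψ b ^ q ^ n ∈ Subfield.closure (Set.range (ψ.comp (algebraMap A B))) := by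
  let F := Subfield.closure (Set.range (ψ.comp (algebraMap A B)))
  let ιA : A →+* F := (ψ.comp (algebraMap A B)).codRestrict F fun a => Subfield.subset_closure ⟨a, rfl⟩
  let E := IntermediateField.adjoin F (Set.range ψ)
  have hint : ∀ c, IsIntegral F (ψ c) := fun c => by
    obtain ⟨P, hP, hP0⟩ := Algebra.IsIntegral.isIntegral (R := A) c
    refine ⟨P.map ιA, hP.map _, ?_⟩
    rw [Polynomial.eval₂_map, show (algebraMap F L).comp ιA = ψ.comp (algebraMap A B) from rfl,
      ← Polynomial.hom_eval₂, hP0, map_zero]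
  have : Algebra.IsAlgebraic F E := IntermediateField.isAlgebraic_adjoin (by rintro _ ⟨c, rfl⟩; exact hint c)
  let ψE : B →+* E := ψ.codRestrict E fun c => IntermediateField.subset_adjoin F _ ⟨c, rfl⟩
  have : IsPurelyInseparable F E := by
    rw [isPurelyInseparable_iff_subsingleton_emb]
    refine ⟨fun σ τ => IntermediateField.algHom_ext_of_eq_adjoin _ rfl fun x hx => ?_⟩
    obtain ⟨c, rfl⟩ := hx
    have h0 : σ.toRingHom.comp ψE = τ.toRingHom.comp ψE := hu _ _ _ (RingHom.ext fun a => by
      exact (σ.commutes (ιA a)).trans (τ.commutes (ιA a)).symm)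
    exact congr($h0 c)
  have hq : ExpChar F (ringExpChar F) := ringExpChar.expChar F
  obtain ⟨n, y, hy⟩ := IsPurelyInseparable.pow_mem F (ringExpChar F) (ψE b)
  exact ⟨_, n, expChar_of_injective_ringHom F.subtype.injective (ringExpChar F), by
    have : ψ b ^ ringExpChar F ^ n = (y : L) := congr(($hy : L)).symm
    rw [this]; exact y.2⟩

end Groth.Agent.H17.UnivHomeoAlg
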