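import Groth.Prelude.Def_QCohCat
import Groth.Prelude.Def_CohB1
import Groth.Agent.H10Coh.QcqsPush
import Groth.Agent.H17.PushColim
import Mathlib

/-!
# Restriction of quasi-coherent modules to a retrocompact open is a localisation
-/

set_option autoImplicit false
set_option linter.style.haveILetI false

noncomputable section

universe u

open CategoryTheory CategoryTheory.Limits AlgebraicGeometry TopologicalSpace Opposite

namespace Groth.Agent.H17.QCohLoc

variable {X : Scheme.{u}} (U : X.Opens) [QuasiCompact U.ι]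

/-- Restriction of quasi-coherent modules. -/
abbrev resQ : QCohCat.QCoh X ⥤ QCohCat.QCoh U.toScheme :=
  ObjectProperty.lift (QCohCat.isQCoh (↑U : Scheme.{u}))
        (ObjectProperty.ι (QCohCat.isQCoh X) ⋙ Scheme.Modules.restrictFunctor U.ι)
        (fun M => @Scheme.Modules.isQuasicoherent_restrictFunctor (↑U : Scheme.{u}) X U.ι
          inferInstance M.obj M.property)

/-- Direct image of quasi-coherent modules. -/
def pushQ : QCohCat.QCoh U.toScheme ⥤ QCohCat.QCoh X :=
  ObjectProperty.lift (QCohCat.isQCoh X)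
    (ObjectProperty.ι (QCohCat.isQCoh U.toScheme) ⋙ Scheme.Modules.pushforward U.ι)
    (fun M => @H10Coh.isQuasicoherent_pushforward _ _ U.ι inferInstance inferInstance M.obj M.property)

/-- The adjunction. -/
def adjQ : resQ U ⊣ pushQ U :=
  (Scheme.Modules.restrictAdjunction U.ι).restrictFullyFaithful
    (ObjectProperty.fullyFaithfulι _) (ObjectProperty.fullyFaithfulι _) (Iso.refl _) (Iso.refl _)

instance full_pushQ : (pushQ U).Full := by unfold pushQ; infer_instance
instance faithful_pushQ : (pushQ U).Faithful := by unfold pushQ; infer_instance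

omit [QuasiCompact U.ι] in
theorem isZero_restrict_iff (M : X.Modules) :
    IsZero ((Scheme.Modules.restrictFunctor U.ι).obj M) ↔ CohB1.support M ⊆ (↑U : Set X)ᶜ := by
  have key : ∀ x : U.toScheme, Subsingleton (((Scheme.Modules.restrictFunctor U.ι).obj M).presheaf.stalk x) ↔
      Subsingleton (M.presheaf.stalk (U.ι x)) := fun x =>
    (Scheme.Modules.restrictStalkNatIso U.ι x |>.app M).addCommGroupIsoToAddEquiv.toEquiv.subsingleton_congr
  constructor
  · intro h x hx hxU
    refine hx ?_
    have := (key ⟨x, hxU⟩).1 (AddCommGrpCat.subsingleton_of_isZero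
      ((PushColim.stalkAb (X := U.toScheme) ⟨x, hxU⟩).map_isZero h))
    exact this
  · intro h
    refine (IsZero.iff_id_eq_zero _).2 (Scheme.Modules.hom_ext _ _ fun V => ?_)
    ext s
    refine TopCat.Presheaf.section_ext
      (⟨_, ((Scheme.Modules.restrictFunctor U.ι).obj M).isSheaf⟩ : TopCat.Sheaf Ab U.toScheme) V _ _ fun y _ => ?_
    haveI := (key y).2 (not_not.1 fun hc => h hc y.2)
    exact Subsingleton.elim _ _

omit [QuasiCompact U.ι] in
theorem isIso_restrict_iff {A B : X.Modules} (f : A ⟶ B) :
    IsIso ((Scheme.Modules.restrictFunctor U.ι).map f) ↔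
      CohB1.support (kernel f) ⊆ (↑U : Set X)ᶜ ∧ CohB1.support (cokernel f) ⊆ (↑U : Set X)ᶜ := by
  rw [← isZero_restrict_iff, ← isZero_restrict_iff,
    (PreservesKernel.iso (Scheme.Modules.restrictFunctor U.ι) f).isZero_iff,
    (PreservesCokernel.iso (Scheme.Modules.restrictFunctor U.ι) f).isZero_iff]
  constructor
  · intro h
    exact ⟨isZero_kernel_of_mono _, isZero_cokernel_of_epi _⟩
  · rintro ⟨h₁, h₂⟩
    haveI := Preadditive.mono_of_isZero_kernel _ h₁
    haveI := Preadditive.epi_of_isZero_cokernel _ h₂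
    exact isIso_of_mono_of_epi _

theorem isLocalization : (resQ U).IsLocalization
    (fun (A B : QCohCat.QCoh X) (f : A ⟶ B) =>
      CohB1.support (kernel f.hom) ⊆ (↑U : Set X)ᶜ ∧ CohB1.support (cokernel f.hom) ⊆ (↑U : Set X)ᶜ) := by
  convert (adjQ U).isLocalization using 1
  funext A B f
  refine propext ((isIso_restrict_iff U f.hom).symm.trans ⟨fun h => ?_, fun h => ?_⟩)
  · haveI : IsIso ((ObjectProperty.ι (QCohCat.isQCoh U.toScheme)).map ((resQ U).map f)) := h
    exact isIso_of_fully_faithful (ObjectProperty.ι (QCohCat.isQCoh U.toScheme)) _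
  · haveI : IsIso ((resQ U).map f) := h
    exact (inferInstance : IsIso ((ObjectProperty.ι (QCohCat.isQCoh U.toScheme)).map ((resQ U).map f)))

end Groth.Agent.H17.QCohLoc
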