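import Groth.Agent.H11Ample.QuasiAffine
import Mathlib

/-!
# Sections of invertible modules on quasi-affine schemes
-/

set_option autoImplicit false
set_option linter.style.haveILetI false

noncomputable section

universe u

open CategoryTheory CategoryTheory.Limits AlgebraicGeometry Opposite TopologicalSpace
open Groth.Agent.H11Tilde Groth.Agent.H11Ample

namespace Groth.Agent.H17.QAffGen

variable {X : Scheme.{u}} {L : X.Modules}

theorem mem_basicOpen_iff (f : Γ(X, ⊤)) (y : X) :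
    y ∈ X.basicOpen f ↔ f ∉ (X.toSpecΓ y).asIdeal := by
  rw [← Scheme.toSpecΓ_preimage_basicOpen]
  rfl

variable [X.IsQuasiAffine]

theorem exists_basicOpen_finite {U : X.Opens} {E : Finset X} (hE : ∀ e ∈ E, e ∈ U) :
    ∃ f : Γ(X, ⊤), IsAffineOpen (X.basicOpen f) ∧ X.basicOpen f ≤ U ∧ ∀ e ∈ E, e ∈ X.basicOpen f := by
  classical
  let V := X.toSpecΓ ''ᵁ U
  obtain ⟨I, hI⟩ := (PrimeSpectrum.isClosed_iff_zeroLocus_ideal _).mp V.2.isClosed_compl
  obtain ⟨f, hfI, hf⟩ : ∃ f ∈ I, ∀ e ∈ E, f ∉ (X.toSpecΓ e).asIdeal := by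
    by_contra! hcon
    have hsub : (I : Set Γ(X, ⊤)) ⊆ ⋃ e ∈ (E : Set X), ((X.toSpecΓ e).asIdeal : Set Γ(X, ⊤)) := fun a ha => by
      obtain ⟨e, he, hae⟩ := hcon a ha
      exact Set.mem_biUnion he hae
    rcases E.eq_empty_or_nonempty with rfl | ⟨e₀, he₀⟩
    · obtain ⟨e, he, -⟩ := hcon 0 I.zero_mem
      exact absurd he (Finset.notMem_empty e)
    obtain ⟨e, he, hle⟩ := (Ideal.subset_union_prime e₀ e₀ fun e _ _ _ => (X.toSpecΓ e).isPrime).mp hsub
    exact (hI.ge (show (X.toSpecΓ e) ∈ PrimeSpectrum.zeroLocus (I : Set Γ(X, ⊤)) from hle)) ⟨e, hE e he, rfl⟩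
  have hle : (PrimeSpectrum.basicOpen f : Set (PrimeSpectrum Γ(X, ⊤))) ⊆ SetLike.coe V := fun p hp => by
    by_contra hn
    exact hp ((hI.le hn) hfI)
  refine ⟨f, ?_, fun y hy => ?_, fun e he => (mem_basicOpen_iff f e).mpr (hf e he)⟩
  · rw [← Scheme.toSpecΓ_preimage_basicOpen, ← Scheme.Hom.isAffineOpen_iff_of_isOpenImmersion X.toSpecΓ]
    convert! IsAffineOpen.Spec_basicOpen f
    exact SetLike.coe_injective (Set.image_preimage_eq_of_subset
      (hle.trans (Set.image_subset_range _ _)))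
  · obtain ⟨z, hz, he⟩ := hle ((mem_basicOpen_iff f y).mp hy)
    rwa [← X.toSpecΓ.isEmbedding.injective he]

theorem exists_gen_eq_basicOpen [L.IsQuasicoherent] (hL : PicF.IsInvertible L) {V : X.Opens} {e : Γ(L, V)}
    (he : IsGen L e) (f : Γ(X, ⊤)) (hfV : X.basicOpen f ≤ V) :
    ∃ s : Γ(L, ⊤), gen L s = X.basicOpen f := by
  let D := X.basicOpen f
  have heD : IsGen L (L.presheaf.map (homOfLE (show D ≤ V from hfV)).op e) := he.res _
  obtain ⟨n, t, ht⟩ := H10Coh.exists_pow_smul_eq_res_of_isCompact L (W := ⊤) isCompact_univ f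
    (L.presheaf.map (homOfLE (show D ≤ V from hfV)).op e)
  refine ⟨f • t, le_antisymm (fun y hy => ?_) fun y hy => ?_⟩
  · obtain ⟨W, e', hyW, he'⟩ := exists_gen hL y
    obtain ⟨c, hc⟩ := exists_coeff he' (L.presheaf.map (homOfLE (le_top : W ≤ ⊤)).op t)
    have h2 : L.presheaf.map (homOfLE (le_top : W ≤ ⊤)).op (f • t) =
        (X.presheaf.map (homOfLE (le_top : W ≤ ⊤)).op f * c) • e' := by
      rw [Scheme.Modules.map_smul, hc, mul_smul]
    have h3 := (gen_inf_eq_basicOpen he' (f • t) _ h2).le ⟨hy, hyW⟩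
    rw [Scheme.basicOpen_mul, Scheme.basicOpen_res] at h3
    exact h3.1.2
  · have h2 : L.presheaf.map (homOfLE (le_top : D ≤ ⊤)).op (f • t) =
        (X.presheaf.map (homOfLE (le_top : D ≤ ⊤)).op f * X.presheaf.map (homOfLE (le_top : D ≤ ⊤)).op (f ^ n)) •
          L.presheaf.map (homOfLE (show D ≤ V from hfV)).op e := by
      rw [Scheme.Modules.map_smul, ht, mul_smul]
    have hu : IsUnit (X.presheaf.map (homOfLE (le_top : D ≤ ⊤)).op f) :=
      X.toRingedSpace.isUnit_res_basicOpen f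
    refine ((gen_inf_eq_basicOpen heD (f • t) _ h2).ge ?_).1
    rw [Scheme.basicOpen_of_isUnit X (hu.mul (by rw [map_pow]; exact hu.pow n))]
    exact hy

omit [X.IsQuasiAffine] in
theorem mem_gen_add (hL : PicF.IsInvertible L) (t t' : Γ(L, ⊤)) (a : Γ(X, ⊤)) (y : X) :
    (y ∈ gen L t → y ∉ X.basicOpen a → y ∈ gen L (t + a • t')) ∧
      (y ∉ gen L t → y ∈ X.basicOpen a → y ∈ gen L t' → y ∈ gen L (t + a • t')) := by
  obtain ⟨V, e, hyV, he⟩ := exists_gen hL y
  obtain ⟨c, hc⟩ := exists_coeff he (L.presheaf.map (homOfLE (le_top : V ≤ ⊤)).op t)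
  obtain ⟨c', hc'⟩ := exists_coeff he (L.presheaf.map (homOfLE (le_top : V ≤ ⊤)).op t')
  let aV := X.presheaf.map (homOfLE (le_top : V ≤ ⊤)).op a
  have hsum : L.presheaf.map (homOfLE (le_top : V ≤ ⊤)).op (t + a • t') = (c + aV * c') • e := by
    rw [map_add, Scheme.Modules.map_smul, hc, hc', add_smul, mul_smul]
  have hgen : ∀ (s : Γ(L, ⊤)) (d : Γ(X, V)), L.presheaf.map (homOfLE (le_top : V ≤ ⊤)).op s = d • e →
      (y ∈ gen L s ↔ IsUnit (X.presheaf.germ V y hyV d)) := fun s d hd => by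
    rw [← X.mem_basicOpen d y hyV, ← gen_inf_eq_basicOpen he s d hd]
    exact ⟨fun h => ⟨h, hyV⟩, fun h => h.1⟩
  have ha : y ∈ X.basicOpen a ↔ IsUnit (X.presheaf.germ V y hyV aV) := by
    rw [← X.mem_basicOpen aV y hyV, Scheme.basicOpen_res]
    exact ⟨fun h => ⟨hyV, h⟩, fun h => h.2⟩
  rw [hgen _ _ hc, hgen _ _ hc', hgen _ _ hsum, ha, map_add, map_mul]
  constructor
  · intro h1 h2
    by_contra h
    have hm : ∀ {z : X.presheaf.stalk y}, ¬ IsUnit z → z ∈ IsLocalRing.maximalIdeal _ :=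
      fun hz => hz
    have := Ideal.sub_mem _ (hm h) (Ideal.mul_mem_right (X.presheaf.germ V y hyV c') _ (hm h2))
    rw [add_sub_cancel_right] at this
    exact this h1
  · intro h1 h2 h3
    by_contra h
    have hm : ∀ {z : X.presheaf.stalk y}, ¬ IsUnit z → z ∈ IsLocalRing.maximalIdeal _ :=
      fun hz => hz
    have := Ideal.sub_mem _ (hm h) (hm h1)
    rw [add_sub_cancel_left] at this
    exact this (h2.mul h3)

theorem exists_gen_finite (hL : PicF.IsInvertible L) :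
    ∀ E : Finset X, ∃ t : Γ(L, ⊤), ∀ e ∈ E, e ∈ gen L t := by
  classical
  haveI : L.IsQuasicoherent := H28Mero.isQCoh_of_isInvertible hL
  have hone : ∀ e : X, ∃ t : Γ(L, ⊤), e ∈ gen L t := fun e => by
    obtain ⟨V, g, hxV, hg⟩ := exists_gen hL e
    obtain ⟨_, ⟨_, ⟨f, hf, rfl⟩, rfl⟩, hxf, hfV⟩ :=
      (Scheme.IsQuasiAffine.isBasis_basicOpen X).exists_subset_of_mem_open (show e ∈ (V : Set X) from hxV) V.isOpen
    obtain ⟨s, hs⟩ := exists_gen_eq_basicOpen hL hg f hfV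
    exact ⟨s, hs ▸ hxf⟩
  intro E
  induction hn : E.card using Nat.strong_induction_on generalizing E with
  | _ n ih =>
  rcases E.eq_empty_or_nonempty with rfl | hne
  · exact ⟨0, fun e he => absurd he (Finset.notMem_empty e)⟩
  obtain ⟨e, he, hmin⟩ := E.exists_minimalFor (fun y => (X.toSpecΓ y).asIdeal) hne
  obtain ⟨t, ht⟩ := ih (E.erase e).card (hn ▸ Finset.card_erase_lt_of_mem he) (E.erase e) rfl
  by_cases hte : e ∈ gen L t
  · exact ⟨t, fun s hs => if h : s = e then h ▸ hte else ht s (Finset.mem_erase.mpr ⟨h, hs⟩)⟩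
  obtain ⟨t', ht'⟩ := hone e
  have hsep : ∀ s ∈ E.erase e, ∃ a, a ∈ (X.toSpecΓ s).asIdeal ∧ a ∉ (X.toSpecΓ e).asIdeal := fun s hs => by
    rw [← SetLike.not_le_iff_exists]
    intro hle
    have := hmin (Finset.mem_of_mem_erase hs) hle
    exact Finset.ne_of_mem_erase hs
      (X.toSpecΓ.isEmbedding.injective (PrimeSpectrum.ext (le_antisymm hle this)))
  choose! a ha1 ha2 using hsep
  let A := ∏ s ∈ E.erase e, a s
  have hA : ∀ s ∈ E.erase e, s ∉ X.basicOpen A := fun s hs => by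
    rw [mem_basicOpen_iff, not_not]
    exact Ideal.prod_mem (f := a) (I := (X.toSpecΓ s).asIdeal) hs (ha1 s hs)
  have hAe : e ∈ X.basicOpen A := by
    rw [mem_basicOpen_iff]
    intro h
    obtain ⟨s, hs, hs'⟩ := (X.toSpecΓ e).isPrime.prod_mem_iff.mp h
    exact ha2 s hs hs'
  refine ⟨t + A • t', fun s hs => ?_⟩
  by_cases h : s = e
  · subst h
    exact (mem_gen_add hL t t' A s).2 hte hAe ht'
  · have hs' := Finset.mem_erase.mpr ⟨h, hs⟩
    exact (mem_gen_add hL t t' A s).1 (ht s hs') (hA s hs')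

theorem exists_affine_gen (hL : PicF.IsInvertible L) (W : X.Opens) (E : Finset X) (hEW : ∀ e ∈ E, e ∈ W) :
    ∃ s : Γ(L, ⊤), IsAffineOpen (gen L s) ∧ (∀ e ∈ E, e ∈ gen L s) ∧ gen L s ≤ W := by
  haveI : L.IsQuasicoherent := H28Mero.isQCoh_of_isInvertible hL
  obtain ⟨t, ht⟩ := exists_gen_finite hL E
  obtain ⟨f, hf, hfU, hfE⟩ := exists_basicOpen_finite (U := W ⊓ gen L t) (E := E)
    fun e he => ⟨hEW e he, ht e he⟩
  obtain ⟨s, hs⟩ := exists_gen_eq_basicOpen hL (isGen_gen t) f (hfU.trans inf_le_right)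
  exact ⟨s, hs ▸ hf, fun e he => hs ▸ hfE e he, hs ▸ hfU.trans inf_le_left⟩

end Groth.Agent.H17.QAffGen
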