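import Groth.Prelude.Def_RelSpec
import Groth.Agent.H11Proj.SubAlg
import Groth.Agent.H10Coh.FinType2
import Groth.Agent.H10Coh.HigherDirect
import Mathlib

/-!
# Quasi-coherent subalgebras of a quasi-coherent algebra generated by a quasi-coherent module
-/

set_option autoImplicit false
set_option linter.style.haveILetI false

noncomputable section

universe u

open CategoryTheory AlgebraicGeometry TopologicalSpace Opposite
open Groth.Agent.H11Proj

namespace Groth.Agent.H17.QCAlgSub

variable {X : Scheme.{u}} (B : RelSpec.QCAlg X)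

/-- Restriction in the algebra. -/
abbrev bres {U V : X.Opens} (i : V ≤ U) : B.presheaf.obj (op U) →+* B.presheaf.obj (op V) := resT B.presheaf i

/-- The structure map of the algebra. -/
abbrev bstr (U : X.Opens) : Γ(X, U) →+* B.presheaf.obj (op U) := strT B.str U

theorem bres_bstr {U V : X.Opens} (i : V ≤ U) (r : Γ(X, U)) :
    bres B i (bstr B U r) = bstr B V (X.presheaf.map (homOfLE i).op r) := resT_str B.presheaf B.str i r

theorem exists_pow_mul_eq_zero {U : X.Opens} (hU : IsAffineOpen U) (r : Γ(X, U)) (x : B.presheaf.obj (op U))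
    (hx : bres B (X.basicOpen_le r) x = 0) : ∃ m : ℕ, bstr B U r ^ m * x = 0 := by
  letI := (bres B (X.basicOpen_le r)).toAlgebra
  haveI : IsLocalization.Away (bstr B U r) (B.presheaf.obj (op (X.basicOpen r))) := B.isQC U hU r
  obtain ⟨⟨_, m, rfl⟩, hm⟩ := (IsLocalization.map_eq_zero_iff (Submonoid.powers (bstr B U r))
    (B.presheaf.obj (op (X.basicOpen r))) x).1 hx
  exact ⟨m, hm⟩

theorem exists_pow_mul_eq_res {U : X.Opens} (hU : IsAffineOpen U) (r : Γ(X, U))
    (z : B.presheaf.obj (op (X.basicOpen r))) : ∃ (m : ℕ) (q : B.presheaf.obj (op U)),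
      bres B (X.basicOpen_le r) q = bres B (X.basicOpen_le r) (bstr B U r) ^ m * z := by
  letI := (bres B (X.basicOpen_le r)).toAlgebra
  haveI : IsLocalization.Away (bstr B U r) (B.presheaf.obj (op (X.basicOpen r))) := B.isQC U hU r
  obtain ⟨⟨q, ⟨_, m, rfl⟩⟩, e⟩ := IsLocalization.surj (Submonoid.powers (bstr B U r)) z
  refine ⟨m, q, ?_⟩
  rw [← map_pow, mul_comm]
  exact e.symm

theorem smul_eq {U : X.Opens} (r : Γ(X, U)) (m : Γ(B.toModule, U)) :
    ((r • m : Γ(B.toModule, U)) : B.presheaf.obj (op U)) =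
      bstr B U r * (show B.presheaf.obj (op U) from m) := rfl

theorem isQCoh_toModule : Coh.IsQCoh B.toModule := by
  refine H10Coh.isQuasicoherent_of_localizing _ (fun W hW t s hs => ?_) fun W hW t s' => ?_
  · obtain ⟨n, hn⟩ := exists_pow_mul_eq_zero B hW t s hs
    refine ⟨n, (smul_eq B (t ^ n) s).trans ?_⟩
    rw [map_pow]
    exact hn
  · obtain ⟨n, q, hq⟩ := exists_pow_mul_eq_res B hW t s'
    refine ⟨n, (show Γ(B.toModule, W) from q), ?_⟩
    refine Eq.trans ?_ (smul_eq B _ s').symm
    rw [← bres_bstr, map_pow, map_pow]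
    exact hq

section genSub

variable {E : X.Modules} (j : E ⟶ B.toModule)

/-- A module map into the algebra, on an open. -/
def japp (U : X.Opens) : Γ(E, U) →+ B.presheaf.obj (op U) :=
  AddMonoidHom.mk' (fun e => (show B.presheaf.obj (op U) from j.app U e)) fun a b => map_add (j.app U).hom a b

theorem japp_smul (U : X.Opens) (r : Γ(X, U)) (e : Γ(E, U)) :
    japp B j U (r • e) = bstr B U r * japp B j U e :=
  (Scheme.Modules.Hom.app_smul j r e).trans (smul_eq B r _)

theorem japp_res {U V : X.Opens} (i : V ≤ U) (e : Γ(E, U)) :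
    bres B i (japp B j U e) = japp B j V (E.presheaf.map (homOfLE i).op e) :=
  (H10Coh.app_rs j i e).symm

/-- The subring generated by functions and the module. -/
def genSub (U : X.Opens) : Subring (B.presheaf.obj (op U)) :=
  Subring.closure (Set.range (bstr B U) ∪ Set.range (japp B j U))

theorem bstr_mem (U : X.Opens) (r : Γ(X, U)) : bstr B U r ∈ genSub B j U :=
  Subring.subset_closure (Or.inl ⟨r, rfl⟩)

theorem japp_mem (U : X.Opens) (e : Γ(E, U)) : japp B j U e ∈ genSub B j U :=
  Subring.subset_closure (Or.inr ⟨e, rfl⟩)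

theorem bres_mem {U V : X.Opens} (i : V ≤ U) {x : B.presheaf.obj (op U)} (hx : x ∈ genSub B j U) :
    bres B i x ∈ genSub B j V := by
  have h : genSub B j U ≤ (genSub B j V).comap (bres B i) := by
    refine Subring.closure_le.2 ?_
    rintro _ (⟨r, rfl⟩ | ⟨e, rfl⟩)
    · show bres B i (bstr B U r) ∈ genSub B j V
      rw [bres_bstr]
      exact bstr_mem B j V _
    · show bres B i (japp B j U e) ∈ genSub B j V
      rw [japp_res]
      exact japp_mem B j V _
  exact h hx

theorem exists_clear (hE : E.IsQuasicoherent) {U : X.Opens} (hU : IsAffineOpen U) (r : Γ(X, U))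
    {z : B.presheaf.obj (op (X.basicOpen r))} (hz : z ∈ genSub B j (X.basicOpen r)) :
    ∃ (m : ℕ) (q : B.presheaf.obj (op U)), q ∈ genSub B j U ∧
      bres B (X.basicOpen_le r) q = bres B (X.basicOpen_le r) (bstr B U r) ^ m * z := by
  have hpow : ∀ m, bstr B U r ^ m ∈ genSub B j U := fun m => pow_mem (bstr_mem B j U r) m
  induction hz using Subring.closure_induction with
  | mem z hz =>
    rcases hz with ⟨c, rfl⟩ | ⟨e, rfl⟩
    · letI := (X.presheaf.map (homOfLE (X.basicOpen_le r)).op).hom.toAlgebra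
      haveI := hU.isLocalization_basicOpen r
      obtain ⟨⟨a, ⟨_, m, rfl⟩⟩, ea⟩ := IsLocalization.surj (Submonoid.powers r) c
      refine ⟨m, bstr B U a, bstr_mem B j U a, ?_⟩
      rw [← map_pow, ← map_pow, bres_bstr, bres_bstr, ← map_mul, mul_comm]
      exact congrArg _ ea.symm
    · obtain ⟨n, s, hs⟩ := H10Coh.exists_pow_smul_eq_res E hU r e
      refine ⟨n, japp B j U s, japp_mem B j U s, ?_⟩
      rw [japp_res, hs, japp_smul, ← map_pow, ← map_pow, bres_bstr]
  | zero => exact ⟨0, 0, zero_mem _, by rw [map_zero, mul_zero]⟩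
  | one => exact ⟨0, 1, one_mem _, by rw [map_one, pow_zero, one_mul]⟩
  | add x y _ _ hx hy =>
    obtain ⟨m₁, q₁, h₁, e₁⟩ := hx
    obtain ⟨m₂, q₂, h₂, e₂⟩ := hy
    refine ⟨m₁ + m₂, bstr B U r ^ m₂ * q₁ + bstr B U r ^ m₁ * q₂,
      add_mem (mul_mem (hpow m₂) h₁) (mul_mem (hpow m₁) h₂), ?_⟩
    rw [map_add, map_mul, map_mul, e₁, e₂, map_pow, map_pow, pow_add]
    ring
  | neg x _ hx =>
    obtain ⟨m, q, h, e⟩ := hx
    exact ⟨m, -q, neg_mem h, by rw [map_neg, e, mul_neg]⟩
  | mul x y _ _ hx hy =>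
    obtain ⟨m₁, q₁, h₁, e₁⟩ := hx
    obtain ⟨m₂, q₂, h₂, e₂⟩ := hy
    refine ⟨m₁ + m₂, q₁ * q₂, mul_mem h₁ h₂, ?_⟩
    rw [map_mul, e₁, e₂, pow_add]
    ring

open scoped Classical in
/-- The compatible system of subrings. -/
def sys (hE : E.IsQuasicoherent) : SubSys B.presheaf B.str where
  R U _ := genSub B j U
  str_mem U _ r := bstr_mem B j U r
  res_mem _ _ i _ hx := bres_mem B j i hx
  clear U hU r z hz := exists_clear B j hE hU r hz
  killed U hU r x _ hx := exists_pow_mul_eq_zero B hU r x hx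
  G W d := if d = 0 then ⊤ else ⊥
  one_memG W := by simp
  mul_memG W i k a b ha hb := by
    rcases eq_or_ne i 0 with rfl | hi
    · rcases eq_or_ne k 0 with rfl | hk
      · simp
      · rw [if_neg hk, AddSubgroup.mem_bot] at hb
        rw [hb, mul_zero]
        exact zero_mem _
    · rw [if_neg hi, AddSubgroup.mem_bot] at ha
      rw [ha, zero_mul]
      exact zero_mem _
  res_G {U V} i d x hx := by
    rcases eq_or_ne d 0 with rfl | hd
    · simp
    · rw [if_neg hd, AddSubgroup.mem_bot] at hx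
      rw [hx, map_zero]
      exact zero_mem _
  str_G W r := by simp
  π W d := if d = 0 then AddMonoidHom.id _ else 0
  π_mem W d x := by
    rcases eq_or_ne d 0 with rfl | hd
    · simp
    · simp [hd]
  π_same W d x hx := by
    rcases eq_or_ne d 0 with rfl | hd
    · simp
    · rw [if_neg hd, AddSubgroup.mem_bot] at hx
      simp [hx]
  π_ne W d e h x hx := by
    rcases eq_or_ne d 0 with rfl | hd
    · rw [if_neg h.symm, AddSubgroup.mem_bot] at hx
      simp [hx]
    · simp [hd]
  π_R U _ d x hx := by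
    rcases eq_or_ne d 0 with rfl | hd
    · simpa using hx
    · simp [hd]
  π_fin U _ x _ := ⟨{0}, by simp⟩

variable (hE : E.IsQuasicoherent)

/-- The quasi-coherent subalgebra generated by the module. -/
def subAlg : RelSpec.QCAlg X := (sys B j hE).qcAlg B.isSheaf

/-- The inclusion of the subalgebra. -/
def subAlgHom : subAlg B j hE ⟶ B where
  hom :=
    { app := fun U => CommRingCat.ofHom ((sys B j hE).sub U.unop).subtype
      naturality := fun _ _ _ => rfl }
  comm := rfl

theorem subAlgHom_injective (U : X.Opens) : Function.Injective ((subAlgHom B j hE).hom.app (op U)).hom :=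
  fun _ _ h => Subtype.ext h

theorem mem_range_subAlgHom {U : X.Opens} (hU : IsAffineOpen U) {x : B.presheaf.obj (op U)}
    (hx : x ∈ genSub B j U) : x ∈ Set.range ((subAlgHom B j hE).hom.app (op U)).hom :=
  ⟨⟨x, (sys B j hE).mem_sub_of_mem hU hx⟩, rfl⟩

theorem finiteType_subAlg (hEt : CohB1.IsFT E) {U : X.Opens} (hU : IsAffineOpen U) :
    ((subAlg B j hE).str.app (op U)).hom.FiniteType := by
  classical
  haveI := hE
  obtain ⟨T, hT⟩ := (H10Coh.finite_sections E hEt hU).fg_top
  let σ : Γ(X, U) →+* (sys B j hE).sub U :=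
    (bstr B U).codRestrict _ fun r => (sys B j hE).str_mem_sub U r
  suffices h : σ.FiniteType from h
  letI := σ.toAlgebra
  let t : Γ(E, U) → (sys B j hE).sub U := fun e =>
    ⟨japp B j U e, (sys B j hE).mem_sub_of_mem hU (japp_mem B j U e)⟩
  refine ⟨⟨T.image t, eq_top_iff.2 fun x _ => ?_⟩⟩
  let S := Algebra.adjoin Γ(X, U) ((T.image t : Finset _) : Set ((sys B j hE).sub U))
  have hle : genSub B j U ≤ S.toSubring.map ((sys B j hE).sub U).subtype := by
    refine Subring.closure_le.2 ?_
    rintro _ (⟨r, rfl⟩ | ⟨e, rfl⟩)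
    · exact ⟨_, S.algebraMap_mem r, rfl⟩
    · have he : e ∈ Submodule.span Γ(X, U) (T : Set Γ(E, U)) := hT ▸ Submodule.mem_top
      induction he using Submodule.span_induction with
      | mem e he => exact ⟨t e, Algebra.subset_adjoin (Finset.mem_image_of_mem t he), rfl⟩
      | zero =>
        show japp B j U 0 ∈ S.toSubring.map _
        rw [map_zero]
        exact zero_mem _
      | add a b _ _ ha hb =>
        show japp B j U (a + b) ∈ S.toSubring.map _
        rw [map_add]
        exact add_mem ha hb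
      | smul c a _ ha =>
        show japp B j U (c • a) ∈ S.toSubring.map _
        rw [japp_smul]
        exact mul_mem ⟨_, S.algebraMap_mem c, rfl⟩ ha
  obtain ⟨y, hy, hyx⟩ := hle ((sys B j hE).mem_of_mem_sub B.isSheaf hU x.2)
  exact (Subtype.ext hyx : y = x) ▸ hy

include hE in
/-- Generating on a cover gives generation on every affine open. -/
theorem genSub_eq_top (hcov : ∀ x : X, ∃ (U : X.Opens) (_ : IsAffineOpen U), x ∈ U ∧ genSub B j U = ⊤)
    {V : X.Opens} (hV : IsAffineOpen V) : genSub B j V = ⊤ := by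
  refine eq_top_iff.2 fun z _ => (sys B j hE).mem_of_mem_sub B.isSheaf hV fun s hs => ?_
  obtain ⟨U, hU, hsU, htop⟩ := hcov s
  obtain ⟨g, hg, hsg⟩ := hU.exists_basicOpen_le (V := V) ⟨s, hs⟩ hsU
  refine ⟨X.basicOpen g, hU.basicOpen g, hg, hsg, ?_⟩
  obtain ⟨m, q, e⟩ := exists_pow_mul_eq_res B hU g (bres B hg z)
  have hu : IsUnit ((X.presheaf.map (homOfLE (X.basicOpen_le g)).op) g) :=
    RingedSpace.isUnit_res_basicOpen _ g
  obtain ⟨v, hv⟩ := hu.pow m |>.exists_left_inv
  have hz : bres B hg z = bstr B (X.basicOpen g) v * bres B (X.basicOpen_le g) q := by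
    rw [e, bres_bstr, ← map_pow, ← mul_assoc, ← map_mul, hv, map_one, one_mul]
  show bres B hg z ∈ genSub B j (X.basicOpen g)
  rw [hz]
  exact mul_mem (bstr_mem B j _ v) (bres_mem B j _ (htop ▸ Subring.mem_top q))

end genSub

end Groth.Agent.H17.QCAlgSub
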