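import Mathlib.AlgebraicGeometry.QuasiAffine
import Mathlib.AlgebraicGeometry.AffineSpace
import Mathlib.AlgebraicGeometry.Morphisms.ClosedImmersion
import Mathlib.AlgebraicGeometry.Morphisms.FiniteType
import Mathlib.AlgebraicGeometry.Morphisms.Immersion

/-! A quasi-affine scheme of finite type over any base embeds in affine space over the base. -/

set_option autoImplicit false

universe u

open CategoryTheory Limits AlgebraicGeometry TopologicalSpace

namespace Groth.Agent.H17.QAffImm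

variable {X Y : Scheme.{u}}

theorem isClosedImmersion_morphismRestrict (f : X ⟶ Y) {U : X.Opens} {V : Y.Opens}
    (hU : IsAffineOpen U) (hV : IsAffineOpen V) (e : U = f ⁻¹ᵁ V)
    (h : Function.Surjective (f.appLE V U e.le)) : IsClosedImmersion (f ∣_ V) := by
  subst e
  haveI : IsAffine (f ⁻¹ᵁ V : Scheme.{u}) := hU
  haveI : IsAffine (V : Scheme.{u}) := hV
  rw [← Scheme.Hom.resLE_eq_morphismRestrict, HasAffineProperty.iff_of_isAffine (P := @IsClosedImmersion)]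
  refine ⟨hU, ?_⟩
  show Function.Surjective ((f.resLE V (f ⁻¹ᵁ V) le_rfl).app ⊤)
  rw [Scheme.Hom.resLE_app_top]
  exact ((ConcreteCategory.bijective_of_isIso (f ⁻¹ᵁ V).topIso.inv).2.comp h).comp
    (ConcreteCategory.bijective_of_isIso V.topIso.hom).2

theorem isClosedImmersion_morphismRestrict_iSup (f : X ⟶ Y) {ι : Type u} (V : ι → Y.Opens)
    (h : ∀ i, IsClosedImmersion (f ∣_ V i)) : IsClosedImmersion (f ∣_ ⨆ i, V i) := by
  let U : Y.Opens := ⨆ i, V i
  let W : ι → U.toScheme.Opens := fun i => U.ι ⁻¹ᵁ V i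
  have hW : ⨆ i, W i = ⊤ := by
    refine eq_top_iff.mpr fun z _ => ?_
    obtain ⟨i, hi⟩ := Opens.mem_iSup.mp z.2
    exact Opens.mem_iSup.mpr ⟨i, hi⟩
  rw [IsZariskiLocalAtTarget.iff_of_iSup_eq_top (P := @IsClosedImmersion) _ hW]
  intro i
  rw [MorphismProperty.arrow_mk_iso_iff (P := @IsClosedImmersion) (morphismRestrictRestrict f U (W i))]
  have : U.ι ''ᵁ W i = V i := by
    simp only [W, Scheme.Hom.image_preimage_eq_opensRange_inf, Scheme.Opens.opensRange_ι]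
    exact inf_eq_right.mpr (le_iSup V i)
  rw [MorphismProperty.arrow_mk_iso_iff (P := @IsClosedImmersion) (morphismRestrictEq f this)]
  exact h i

/-- Immersion from a family of closed immersions over opens covering the image. -/
theorem isImmersion_of_iSup (f : X ⟶ Y) {ι : Type u} (V : ι → Y.Opens)
    (h : ∀ i, IsClosedImmersion (f ∣_ V i)) (hcov : ∀ x : X, ∃ i, f x ∈ V i) : IsImmersion f := by
  have htop : f ⁻¹ᵁ (⨆ i, V i) = ⊤ := eq_top_iff.2 fun x _ => Opens.mem_iSup.2 (hcov x)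
  haveI := isClosedImmersion_morphismRestrict_iSup f V h
  haveI : IsIso (f ⁻¹ᵁ ⨆ i, V i).ι := by rw [htop]; exact X.topIso.isIso_hom
  rw [show f = inv (f ⁻¹ᵁ ⨆ i, V i).ι ≫ (f ∣_ ⨆ i, V i) ≫ (⨆ i, V i).ι by
    rw [morphismRestrict_ι, IsIso.inv_hom_id_assoc]]
  infer_instance

open AffineSpace in
theorem exists_immersion {S : Scheme.{u}} (π : X ⟶ S) [LocallyOfFiniteType π] [X.IsQuasiAffine] :
    ∃ (n : ℕ) (i : X ⟶ 𝔸(ULift.{u} (Fin n); S)), IsImmersion i ∧
      i ≫ (𝔸(ULift.{u} (Fin n); S) ↘ S) = π := by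
  classical
  have hchart : ∀ x : X, ∃ (V : S.Opens) (r : Γ(X, ⊤)), IsAffineOpen V ∧ IsAffineOpen (X.basicOpen r) ∧
      x ∈ X.basicOpen r ∧ X.basicOpen r ≤ π ⁻¹ᵁ V := by
    intro x
    obtain ⟨V, hV, hxV, -⟩ := exists_isAffineOpen_mem_and_subset (U := (⊤ : S.Opens)) (x := π x) trivial
    obtain ⟨_, ⟨r, hr, rfl⟩, hxr, hle⟩ :=
      Opens.isBasis_iff_nbhd.1 (Scheme.IsQuasiAffine.isBasis_basicOpen X) (show x ∈ π ⁻¹ᵁ V from hxV)
    exact ⟨V, r, hV, hr, hxr, hle⟩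
  choose V r hV hr hxr hle using hchart
  obtain ⟨T, hT⟩ := isCompact_univ.elim_finite_subcover (fun x => (X.basicOpen (r x) : Set X))
    (fun x => (X.basicOpen (r x)).2) (fun x _ => Set.mem_iUnion.2 ⟨x, hxr x⟩)
  have hgen : ∀ x, ∃ G : Finset Γ(X, X.basicOpen (r x)),
      letI := (π.appLE (V x) (X.basicOpen (r x)) (hle x)).hom.toAlgebra
      Algebra.adjoin Γ(S, V x) (G : Set Γ(X, X.basicOpen (r x))) = ⊤ := fun x =>
    (LocallyOfFiniteType.finiteType_appLE π (hV x) (hr x) (hle x)).out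
  choose G hG using hgen
  have hnum : ∀ (x : X) (c : Γ(X, X.basicOpen (r x))), ∃ (N : ℕ) (a : Γ(X, ⊤)),
      c * X.presheaf.map (homOfLE le_top).op (r x) ^ N = X.presheaf.map (homOfLE le_top).op a := by
    intro x c
    haveI := isLocalization_basicOpen_of_qcqs (U := (⊤ : X.Opens)) isCompact_univ isQuasiSeparated_univ (r x)
    obtain ⟨N, a, h⟩ := IsLocalization.Away.surj (r x) c
    exact ⟨N, a, h⟩
  choose N A hA using hnum
  let J := T ⊕ (Σ x : T, G x.1)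
  let e := Fintype.equivFin J
  let val : J → Γ(X, ⊤) := Sum.elim (fun x => r x.1) (fun p => A p.1.1 p.2.1)
  let v : ULift.{u} (Fin (Fintype.card J)) → Γ(X, ⊤) := fun j => val (e.symm j.down)
  let n := ULift.{u} (Fin (Fintype.card J))
  let i : X ⟶ 𝔸(n; S) := homOfVector π v
  have hi : i ≫ (𝔸(n; S) ↘ S) = π := homOfVector_over _ _
  refine ⟨_, i, ?_, hi⟩
  let p := 𝔸(n; S) ↘ S
  let crd : J → Γ(𝔸(n; S), ⊤) := fun j => coord S (⟨e j⟩ : n)
  have hcrd : ∀ j, i.appTop (crd j) = val j := fun j => by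
    rw [homOfVector_appTop_coord]; simp [v]
  let W : T → (𝔸(n; S)).Opens := fun x => p ⁻¹ᵁ V x.1 ⊓ (𝔸(n; S)).basicOpen (crd (Sum.inl x))
  have hW : ∀ x, IsAffineOpen (W x) := fun x => by
    have h1 : IsAffineOpen (p ⁻¹ᵁ V x.1) := (hV x.1).preimage p
    have := h1.basicOpen ((𝔸(n; S)).presheaf.map (homOfLE le_top).op (crd (Sum.inl x)))
    rwa [Scheme.basicOpen_res] at this
  have hpre : ∀ x : T, X.basicOpen (r x.1) = i ⁻¹ᵁ W x := fun x => by
    show _ = i ⁻¹ᵁ (p ⁻¹ᵁ V x.1 ⊓ _)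
    rw [Scheme.Hom.preimage_inf, ← Scheme.Hom.comp_preimage, hi, Scheme.preimage_basicOpen_top, hcrd]
    exact (inf_eq_right.2 (hle x.1)).symm
  refine isImmersion_of_iSup i W (fun x => ?_) fun y => ?_
  swap
  · obtain ⟨x, hxT, hy⟩ := Set.mem_iUnion₂.1 (hT (Set.mem_univ y))
    exact ⟨⟨x, hxT⟩, show y ∈ i ⁻¹ᵁ W ⟨x, hxT⟩ from hpre ⟨x, hxT⟩ ▸ hy⟩
  refine isClosedImmersion_morphismRestrict i (hr x.1) (hW x) (hpre x) ?_
  set φ := (i.appLE (W x) (X.basicOpen (r x.1)) (hpre x).le).hom with hφ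
  set ρ := (X.presheaf.map (homOfLE (le_top : X.basicOpen (r x.1) ≤ ⊤)).op).hom with hρ
  have hres : ∀ c : Γ(𝔸(n; S), ⊤),
      φ ((𝔸(n; S)).presheaf.map (homOfLE le_top).op c) = ρ (i.appTop c) := fun c => by
    have h : (𝔸(n; S)).presheaf.map (homOfLE le_top).op ≫ i.appLE (W x) (X.basicOpen (r x.1)) (hpre x).le =
        i.appTop ≫ X.presheaf.map (homOfLE le_top).op := by
      rw [Scheme.Hom.map_appLE]; rfl
    exact congr($h c)
  have hbase : ∀ a, φ (p.appLE (V x.1) (W x) inf_le_left a) = π.appLE (V x.1) (X.basicOpen (r x.1)) (hle x.1) a :=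
      fun a => by
    have h : p.appLE (V x.1) (W x) inf_le_left ≫ i.appLE (W x) (X.basicOpen (r x.1)) (hpre x).le =
        π.appLE (V x.1) (X.basicOpen (r x.1)) (hle x.1) := by
      rw [Scheme.Hom.appLE_comp_appLE]; simp only [p, hi]
    exact congr($h a)
  have hunit : IsUnit ((𝔸(n; S)).presheaf.map (homOfLE (le_top : W x ≤ ⊤)).op (crd (Sum.inl x))) := by
    have h := RingedSpace.isUnit_res_basicOpen (𝔸(n; S)).toRingedSpace (crd (Sum.inl x))
    have := h.map ((𝔸(n; S)).presheaf.map (homOfLE (inf_le_right : W x ≤ _)).op).hom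
    convert this using 1
    show _ = ((𝔸(n; S)).presheaf.map _ ≫ (𝔸(n; S)).presheaf.map _) _
    rw [← Functor.map_comp]; rfl
  obtain ⟨w, hw⟩ := hunit
  intro c
  letI := (π.appLE (V x.1) (X.basicOpen (r x.1)) (hle x.1)).hom.toAlgebra
  show c ∈ φ.range
  have hc : c ∈ Algebra.adjoin Γ(S, V x.1) (G x.1 : Set Γ(X, X.basicOpen (r x.1))) :=
    (hG x.1).symm ▸ Algebra.mem_top
  induction hc using Algebra.adjoin_induction with
  | mem g hg =>
    refine ⟨(𝔸(n; S)).presheaf.map (homOfLE le_top).op (crd (Sum.inr ⟨x, ⟨g, hg⟩⟩)) *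
      (↑w⁻¹ : Γ(𝔸(n; S), W x)) ^ N x.1 g, ?_⟩
    have h1 : φ w = ρ (r x.1) := by rw [hw, hres, hcrd]; rfl
    rw [map_mul, map_pow, hres, hcrd]
    show ρ (A x.1 g) * _ = g
    rw [show ρ (A x.1 g) = g * ρ (r x.1) ^ N x.1 g from (hA x.1 g).symm, ← h1, mul_assoc, ← mul_pow,
      ← map_mul, Units.mul_inv, map_one, one_pow, mul_one]
  | algebraMap a => exact ⟨_, hbase a⟩
  | add b₁ b₂ _ _ h₁ h₂ => exact Subring.add_mem _ h₁ h₂
  | mul b₁ b₂ _ _ h₁ h₂ => exact Subring.mul_mem _ h₁ h₂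

end Groth.Agent.H17.QAffImm
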