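import Groth.Agent.H7Flat.PushoutGlobal
import Mathlib

/-!
# The union of two closed subschemes is a pushout along their intersection
-/

set_option autoImplicit false
set_option linter.style.haveILetI false
set_option maxHeartbeats 1000000

universe u

open CategoryTheory AlgebraicGeometry Limits TopologicalSpace

namespace Groth.Agent.H17.PushoutSupInf

open Groth.Agent.H7Flat

theorem ringSq_inf_sup {A : Type u} [CommRing A] (a b : Ideal A) :
    RingSq (Ideal.Quotient.factor (inf_le_left : a ⊓ b ≤ a)) (Ideal.Quotient.factor (inf_le_right : a ⊓ b ≤ b))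
      (Ideal.Quotient.factor (le_sup_left : a ≤ a ⊔ b)) (Ideal.Quotient.factor (le_sup_right : b ≤ a ⊔ b)) where
  comm z := by obtain ⟨z, rfl⟩ := Ideal.Quotient.mk_surjective z; simp
  surj := Ideal.Quotient.factor_surjective _
  ext z z' h h' := by
    obtain ⟨z, rfl⟩ := Ideal.Quotient.mk_surjective z
    obtain ⟨z', rfl⟩ := Ideal.Quotient.mk_surjective z'
    simp only [Ideal.Quotient.factor_mk, Ideal.Quotient.eq] at h h' ⊢
    exact ⟨h, h'⟩
  exists_lift x y h := by
    obtain ⟨x, rfl⟩ := Ideal.Quotient.mk_surjective x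
    obtain ⟨y, rfl⟩ := Ideal.Quotient.mk_surjective y
    simp only [Ideal.Quotient.factor_mk, Ideal.Quotient.eq] at h
    obtain ⟨i, hi, j, hj, e⟩ := Submodule.mem_sup.1 h
    refine ⟨Ideal.Quotient.mk _ (x - i), ?_, ?_⟩ <;> simp only [Ideal.Quotient.factor_mk, Ideal.Quotient.eq]
    · simpa using hi
    · rw [show x - i - y = j by linear_combination -e]; exact hj

variable {S : Scheme.{u}} (I J : S.IdealSheafData) {T : Scheme.{u}}

/-- The chart of a closed subscheme over an affine open. -/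
noncomputable def cov {S : Scheme.{u}} (K : S.IdealSheafData) (U : S.affineOpens) :
    K.glueDataObj U ⟶ K.subscheme :=
  K.subschemeCover.f U

instance {S : Scheme.{u}} (K : S.IdealSheafData) (U : S.affineOpens) : IsOpenImmersion (cov K U) :=
  inferInstanceAs (IsOpenImmersion (K.subschemeCover.openCover.f U))

omit I J in
@[reassoc]
theorem cov_inclusion {K L : S.IdealSheafData} (h : K ≤ L) (U : S.affineOpens) :
    cov L U ≫ Scheme.IdealSheafData.inclusion h = Scheme.IdealSheafData.glueDataObjHom h U ≫ cov K U :=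
  Scheme.IdealSheafData.subSchemeCover_map_inclusion h U

omit I J in
theorem mem_range_cov {K : S.IdealSheafData} (U : S.affineOpens) (x : K.subscheme) :
    x ∈ Set.range (cov K U) ↔ K.subschemeι x ∈ U.1 :=
  Iff.of_eq (congrArg (fun V : K.subscheme.Opens => x ∈ V) (K.opensRange_subschemeCover_map U))

theorem hom_ext {m m' : (I ⊓ J).subscheme ⟶ T}
    (h₁ : Scheme.IdealSheafData.inclusion (inf_le_left : I ⊓ J ≤ I) ≫ m =
      Scheme.IdealSheafData.inclusion (inf_le_left : I ⊓ J ≤ I) ≫ m')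
    (h₂ : Scheme.IdealSheafData.inclusion (inf_le_right : I ⊓ J ≤ J) ≫ m =
      Scheme.IdealSheafData.inclusion (inf_le_right : I ⊓ J ≤ J) ≫ m') : m = m' := by
  refine (I ⊓ J).subschemeCover.openCover.hom_ext _ _ fun (U : S.affineOpens) => ?_
  refine (ringSq_inf_sup (I.ideal U) (J.ideal U)).hom_ext ?_ ?_
  · exact ((cov_inclusion_assoc (inf_le_left : I ⊓ J ≤ I) U m).symm.trans
      (congrArg (cov I U ≫ ·) h₁)).trans
        (cov_inclusion_assoc (inf_le_left : I ⊓ J ≤ I) U m')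
  · exact ((cov_inclusion_assoc (inf_le_right : I ⊓ J ≤ J) U m).symm.trans
      (congrArg (cov J U ≫ ·) h₂)).trans
        (cov_inclusion_assoc (inf_le_right : I ⊓ J ≤ J) U m')

theorem exists_desc (g : I.subscheme ⟶ T) (g' : J.subscheme ⟶ T)
    (w : Scheme.IdealSheafData.inclusion (le_sup_left : I ≤ I ⊔ J) ≫ g =
      Scheme.IdealSheafData.inclusion (le_sup_right : J ≤ I ⊔ J) ≫ g') :
    ∃ m : (I ⊓ J).subscheme ⟶ T,
      Scheme.IdealSheafData.inclusion (inf_le_left : I ⊓ J ≤ I) ≫ m = g ∧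
      Scheme.IdealSheafData.inclusion (inf_le_right : I ⊓ J ≤ J) ≫ m = g' := by
  have hex : ∀ U : S.affineOpens, ∃ φ : (I ⊓ J).glueDataObj U ⟶ T,
      Scheme.IdealSheafData.glueDataObjHom (inf_le_left : I ⊓ J ≤ I) U ≫ φ = cov I U ≫ g ∧
      Scheme.IdealSheafData.glueDataObjHom (inf_le_right : I ⊓ J ≤ J) U ≫ φ = cov J U ≫ g' :=
    fun U => (ringSq_inf_sup (I.ideal U) (J.ideal U)).exists_desc _ _ (by
      show Scheme.IdealSheafData.glueDataObjHom (le_sup_left : I ≤ I ⊔ J) U ≫ _ =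
        Scheme.IdealSheafData.glueDataObjHom (le_sup_right : J ≤ I ⊔ J) U ≫ _
      rw [← cov_inclusion_assoc, ← cov_inclusion_assoc, w])
  choose φ hφ₁ hφ₂ using hex
  obtain ⟨m, hm⟩ := exists_glue (fun U : S.affineOpens => (I ⊓ J).glueDataObj U)
    (fun U => cov (I ⊓ J) U) φ (fun x => ⟨_, (I ⊓ J).subschemeCover.covers x⟩) (by
      intro a b x ha hb
      have hmem := fun c => mem_range_cov (K := I ⊓ J) c x
      obtain ⟨c, hc, hxc, hcab⟩ := exists_isAffineOpen_mem_and_subset
        (U := a.1 ⊓ b.1) (show (I ⊓ J).subschemeι x ∈ a.1 ⊓ b.1 from ⟨(hmem a).1 ha, (hmem b).1 hb⟩)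
      have hsub : ∀ {K : S.IdealSheafData} {d : S.affineOpens}, c ≤ d.1 →
          Set.range (cov K ⟨c, hc⟩) ⊆ Set.range (cov K d) := by
        intro K d hd
        exact fun y hy => (mem_range_cov d y).2 (hd ((mem_range_cov _ y).1 hy))
      have key : ∀ (d : S.affineOpens) (hd : c ≤ d.1),
          IsOpenImmersion.lift (cov (I ⊓ J) d) (cov (I ⊓ J) ⟨c, hc⟩) (hsub hd) ≫ φ d =
            φ ⟨c, hc⟩ := by
        intro d hd
        have nat : ∀ {K : S.IdealSheafData} (h : I ⊓ J ≤ K),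
            Scheme.IdealSheafData.glueDataObjHom h ⟨c, hc⟩ ≫
              IsOpenImmersion.lift (cov (I ⊓ J) d) (cov (I ⊓ J) ⟨c, hc⟩) (hsub hd) =
            IsOpenImmersion.lift (cov K d) (cov K ⟨c, hc⟩) (hsub hd) ≫
              Scheme.IdealSheafData.glueDataObjHom h d := by
          intro K h
          rw [← cancel_mono (cov (I ⊓ J) d), Category.assoc, Category.assoc,
            IsOpenImmersion.lift_fac, ← cov_inclusion,
            ← cov_inclusion, IsOpenImmersion.lift_fac_assoc]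
        refine (ringSq_inf_sup (I.ideal ⟨c, hc⟩) (J.ideal ⟨c, hc⟩)).hom_ext ?_ ?_
        · show Scheme.IdealSheafData.glueDataObjHom (inf_le_left : I ⊓ J ≤ I) ⟨c, hc⟩ ≫ _ =
            Scheme.IdealSheafData.glueDataObjHom (inf_le_left : I ⊓ J ≤ I) ⟨c, hc⟩ ≫ _
          rw [hφ₁, reassoc_of% nat, hφ₁, IsOpenImmersion.lift_fac_assoc]
        · show Scheme.IdealSheafData.glueDataObjHom (inf_le_right : I ⊓ J ≤ J) ⟨c, hc⟩ ≫ _ =
            Scheme.IdealSheafData.glueDataObjHom (inf_le_right : I ⊓ J ≤ J) ⟨c, hc⟩ ≫ _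
          rw [hφ₂, reassoc_of% nat, hφ₂, IsOpenImmersion.lift_fac_assoc]
      exact ⟨⟨c, hc⟩, _, _, IsOpenImmersion.lift_fac _ _ _, IsOpenImmersion.lift_fac _ _ _,
        key a (hcab.trans inf_le_left), key b (hcab.trans inf_le_right), (hmem ⟨c, hc⟩).2 hxc⟩)
  refine ⟨m, I.subschemeCover.openCover.hom_ext _ _ fun (U : S.affineOpens) => ?_, J.subschemeCover.openCover.hom_ext _ _ fun (U : S.affineOpens) => ?_⟩
  · show cov I U ≫ _ = cov I U ≫ _
    rw [cov_inclusion_assoc, hm, hφ₁]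
  · show cov J U ≫ _ = cov J U ≫ _
    rw [cov_inclusion_assoc, hm, hφ₂]

theorem isPushout :
    IsPushout (Scheme.IdealSheafData.inclusion (le_sup_left : I ≤ I ⊔ J))
      (Scheme.IdealSheafData.inclusion (le_sup_right : J ≤ I ⊔ J))
      (Scheme.IdealSheafData.inclusion (inf_le_left : I ⊓ J ≤ I))
      (Scheme.IdealSheafData.inclusion (inf_le_right : I ⊓ J ≤ J)) := by
  refine ⟨⟨by simp⟩, ⟨PushoutCocone.isColimitAux' _ fun s => ?_⟩⟩
  have h := exists_desc I J s.inl s.inr s.condition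
  exact ⟨h.choose, h.choose_spec.1, h.choose_spec.2,
    fun {m} ha hb => hom_ext I J (ha.trans h.choose_spec.1.symm) (hb.trans h.choose_spec.2.symm)⟩

end Groth.Agent.H17.PushoutSupInf
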