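import Groth.Prelude.Def_Flatn
import Mathlib.CategoryTheory.Comma.Over.Pullback

/-! Base change for the functor of relative morphisms. -/

set_option autoImplicit false

universe u

open CategoryTheory Limits AlgebraicGeometry Opposite

namespace Groth.Agent.H17.MorSBaseChange

variable {X Y S S' : Scheme.{u}} (gX : X ⟶ S) (gY : Y ⟶ S) (h : S' ⟶ S) (T : Over S')

noncomputable def iota : pullback T.hom (pullback.snd gX h) ⟶ pullback (T.hom ≫ h) gX :=
  pullback.lift (pullback.fst _ _) (pullback.snd _ _ ≫ pullback.fst gX h)
    (by rw [← Category.assoc, pullback.condition, Category.assoc, Category.assoc, pullback.condition])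

noncomputable def iotaInv : pullback (T.hom ≫ h) gX ⟶ pullback T.hom (pullback.snd gX h) :=
  pullback.lift (pullback.fst _ _) (pullback.lift (pullback.snd _ _) (pullback.fst _ _ ≫ T.hom)
    (by rw [Category.assoc, pullback.condition])) (by rw [pullback.lift_snd])

theorem iota_iotaInv : iota gX h T ≫ iotaInv gX h T = 𝟙 _ := by
  unfold iota iotaInv
  apply pullback.hom_ext
  · rw [Category.assoc, pullback.lift_fst, pullback.lift_fst, Category.id_comp]
  · rw [Category.assoc, pullback.lift_snd, Category.id_comp]
    apply pullback.hom_ext
    · rw [Category.assoc, pullback.lift_fst, pullback.lift_snd]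
    · rw [Category.assoc, pullback.lift_snd, pullback.lift_fst_assoc, pullback.condition]

theorem iotaInv_iota : iotaInv gX h T ≫ iota gX h T = 𝟙 _ := by
  unfold iota iotaInv
  apply pullback.hom_ext
  · rw [Category.assoc, pullback.lift_fst, pullback.lift_fst, Category.id_comp]
  · rw [Category.assoc, pullback.lift_snd, pullback.lift_snd_assoc, pullback.lift_fst, Category.id_comp]

noncomputable def equiv :
    (Flatn.morS gX gY).obj (op ((Over.map h).obj T)) ≃
      (Flatn.morS (pullback.snd gX h) (pullback.snd gY h)).obj (op T) where
  toFun u := Over.homMk (pullback.lift (iota gX h T ≫ u.left) (pullback.snd T.hom _ ≫ pullback.snd gX h)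
    (by
      have hu : u.left ≫ gY = pullback.snd (T.hom ≫ h) gX ≫ gX := Over.w u
      rw [Category.assoc, hu, iota, pullback.lift_snd_assoc, Category.assoc, Category.assoc, pullback.condition]))
    (pullback.lift_snd _ _ _)
  invFun v := Over.homMk (iotaInv gX h T ≫ v.left ≫ pullback.fst gY h) (by
    have hv : v.left ≫ pullback.snd gY h = pullback.snd T.hom (pullback.snd gX h) ≫ pullback.snd gX h := Over.w v
    show (iotaInv gX h T ≫ v.left ≫ pullback.fst gY h) ≫ gY = pullback.snd (T.hom ≫ h) gX ≫ gX
    rw [Category.assoc, Category.assoc, pullback.condition, reassoc_of% hv, iotaInv, pullback.lift_snd_assoc,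
      pullback.lift_snd_assoc, Category.assoc, pullback.condition])
  left_inv u := by
    apply Over.OverMorphism.ext
    show iotaInv gX h T ≫ pullback.lift _ _ _ ≫ pullback.fst gY h = u.left
    rw [pullback.lift_fst, ← Category.assoc, iotaInv_iota]
    exact Category.id_comp _
  right_inv v := by
    apply Over.OverMorphism.ext
    have hv : v.left ≫ pullback.snd gY h = pullback.snd T.hom (pullback.snd gX h) ≫ pullback.snd gX h := Over.w v
    show pullback.lift (iota gX h T ≫ iotaInv gX h T ≫ v.left ≫ pullback.fst gY h) _ _ = v.left
    apply pullback.hom_ext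
    · rw [pullback.lift_fst, ← Category.assoc, iota_iotaInv]; exact Category.id_comp _
    · rw [pullback.lift_snd]; exact hv.symm

theorem equiv_natural {T' : Over S'} (g : T' ⟶ T) (u : (Flatn.morS gX gY).obj (op ((Over.map h).obj T))) :
    equiv gX gY h T' ((Flatn.morS gX gY).map ((Over.map h).map g).op u) =
      (Flatn.morS (pullback.snd gX h) (pullback.snd gY h)).map g.op (equiv gX gY h T u) := by
  apply Over.OverMorphism.ext
  show pullback.lift (iota gX h T' ≫ pullback.lift (pullback.fst _ _ ≫ g.left) (pullback.snd _ _) _ ≫ u.left) _ _ =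
    pullback.lift (pullback.fst _ _ ≫ g.left) (pullback.snd _ _) _ ≫
      pullback.lift (iota gX h T ≫ u.left) _ _
  apply pullback.hom_ext
  · rw [pullback.lift_fst, Category.assoc, pullback.lift_fst, ← Category.assoc, ← Category.assoc]
    congr 1
    unfold iota
    apply pullback.hom_ext
    · rw [Category.assoc, Category.assoc, pullback.lift_fst, pullback.lift_fst_assoc]
      exact Eq.symm ((congrArg (pullback.lift _ _ _ ≫ ·) (pullback.lift_fst _ _ _)).trans
        (pullback.lift_fst _ _ _))
    · rw [Category.assoc, Category.assoc, pullback.lift_snd, pullback.lift_snd]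
      exact Eq.symm ((congrArg (pullback.lift _ _ _ ≫ ·) (pullback.lift_snd _ _ _)).trans
        (pullback.lift_snd_assoc _ _ _ _))
  · rw [pullback.lift_snd, Category.assoc, pullback.lift_snd, pullback.lift_snd_assoc]

/-- The representing object pulls back. -/
noncomputable def representableBy (M : Over S) (e : (Flatn.morS gX gY).RepresentableBy M) :
    (Flatn.morS (pullback.snd gX h) (pullback.snd gY h)).RepresentableBy (Over.mk (pullback.snd M.hom h)) where
  homEquiv {T} := ((Over.mapPullbackAdj h).homEquiv T M).symm.trans (e.homEquiv.trans (equiv gX gY h T))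
  homEquiv_comp {T' T} g u := by
    show equiv gX gY h T' (e.homEquiv (((Over.mapPullbackAdj h).homEquiv T' M).symm (g ≫ u))) =
      (Flatn.morS (pullback.snd gX h) (pullback.snd gY h)).map g.op
        (equiv gX gY h T (e.homEquiv (((Over.mapPullbackAdj h).homEquiv T M).symm u)))
    rw [← equiv_natural, Adjunction.homEquiv_naturality_left_symm, e.homEquiv_comp]

end Groth.Agent.H17.MorSBaseChange
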