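import Groth.Agent.H17.AssTensorS
import Groth.Agent.H17.AssFields
import Mathlib

/-!
# Fibrewise associated points and embedded points of `F ⊗_S G`
-/

set_option autoImplicit false
set_option linter.style.haveILetI false
set_option maxHeartbeats 1000000

universe u

open CategoryTheory CategoryTheory.Limits AlgebraicGeometry IsLocalRing

namespace Groth.Agent.H17.AssTensorS

variable {X Y S : Scheme.{u}} (f : X ⟶ S) (g : Y ⟶ S) (F : X.Modules) (G : Y.Modules)

theorem mem_ass_iff_fibre [IsLocallyNoetherian S] (hG : FlatMod.IsFlatOver g G) (y : Y) :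
    y ∈ AssSch.Ass G ↔ g y ∈ AssSch.Ass (Coh.structureModule S) ∧ AssFlat.FibAss g G y := by
  haveI : IsNoetherianRing (S.presheaf.stalk (g.base y)) := inferInstance
  rw [← AssFlat.mem_ass_tensor_iff g (Coh.structureModule S) G hG y]
  have e : CohB1.tensorMod ((Scheme.Modules.pullback g).obj (Coh.structureModule S)) G ≅ G :=
    (DCoh.tensorRightMod G).mapIso (H16Derived.KFlat.Stalk.structurePullbackIso g) ≪≫
      H10Coh.Tw.leftUnitIso G
  exact (Set.ext_iff.1 (ass_congr e) y).symm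

theorem mem_ass_iff_fibreMod [IsLocallyNoetherian S] (hG : FlatMod.IsFlatOver g G) (s : S)
    (hs : s ∈ AssSch.Ass (Coh.structureModule S)) (y' : g.fiber s) :
    y' ∈ AssSch.Ass ((Scheme.Modules.pullback (g.fiberι s)).obj G) ↔ g.fiberι s y' ∈ AssSch.Ass G := by
  have h : g (g.fiberι s y') = s := (g.range_fiberι s).subset ⟨y', rfl⟩
  rw [AssFlat.mem_ass_fibre_iff, mem_ass_iff_fibre g G hG, h]
  exact ⟨fun a => ⟨hs, a⟩, fun a => a.2⟩

theorem ptMap_fst (x : X) (y : Y) (v) : pullback.fst f g (ptMap f g x y v) = x := by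
  rw [← Scheme.Hom.comp_apply, pullback.lift_fst, Scheme.Hom.comp_apply]
  exact Scheme.fromSpecResidueField_apply _ _

theorem ptMap_snd (x : X) (y : Y) (v) : pullback.snd f g (ptMap f g x y v) = y := by
  rw [← Scheme.Hom.comp_apply, pullback.lift_snd, Scheme.Hom.comp_apply]
  exact Scheme.fromSpecResidueField_apply _ _

theorem isPreimmersion_ptMap (x : X) (y : Y) : IsPreimmersion (ptMap f g x y) :=
  MorphismProperty.pullbackMap (P := @IsPreimmersion) (f' := f) (g' := g)
    (i₁ := X.fromSpecResidueField x) (i₂ := Y.fromSpecResidueField y) inferInstance inferInstance rfl rfl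

/-- `F ⊗_S G` has no embedded points if `F` has none and `G` has none on the fibres over `Ass F`. -/
theorem noEmbedded_tensorS [IsLocallyNoetherian X] [IsLocallyNoetherian Y] (hG : FlatMod.IsFlatOver g G)
    (hF : AssSch.NoEmbedded F)
    (hne : ∀ x ∈ AssSch.Ass F, AssSch.NoEmbedded ((Scheme.Modules.pullback (g.fiberι (f x))).obj G)) :
    AssSch.NoEmbedded (tensorS f g F G) := by
  intro z₁ hz₁ z₂ hz₂ h
  obtain ⟨x₁, hx₁, y₁, hy₁, v₁, hv₁, rfl⟩ := (mem_ass_tensorS_iff f g F G hG z₁).1 hz₁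
  obtain ⟨x₂, hx₂, y₂, hy₂, v₂, hv₂, rfl⟩ := (mem_ass_tensorS_iff f g F G hG z₂).1 hz₂
  have h1 := h.map (pullback.fst f g).continuous
  rw [ptMap_fst, ptMap_fst] at h1
  obtain rfl := hF x₁ hx₁ x₂ hx₂ h1
  have h2 := h.map (pullback.snd f g).continuous
  rw [ptMap_snd, ptMap_snd] at h2
  obtain rfl := hne x₁ hx₁ y₁ hy₁ y₂ hy₂ ((g.fiberι _).isEmbedding.toIsInducing.specializes_iff.1 h2)
  haveI := isPreimmersion_ptMap f g x₁ (g.fiberι (f x₁) y₁)
  rw [AssFields.noEmbedded_pullback_fields _ _ _ _ v₁ hv₁ v₂ hv₂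
    ((ptMap f g x₁ _).isEmbedding.toIsInducing.specializes_iff.1 h)]

end Groth.Agent.H17.AssTensorS
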