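import Groth.Agent.H17.UnivHomeoAlg
import Mathlib.RingTheory.Ideal.MinimalPrime.Basic
import Mathlib.RingTheory.Adjoin.Tower

/-! Elementary subextensions of universal homeomorphisms. -/

set_option autoImplicit false
universe u

open AlgebraicGeometry CategoryTheory

namespace Groth.Agent.H17.Cusp

open UnivHomeoAlg

section Fin

variable (A B : Type u) [CommRing A] [CommRing B] [Algebra A B]

theorem exists_elementary_finite [Module.Finite A B] (hu : Uq A B)
    (hns : ¬ Function.Surjective (algebraMap A B)) :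
    (∃ b : B, b ∉ (algebraMap A B).range ∧ b ^ 2 ∈ (algebraMap A B).range ∧ b ^ 3 ∈ (algebraMap A B).range) ∨
    ((∃ (p : ℕ) (b : B), p.Prime ∧ b ∉ (algebraMap A B).range ∧ (p : B) * b ∈ (algebraMap A B).range ∧
      b ^ p ∈ (algebraMap A B).range) ∧ ¬ Rg A B) := by
  classical
  let R : Subring B := (algebraMap A B).range
  have hR : ∀ a, algebraMap A B a ∈ R := fun a => ⟨a, rfl⟩
  let C : Ideal B :=
    { carrier := {b | ∀ c, b * c ∈ R}
      add_mem' := fun {x y} hx hy c => by rw [add_mul]; exact add_mem (hx c) (hy c)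
      zero_mem' := fun c => by rw [zero_mul]; exact zero_mem R
      smul_mem' := fun r x hx c => by rw [smul_eq_mul, mul_comm r x, mul_assoc]; exact hx _ }
  let I := C.comap (algebraMap A B)
  have hI : I ≠ ⊤ := fun h => hns fun b => by
    have h1 : (1 : A) ∈ I := h ▸ Submodule.mem_top
    have h2 := (h1 : ∀ c, algebraMap A B 1 * c ∈ R) b
    rw [map_one, one_mul] at h2
    exact h2
  obtain ⟨p, hp⟩ := Ideal.nonempty_minimalPrimes hI
  have : p.IsPrime := hp.1.1
  obtain ⟨q, hCq, hq, hqp⟩ := Ideal.exists_ideal_over_prime_of_isIntegral (R := A) (S := B) p C hp.1.2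
  have hinj : Function.Injective (Spec.map (CommRingCat.ofHom (algebraMap A B))) :=
    have := universallyInjective_of_uq hu
    Scheme.Hom.injective _
  obtain ⟨c, hc⟩ : ∃ c : B, ∀ s ∉ p, algebraMap A B s * c ∉ R := by
    by_contra! h
    choose s hs hsR using h
    obtain ⟨G, hG⟩ := Module.Finite.fg_top (R := A) (M := B)
    refine (p.primeCompl.prod_mem (t := G) (f := s) (fun g _ => hs g) : ∏ g ∈ G, s g ∉ p) (hp.1.2 ?_)
    show ∀ c, algebraMap A B (∏ g ∈ G, s g) * c ∈ R
    intro c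
    have hc : c ∈ Submodule.span A (G : Set B) := hG ▸ Submodule.mem_top
    induction hc using Submodule.span_induction with
    | mem g hg =>
      rw [← Finset.prod_erase_mul _ _ hg, map_mul, mul_assoc]
      exact mul_mem (hR _) (hsR g)
    | zero => rw [mul_zero]; exact zero_mem R
    | add x y _ _ hx hy => rw [mul_add]; exact add_mem hx hy
    | smul a x _ hx => rw [Algebra.smul_def, mul_left_comm]; exact mul_mem (hR a) hx
  have hpow : ∀ b ∈ q, ∃ s ∉ p, ∃ N, ∀ m ≥ N, algebraMap A B s * b ^ m ∈ R := by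
    intro b hb
    by_contra! h
    let S : Submonoid B := Submonoid.map (algebraMap A B) p.primeCompl ⊔ Submonoid.powers b
    have hdisj : Disjoint (C : Set B) S := Set.disjoint_left.mpr fun x hxC hxS => by
      obtain ⟨_, ⟨s, hs, rfl⟩, _, ⟨N, rfl⟩, rfl⟩ := Submonoid.mem_sup.mp hxS
      obtain ⟨m, hm, hm'⟩ := h s hs N
      refine hm' ?_
      have := hxC (b ^ (m - N))
      rwa [mul_assoc, ← pow_add, Nat.add_sub_cancel' hm] at this
    obtain ⟨Q, hQ, hCQ, hQS⟩ := Ideal.exists_le_prime_disjoint C S hdisj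
    have hQp : Q.comap (algebraMap A B) ≤ p := fun a ha => by
      by_contra h'
      exact Set.disjoint_left.mp hQS ha (Submonoid.mem_sup_left ⟨a, h', rfl⟩)
    have hQp' : Q.comap (algebraMap A B) = p :=
      le_antisymm hQp (hp.2 ⟨Ideal.IsPrime.comap _, Ideal.comap_mono hCQ⟩ hQp)
    have : (⟨Q, hQ⟩ : PrimeSpectrum B) = ⟨q, hq⟩ := hinj (PrimeSpectrum.ext (hQp'.trans hqp.symm))
    have hbQ : b ∈ Q := by rw [show Q = q from congr(PrimeSpectrum.asIdeal $this)]; exact hb
    exact Set.disjoint_left.mp hQS hbQ (Submonoid.mem_sup_right ⟨1, pow_one b⟩)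
  by_cases hcase : ∀ y ∈ q, ∃ s ∉ p, algebraMap A B s * y ∈ R
  · right
    let ψ : B →+* q.ResidueField := algebraMap B q.ResidueField
    have hψ : ∀ y, ψ y = 0 ↔ y ∈ q := fun y => Ideal.algebraMap_residueField_eq_zero
    let F := Subfield.closure (Set.range (ψ.comp (algebraMap A B)))
    have hF : ∀ y, ψ y ∈ F → ∃ s ∉ p, algebraMap A B s * y ∈ R := by
      intro y hy
      obtain ⟨a, t, hat⟩ := (mem_closure_range_iff _ _).mp hy
      by_cases ht : t ∈ p
      · have h0 : ψ (algebraMap A B t) = 0 := (hψ _).mpr (show t ∈ q.comap _ from hqp.symm ▸ ht)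
        rw [RingHom.comp_apply, RingHom.comp_apply, h0, div_zero, hψ] at hat
        exact hcase y hat
      · have h0 : ψ (algebraMap A B t) ≠ 0 := fun h => ht (hqp ▸ (hψ _).mp h)
        rw [RingHom.comp_apply, RingHom.comp_apply, eq_div_iff h0, ← map_mul, ← sub_eq_zero, ← map_sub, hψ] at hat
        obtain ⟨s, hs, hsR⟩ := hcase _ hat
        refine ⟨s * t, p.primeCompl.mul_mem hs ht, ?_⟩
        have : algebraMap A B (s * t) * y = algebraMap A B s * (y * algebraMap A B t - algebraMap A B a) +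
            algebraMap A B (s * a) := by rw [map_mul, map_mul]; ring
        rw [this]; exact add_mem hsR (hR _)
    have hcF : ψ c ∉ F := fun h => by obtain ⟨s, hs, h'⟩ := hF c h; exact hc s hs h'
    refine ⟨?_, fun hr => hcF (hr _ ψ F (fun a => Subfield.subset_closure ⟨a, rfl⟩) c)⟩
    obtain ⟨e, n, he, hn⟩ := exists_pow_mem hu ψ c
    cases he with
    | zero => rw [one_pow, pow_one] at hn; exact absurd hn hcF
    | prime hprime =>
      let k := Nat.find (show ∃ k, ψ c ^ e ^ k ∈ F from ⟨n, hn⟩)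
      have hk : ψ c ^ e ^ k ∈ F := Nat.find_spec (show ∃ k, ψ c ^ e ^ k ∈ F from ⟨n, hn⟩)
      have hk0 : k ≠ 0 := fun h => hcF (by rw [h] at hk; simpa using hk)
      obtain ⟨j, hj⟩ := Nat.exists_eq_succ_of_ne_zero hk0
      let d := c ^ e ^ j
      have hd : ψ d ∉ F := by
        rw [map_pow]
        exact Nat.find_min (show ∃ k, ψ c ^ e ^ k ∈ F from ⟨n, hn⟩) (show j < k by omega)
      have hd' : ψ (d ^ e) ∈ F := by
        rw [map_pow, map_pow, ← pow_mul, ← pow_succ, ← Nat.succ_eq_add_one, ← hj]; exact hk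
      obtain ⟨s₁, hs₁, h₁⟩ := hF _ hd'
      obtain ⟨s₂, hs₂, h₂⟩ := hcase ((e : B) * d) (q.mul_mem_right _ ((hψ _).mp (by rw [map_natCast]; exact CharP.cast_eq_zero _ e)))
      refine ⟨e, algebraMap A B (s₁ * s₂) * d, hprime, fun h => hd ?_, ?_, ?_⟩
      · obtain ⟨a, ha⟩ := h
        have h0 : ψ (algebraMap A B (s₁ * s₂)) ≠ 0 := fun h =>
          p.primeCompl.mul_mem hs₁ hs₂ (hqp ▸ (hψ _).mp h)
        have : ψ d = ψ (algebraMap A B a) / ψ (algebraMap A B (s₁ * s₂)) := by
          rw [eq_div_iff h0, ha, map_mul ψ, mul_comm]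
        rw [this]
        exact div_mem (Subfield.subset_closure ⟨a, rfl⟩) (Subfield.subset_closure ⟨_, rfl⟩)
      · rw [map_mul, show (e : B) * (algebraMap A B s₁ * algebraMap A B s₂ * d) =
          algebraMap A B s₁ * (algebraMap A B s₂ * ((e : B) * d)) by ring]
        exact mul_mem (hR _) h₂
      · obtain ⟨i, hi⟩ := Nat.exists_eq_succ_of_ne_zero hprime.ne_zero
        rw [mul_pow, hi, pow_succ (algebraMap A B (s₁ * s₂)), map_mul]
        rw [show (algebraMap A B s₁ * algebraMap A B s₂) ^ i * (algebraMap A B s₁ * algebraMap A B s₂) * d ^ (i + 1) =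
          (algebraMap A B s₁ * algebraMap A B s₂) ^ i * algebraMap A B s₂ * (algebraMap A B s₁ * d ^ (i + 1)) by ring]
        exact mul_mem (mul_mem (pow_mem (mul_mem (hR _) (hR _)) _) (hR _)) (by rw [← Nat.succ_eq_add_one, ← hi]; exact h₁)
  · left
    push Not at hcase
    obtain ⟨b, hb, hbR⟩ := hcase
    obtain ⟨s₀, hs₀, N, hN⟩ := hpow b hb
    let P : ℕ → Prop := fun M => ∀ m > M, ∃ s ∉ p, algebraMap A B s * b ^ m ∈ R
    have hex : ∃ M, P M := ⟨N, fun m hm => ⟨s₀, hs₀, hN m hm.le⟩⟩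
    let M := Nat.find hex
    have hM : P M := Nat.find_spec hex
    have hM0 : M ≠ 0 := fun h => by
      obtain ⟨s, hs, h'⟩ := hM 1 (by omega)
      exact hbR s hs (by simpa using h')
    have hMn : ∀ s ∉ p, algebraMap A B s * b ^ M ∉ R := fun s hs h => by
      refine Nat.find_min hex (show M - 1 < M by omega) fun m hm => ?_
      rcases eq_or_lt_of_le (show M ≤ m by omega) with rfl | h'
      · exact ⟨s, hs, h⟩
      · exact hM m h'
    obtain ⟨s₂, hs₂, h₂⟩ := hM (M * 2) (by omega)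
    obtain ⟨s₃, hs₃, h₃⟩ := hM (M * 3) (by omega)
    refine ⟨algebraMap A B (s₂ * s₃) * b ^ M, hMn _ (p.primeCompl.mul_mem hs₂ hs₃), ?_, ?_⟩
    · rw [mul_pow, ← pow_mul, map_mul, show (algebraMap A B s₂ * algebraMap A B s₃) ^ 2 * b ^ (M * 2) =
        algebraMap A B s₂ * algebraMap A B s₃ ^ 2 * (algebraMap A B s₂ * b ^ (M * 2)) by ring]
      exact mul_mem (mul_mem (hR _) (pow_mem (hR _) _)) h₂
    · rw [mul_pow, ← pow_mul, map_mul, show (algebraMap A B s₂ * algebraMap A B s₃) ^ 3 * b ^ (M * 3) =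
        algebraMap A B s₂ ^ 3 * algebraMap A B s₃ ^ 2 * (algebraMap A B s₃ * b ^ (M * 3)) by ring]
      exact mul_mem (mul_mem (pow_mem (hR _) _) (pow_mem (hR _) _)) h₃

end Fin

variable {A B : Type u} [CommRing A] [CommRing B] [Algebra A B]

theorem exists_elementary [Algebra.IsIntegral A B] (hu : Uq A B) (hns : ¬ Function.Surjective (algebraMap A B)) :
    (∃ b : B, b ∉ (algebraMap A B).range ∧ b ^ 2 ∈ (algebraMap A B).range ∧ b ^ 3 ∈ (algebraMap A B).range) ∨
    ((∃ (p : ℕ) (b : B), p.Prime ∧ b ∉ (algebraMap A B).range ∧ (p : B) * b ∈ (algebraMap A B).range ∧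
      b ^ p ∈ (algebraMap A B).range) ∧ ¬ Rg A B) := by
  obtain ⟨b₀, hb₀⟩ := not_forall.mp hns
  let B₁ := Algebra.adjoin A ({b₀} : Set B)
  have : Module.Finite A B₁ := Module.Finite.iff_fg.mpr ((Algebra.IsIntegral.isIntegral b₀).fg_adjoin_singleton)
  have hns₁ : ¬ Function.Surjective (algebraMap A B₁) := fun h => by
    obtain ⟨a, ha⟩ := h ⟨b₀, Algebra.subset_adjoin rfl⟩
    exact hb₀ ⟨a, congr(($ha : B))⟩
  have hmem : ∀ x : B₁, (x : B) ∈ (algebraMap A B).range → x ∈ (algebraMap A B₁).range := by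
    rintro x ⟨a, ha⟩; exact ⟨a, Subtype.ext ha⟩
  have hmem' : ∀ x : B₁, x ∈ (algebraMap A B₁).range → (x : B) ∈ (algebraMap A B).range := by
    rintro x ⟨a, rfl⟩; exact ⟨a, rfl⟩
  rcases exists_elementary_finite A B₁ (uq_subalgebra B₁ hu) hns₁ with
    ⟨b, h1, h2, h3⟩ | ⟨⟨p, b, hp, h1, h2, h3⟩, hr⟩
  · refine Or.inl ⟨b, fun h => h1 (hmem b h), ?_, ?_⟩
    · simpa using hmem' _ h2
    · simpa using hmem' _ h3
  · refine Or.inr ⟨⟨p, b, hp, fun h => h1 (hmem b h), ?_, ?_⟩, fun h => hr (rg_subalgebra B₁ h)⟩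
    · simpa using hmem' _ h2
    · simpa using hmem' _ h3

end Groth.Agent.H17.Cusp
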