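import Mathlib

/-!
# Dilatation of a complete ring along elements, with respect to one element
-/

set_option autoImplicit false
set_option linter.style.haveILetI false
universe u

open Ideal

namespace Groth.Agent.H17.Dilatation

theorem main (p : ℕ) (A : Type u) [CommRing A] {n : ℕ} (a : Fin n → A) :
    ∃ (D : Type u) (_ : CommRing D) (_ : Algebra A D),
      IsAdicComplete (Ideal.span {(p : D)}) D ∧ IsSMulRegular D (p : D) ∧
      (∀ i, algebraMap A D (a i) ∈ Ideal.span {(p : D)}) ∧
      ∀ (B : Type u) [CommRing B] [Algebra A B] [IsAdicComplete (Ideal.span {(p : B)}) B],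
        IsSMulRegular B (p : B) → (∀ i, algebraMap A B (a i) ∈ Ideal.span {(p : B)}) →
          Nonempty (D →ₐ[A] B) ∧ Subsingleton (D →ₐ[A] B) ∧
            (Function.Surjective (algebraMap A B) → ∀ f : D →ₐ[A] B, Function.Surjective f) := by
  classical
  let L := Localization.Away (p : A)
  let q : L := IsLocalization.Away.invSelf (p : A)
  have hu : (p : L) * q = 1 := by
    simpa [q] using IsLocalization.Away.mul_invSelf (S := L) (p : A)
  let gens : Set L := Set.range fun i => algebraMap A L (a i) * q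
  let D0 := Algebra.adjoin A gens
  have hreg0 : IsSMulRegular D0 (p : D0) := fun x y h => by
    apply Subtype.ext
    have h' : (p : L) * x.1 = (p : L) * y.1 := by simpa using congrArg Subtype.val h
    calc x.1 = ((p : L) * x.1) * q := by rw [mul_right_comm, hu, one_mul]
      _ = ((p : L) * y.1) * q := by rw [h']
      _ = y.1 := by rw [mul_right_comm, hu, one_mul]
  let J : Ideal D0 := Ideal.span {(p : D0)}
  let D := AdicCompletion J D0
  have hfg : J.FG := ⟨{(p : D0)}, by simp [J]⟩
  have hdec : ∀ (x : D) (k : ℕ), ∃ (e : D0) (d : D), x = algebraMap D0 D e + (p : D) ^ k * d := by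
    intro x k
    obtain ⟨e, he⟩ := Ideal.Quotient.mk_surjective (AdicCompletion.evalₐ J k x)
    refine ⟨e, ?_⟩
    have hker : x - algebraMap D0 D e ∈ LinearMap.ker (AdicCompletion.eval J D0 k) := by
      rw [LinearMap.mem_ker]
      have h1 : AdicCompletion.evalₐ J k (x - algebraMap D0 D e) = 0 := by
        rw [map_sub, AlgHom.commutes, ← he]
        exact sub_self _
      rw [← AdicCompletion.factor_evalₐ_eq_eval J (x - algebraMap D0 D e) (by simp), h1, map_zero]
    rw [← AdicCompletion.pow_smul_top_eq_ker_eval hfg, Ideal.span_singleton_pow,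
      Submodule.ideal_span_singleton_smul, Submodule.mem_smul_pointwise_iff_exists] at hker
    obtain ⟨d, -, hd⟩ := hker
    refine ⟨d, ?_⟩
    rw [← algebraMap_smul D ((p : D0) ^ k) d, smul_eq_mul, map_pow, map_natCast] at hd
    rw [hd]; ring
  have hgen : ∀ i, ∃ g : D0, algebraMap A D0 (a i) = (p : D0) * g := fun i =>
    ⟨⟨algebraMap A L (a i) * q, Algebra.subset_adjoin ⟨i, rfl⟩⟩, Subtype.ext (by
      show algebraMap A L (a i) = ((p : D0) : L) * (algebraMap A L (a i) * q)
      rw [show ((p : D0) : L) = (p : L) by simp, mul_left_comm, hu, mul_one])⟩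
  refine ⟨D, inferInstance, inferInstance, ?_, ?_, fun i => ?_, ?_⟩
  · have h := (IsAdicComplete.map_algebraMap_iff (R := D0) (S := D) (M := D) (I := J)).mpr
      (AdicCompletion.isAdicComplete hfg)
    rwa [Ideal.map_span, Set.image_singleton, map_natCast] at h
  · refine isSMulRegular_iff_right_eq_zero_of_smul.mpr fun x hx => AdicCompletion.ext_evalₐ fun k => ?_
    obtain ⟨e, d, rfl⟩ := hdec x (k + 1)
    have h1 : AdicCompletion.evalₐ J (k + 1) ((p : D) * (algebraMap D0 D e + (p : D) ^ (k + 1) * d)) = 0 := by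
      rw [show (p : D) * (algebraMap D0 D e + (p : D) ^ (k + 1) * d) = 0 from hx, map_zero]
    rw [map_zero, map_add, map_mul, map_pow, map_natCast, AlgHom.commutes]
    have hz : ∀ m : ℕ, ((p : D0 ⧸ J ^ m)) ^ m = 0 := fun m => by
      rw [← map_natCast (Ideal.Quotient.mk (J ^ m)), ← map_pow, Ideal.Quotient.eq_zero_iff_mem]
      exact Ideal.pow_mem_pow (Ideal.mem_span_singleton_self _) m
    rw [map_mul, map_add, map_mul, map_pow, map_natCast, AlgHom.commutes, hz, zero_mul, add_zero] at h1
    rw [show (p : D0 ⧸ J ^ k) ^ (k + 1) = 0 by rw [pow_succ, hz, zero_mul], zero_mul, add_zero]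
    change (Ideal.Quotient.mk (J ^ k)) e = 0
    change (p : D0 ⧸ J ^ (k + 1)) * (Ideal.Quotient.mk (J ^ (k + 1))) e = 0 at h1
    rw [← map_natCast (Ideal.Quotient.mk (J ^ (k + 1))), ← map_mul, Ideal.Quotient.eq_zero_iff_mem,
      Ideal.span_singleton_pow, Ideal.mem_span_singleton'] at h1
    obtain ⟨c, hc⟩ := h1
    rw [Ideal.Quotient.eq_zero_iff_mem, Ideal.span_singleton_pow, Ideal.mem_span_singleton']
    refine ⟨c, hreg0 ?_⟩
    simp only [smul_eq_mul]
    rw [← hc]; ring
  · obtain ⟨g, hg⟩ := hgen i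
    rw [Ideal.mem_span_singleton', IsScalarTower.algebraMap_apply A D0 D, hg]
    exact ⟨algebraMap D0 D g, by rw [map_mul, map_natCast, mul_comm]⟩
  intro B _ _ hB hregB hdiv
  let LB := Localization.Away (p : B)
  have hinjB : Function.Injective (algebraMap B LB) := by
    refine IsLocalization.injective LB (M := Submonoid.powers (p : B)) ?_
    rintro _ ⟨k, rfl⟩
    exact mem_nonZeroDivisors_iff_right.mpr fun z hz => hregB.pow k (by
      simp only [smul_eq_mul, mul_zero]; rw [mul_comm]; exact hz)
  have hunit : IsUnit (algebraMap A LB (p : A)) := by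
    rw [map_natCast, ← map_natCast (algebraMap B LB)]
    exact IsLocalization.Away.algebraMap_isUnit (p : B)
  let g : L →ₐ[A] LB := IsLocalization.liftAlgHom (M := Submonoid.powers (p : A)) (f := Algebra.ofId A LB)
    (fun s => by
      obtain ⟨k, hk⟩ := s.2
      show IsUnit (algebraMap A LB (s : A))
      rw [← hk, map_pow]; exact hunit.pow k)
  have hrange : ∀ x : D0, g x ∈ (IsScalarTower.toAlgHom A B LB).range := by
    intro x
    suffices D0 ≤ (IsScalarTower.toAlgHom A B LB).range.comap g from this x.2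
    refine Algebra.adjoin_le ?_
    rintro _ ⟨i, rfl⟩
    obtain ⟨b, hb⟩ := Ideal.mem_span_singleton'.mp (hdiv i)
    refine ⟨b, ?_⟩
    show algebraMap B LB b = g (algebraMap A L (a i) * q)
    rw [map_mul, AlgHom.commutes, IsScalarTower.algebraMap_apply A B LB, ← hb, map_mul, mul_assoc]
    have : algebraMap B LB (p : B) * g q = 1 := by
      rw [map_natCast, ← map_natCast g, ← map_mul, hu, map_one]
    rw [this, mul_one]
  let φ : D0 →ₐ[A] B := (AlgEquiv.ofInjective (IsScalarTower.toAlgHom A B LB) hinjB).symm.toAlgHom.comp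
    ((g.comp D0.val).codRestrict _ hrange)
  have hle : ∀ k, J ^ k ≤ ((Ideal.span {(p : B)}) ^ k).comap φ := fun k => by
    rw [Ideal.span_singleton_pow, Ideal.span_singleton_le_iff_mem, Ideal.mem_comap, map_pow, map_natCast]
    exact Ideal.pow_mem_pow (Ideal.mem_span_singleton_self _) k
  let F : (k : ℕ) → D →ₐ[A] B ⧸ (Ideal.span {(p : B)}) ^ k := fun k =>
    (Ideal.Quotient.liftₐ (J ^ k) ((Ideal.Quotient.mkₐ A _).comp φ)
      (fun x hx => Ideal.Quotient.eq_zero_iff_mem.mpr (hle k hx))).comp
      ((AdicCompletion.evalₐ J k).restrictScalars A)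
  have hF : ∀ {m k : ℕ} (h : m ≤ k),
      (Ideal.Quotient.factorₐ A (Ideal.pow_le_pow_right h)).comp (F k) = F m := by
    intro m k h
    ext x
    obtain ⟨e, d, rfl⟩ := hdec x k
    have hz : ∀ j, j ≤ k → ((p : D0 ⧸ J ^ j)) ^ k = 0 := fun j hj => by
      rw [← map_natCast (Ideal.Quotient.mk (J ^ j)), ← map_pow, Ideal.Quotient.eq_zero_iff_mem]
      exact Ideal.pow_le_pow_right hj (Ideal.pow_mem_pow (Ideal.mem_span_singleton_self _) k)
    have hFe : ∀ j, j ≤ k → F j (algebraMap D0 D e + (p : D) ^ k * d) = Ideal.Quotient.mk _ (φ e) := by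
      intro j hj
      have he : AdicCompletion.evalₐ J j (algebraMap D0 D e + (p : D) ^ k * d) = Ideal.Quotient.mk _ e := by
        rw [map_add, map_mul, map_pow, map_natCast, AlgHom.commutes, hz j hj, zero_mul, add_zero]
        rfl
      show Ideal.Quotient.liftₐ (J ^ j) ((Ideal.Quotient.mkₐ A _).comp φ)
        (fun x hx => Ideal.Quotient.eq_zero_iff_mem.mpr (hle j hx))
        (AdicCompletion.evalₐ J j (algebraMap D0 D e + (p : D) ^ k * d)) = _
      rw [he]
      rfl
    rw [AlgHom.comp_apply, hFe k le_rfl, hFe m h]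
    rfl
  haveI := hB
  refine ⟨⟨IsAdicComplete.liftAlgHom (Ideal.span {(p : B)}) F hF⟩, ⟨fun G H => ?_⟩, fun hs f => ?_⟩
  · have h0 : ∀ e : D0, G (algebraMap D0 D e) = H (algebraMap D0 D e) := by
      intro e
      have h := Algebra.adjoin_induction (R := A) (s := gens)
        (p := fun x hx => G (algebraMap D0 D ⟨x, hx⟩) = H (algebraMap D0 D ⟨x, hx⟩)) ?_ ?_ ?_ ?_ e.2
      · exact h
      · rintro _ ⟨i, rfl⟩
        apply hregB
        simp only [smul_eq_mul]
        rw [← map_natCast G, ← map_mul, map_natCast G, ← map_natCast H, ← map_mul,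
          show (p : D) * algebraMap D0 D ⟨algebraMap A L (a i) * q, Algebra.subset_adjoin ⟨i, rfl⟩⟩ =
            algebraMap A D (a i) by
          rw [← map_natCast (algebraMap D0 D), ← map_mul, IsScalarTower.algebraMap_apply A D0 D]
          congr 1
          apply Subtype.ext
          show ((p : D0) : L) * (algebraMap A L (a i) * q) = algebraMap A L (a i)
          rw [show ((p : D0) : L) = (p : L) by simp, mul_left_comm, hu, mul_one],
          AlgHom.commutes, AlgHom.commutes]
      · intro r
        show G (algebraMap D0 D (algebraMap A D0 r)) = H (algebraMap D0 D (algebraMap A D0 r))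
        rw [← IsScalarTower.algebraMap_apply, AlgHom.commutes, AlgHom.commutes]
      · intro x y hx hy h1 h2
        rw [show (⟨x + y, _⟩ : D0) = ⟨x, hx⟩ + ⟨y, hy⟩ from rfl, map_add, map_add, map_add, h1, h2]
      · intro x y hx hy h1 h2
        rw [show (⟨x * y, _⟩ : D0) = ⟨x, hx⟩ * ⟨y, hy⟩ from rfl, map_mul, map_mul, map_mul, h1, h2]
    ext x
    rw [IsHausdorff.eq_iff_smodEq (I := Ideal.span {(p : B)})]
    intro k
    obtain ⟨e, d, rfl⟩ := hdec x k
    rw [SModEq.sub_mem, map_add, map_add, h0, add_sub_add_left_eq_sub, map_mul, map_mul, map_pow, map_pow,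
      map_natCast, map_natCast, ← mul_sub, smul_eq_mul, Ideal.mul_top]
    exact Ideal.mul_mem_right _ _ (Ideal.pow_mem_pow (Ideal.mem_span_singleton_self _) k)
  · intro b
    obtain ⟨r, rfl⟩ := hs b
    exact ⟨algebraMap A D r, f.commutes r⟩

end Groth.Agent.H17.Dilatation
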