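import Mathlib.AlgebraicGeometry.IdealSheaf.Functorial
import Mathlib.AlgebraicGeometry.Morphisms.ClosedImmersion

/-! A surjective quasi-compact morphism is epi onto its scheme-theoretic image. -/

set_option autoImplicit false

universe u

open CategoryTheory AlgebraicGeometry TopologicalSpace Opposite

namespace Groth.Agent.H17

theorem epi_toImage_of_surjective {X Y : Scheme.{u}} (f : X ⟶ Y) [QuasiCompact f] [Surjective f] :
    Epi f.toImage := by
  have hsurj : Function.Surjective f.toImage := by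
    intro y
    obtain ⟨x, hx⟩ := f.surjective (f.imageι y)
    refine ⟨x, f.imageι.isClosedEmbedding.injective ?_⟩
    rw [← Scheme.Hom.comp_apply, f.toImage_imageι]
    exact hx
  refine ⟨fun {W} g g' h => ?_⟩
  have hpt : ∀ y : f.image, g y = g' y := by
    intro y
    obtain ⟨x, rfl⟩ := hsurj y
    exact congrArg (fun φ : X ⟶ W => φ x) h
  -- a cover by affine opens pulled back from `Y`, small enough to map into affine opens of `W`
  have hcov : ∀ y : f.image, ∃ (U : f.image.Opens) (V : W.Opens), y ∈ U ∧ IsAffineOpen U ∧ IsAffineOpen V ∧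
      U ≤ g ⁻¹ᵁ V ∧ U ≤ g' ⁻¹ᵁ V ∧ Function.Injective (f.toImage.app U) := by
    intro y
    obtain ⟨V, hV, hyV, -⟩ := exists_isAffineOpen_mem_and_subset (U := (⊤ : W.Opens)) (x := g y) trivial
    obtain ⟨O, hO', hOe⟩ := f.imageι.isClosedEmbedding.isInducing.isOpen_iff.1 (g ⁻¹ᵁ V).2
    have hyO : f.imageι y ∈ O := by
      show y ∈ f.imageι ⁻¹' O
      rw [hOe]; exact hyV
    obtain ⟨T, hT, hyT, hTO⟩ := exists_isAffineOpen_mem_and_subset (U := (⟨O, hO'⟩ : Y.Opens))
      (x := f.imageι y) hyO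
    have hle : f.imageι ⁻¹ᵁ T ≤ g ⁻¹ᵁ V := fun z hz => by
      have : z ∈ f.imageι ⁻¹' O := hTO hz
      rw [hOe] at this
      exact this
    refine ⟨f.imageι ⁻¹ᵁ T, V, hyT, hT.preimage f.imageι, hV, hle, fun z hz => ?_,
      f.toImage_app_injective ⟨T, hT⟩⟩
    show g' z ∈ V
    rw [← hpt]; exact hle hz
  choose U V hyU hU hV hle hle' hinj using hcov
  refine Scheme.Cover.hom_ext (Scheme.openCoverOfIsOpenCover _ U (.mk (eq_top_iff.2 fun y _ =>
    Opens.mem_iSup.2 ⟨y, hyU y⟩))) g g' fun y => ?_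
  show (U y).ι ≫ g = (U y).ι ≫ g'
  have hr : Set.range ((U y).ι ≫ g) ⊆ Set.range (V y).ι := by
    rintro _ ⟨z, rfl⟩
    rw [Scheme.Opens.range_ι]
    exact hle y z.2
  have hr' : Set.range ((U y).ι ≫ g') ⊆ Set.range (V y).ι := by
    rintro _ ⟨z, rfl⟩
    rw [Scheme.Opens.range_ι]
    exact hle' y z.2
  rw [← IsOpenImmersion.lift_fac (V y).ι _ hr, ← IsOpenImmersion.lift_fac (V y).ι _ hr']
  congr 1
  haveI : IsAffine (V y : Scheme.{u}) := hV y
  apply ext_of_isAffine
  have h1 : (f.toImage ∣_ U y) ≫ IsOpenImmersion.lift (V y).ι _ hr =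
      (f.toImage ∣_ U y) ≫ IsOpenImmersion.lift (V y).ι _ hr' := by
    rw [← cancel_mono (V y).ι]
    simp only [Category.assoc, IsOpenImmersion.lift_fac, morphismRestrict_ι_assoc, h]
  have h2 := congrArg Scheme.Hom.appTop h1
  rw [Scheme.Hom.comp_appTop, Scheme.Hom.comp_appTop] at h2
  have aux : ∀ T : f.image.Opens, T = U y → Function.Injective (f.toImage.app T) := by
    rintro _ rfl; exact hinj y
  have hinj' : Function.Injective (f.toImage ∣_ U y).appTop := by
    intro a b hab
    change (f.toImage ∣_ U y).app ⊤ a = (f.toImage ∣_ U y).app ⊤ b at hab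
    rw [morphismRestrict_app] at hab
    exact aux _ (U y).ι_image_top ((ConcreteCategory.bijective_of_isIso
      (X.presheaf.map (eqToHom (image_morphismRestrict_preimage f.toImage (U y) ⊤)).op)).1 hab)
  refine ConcreteCategory.hom_ext _ _ fun s => hinj' ?_
  exact congr($h2 s)

end Groth.Agent.H17
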