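import Groth.Agent.H17.UnivHomeoAlg
import Mathlib.RingTheory.MvPolynomial.Basic
import Mathlib.RingTheory.FinitePresentation
import Mathlib.Algebra.Category.Ring.FilteredColimits
import Mathlib.CategoryTheory.Limits.Types.Filtered
import Mathlib.CategoryTheory.Limits.Constructions.Over.Connected
import Mathlib.CategoryTheory.Filtered.Connected

/-! Affine universal homeomorphisms are filtered colimits of finitely presented ones. -/

set_option autoImplicit false
universe u

open CategoryTheory CategoryTheory.Limits MvPolynomial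

namespace Groth.Agent.H17.FPUH

open UnivHomeoAlg

variable (A B : Type u) [CommRing A] [CommRing B] [Algebra A B]

noncomputable def π : MvPolynomial B A →ₐ[A] B := aeval id

/-- Finitely many elements and finitely many relations among them. -/
abbrev Idx₀ : Type u :=
  {i : Finset B × Finset (MvPolynomial B A) //
    ∀ g ∈ i.2, g ∈ (rename (Subtype.val : i.1 → B) : MvPolynomial i.1 A →ₐ[A] _).range ∧ π A B g = 0}

variable {A B}

abbrev Gen (i : Idx₀ A B) : Type u := {b : B // b ∈ i.1.1}

noncomputable def restr (i : Idx₀ A B) : MvPolynomial B A →ₐ[A] MvPolynomial (Gen i) A :=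
  killCompl (f := Subtype.val) Subtype.val_injective

noncomputable def rel (i : Idx₀ A B) : Ideal (MvPolynomial (Gen i) A) :=
  Ideal.span (restr i '' (i.1.2 : Set (MvPolynomial B A)))

abbrev Stage (i : Idx₀ A B) : Type u := MvPolynomial (Gen i) A ⧸ rel i

noncomputable def val' (i : Idx₀ A B) : MvPolynomial (Gen i) A →ₐ[A] B :=
  (π A B).comp (rename Subtype.val)

theorem val'_restr (i : Idx₀ A B) {g : MvPolynomial B A} (hg : g ∈ i.1.2) : val' i (restr i g) = 0 := by
  obtain ⟨⟨g₀, rfl⟩, h0⟩ := i.2 g hg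
  show π A B (rename Subtype.val (killCompl Subtype.val_injective (rename Subtype.val g₀))) = 0
  rw [killCompl_rename_app]; exact h0

noncomputable def toB (i : Idx₀ A B) : Stage i →ₐ[A] B :=
  Ideal.Quotient.liftₐ (rel i) (val' i) fun x hx => by
    have : rel i ≤ RingHom.ker (val' i) := Ideal.span_le.mpr (by rintro _ ⟨g, hg, rfl⟩; exact val'_restr i hg)
    exact this hx

theorem toB_mk (i : Idx₀ A B) (x : MvPolynomial (Gen i) A) :
    toB i (Ideal.Quotient.mk (rel i) x) = val' i x := rfl

abbrev incl {i j : Idx₀ A B} (h : i ≤ j) : Gen i → Gen j := fun b => ⟨b.1, h.1 b.2⟩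

noncomputable def trans {i j : Idx₀ A B} (h : i ≤ j) : Stage i →ₐ[A] Stage j :=
  Ideal.Quotient.liftₐ (rel i) ((Ideal.Quotient.mkₐ A (rel j)).comp (rename (incl h))) fun x hx => by
    have : rel i ≤ RingHom.ker ((Ideal.Quotient.mkₐ A (rel j)).comp (rename (incl h))) := Ideal.span_le.mpr (by
      rintro _ ⟨g, hg, rfl⟩
      show Ideal.Quotient.mk (rel j) (rename (incl h) (restr i g)) = 0
      rw [Ideal.Quotient.eq_zero_iff_mem]
      obtain ⟨⟨g₀, rfl⟩, -⟩ := i.2 g hg
      refine Ideal.subset_span ⟨_, h.2 hg, ?_⟩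
      show killCompl _ (rename Subtype.val g₀) = rename (incl h) (killCompl _ (rename Subtype.val g₀))
      rw [killCompl_rename_app]
      rw [show rename (Subtype.val : Gen i → B) g₀ = rename (Subtype.val : Gen j → B) (rename (incl h) g₀) from by
        rw [rename_rename]; rfl, killCompl_rename_app])
    exact this hx

theorem trans_mk {i j : Idx₀ A B} (h : i ≤ j) (x : MvPolynomial (Gen i) A) :
    trans h (Ideal.Quotient.mk (rel i) x) = Ideal.Quotient.mk (rel j) (rename (incl h) x) := rfl

theorem toB_trans {i j : Idx₀ A B} (h : i ≤ j) (x : Stage i) : toB j (trans h x) = toB i x := by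
  obtain ⟨x, rfl⟩ := Ideal.Quotient.mk_surjective x
  rw [trans_mk, toB_mk, toB_mk]
  show π A B (rename _ (rename _ x)) = π A B (rename _ x)
  rw [rename_rename]; rfl

theorem trans_refl (i : Idx₀ A B) (x : Stage i) : trans (le_refl i) x = x := by
  obtain ⟨x, rfl⟩ := Ideal.Quotient.mk_surjective x
  rw [trans_mk, show incl (le_refl i) = id from rfl, rename_id_apply]

theorem trans_trans {i j k : Idx₀ A B} (h : i ≤ j) (h' : j ≤ k) (x : Stage i) :
    trans h' (trans h x) = trans (h.trans h') x := by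
  obtain ⟨x, rfl⟩ := Ideal.Quotient.mk_surjective x
  rw [trans_mk, trans_mk, trans_mk, rename_rename]; rfl

theorem finitePresentation (i : Idx₀ A B) : Algebra.FinitePresentation A (Stage i) :=
  Algebra.FinitePresentation.quotient (R := A) (Submodule.fg_span (i.1.2.finite_toSet.image _))

theorem mem_span_inl_inr {σ : Type u} [Fintype σ] (I : Ideal (MvPolynomial σ A))
    (hu : Uq A (MvPolynomial σ A ⧸ I)) (e : σ) :
    (X (Sum.inl e) - X (Sum.inr e) : MvPolynomial (σ ⊕ σ) A) ∈
      (Ideal.span ((rename Sum.inl : MvPolynomial σ A →ₐ[A] MvPolynomial (σ ⊕ σ) A) '' I ∪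
        (rename Sum.inr : MvPolynomial σ A →ₐ[A] MvPolynomial (σ ⊕ σ) A) '' I)).radical := by
  rw [Ideal.radical_eq_sInf, Submodule.mem_sInf]
  rintro (q : Ideal (MvPolynomial (σ ⊕ σ) A)) ⟨hq, hqp⟩
  let ev : MvPolynomial (σ ⊕ σ) A →+* q.ResidueField := algebraMap _ _
  have hev : ∀ y, ev y = 0 ↔ y ∈ q := fun y => Ideal.algebraMap_residueField_eq_zero
  let mk1 (s : σ → σ ⊕ σ) (hs : ∀ x ∈ I, rename s x ∈ q) : MvPolynomial σ A ⧸ I →+* q.ResidueField :=
    Ideal.Quotient.lift I (ev.comp (rename s).toRingHom) fun x hx => (hev _).mpr (hs x hx)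
  have key := hu q.ResidueField (mk1 Sum.inl fun x hx => hq (Ideal.subset_span (Or.inl ⟨x, hx, rfl⟩)))
    (mk1 Sum.inr fun x hx => hq (Ideal.subset_span (Or.inr ⟨x, hx, rfl⟩))) (RingHom.ext fun a => by
      show ev (rename Sum.inl (C a)) = ev (rename Sum.inr (C a))
      rw [rename_C, rename_C])
  rw [← hev, map_sub, sub_eq_zero]
  have := congr($key (Ideal.Quotient.mk I (X e)))
  simp only [mk1, Ideal.Quotient.lift_mk, RingHom.comp_apply] at this
  simpa using this

theorem exists_good [Algebra.IsIntegral A B] (hu : Uq A B) (i : Idx₀ A B) :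
    ∃ j, i ≤ j ∧ Algebra.IsIntegral A (Stage j) ∧ Uq A (Stage j) := by
  classical
  let σ := Gen i
  let I : Ideal (MvPolynomial σ A) := RingHom.ker (val' i)
  have huI : Uq A (MvPolynomial σ A ⧸ I) := by
    let e : MvPolynomial σ A ⧸ I →ₐ[A] (val' i).range :=
      (Ideal.quotientKerEquivRange (val' i)).toAlgHom
    intro L _ ψ ψ' h
    have hsurj : Function.Surjective e := (Ideal.quotientKerEquivRange (val' i)).surjective
    let e' := (Ideal.quotientKerEquivRange (val' i)).symm.toAlgHom
    have := uq_subalgebra (val' i).range hu L (ψ.comp e'.toRingHom) (ψ'.comp e'.toRingHom)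
      (RingHom.ext fun a => by
        show ψ (e' (algebraMap A _ a)) = ψ' (e' (algebraMap A _ a))
        rw [AlgHom.commutes]; exact congr($h a))
    refine RingHom.ext fun x => ?_
    have h2 := congr($this (e x))
    simpa [e, e'] using h2
  have hrad := mem_span_inl_inr I huI
  choose n hn using hrad
  choose T hT hmem using fun e => Submodule.mem_span_finite_of_mem_span (hn e)
  have hT' : ∀ e, ∀ t ∈ T e, ∃ x ∈ I, t = rename Sum.inl x ∨ t = rename Sum.inr x := fun e t ht => by
    rcases hT e ht with ⟨x, hx, rfl⟩ | ⟨x, hx, rfl⟩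
    exacts [⟨x, hx, Or.inl rfl⟩, ⟨x, hx, Or.inr rfl⟩]
  choose w hw hw' using hT'
  choose P hP hP0 using fun e : σ => Algebra.IsIntegral.isIntegral (R := A) (e : B)
  let R0 : Finset (MvPolynomial σ A) :=
    (Finset.univ : Finset σ).biUnion (fun e => (T e).attach.image fun t => w e t.1 t.2) ∪
      (Finset.univ : Finset σ).image fun e => Polynomial.aeval (X e) (P e)
  have hR0 : ∀ r ∈ R0, val' i r = 0 := by
    intro r hr
    simp only [R0, Finset.mem_union, Finset.mem_biUnion, Finset.mem_image, Finset.mem_univ, true_and] at hr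
    rcases hr with ⟨e, t, -, rfl⟩ | ⟨e, rfl⟩
    · exact hw e t.1 t.2
    · rw [← Polynomial.aeval_algHom_apply]
      show Polynomial.aeval (π A B (rename Subtype.val (X e))) (P e) = 0
      rw [rename_X, show π A B (X e.1) = e.1 from aeval_X id e.1]; exact hP0 e
  let j : Idx₀ A B := ⟨(i.1.1, i.1.2 ∪ R0.image (rename Subtype.val)), fun g hg => by
    rcases Finset.mem_union.mp hg with hg | hg
    · exact i.2 g hg
    · obtain ⟨r, hr, rfl⟩ := Finset.mem_image.mp hg
      exact ⟨⟨r, rfl⟩, hR0 r hr⟩⟩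
  have hij : i ≤ j := ⟨le_refl i.1.1, Finset.subset_union_left⟩
  have hR : ∀ r ∈ R0, r ∈ rel j := fun r hr => Ideal.subset_span
    ⟨_, Finset.mem_union_right _ (Finset.mem_image_of_mem _ hr), killCompl_rename_app Subtype.val_injective r⟩
  refine ⟨j, hij, ⟨fun x => ?_⟩, fun L _ ψ ψ' h => ?_⟩
  · obtain ⟨x, rfl⟩ := Ideal.Quotient.mk_surjective x
    induction x using MvPolynomial.induction_on with
    | C a => exact isIntegral_algebraMap (R := A) (A := Stage j) (x := a)
    | add x y hx hy => rw [map_add]; exact hx.add hy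
    | mul_X x e hx =>
      rw [map_mul]
      refine hx.mul ⟨P e, hP e, ?_⟩
      have := Ideal.Quotient.eq_zero_iff_mem.mpr (hR (Polynomial.aeval (X e) (P e))
        (Finset.mem_union_right _ (Finset.mem_image_of_mem _ (Finset.mem_univ e))))
      rw [← Ideal.Quotient.mkₐ_eq_mk A, ← Polynomial.aeval_algHom_apply] at this
      exact this
  · refine Ideal.Quotient.ringHom_ext (MvPolynomial.ringHom_ext (fun a => congr($h a)) fun e => ?_)
    let φ : MvPolynomial (σ ⊕ σ) A →+* L := eval₂Hom (ψ.comp (algebraMap A (Stage j)))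
      (Sum.elim (fun e => ψ (Ideal.Quotient.mk _ (X e))) fun e => ψ' (Ideal.Quotient.mk _ (X e)))
    have hl : φ.comp (rename Sum.inl).toRingHom = ψ.comp (Ideal.Quotient.mk (rel j)) :=
      MvPolynomial.ringHom_ext (fun a => by simp [φ]; rfl) (fun e => by simp [φ])
    have hr : φ.comp (rename Sum.inr).toRingHom = ψ'.comp (Ideal.Quotient.mk (rel j)) :=
      MvPolynomial.ringHom_ext (fun a => by simp [φ]; exact congr($h a)) (fun e => by simp [φ])
    have hTker : Ideal.span (T e : Set (MvPolynomial (σ ⊕ σ) A)) ≤ RingHom.ker φ := Ideal.span_le.mpr fun t ht => by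
      have hwR : w e t ht ∈ rel j := hR _ (Finset.mem_union_left _ (Finset.mem_biUnion.mpr
        ⟨e, Finset.mem_univ _, Finset.mem_image.mpr ⟨⟨t, ht⟩, Finset.mem_attach _ _, rfl⟩⟩))
      show φ t = 0
      rcases hw' e t ht with h1 | h1
      · rw [h1]
        refine (congr($hl (w e t ht))).trans ?_
        rw [RingHom.comp_apply, Ideal.Quotient.eq_zero_iff_mem.mpr hwR, map_zero]
      · rw [h1]
        refine (congr($hr (w e t ht))).trans ?_
        rw [RingHom.comp_apply, Ideal.Quotient.eq_zero_iff_mem.mpr hwR, map_zero]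
    have h0 : φ ((X (Sum.inl e) - X (Sum.inr e)) ^ n e) = 0 := hTker (hmem e)
    rw [map_pow] at h0
    have := eq_zero_of_pow_eq_zero h0
    simpa [φ, sub_eq_zero] using this

theorem lf_of_algHom {C : Type u} [CommRing C] [Algebra A C] (g : C →ₐ[A] B) (hl : Lf A B) : Lf A C :=
  fun K _ _ φ => by
    obtain ⟨ψ, hψ⟩ := hl K φ
    exact ⟨ψ.comp g.toRingHom, RingHom.ext fun a => by
      show ψ (g (algebraMap A C a)) = φ a
      rw [AlgHom.commutes]; exact congr($hψ a)⟩

theorem rg_of_algHom {C : Type u} [CommRing C] [Algebra A C] (g : C →ₐ[A] B) (hu : Uq A C) (hl : Lf A B)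
    (hr : Rg A B) : Rg A C := by
  intro L _ ψ F hF c
  let j := algebraMap L (AlgebraicClosure L)
  obtain ⟨χ, hχ⟩ := hl _ (j.comp (ψ.comp (algebraMap A C)))
  have h0 : χ.comp g.toRingHom = j.comp ψ := hu _ _ _ (RingHom.ext fun a => by
    show χ (g (algebraMap A C a)) = _
    rw [AlgHom.commutes]; exact congr($hχ a))
  have h1 : χ (g c) ∈ F.map j := hr _ χ _ (fun a => by
    rw [show χ (algebraMap A B a) = j (ψ (algebraMap A C a)) from congr($hχ a)]
    exact Subfield.mem_map.mpr ⟨_, hF a, rfl⟩) (g c)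
  rw [show χ (g c) = j (ψ c) from congr($h0 c)] at h1
  obtain ⟨y, hy, hy'⟩ := h1
  rwa [← j.injective hy']

variable (A B)

/-- The stages which are universal homeomorphisms. -/
abbrev Idx : Type u := {i : Idx₀ A B // Algebra.IsIntegral A (Stage i) ∧ Uq A (Stage i)}

variable {A B}

theorem exists_idx [Algebra.IsIntegral A B] (hu : Uq A B) (E : Finset B) (G : Finset (MvPolynomial B A))
    (hG : ∀ g ∈ G, g ∈ (rename (Subtype.val : E → B) : MvPolynomial E A →ₐ[A] _).range ∧ π A B g = 0) :
    ∃ k : Idx A B, E ⊆ k.1.1.1 ∧ G ⊆ k.1.1.2 := by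
  obtain ⟨j, hj, h1, h2⟩ := exists_good hu ⟨(E, G), hG⟩
  exact ⟨⟨j, h1, h2⟩, hj.1, hj.2⟩

omit [CommRing B] [Algebra A B] in
theorem range_mono {E E' : Finset B} (h : E ⊆ E') :
    (rename (Subtype.val : E → B) : MvPolynomial E A →ₐ[A] _).range ≤
      (rename (Subtype.val : E' → B) : MvPolynomial E' A →ₐ[A] _).range := by
  rintro _ ⟨x, rfl⟩
  exact ⟨rename (fun b : E => (⟨b.1, h b.2⟩ : E')) x, by
    show rename _ (rename _ x) = rename _ x
    rw [rename_rename]; rfl⟩

theorem isDirected_idx [Algebra.IsIntegral A B] (hu : Uq A B) : IsDirectedOrder (Idx A B) := by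
  classical
  refine ⟨fun i j => ?_⟩
  obtain ⟨k, hE, hG⟩ := exists_idx hu (i.1.1.1 ∪ j.1.1.1) (i.1.1.2 ∪ j.1.1.2) fun g hg => by
    rcases Finset.mem_union.mp hg with hg | hg
    · exact ⟨range_mono Finset.subset_union_left (i.1.2 g hg).1, (i.1.2 g hg).2⟩
    · exact ⟨range_mono Finset.subset_union_right (j.1.2 g hg).1, (j.1.2 g hg).2⟩
  exact ⟨k, ⟨Finset.union_subset_left hE, Finset.union_subset_left hG⟩,
    ⟨Finset.union_subset_right hE, Finset.union_subset_right hG⟩⟩

variable (A B)

/-- The system of stages. -/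
noncomputable def system : Idx A B ⥤ Under (CommRingCat.of A) where
  obj i := Under.mk (CommRingCat.ofHom (algebraMap A (Stage i.1)))
  map {i j} h := Under.homMk (CommRingCat.ofHom (trans h.le).toRingHom) (by
    ext a; exact (trans h.le).commutes a)
  map_id i := by ext x; exact trans_refl i.1 x
  map_comp {i j k} h h' := by ext x; exact (trans_trans h.le h'.le x).symm

noncomputable def cocone : Cocone (system A B) where
  pt := Under.mk (CommRingCat.ofHom (algebraMap A B))
  ι :=
    { app := fun i => Under.homMk (CommRingCat.ofHom (toB i.1).toRingHom) (by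
        ext a; exact (toB i.1).commutes a)
      naturality := fun i j h => by ext x; exact toB_trans h.le x }

theorem isColimit [Algebra.IsIntegral A B] (hu : Uq A B) :
    IsFiltered (Idx A B) ∧ Nonempty (IsColimit (cocone A B)) := by
  classical
  have := isDirected_idx hu
  have : Nonempty (Idx A B) := by
    obtain ⟨k, -⟩ := exists_idx hu (∅ : Finset B) ∅ (by simp)
    exact ⟨k⟩
  have hf : IsFiltered (Idx A B) := inferInstance
  have : IsConnected (Idx A B) := IsFiltered.isConnected _
  have : ReflectsColimitsOfShape (Idx A B) (forget CommRingCat.{u}) := reflectsColimitsOfShape_of_reflectsIsomorphisms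
  refine ⟨hf, ⟨isColimitOfReflects (Under.forget _) (isColimitOfReflects (forget CommRingCat) ?_)⟩⟩
  refine Types.FilteredColimit.isColimitOf' _ _ ?_ ?_
  · intro (b : B)
    obtain ⟨k, hE, -⟩ := exists_idx hu ({b} : Finset B) ∅ (by simp)
    refine ⟨k, (Ideal.Quotient.mk (rel k.1) (X ⟨b, hE (Finset.mem_singleton_self b)⟩) : Stage k.1), ?_⟩
    show b = toB k.1 (Ideal.Quotient.mk _ _)
    rw [toB_mk, val', AlgHom.comp_apply, rename_X]
    exact (aeval_X id b).symm
  · intro i (x : Stage i.1) (y : Stage i.1) (hxy : toB i.1 x = toB i.1 y)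
    obtain ⟨p, hp⟩ := Ideal.Quotient.mk_surjective (x - y)
    have hp0 : val' i.1 p = 0 := by
      rw [← toB_mk, hp, map_sub, hxy, sub_self]
    obtain ⟨k, hE, hG⟩ := exists_idx hu i.1.1.1 (i.1.1.2 ∪ {rename Subtype.val p}) fun g hg => by
      rcases Finset.mem_union.mp hg with hg | hg
      · exact i.1.2 g hg
      · rw [Finset.mem_singleton] at hg; subst hg
        exact ⟨⟨p, rfl⟩, hp0⟩
    have hik : i ≤ k := ⟨hE, Finset.union_subset_left hG⟩
    refine ⟨k, homOfLE hik, ?_⟩
    show trans hik x = trans hik y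
    rw [← sub_eq_zero, ← map_sub, ← hp, trans_mk, Ideal.Quotient.eq_zero_iff_mem]
    refine Ideal.subset_span ⟨_, Finset.union_subset_right hG (Finset.mem_singleton_self _), ?_⟩
    show killCompl _ (rename Subtype.val p) = _
    rw [show rename (Subtype.val : Gen i.1 → B) p = rename (Subtype.val : Gen k.1 → B) (rename (incl hik) p) from by
      rw [rename_rename]; rfl, killCompl_rename_app]

end Groth.Agent.H17.FPUH
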