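import Groth.Agent.H7Flat.UnivHomeo
import Mathlib.AlgebraicGeometry.ResidueField
import Mathlib.FieldTheory.IsAlgClosed.AlgebraicClosure

/-! Universal homeomorphisms and residue fields via field-valued points. -/

set_option autoImplicit false
universe u

open AlgebraicGeometry CategoryTheory

namespace Groth.Agent.H17.FieldPoints

variable (A B : Type u) [CommRing A] [CommRing B] [Algebra A B]

theorem isUnivHomeo_of_points [Algebra.IsIntegral A B]
    (hu : ∀ (K : Type u) [Field K] (ψ ψ' : B →+* K),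
      ψ.comp (algebraMap A B) = ψ'.comp (algebraMap A B) → ψ = ψ')
    (he : ∀ (K : Type u) [Field K] [IsAlgClosed K] (φ : A →+* K), ∃ ψ : B →+* K, ψ.comp (algebraMap A B) = φ) :
    FlatMor.IsUnivHomeo (Spec.map (CommRingCat.ofHom (algebraMap A B))) := by
  rw [Groth.Agent.H7Flat.isUnivHomeo_iff]
  refine ⟨?_, ?_, ?_⟩
  · rw [IsIntegralHom.SpecMap_iff]
    exact (algebraMap_isIntegral_iff (R := A) (A := B)).mpr inferInstance
  · refine ((tfae_universallyInjective _).out 0 1).2 fun K hK a b hab => ?_
    obtain ⟨a, rfl⟩ := Spec.map_surjective a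
    obtain ⟨b, rfl⟩ := Spec.map_surjective b
    have hab' : CommRingCat.ofHom (algebraMap A B) ≫ a = CommRingCat.ofHom (algebraMap A B) ≫ b := by
      apply Spec.map_injective
      rw [Spec.map_comp, Spec.map_comp]; exact hab
    rw [CommRingCat.hom_ext (@hu K hK a.hom b.hom congr(($hab').hom))]
  · refine ⟨fun p => ?_⟩
    obtain ⟨ψ, hψ⟩ := he (AlgebraicClosure p.asIdeal.ResidueField)
      ((algebraMap p.asIdeal.ResidueField (AlgebraicClosure p.asIdeal.ResidueField)).comp
        (algebraMap A p.asIdeal.ResidueField))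
    refine ⟨(⟨RingHom.ker ψ, RingHom.ker_isPrime ψ⟩ : PrimeSpectrum B), PrimeSpectrum.ext ?_⟩
    show (RingHom.ker ψ).comap (algebraMap A B) = p.asIdeal
    rw [RingHom.comap_ker, hψ, RingHom.ker_comp_of_injective _
      (algebraMap p.asIdeal.ResidueField (AlgebraicClosure p.asIdeal.ResidueField)).injective,
      Ideal.ker_algebraMap_residueField]

theorem surjective_residueFieldMap_of_points
    (hu : ∀ (K : Type u) [Field K] (ψ ψ' : B →+* K),
      ψ.comp (algebraMap A B) = ψ'.comp (algebraMap A B) → ψ = ψ')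
    (he : ∀ (K : Type u) [Field K] (φ : A →+* K), ∃ ψ : B →+* K, ψ.comp (algebraMap A B) = φ)
    (q : Spec (CommRingCat.of B)) :
    Function.Surjective ((Spec.map (CommRingCat.ofHom (algebraMap A B))).residueFieldMap q) := by
  let f := Spec.map (CommRingCat.ofHom (algebraMap A B))
  let evp : A →+* (Spec (CommRingCat.of A)).residueField (f q) :=
    ((Scheme.ΓSpecIso (CommRingCat.of A)).inv ≫ (Spec (CommRingCat.of A)).Γevaluation (f q)).hom
  let evq : B →+* (Spec (CommRingCat.of B)).residueField q :=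
    ((Scheme.ΓSpecIso (CommRingCat.of B)).inv ≫ (Spec (CommRingCat.of B)).Γevaluation q).hom
  let rfm := (f.residueFieldMap q).hom
  have hnat : rfm.comp evp = evq.comp (algebraMap A B) := by
    ext a
    show f.residueFieldMap q ((Spec (CommRingCat.of A)).Γevaluation (f q) _) =
      (Spec (CommRingCat.of B)).Γevaluation q ((Scheme.ΓSpecIso (CommRingCat.of B)).inv (algebraMap A B a))
    rw [Scheme.Γevaluation_naturality_apply]
    congr 1
    exact congr($((Scheme.ΓSpecIso_inv_naturality (CommRingCat.ofHom (algebraMap A B))).symm) a)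
  obtain ⟨ψ, hψ⟩ := he _ evp
  have h1 : rfm.comp ψ = evq := hu _ _ _ (by rw [RingHom.comp_assoc, hψ, hnat])
  intro z
  let i := Scheme.Spec.residueFieldIso (CommRingCat.of B) q
  have hev : ∀ b, evq b = i.inv (algebraMap B q.asIdeal.ResidueField b) := fun b =>
    (congr($(Scheme.Spec.algebraMap_residueFieldIso_inv (CommRingCat.of B) q) b)).symm
  obtain ⟨a, b, -, hab⟩ := IsFractionRing.div_surjective (B ⧸ q.asIdeal) (i.hom z)
  obtain ⟨a, rfl⟩ := Ideal.Quotient.mk_surjective a
  obtain ⟨b, rfl⟩ := Ideal.Quotient.mk_surjective b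
  refine ⟨ψ a / ψ b, ?_⟩
  show rfm (ψ a / ψ b) = z
  rw [map_div₀, show rfm (ψ a) = evq a from congr($h1 a), show rfm (ψ b) = evq b from congr($h1 b), hev, hev]
  refine ((map_div₀ i.inv.hom _ _).symm.trans (congrArg i.inv ?_)).trans (i.commRingCatIsoToRingEquiv.symm_apply_apply z)
  exact hab

end Groth.Agent.H17.FieldPoints
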