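import Groth.Agent.H17.Imports
import Groth.Agent.H17.FieldFiniteType

/-! Points of finite type. -/

universe u
open CategoryTheory AlgebraicGeometry TopologicalSpace

namespace Groth.Agent.H17

variable {S : Scheme.{u}}

theorem fromSpecResidueField_eq_specMap {U : S.Opens} (hU : IsAffineOpen U) {s : S} (hs : s ∈ U) :
    Spec.map (S.presheaf.germ U s hs ≫ S.residue s) ≫ hU.fromSpec = S.fromSpecResidueField s := by
  rw [Scheme.fromSpecResidueField, Spec.map_comp, Category.assoc,
    ← hU.fromSpecStalk_eq_fromSpecStalk hs]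
  rfl

/-- The image of a morphism of finite type from the spectrum of a field is a closed point of some
affine open. -/
theorem exists_isAffineOpen_isClosed {K : Type u} [Field K] (g : Spec (CommRingCat.of K) ⟶ S)
    [LocallyOfFiniteType g] :
    ∃ U : S.Opens, IsAffineOpen U ∧ ∃ hu : g (IsLocalRing.closedPoint K) ∈ U,
      IsClosed ({⟨g (IsLocalRing.closedPoint K), hu⟩} : Set ↥U) := by
  set s := g (IsLocalRing.closedPoint K)
  obtain ⟨_, ⟨(U : S.Opens), hU, rfl⟩, hsU, -⟩ :=
    S.isBasis_affineOpens.exists_subset_of_mem_open (Set.mem_univ s) isOpen_univ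
  replace hU : IsAffineOpen U := hU
  have hsub : Set.range g ⊆ Set.range hU.fromSpec := by
    rintro _ ⟨t, rfl⟩
    rw [hU.range_fromSpec, Subsingleton.elim (α := PrimeSpectrum K) t (IsLocalRing.closedPoint K)]
    exact hsU
  obtain ⟨φ, hφ⟩ := Spec.map_surjective (IsOpenImmersion.lift hU.fromSpec g hsub)
  have hfac : Spec.map φ ≫ hU.fromSpec = g := by rw [hφ, IsOpenImmersion.lift_fac]
  have : LocallyOfFiniteType (Spec.map φ) := by
    have : LocallyOfFiniteType (Spec.map φ ≫ hU.fromSpec) := hfac ▸ ‹_›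
    exact locallyOfFiniteType_of_comp _ hU.fromSpec
  have hft : φ.hom.FiniteType := HasRingHomProperty.Spec_iff.mp this
  obtain ⟨c, hc, hmax⟩ := exists_notMem_forall_prime_eq_ker φ.hom hft
  let p : PrimeSpectrum Γ(S, U) := PrimeSpectrum.comap φ.hom (IsLocalRing.closedPoint K)
  have hp : hU.fromSpec p = s := congr($hfac (IsLocalRing.closedPoint K))
  have hpker : p.asIdeal = RingHom.ker φ.hom := by
    ext a
    simp [p, IsLocalRing.closedPoint, IsLocalRing.maximalIdeal_eq_bot]
  have hpre : hU.fromSpec ⁻¹ᵁ S.basicOpen c = PrimeSpectrum.basicOpen c := hU.fromSpec_preimage_basicOpen c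
  have hsV : s ∈ S.basicOpen c := by
    have h2 : p ∈ hU.fromSpec ⁻¹ᵁ S.basicOpen c := by
      rw [hpre]; exact fun h => hc (RingHom.mem_ker.mp (hpker.le h))
    exact hp ▸ h2
  refine ⟨S.basicOpen c, hU.basicOpen c, hsV, isClosed_of_closure_subset fun w hw => ?_⟩
  have hsw : s ⤳ w.1 := (specializes_iff_mem_closure.mpr hw).map continuous_subtype_val
  obtain ⟨(q : PrimeSpectrum Γ(S, U)), hq⟩ : w.1 ∈ Set.range hU.fromSpec := by
    rw [hU.range_fromSpec]; exact S.basicOpen_le c w.2
  have hpq : p ≤ q := by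
    rw [PrimeSpectrum.le_iff_specializes]
    apply hU.fromSpec.isEmbedding.isInducing.specializes_iff.mp
    rw [hp, hq]; exact hsw
  have hcq : c ∉ q.asIdeal := by
    have h2 : q ∈ hU.fromSpec ⁻¹ᵁ S.basicOpen c := by
      show hU.fromSpec q ∈ S.basicOpen c
      rw [hq]; exact w.2
    rw [hpre] at h2; exact h2
  have : q = p := PrimeSpectrum.ext ((hmax q.asIdeal q.2 (hpker ▸ hpq) hcq).trans hpker.symm)
  exact Subtype.ext (by rw [← hq, this, hp])

theorem locallyOfFiniteType_fromSpecResidueField {U : S.Opens} {s : S} (hs : s ∈ U)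
    (hc : IsClosed ({⟨s, hs⟩} : Set ↥U)) : LocallyOfFiniteType (S.fromSpecResidueField s) := by
  have hsub : Set.range (S.fromSpecResidueField s) ⊆ Set.range U.ι := by
    rw [Scheme.range_fromSpecResidueField, Scheme.Opens.range_ι]; simpa using hs
  let g := IsOpenImmersion.lift U.ι (S.fromSpecResidueField s) hsub
  have hg : g ≫ U.ι = S.fromSpecResidueField s := IsOpenImmersion.lift_fac _ _ _
  have : IsPreimmersion (g ≫ U.ι) := hg ▸ inferInstance
  have : IsPreimmersion g := .of_comp g U.ι
  have hr : Set.range g = ({⟨s, hs⟩} : Set ↥U) := by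
    apply (Set.image_injective.mpr U.ι.isEmbedding.injective)
    rw [← Set.range_comp, ← TopCat.coe_comp, ← Scheme.Hom.comp_base, hg,
      Scheme.range_fromSpecResidueField]
    exact (Set.image_singleton (f := (U.ι : U → S)) (a := (⟨s, hs⟩ : U))).symm
  have : IsClosedImmersion g := .of_isPreimmersion _ (by rw [hr]; exact hc)
  rw [← hg]; infer_instance

theorem locallyOfFiniteType_fromSpecResidueField_of_finiteType {K : Type u} [Field K]
    (g : Spec (CommRingCat.of K) ⟶ S) [LocallyOfFiniteType g] :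
    LocallyOfFiniteType (S.fromSpecResidueField (g (IsLocalRing.closedPoint K))) := by
  obtain ⟨U, _, hu, hc⟩ := exists_isAffineOpen_isClosed g
  exact locallyOfFiniteType_fromSpecResidueField hu hc

theorem exists_isAffineOpen_isClosed_of_ftPoint (s : S) [LocallyOfFiniteType (S.fromSpecResidueField s)] :
    ∃ U : S.Opens, IsAffineOpen U ∧ ∃ hs : s ∈ U, IsClosed ({⟨s, hs⟩} : Set ↥U) := by
  obtain ⟨U, hU, hu, hc⟩ := @exists_isAffineOpen_isClosed S (S.residueField s) inferInstance (S.fromSpecResidueField s) (by assumption)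
  have e := S.fromSpecResidueField_apply s (IsLocalRing.closedPoint (S.residueField s))
  refine ⟨U, hU, e ▸ hu, ?_⟩
  convert hc using 3
  exact e.symm

/-- Every nonempty locally closed subset contains a point of finite type. -/
theorem exists_ftPoint_mem {Z : Set S} (hZ : IsLocallyClosed Z) (hne : Z.Nonempty) :
    ∃ s ∈ Z, LocallyOfFiniteType (S.fromSpecResidueField s) := by
  obtain ⟨z, hz⟩ := hne
  obtain ⟨_, ⟨(V : S.Opens), hV, rfl⟩, hzV, hVsub⟩ :=
    S.isBasis_affineOpens.exists_subset_of_mem_open (subset_coborder hz) hZ.isOpen_coborder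
  have hcl : IsClosed (Subtype.val ⁻¹' Z : Set V) := by
    have h := (isClosed_preimage_val_coborder (s := Z)).preimage (continuous_inclusion hVsub)
    exact h
  have : CompactSpace V := isCompact_iff_compactSpace.mp (IsAffineOpen.isCompact hV)
  obtain ⟨w, hw, hwc⟩ := hcl.exists_closed_singleton ⟨⟨z, hzV⟩, hz⟩
  exact ⟨w.1, hw, locallyOfFiniteType_fromSpecResidueField w.2 hwc⟩

end Groth.Agent.H17
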