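import Mathlib.RingTheory.QuasiFinite.Basic
import Mathlib.AlgebraicGeometry.Morphisms.Finite
import Mathlib.AlgebraicGeometry.Limits
import Groth.Agent.H17.AssPts
import Groth.Agent.H17.Fibre

/-!
Generically finite morphisms are finite over a neighbourhood of the generic point.
-/

set_option autoImplicit false

universe u

open CategoryTheory Limits AlgebraicGeometry TopologicalSpace Polynomial

namespace Groth.Agent.H17.GenFinite

section Algebra

variable {A B : Type u} [CommRing A] [CommRing B] [Algebra A B]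

theorem finite_fiber [Algebra.FiniteType A B] (p : Ideal A) [p.IsPrime]
    (hfin : (PrimeSpectrum.comap (algebraMap A B) ⁻¹' {⟨p, inferInstance⟩}).Finite) :
    Module.Finite p.ResidueField (p.Fiber B) := by
  rw [Module.finite_iff_isArtinianRing, isArtinianRing_iff_isNoetherianRing_krullDimLE_zero]
  have : IsJacobsonRing (p.Fiber B) := isJacobsonRing_of_finiteType (A := p.ResidueField)
  have : Finite (PrimeSpectrum (p.Fiber B)) :=
    (PrimeSpectrum.preimageEquivFiber A B ⟨p, inferInstance⟩).finite_iff.mp hfin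
  exact ⟨Algebra.FiniteType.isNoetherianRing p.ResidueField _,
    (PrimeSpectrum.discreteTopology_iff_finite_and_krullDimLE_zero.mp inferInstance).right⟩

/-- Over a minimal prime with finite fibre every element satisfies, up to nilpotents, a polynomial
equation with leading coefficient outside the prime. -/
theorem exists_polynomial [Algebra.FiniteType A B] (p : Ideal A) (hp : p ∈ minimalPrimes A)
    (hfin : haveI := hp.1.1
      (PrimeSpectrum.comap (algebraMap A B) ⁻¹' {⟨p, inferInstance⟩}).Finite) (b : B) :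
    ∃ (n : ℕ) (P : A[X]), P.natDegree ≤ n ∧ P.coeff n ∉ p ∧ aeval b P = 0 := by
  haveI := hp.1.1
  haveI := finite_fiber p hfin
  -- a monic equation in the fibre, with lifted coefficients
  obtain ⟨P₀, hP₀m, hP₀⟩ := Algebra.IsIntegral.isIntegral (R := p.ResidueField)
    ((Algebra.TensorProduct.includeRight : B →ₐ[A] p.Fiber B) b)
  obtain ⟨P₁, hP₁, hdeg, hP₁m⟩ := Polynomial.lifts_and_degree_eq_and_monic
    (f := IsLocalRing.residue (Localization.AtPrime p))
    ((Polynomial.mem_lifts P₀).2 (Polynomial.map_surjective _ IsLocalRing.residue_surjective P₀)) hP₀m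
  obtain ⟨c, hc, hcP⟩ := IsLocalization.integerNormalization_spec p.primeCompl P₁
  set R := IsLocalization.integerNormalization p.primeCompl P₁ with hR
  set n := P₁.natDegree with hn
  have hRdeg : R.natDegree ≤ n := by
    refine Polynomial.natDegree_le_iff_coeff_eq_zero.2 fun m hm => ?_
    refine Polynomial.notMem_support_iff.1 fun hmem => ?_
    have := IsLocalization.integerNormalization_support p.primeCompl P₁ hmem
    exact Polynomial.mem_support_iff.1 this (Polynomial.coeff_eq_zero_of_natDegree_lt hm)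
  have hRn : R.coeff n ∉ p := by
    have h1 := congrArg (fun q => q.coeff n) hcP
    simp only [Polynomial.coeff_map, Polynomial.coeff_smul] at h1
    rw [show P₁.coeff n = 1 from hP₁m, Algebra.smul_def, mul_one] at h1
    intro hmem
    have h2 : algebraMap A (Localization.AtPrime p) c ∈ IsLocalRing.maximalIdeal _ := by
      rw [← h1]
      exact (IsLocalization.AtPrime.to_map_mem_maximal_iff (Localization.AtPrime p) p _).2 hmem
    exact hc ((IsLocalization.AtPrime.to_map_mem_maximal_iff (Localization.AtPrime p) p c).1 h2)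
  have hRb : (Algebra.TensorProduct.includeRight : B →ₐ[A] p.Fiber B) (aeval b R) = 0 := by
    rw [← Polynomial.aeval_algHom_apply, ← Polynomial.aeval_map_algebraMap p.ResidueField]
    have h1 : R.map (algebraMap A p.ResidueField) = (algebraMap A p.ResidueField c) • P₀ := by
      rw [IsScalarTower.algebraMap_eq A (Localization.AtPrime p) p.ResidueField, ← Polynomial.map_map,
        hcP, IsLocalRing.ResidueField.algebraMap_eq, ← hP₁]
      simp [Algebra.smul_def, Polynomial.algebraMap_apply]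
    rw [h1, map_smul]
    show _ • eval₂ (algebraMap p.ResidueField (p.Fiber B)) _ P₀ = 0
    rw [hP₀, smul_zero]
  -- the value lies in every prime over `p`
  have hmem : ∀ Q : Ideal B, Q.IsPrime → Q.comap (algebraMap A B) = p → aeval b R ∈ Q := by
    intro Q hQ hQp
    have h0 := congrArg (Algebra.TensorProduct.lift
      (Ideal.ResidueField.mapₐ (R := A) p Q (Algebra.ofId A B) hQp.symm)
      (IsScalarTower.toAlgHom A B Q.ResidueField) (fun _ _ => .all _ _)) hRb
    rw [map_zero, Algebra.TensorProduct.includeRight_apply, Algebra.TensorProduct.lift_tmul, map_one,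
      one_mul] at h0
    exact Ideal.algebraMap_residueField_eq_zero.1 h0
  obtain ⟨t, ht, N, htN⟩ : ∃ t ∉ p, ∃ N : ℕ, algebraMap A B t * aeval b R ^ N = 0 := by
    by_contra hc'
    push_neg at hc'
    obtain ⟨Q, hQ, -, hQS⟩ := Ideal.exists_le_prime_disjoint (⊥ : Ideal B)
      (p.primeCompl.map (algebraMap A B) ⊔ Submonoid.powers (aeval b R)) (by
        rw [Set.disjoint_left]
        intro z hz hzS
        obtain ⟨_, ⟨t, ht, rfl⟩, _, ⟨N, rfl⟩, rfl⟩ := Submonoid.mem_sup.mp hzS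
        exact hc' t ht N hz)
    have hle : Q.comap (algebraMap A B) ≤ p := fun a ha => by
      by_contra hap
      exact Set.disjoint_left.mp hQS ha (Submonoid.mem_sup_left ⟨a, hap, rfl⟩)
    have heq := le_antisymm hle (hp.2 ⟨inferInstance, bot_le⟩ hle)
    exact Set.disjoint_left.mp hQS (hmem Q hQ heq) (Submonoid.mem_sup_right (Submonoid.mem_powers _))
  refine ⟨n * N, C t * R ^ N, ?_, ?_, ?_⟩
  · refine (Polynomial.natDegree_C_mul_le _ _).trans (Polynomial.natDegree_pow_le.trans ?_)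
    rw [mul_comm]
    exact Nat.mul_le_mul_right _ hRdeg
  · rw [Polynomial.coeff_C_mul, mul_comm n, Polynomial.coeff_pow_of_natDegree_le hRdeg]
    exact fun h => (hp.1.1.mem_or_mem h).elim ht fun h' => hRn (hp.1.1.mem_of_pow_mem _ h')
  · rw [map_mul, Polynomial.aeval_C, map_pow, htN]

/-- Over a minimal prime with finite fibre, the algebra becomes integral after inverting one element. -/
theorem exists_isIntegral [Algebra.FiniteType A B] (p : Ideal A) (hp : p ∈ minimalPrimes A)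
    (hfin : haveI := hp.1.1
      (PrimeSpectrum.comap (algebraMap A B) ⁻¹' {⟨p, inferInstance⟩}).Finite) :
    ∃ s ∉ p, ∀ (A' B' : Type u) [CommRing A'] [CommRing B'] [Algebra A A'] [Algebra A' B'] [Algebra A B']
      [Algebra B B'] [IsScalarTower A A' B'] [IsScalarTower A B B'],
      IsUnit (algebraMap A A' s) → ∀ b : B, IsIntegral A' (algebraMap B B' b) := by
  classical
  haveI := hp.1.1
  obtain ⟨G, hG⟩ := (inferInstance : Algebra.FiniteType A B).out
  choose n P hdeg hcoeff hPb using exists_polynomial p hp hfin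
  refine ⟨∏ g ∈ G, (P g).coeff (n g), ?_, ?_⟩
  · intro h
    obtain ⟨g, -, hg⟩ := hp.1.1.prod_mem_iff.mp h
    exact hcoeff g hg
  · intro A' B' _ _ _ _ _ _ _ _ hs b
    have hb : b ∈ Algebra.adjoin A (G : Set B) := hG ▸ Algebra.mem_top
    induction hb using Algebra.adjoin_induction with
    | mem g hg =>
      have hu : IsUnit (algebraMap A A' ((P g).coeff (n g))) := by
        rw [← Finset.mul_prod_erase G (fun g => (P g).coeff (n g)) hg, map_mul] at hs
        exact isUnit_of_mul_isUnit_left hs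
      obtain ⟨w, hw⟩ := hu
      refine ⟨C (↑w⁻¹ : A') * (P g).map (algebraMap A A'), ?_, ?_⟩
      · refine Polynomial.monic_of_natDegree_le_of_coeff_eq_one (n g) ?_ ?_
        · exact (Polynomial.natDegree_C_mul_le _ _).trans (Polynomial.natDegree_map_le.trans (hdeg g))
        · rw [Polynomial.coeff_C_mul, Polynomial.coeff_map, ← hw, Units.inv_mul]
      · rw [← Polynomial.aeval_def, map_mul, Polynomial.aeval_map_algebraMap,
          Polynomial.aeval_algebraMap_apply (R := A) B' g (P g), hPb, map_zero, mul_zero]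
    | algebraMap a =>
      rw [← IsScalarTower.algebraMap_apply, IsScalarTower.algebraMap_apply A A' B']
      exact isIntegral_algebraMap
    | add x y _ _ hx hy => rw [map_add]; exact hx.add hy
    | mul x y _ _ hx hy => rw [map_mul]; exact hx.mul hy

end Algebra

variable {X Y : Scheme.{u}}

theorem isFinite_morphismRestrict_of_app (f : X ⟶ Y) {V : Y.Opens} (hV : IsAffineOpen V)
    (hfV : IsAffineOpen (f ⁻¹ᵁ V)) (h : (f.app V).hom.Finite) : IsFinite (f ∣_ V) := by
  haveI : IsAffine (V : Scheme.{u}) := hV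
  haveI : IsAffine ((f ⁻¹ᵁ V) : Scheme.{u}) := hfV
  rw [HasAffineProperty.iff_of_isAffine (P := @IsFinite)]
  refine ⟨hfV, ?_⟩
  have aux : ∀ W : Y.Opens, W = V → (f.app W).hom.Finite := by rintro _ rfl; exact h
  show ((f ∣_ V).app ⊤).hom.Finite
  rw [morphismRestrict_app]
  exact RingHom.finite_respectsIso.1 _ (CategoryTheory.asIso (X.presheaf.map
    (eqToHom (image_morphismRestrict_preimage f V ⊤)).op)).commRingCatIsoToRingEquiv (aux _ V.ι_image_top)

theorem finite_preimage_of_isFinite_morphismRestrict (f : X ⟶ Y) {V : Y.Opens} [IsFinite (f ∣_ V)]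
    {η : Y} (hη : η ∈ V) : (f.base ⁻¹' {η}).Finite := by
  refine (((f ∣_ V).finite_preimage_singleton ⟨η, hη⟩).image (f ⁻¹ᵁ V).ι).subset fun x hx => ?_
  have hxV : f x ∈ V := by rw [show f x = η from hx]; exact hη
  refine ⟨⟨x, hxV⟩, ?_, rfl⟩
  exact Subtype.ext ((congr($(morphismRestrict_ι f V) ⟨x, hxV⟩)).trans hx)

theorem mem_basicOpen_appLE (f : X ⟶ Y) {V₀ : Y.Opens} {W : X.Opens} (hW : W ≤ f ⁻¹ᵁ V₀)
    (t : Γ(Y, V₀)) (z : X) :
    z ∈ X.basicOpen (f.appLE V₀ W hW t) ↔ z ∈ W ∧ f z ∈ Y.basicOpen t := by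
  rw [Scheme.basicOpen_appLE]
  rfl

theorem preimage_basicOpen_of_le (f : X ⟶ Y) {V₀ : Y.Opens} {W : X.Opens} (hW : W ≤ f ⁻¹ᵁ V₀)
    (t : Γ(Y, V₀)) (h : f ⁻¹ᵁ Y.basicOpen t ≤ W) :
    f ⁻¹ᵁ Y.basicOpen t = X.basicOpen (f.appLE V₀ W hW t) := by
  rw [Scheme.basicOpen_appLE]
  exact le_antisymm (le_inf h le_rfl) inf_le_right

/-- A morphism of finite type with finite fibre over a generic point, whose points can be separated
by disjoint affine opens, is finite over an affine neighbourhood. -/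
theorem exists_isFinite_nhd (f : X ⟶ Y) [LocallyOfFiniteType f] {η : Y} (hη : η ∈ genericPoints Y)
    {V₀ : Y.Opens} (hV₀ : IsAffineOpen V₀) (hηV : η ∈ V₀)
    (hc : IsCompact ((f ⁻¹ᵁ V₀ : X.Opens) : Set X)) (hfin : (f.base ⁻¹' {η}).Finite)
    (U : X → X.Opens)
    (hU : ∀ x ∈ f.base ⁻¹' {η}, IsAffineOpen (U x) ∧ x ∈ U x ∧ U x ≤ f ⁻¹ᵁ V₀)
    (hdisj : (f.base ⁻¹' {η}).PairwiseDisjoint U) :
    ∃ s : Γ(Y, V₀), η ∈ Y.basicOpen s ∧ IsFinite (f ∣_ Y.basicOpen s) := by
  classical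
  set p := (hV₀.primeIdealOf ⟨η, hηV⟩).asIdeal with hp
  have hmin : p ∈ minimalPrimes Γ(Y, V₀) :=
    (H29Blow.minimalPrimes_iff_maximal_point hV₀ ⟨η, hηV⟩).2 (mem_genericPoints_iff.1 hη)
  haveI hpp : p.IsPrime := hmin.1.1
  -- the affine open containing the fibre
  set W : X.Opens := ⨆ x ∈ f.base ⁻¹' {η}, U x with hWdef
  have hWaff : IsAffineOpen W :=
    IsAffineOpen.biSup_of_disjoint hfin (fun x hx => (hU x hx).1) hdisj
  have hW : W ≤ f ⁻¹ᵁ V₀ := iSup₂_le fun x hx => (hU x hx).2.2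
  have hfibW : ∀ x, f x = η → x ∈ W := fun x hx =>
    Opens.mem_iSup.2 ⟨x, Opens.mem_iSup.2 ⟨hx, (hU x hx).2.1⟩⟩
  -- shrink so that the preimage lies in `W`
  obtain ⟨G, hG, hGV⟩ := (isCompact_iff_finite_and_eq_biUnion_affineOpens (X := X)).1 hc
  have hle : ∀ T ∈ G, (T : X.affineOpens).1 ≤ f ⁻¹ᵁ V₀ := fun T hT z hz => by
    show z ∈ ((f ⁻¹ᵁ V₀ : X.Opens) : Set X)
    rw [hGV]
    simp only [Opens.coe_iSup, Set.mem_iUnion]
    exact ⟨T, hT, hz⟩
  have hT : ∀ T ∈ G, ∃ s ∉ p, ∀ z ∈ (T : X.affineOpens).1, f z ∈ Y.basicOpen s → z ∈ W := by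
    intro T hT
    obtain ⟨J, hJ⟩ : ∃ J : Ideal Γ(X, T.1), ∀ z (hz : z ∈ T.1),
        z ∈ W ↔ ¬ J ≤ (T.2.primeIdealOf ⟨z, hz⟩).asIdeal := by
      refine ⟨Ideal.span {a | X.basicOpen a ≤ W}, fun z hz => ?_⟩
      rw [Ideal.span_le, Set.not_subset]
      constructor
      · intro hzW
        obtain ⟨a, haW, hza⟩ := T.2.exists_basicOpen_le (V := W) ⟨z, hzW⟩ hz
        exact ⟨a, haW, fun h => (AssPts.mem_primeIdealOf T.2 hz a).1 h hza⟩
      · rintro ⟨a, haW, ha⟩
        refine haW ?_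
        by_contra hc'
        exact ha ((AssPts.mem_primeIdealOf T.2 hz a).2 hc')
    set φ := (f.appLE V₀ T.1 (hle T hT)).hom
    obtain ⟨s, hs, hsJ⟩ : ∃ s ∉ p, φ s ∈ J.radical := by
      by_contra hc'
      push_neg at hc'
      obtain ⟨Q, hQ, hJQ, hQS⟩ := Ideal.exists_le_prime_disjoint J.radical (p.primeCompl.map φ) (by
        rw [Set.disjoint_left]
        rintro z hz ⟨s, hs, rfl⟩
        exact hc' s hs hz)
      have hle' : Q.comap φ ≤ p := fun a ha => by
        by_contra hap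
        exact Set.disjoint_left.mp hQS ha ⟨a, hap, rfl⟩
      have heq := le_antisymm hle' (hmin.2 ⟨inferInstance, bot_le⟩ hle')
      obtain ⟨⟨z, hz⟩, hzQ⟩ := H29Blow.exists_primeIdealOf_eq T.2 ⟨Q, hQ⟩
      have hzV : f z ∈ V₀ := hle T hT hz
      have hfz : f z = η := by
        have h1 : (hV₀.primeIdealOf ⟨f z, hzV⟩).asIdeal = p := by
          rw [← heq]
          ext r
          rw [Ideal.mem_comap, AssPts.mem_primeIdealOf hV₀ hzV,
            show Q = (T.2.primeIdealOf ⟨z, hz⟩).asIdeal from (congrArg PrimeSpectrum.asIdeal hzQ).symm,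
            AssPts.mem_primeIdealOf T.2 hz]
          exact (not_congr ((mem_basicOpen_appLE f (hle T hT) r z).trans (and_iff_right hz))).symm
        exact (((H29Blow.primeIdealOf_le_iff hV₀ ⟨η, hηV⟩ ⟨f z, hzV⟩).1 h1.ge).antisymm
          ((H29Blow.primeIdealOf_le_iff hV₀ ⟨f z, hzV⟩ ⟨η, hηV⟩).1 h1.le)).eq.symm
      exact (hJ z hz).1 (hfibW z hfz)
        ((show Q = _ from (congrArg PrimeSpectrum.asIdeal hzQ).symm) ▸ (Ideal.le_radical.trans hJQ))
    refine ⟨s, hs, fun z hz hzs => (hJ z hz).2 fun hle' => ?_⟩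
    refine (AssPts.mem_primeIdealOf T.2 hz (φ s)).1 ?_ ?_
    · exact ((T.2.primeIdealOf ⟨z, hz⟩).isPrime.radical_le_iff.2 hle') hsJ
    · exact (mem_basicOpen_appLE f (hle T hT) s z).2 ⟨hz, hzs⟩
  choose! s₀ hs₀ hs₀W using hT
  set φW := (f.appLE V₀ W hW).hom
  algebraize [φW]
  haveI : Algebra.FiniteType Γ(Y, V₀) Γ(X, W) :=
    LocallyOfFiniteType.finiteType_appLE f hV₀ hWaff hW
  have hfinW : (PrimeSpectrum.comap (algebraMap Γ(Y, V₀) Γ(X, W)) ⁻¹' {⟨p, hpp⟩}).Finite := by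
    refine ((hfin.preimage (hWaff.fromSpec.isOpenEmbedding.injective.injOn)).subset ?_)
    intro q hq
    obtain ⟨⟨z, hz⟩, hzq⟩ := H29Blow.exists_primeIdealOf_eq hWaff q
    show f (hWaff.fromSpec q) = η
    rw [← hzq, hWaff.fromSpec_primeIdealOf]
    have hzV : f z ∈ V₀ := hW hz
    have h1 : (hV₀.primeIdealOf ⟨f z, hzV⟩).asIdeal = p := by
      rw [show p = (PrimeSpectrum.comap (algebraMap Γ(Y, V₀) Γ(X, W)) q).asIdeal from
        congrArg PrimeSpectrum.asIdeal (Set.mem_singleton_iff.1 hq).symm]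
      ext r
      rw [AssPts.mem_primeIdealOf hV₀ hzV, PrimeSpectrum.comap_asIdeal, Ideal.mem_comap, ← hzq,
        AssPts.mem_primeIdealOf hWaff hz, RingHom.algebraMap_toAlgebra]
      exact (not_congr ((mem_basicOpen_appLE f hW r z).trans (and_iff_right hz))).symm
    exact (((H29Blow.primeIdealOf_le_iff hV₀ ⟨η, hηV⟩ ⟨f z, hzV⟩).1 h1.ge).antisymm
      ((H29Blow.primeIdealOf_le_iff hV₀ ⟨f z, hzV⟩ ⟨η, hηV⟩).1 h1.le)).eq.symm
  obtain ⟨s₁, hs₁, hint⟩ := exists_isIntegral (B := Γ(X, W)) p hmin hfinW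
  have hsG : (∏ T ∈ hG.toFinset, s₀ T) * s₁ ∉ p := fun h => by
    rcases hpp.mem_or_mem h with h' | h'
    · obtain ⟨T, hT, hT'⟩ := hpp.prod_mem_iff.mp h'
      exact hs₀ T (hG.mem_toFinset.1 hT) hT'
    · exact hs₁ h'
  set s := (∏ T ∈ hG.toFinset, s₀ T) * s₁ with hsdef
  have hmemD : ∀ (z : Y), z ∈ Y.basicOpen s → (∀ T ∈ G, z ∈ Y.basicOpen (s₀ T)) ∧ z ∈ Y.basicOpen s₁ := by
    intro z hz
    have hzV : z ∈ V₀ := Y.basicOpen_le s hz
    have hu := (AssPts.isUnit_germ_iff hzV s).2 hz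
    rw [hsdef, map_mul, IsUnit.mul_iff, map_prod, IsUnit.prod_iff] at hu
    exact ⟨fun T hT => (AssPts.isUnit_germ_iff hzV _).1 (hu.1 T (hG.mem_toFinset.2 hT)),
      (AssPts.isUnit_germ_iff hzV _).1 hu.2⟩
  refine ⟨s, ?_, ?_⟩
  · by_contra hc'
    exact hsG ((AssPts.mem_primeIdealOf hV₀ hηV s).2 hc')
  have hDW : f ⁻¹ᵁ Y.basicOpen s ≤ W := by
    intro z hz
    have hz' : z ∈ ((f ⁻¹ᵁ V₀ : X.Opens) : Set X) := Y.basicOpen_le s hz
    rw [hGV] at hz'
    simp only [Opens.coe_iSup, Set.mem_iUnion] at hz'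
    obtain ⟨T, hT, hzT⟩ := hz'
    exact hs₀W T hT z hzT ((hmemD _ hz).1 T hT)
  have hpre := preimage_basicOpen_of_le f hW s hDW
  refine isFinite_morphismRestrict_of_app f (hV₀.basicOpen s) (hpre ▸ hWaff.basicOpen _) ?_
  have hft : (f.app (Y.basicOpen s)).hom.FiniteType := by
    rw [Scheme.Hom.app_eq_appLE]
    exact LocallyOfFiniteType.finiteType_appLE f (hV₀.basicOpen s) (hpre ▸ hWaff.basicOpen _) le_rfl
  refine RingHom.IsIntegral.to_finite ?_ hft
  algebraize [(f.app (Y.basicOpen s)).hom]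
  algebraize [(Y.presheaf.map (homOfLE (Y.basicOpen_le s)).op).hom,
    (X.presheaf.map (homOfLE hDW).op).hom, ((X.presheaf.map (homOfLE hDW).op).hom.comp φW)]
  haveI : IsScalarTower Γ(Y, V₀) Γ(Y, Y.basicOpen s) Γ(X, f ⁻¹ᵁ Y.basicOpen s) :=
    IsScalarTower.of_algebraMap_eq' (by
      simp only [RingHom.algebraMap_toAlgebra, φW, ← CommRingCat.hom_comp]
      rw [Scheme.Hom.appLE_map, Scheme.Hom.app_eq_appLE, Scheme.Hom.map_appLE])
  haveI : IsLocalization.Away (φW s) Γ(X, f ⁻¹ᵁ Y.basicOpen s) :=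
    hWaff.isLocalization_of_eq_basicOpen (φW s) (homOfLE hDW) hpre
  have hs₁u : IsUnit (algebraMap Γ(Y, V₀) Γ(Y, Y.basicOpen s) s₁) := by
    haveI := hV₀.isLocalization_basicOpen s
    have : IsUnit (algebraMap Γ(Y, V₀) Γ(Y, Y.basicOpen s) s) :=
      IsLocalization.Away.algebraMap_isUnit s
    rw [hsdef, map_mul] at this
    exact isUnit_of_mul_isUnit_right this
  intro x
  show IsIntegral Γ(Y, Y.basicOpen s) x
  obtain ⟨k, b, hb⟩ := IsLocalization.Away.surj (φW s) x
  have hsu : IsUnit (algebraMap Γ(Y, V₀) Γ(Y, Y.basicOpen s) s) := by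
    haveI := hV₀.isLocalization_basicOpen s
    exact IsLocalization.Away.algebraMap_isUnit s
  obtain ⟨w, hw⟩ := hsu
  have hphis : algebraMap Γ(X, W) Γ(X, f ⁻¹ᵁ Y.basicOpen s) (φW s) =
      algebraMap Γ(Y, Y.basicOpen s) Γ(X, f ⁻¹ᵁ Y.basicOpen s) (w : Γ(Y, Y.basicOpen s)) := by
    rw [hw, ← IsScalarTower.algebraMap_apply]
    rfl
  have hx : x = algebraMap Γ(Y, Y.basicOpen s) Γ(X, f ⁻¹ᵁ Y.basicOpen s) ((↑w⁻¹ : Γ(Y, Y.basicOpen s)) ^ k) *
      algebraMap Γ(X, W) Γ(X, f ⁻¹ᵁ Y.basicOpen s) b := by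
    rw [← hb, hphis, ← map_pow, mul_left_comm, ← map_mul, ← mul_pow, Units.inv_mul, one_pow, map_one,
      mul_one]
  rw [hx]
  exact isIntegral_algebraMap.mul (hint Γ(Y, Y.basicOpen s) Γ(X, f ⁻¹ᵁ Y.basicOpen s) hs₁u b)

end Groth.Agent.H17.GenFinite
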