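import Groth.Agent.H17.Imports
import Mathlib.AlgebraicGeometry.Morphisms.Separated
import Mathlib.AlgebraicGeometry.Morphisms.FiniteType
import Mathlib.AlgebraicGeometry.Gluing
import Mathlib.AlgebraicGeometry.PullbackCarrier

/-! Gluing two schemes along a common open subscheme, and when the result is separated. -/

set_option autoImplicit false
set_option linter.style.haveILetI false
universe u

open CategoryTheory Limits AlgebraicGeometry TopologicalSpace

namespace Groth.Agent.H17.OpenPushout

instance spanMap_isOpenImmersion {W A B : Scheme.{u}} (f : W ⟶ A) (g : W ⟶ B) [IsOpenImmersion f] [IsOpenImmersion g]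
    {i j : WalkingSpan} (h : i ⟶ j) : IsOpenImmersion ((span f g).map h) := by
  rcases h with _ | _
  · simp; infer_instance
  · rename_i k; cases k <;> simp <;> infer_instance

variable {W A B : Scheme.{u}} (f : W ⟶ A) (g : W ⟶ B) [IsOpenImmersion f] [IsOpenImmersion g]

instance isOpenImmersion_inl : IsOpenImmersion (pushout.inl f g) :=
  inferInstanceAs (IsOpenImmersion (colimit.ι (span f g) WalkingSpan.left))

instance isOpenImmersion_inr : IsOpenImmersion (pushout.inr f g) :=
  inferInstanceAs (IsOpenImmersion (colimit.ι (span f g) WalkingSpan.right))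

theorem inl_or_inr (x : ↑(pushout f g)) :
    x ∈ Set.range (pushout.inl f g) ∨ x ∈ Set.range (pushout.inr f g) := by
  obtain ⟨i, y, hy⟩ := Scheme.IsLocallyDirected.ι_jointly_surjective (span f g) x
  rcases i with _ | i
  · left
    refine ⟨f y, ?_⟩
    rw [← Scheme.Hom.comp_apply]
    have := colimit.w (span f g) WalkingSpan.Hom.fst
    rw [span_map_fst] at this
    exact (congr($this y)).trans hy
  · cases i
    · exact Or.inl ⟨y, hy⟩
    · exact Or.inr ⟨y, hy⟩

theorem inl_eq_inr {a : A} {b : B} (h : pushout.inl f g a = pushout.inr f g b) :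
    ∃ w : W, f w = a ∧ g w = b := by
  obtain ⟨k, fi, fj, y, h1, h2⟩ := (Scheme.IsLocallyDirected.ι_eq_ι_iff (span f g)
    (i := WalkingSpan.left) (j := WalkingSpan.right)).1 h
  rcases k with _ | k
  · obtain rfl : fi = WalkingSpan.Hom.fst := Subsingleton.elim _ _
    obtain rfl : fj = WalkingSpan.Hom.snd := Subsingleton.elim _ _
    exact ⟨y, h1, h2⟩
  · cases k
    · cases fj
    · cases fi

/-- The part of a product of two opens lying on the diagonal. -/
theorem preimage_range_diagonal {G S E A B : Scheme.{u}} (p : G ⟶ S) (a : A ⟶ G) (b : B ⟶ G) [IsOpenImmersion a]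
    [IsOpenImmersion b] (qa : A ⟶ S) (qb : B ⟶ S) (ha : a ≫ p = qa) (hb : b ≫ p = qb) (e : E ⟶ A) (e' : E ⟶ B)
    (he : e ≫ a = e' ≫ b) (hd : e ≫ qa = e' ≫ qb) (hsup : Set.range a ∩ Set.range b ⊆ Set.range (e ≫ a)) :
    pullback.map qa qb p p a b (𝟙 S) (by simp [ha]) (by simp [hb]) ⁻¹' Set.range (pullback.diagonal p) =
      Set.range (pullback.lift e e' hd) := by
  set q := pullback.map qa qb p p a b (𝟙 S) (by simp [ha]) (by simp [hb]) with hq
  have hcomp : pullback.lift e e' hd ≫ q = (e ≫ a) ≫ pullback.diagonal p := by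
    apply pullback.hom_ext
    · rw [Category.assoc, Category.assoc, pullback.diagonal_fst, Category.comp_id, hq, pullback.lift_fst, pullback.lift_fst_assoc]
    · rw [Category.assoc, Category.assoc, pullback.diagonal_snd, Category.comp_id, hq, pullback.lift_snd, pullback.lift_snd_assoc, he]
  haveI : IsOpenImmersion q := by rw [hq]; infer_instance
  ext v
  constructor
  · rintro ⟨x, hx⟩
    have h1 : a (pullback.fst qa qb v) = x := by
      have : (q ≫ pullback.fst p p) v = (pullback.fst qa qb ≫ a) v := by rw [hq, pullback.lift_fst]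
      rw [Scheme.Hom.comp_apply, Scheme.Hom.comp_apply, ← hx, ← Scheme.Hom.comp_apply, pullback.diagonal_fst] at this
      exact this.symm
    have h2 : b (pullback.snd qa qb v) = x := by
      have : (q ≫ pullback.snd p p) v = (pullback.snd qa qb ≫ b) v := by rw [hq, pullback.lift_snd]
      rw [Scheme.Hom.comp_apply, Scheme.Hom.comp_apply, ← hx, ← Scheme.Hom.comp_apply, pullback.diagonal_snd] at this
      exact this.symm
    obtain ⟨w, hw⟩ := hsup ⟨⟨_, h1⟩, ⟨_, h2⟩⟩
    refine ⟨w, q.isOpenEmbedding.injective ?_⟩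
    rw [← hx, ← hw, ← Scheme.Hom.comp_apply, hcomp, Scheme.Hom.comp_apply]
  · rintro ⟨w, rfl⟩
    refine ⟨(e ≫ a) w, ?_⟩
    rw [← Scheme.Hom.comp_apply, ← hcomp, Scheme.Hom.comp_apply]

variable {S : Scheme.{u}} (qa : A ⟶ S) (qb : B ⟶ S) (h : f ≫ qa = g ≫ qb)

/-- The pushout along an open is separated if the graph of the overlap is closed. -/
theorem isSeparated_desc [IsSeparated qa] [IsSeparated qb]
    (hcl : IsClosed (Set.range (pullback.lift f g h))) : IsSeparated (pushout.desc qa qb h) := by
  set p := pushout.desc qa qb h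
  have ha : pushout.inl f g ≫ p = qa := pushout.inl_desc _ _ _
  have hb : pushout.inr f g ≫ p = qb := pushout.inr_desc _ _ _
  have hab : Set.range (pushout.inl f g) ∩ Set.range (pushout.inr f g) ⊆ Set.range (f ≫ pushout.inl f g) := by
    rintro _ ⟨⟨a, rfl⟩, b, hb'⟩
    obtain ⟨w, hw, -⟩ := inl_eq_inr f g hb'.symm
    exact ⟨w, by rw [Scheme.Hom.comp_apply, hw]⟩
  have hcl' : IsClosed (Set.range (pullback.lift g f h.symm)) := by
    have e : pullback.lift g f h.symm = pullback.lift f g h ≫ (pullbackSymmetry qa qb).hom := by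
      apply pullback.hom_ext
      · rw [Category.assoc, pullbackSymmetry_hom_comp_fst, pullback.lift_fst, pullback.lift_snd]
      · rw [Category.assoc, pullbackSymmetry_hom_comp_snd, pullback.lift_fst, pullback.lift_snd]
    rw [e, Scheme.Hom.comp_base, TopCat.coe_comp, Set.range_comp]
    exact (pullbackSymmetry qa qb).hom.homeomorph.isClosedMap _ hcl
  have hdA : IsClosed (Set.range (pullback.lift (𝟙 A) (𝟙 A) (rfl : 𝟙 A ≫ qa = 𝟙 A ≫ qa))) :=
    (pullback.diagonal qa).isClosedEmbedding.isClosed_range
  have hdB : IsClosed (Set.range (pullback.lift (𝟙 B) (𝟙 B) (rfl : 𝟙 B ≫ qb = 𝟙 B ≫ qb))) :=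
    (pullback.diagonal qb).isClosedEmbedding.isClosed_range
  have hclosed : IsClosed (Set.range (pullback.diagonal p)) := by
    rw [← isOpen_compl_iff, isOpen_iff_forall_mem_open]
    intro z hz
    have main : ∀ {A' B' E : Scheme.{u}} (a : A' ⟶ pushout f g) (b : B' ⟶ pushout f g) [IsOpenImmersion a]
        [IsOpenImmersion b] (qa' : A' ⟶ S) (qb' : B' ⟶ S) (ha : a ≫ p = qa') (hb : b ≫ p = qb') (e : E ⟶ A')
        (e' : E ⟶ B') (he : e ≫ a = e' ≫ b) (hd : e ≫ qa' = e' ≫ qb'),
        Set.range a ∩ Set.range b ⊆ Set.range (e ≫ a) → IsClosed (Set.range (pullback.lift e e' hd)) →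
        pullback.fst p p z ∈ Set.range a → pullback.snd p p z ∈ Set.range b →
        ∃ t ⊆ (Set.range (pullback.diagonal p))ᶜ, IsOpen t ∧ z ∈ t := by
      intro A' B' E a b _ _ qa' qb' ha hb e e' he hd hsup hc h1 h2
      let q := pullback.map qa' qb' p p a b (𝟙 S) (by simp [ha]) (by simp [hb])
      obtain ⟨v, hv⟩ : z ∈ Set.range q := by rw [Scheme.Pullback.range_map]; exact ⟨h1, h2⟩
      refine ⟨q '' (Set.range (pullback.lift e e' hd))ᶜ, ?_,
        q.isOpenEmbedding.isOpenMap _ hc.isOpen_compl, v, ?_, hv⟩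
      · rintro _ ⟨w, hw, rfl⟩ hd'
        refine hw ?_
        rw [← preimage_range_diagonal p a b qa' qb' ha hb e e' he hd hsup]
        exact hd'
      · intro hv'
        rw [← preimage_range_diagonal p a b qa' qb' ha hb e e' he hd hsup] at hv'
        have hv'' : q v ∈ Set.range (pullback.diagonal p) := hv'
        rw [hv] at hv''
        exact hz hv''
    rcases inl_or_inr f g (pullback.fst p p z) with h1 | h1 <;>
      rcases inl_or_inr f g (pullback.snd p p z) with h2 | h2
    · exact main _ _ qa qa ha ha (𝟙 A) (𝟙 A) rfl rfl (fun x hx => by simpa using hx.1) hdA h1 h2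
    · exact main _ _ qa qb ha hb f g pushout.condition h hab hcl h1 h2
    · exact main _ _ qb qa hb ha g f pushout.condition.symm h.symm
        (fun x hx => by rw [← pushout.condition]; exact hab ⟨hx.2, hx.1⟩) hcl' h1 h2
    · exact main _ _ qb qb hb hb (𝟙 B) (𝟙 B) rfl rfl (fun x hx => by simpa using hx.1) hdB h1 h2
  exact ⟨IsClosedImmersion.of_isPreimmersion (pullback.diagonal p) hclosed⟩

theorem locallyOfFiniteType_desc [LocallyOfFiniteType qa] [LocallyOfFiniteType qb] :
    LocallyOfFiniteType (pushout.desc qa qb h) := by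
  set p := pushout.desc qa qb h
  let U : Bool → (pushout f g).Opens := fun i => if i then (pushout.inl f g).opensRange else (pushout.inr f g).opensRange
  have hU : iSup U = ⊤ := by
    refine eq_top_iff.2 fun x _ => Opens.mem_iSup.2 ?_
    rcases inl_or_inr f g x with hx | hx
    · exact ⟨true, hx⟩
    · exact ⟨false, hx⟩
  rw [IsZariskiLocalAtSource.iff_of_openCover (P := @LocallyOfFiniteType)
    (Scheme.openCoverOfIsOpenCover _ U (.mk hU))]
  intro i
  show LocallyOfFiniteType ((U i).ι ≫ p)
  cases i
  · rw [← MorphismProperty.cancel_left_of_respectsIso @LocallyOfFiniteType (pushout.inr f g).isoOpensRange.hom,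
      ← Category.assoc]
    show LocallyOfFiniteType (((pushout.inr f g).isoOpensRange.hom ≫ (pushout.inr f g).opensRange.ι) ≫ p)
    rw [Scheme.Hom.isoOpensRange_hom_ι, pushout.inr_desc]
    infer_instance
  · rw [← MorphismProperty.cancel_left_of_respectsIso @LocallyOfFiniteType (pushout.inl f g).isoOpensRange.hom,
      ← Category.assoc]
    show LocallyOfFiniteType (((pushout.inl f g).isoOpensRange.hom ≫ (pushout.inl f g).opensRange.ι) ≫ p)
    rw [Scheme.Hom.isoOpensRange_hom_ι, pushout.inl_desc]
    infer_instance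

theorem compactSpace [CompactSpace A] [CompactSpace B] : CompactSpace ↑(pushout f g) := by
  refine ⟨?_⟩
  rw [show (Set.univ : Set ↑(pushout f g)) = Set.range (pushout.inl f g) ∪ Set.range (pushout.inr f g) from
    (Set.eq_univ_of_forall (inl_or_inr f g)).symm]
  exact (isCompact_range (pushout.inl f g).continuous).union (isCompact_range (pushout.inr f g).continuous)

end Groth.Agent.H17.OpenPushout
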