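import Groth.Agent.H17.PrinOmega
import Groth.Agent.H29Fitt.Sheaf
import Mathlib

/-!
# Homomorphisms out of a quasi-coherent module on an affine scheme
-/

set_option autoImplicit false
set_option linter.style.haveILetI false
universe u

open CategoryTheory AlgebraicGeometry Opposite TopologicalSpace

noncomputable section

namespace Groth.Agent.H17.HomAffine

variable {X : Scheme.{u}}

theorem exists_ext_basicOpen {M N : X.Modules} (hM : Coh.IsQCoh M) (hX : IsAffineOpen (⊤ : X.Opens))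
    (φ : Γ(M, ⊤) →ₗ[Γ(X, ⊤)] Γ(N, ⊤)) (g : Γ(X, ⊤)) :
    ∃ ψ : Γ(M, X.basicOpen g) →ₗ[Γ(X, X.basicOpen g)] Γ(N, X.basicOpen g),
      ∀ m, ψ (M.presheaf.map (homOfLE (le_top : X.basicOpen g ≤ ⊤)).op m) =
        N.presheaf.map (homOfLE (le_top : X.basicOpen g ≤ ⊤)).op (φ m) := by
  letI := Module.compHom Γ(M, X.basicOpen g) (algebraMap Γ(X, ⊤) Γ(X, X.basicOpen g))
  letI := Module.compHom Γ(N, X.basicOpen g) (algebraMap Γ(X, ⊤) Γ(X, X.basicOpen g))
  haveI : IsScalarTower Γ(X, ⊤) Γ(X, X.basicOpen g) Γ(M, X.basicOpen g) := .of_algebraMap_smul fun _ _ => rfl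
  haveI : IsScalarTower Γ(X, ⊤) Γ(X, X.basicOpen g) Γ(N, X.basicOpen g) := .of_algebraMap_smul fun _ _ => rfl
  haveI := hX.isLocalization_basicOpen g
  haveI := H29Fitt.isLocalizedModule_resLin M hM hX g
  have hu : ∀ s : Submonoid.powers g,
      IsUnit (algebraMap Γ(X, ⊤) (Module.End Γ(X, ⊤) Γ(N, X.basicOpen g)) s) := fun s => by
    rw [Module.End.isUnit_iff]
    have hu := IsLocalization.map_units Γ(X, X.basicOpen g) s
    exact ⟨fun a b hab => hu.smul_left_cancel.mp hab,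
      fun m => ⟨(↑hu.unit⁻¹ : Γ(X, X.basicOpen g)) • m, by
        change algebraMap Γ(X, ⊤) Γ(X, X.basicOpen g) _ • (↑hu.unit⁻¹ : Γ(X, X.basicOpen g)) • m = m
        rw [smul_smul, hu.mul_val_inv, one_smul]⟩⟩
  let ψ := IsLocalizedModule.lift (Submonoid.powers g) (H29Fitt.resLin M g) ((H29Fitt.resLin N g).comp φ) hu
  refine ⟨LinearMap.extendScalarsOfIsLocalization (Submonoid.powers g) Γ(X, X.basicOpen g) ψ, fun m => ?_⟩
  exact IsLocalizedModule.lift_apply (Submonoid.powers g) (H29Fitt.resLin M g) ((H29Fitt.resLin N g).comp φ) hu m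

/-- On an affine scheme a linear map of global sections extends to the sheaves. -/
theorem exists_hom_of_top {M N : X.Modules} (hM : Coh.IsQCoh M) [IsAffine X]
    (φ : Γ(M, ⊤) →ₗ[Γ(X, ⊤)] Γ(N, ⊤)) : ∃ α : M ⟶ N, ∀ m, α.app ⊤ m = φ m := by
  have hX := isAffineOpen_top X
  let B : X.Opens → Prop := fun U => ∃ g : Γ(X, ⊤), U = X.basicOpen g
  have hex : ∀ U, B U → ∃ ψ : Γ(M, U) →ₗ[Γ(X, U)] Γ(N, U), ∀ m,
      ψ (M.presheaf.map (homOfLE (le_top : U ≤ ⊤)).op m) = N.presheaf.map (homOfLE (le_top : U ≤ ⊤)).op (φ m) := by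
    rintro _ ⟨g, rfl⟩
    exact exists_ext_basicOpen hM hX φ g
  choose ν hν using hex
  obtain ⟨α, hα⟩ := PrinOmega.exists_hom_of_basis M N B (fun W x hx => by
    obtain ⟨g, hg, hxg⟩ := hX.exists_basicOpen_le (V := W) ⟨x, hx⟩ trivial
    exact ⟨_, ⟨g, rfl⟩, hxg, hg⟩) ν (fun U U' h h' e s => by
    obtain ⟨g, rfl⟩ := h
    obtain ⟨n, s₀, hs⟩ := H29Blow.exists_pow_smul_eq_res M hM hX g s
    let c : Γ(X, U') := X.presheaf.map (homOfLE (e.trans (X.basicOpen_le g))).op (g ^ n)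
    have hu : IsUnit c := by
      have h1 : IsUnit (X.presheaf.map (homOfLE (X.basicOpen_le g)).op g) :=
        RingedSpace.isUnit_res_basicOpen _ g
      have h2 := (h1.pow n).map (X.presheaf.map (homOfLE e).op).hom
      rw [← map_pow, ← ConcreteCategory.comp_apply, ← Functor.map_comp] at h2
      exact h2
    have hres : X.presheaf.map (homOfLE e).op (X.presheaf.map (homOfLE (X.basicOpen_le g)).op (g ^ n)) = c := by
      rw [← ConcreteCategory.comp_apply, ← Functor.map_comp]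
      rfl
    refine hu.smul_left_cancel.mp ?_
    have hs' : X.presheaf.map (homOfLE (X.basicOpen_le g)).op (g ^ n) • s =
        M.presheaf.map (homOfLE (le_top : X.basicOpen g ≤ ⊤)).op s₀ := hs.symm
    rw [← map_smul, ← hres, ← Scheme.Modules.map_smul, ← Scheme.Modules.map_smul, ← map_smul, hs',
      ← ConcreteCategory.comp_apply, ← Functor.map_comp, hν, ← ConcreteCategory.comp_apply]
    refine Eq.trans (hν _ _ s₀) ?_
    rw [← Functor.map_comp]
    rfl)
  refine ⟨α, fun m => ?_⟩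
  have h1 : B ⊤ := ⟨1, (X.basicOpen_of_isUnit isUnit_one).symm⟩
  rw [hα ⊤ h1]
  have h2 := hν ⊤ h1 m
  rw [show (homOfLE (le_top : (⊤ : X.Opens) ≤ ⊤)).op = 𝟙 _ from rfl, CategoryTheory.Functor.map_id,
    CategoryTheory.Functor.map_id] at h2
  exact h2

end Groth.Agent.H17.HomAffine
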