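import Groth.Agent.H17.LocalRange
import Groth.Agent.H17.MonoField
import Groth.Agent.H11Val.Criteria
import Groth.Agent.H28Top.Spectral
import Mathlib.AlgebraicGeometry.Morphisms.FinitePresentation
import Mathlib.AlgebraicGeometry.Morphisms.FormallyUnramified
import Mathlib.AlgebraicGeometry.Morphisms.UniversallyInjective
import Mathlib.AlgebraicGeometry.Morphisms.Immersion
import Mathlib.AlgebraicGeometry.ZariskisMainTheorem

/-! Monomorphisms satisfying valuative lifting for points in the image are immersions. -/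

set_option autoImplicit false

universe u

open CategoryTheory Limits AlgebraicGeometry TopologicalSpace IsLocalRing Topology

namespace Groth.Agent.H17.ImmersionCrit

variable {X Y : Scheme.{u}} (f : Y ⟶ X)

/-- Valuative lifting when the closed point lies in the image. -/
def Lifts : Prop :=
  ∀ S : ValuativeCommSq f,
    (∃ l₀ : Spec (CommRingCat.of (IsLocalRing.ResidueField S.R)) ⟶ Y,
        l₀ ≫ f = Spec.map (CommRingCat.ofHom (IsLocalRing.residue S.R)) ≫ S.i₂) →
      S.commSq.HasLift

theorem mem_range_of_between [Mono f] [LocallyOfFiniteType f] (hf : Lifts f) {y₀ ye : Y}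
    (hsp : ye ⤳ y₀) {z : X} (h₁ : f ye ⤳ z) (h₂ : z ⤳ f y₀) : z ∈ Set.range f := by
  haveI : IsIso (pullback.diagonal f) := inferInstance
  haveI : FormallyUnramified f := inferInstance
  have hft : (f.stalkMap y₀).hom.EssFiniteType := LocallyOfFiniteType.stalkMap f y₀
  have hfu : (f.stalkMap y₀).hom.FormallyUnramified := FormallyUnramified.stalkMap f y₀
  algebraize [(f.stalkMap y₀).hom]
  haveI hloc : IsLocalHom (algebraMap (X.presheaf.stalk (f y₀)) (Y.presheaf.stalk y₀)) :=
    (inferInstance : IsLocalHom (f.stalkMap y₀).hom)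
  let ρY : Y.presheaf.stalk y₀ ⟶ Y.residueField ye := Y.presheaf.stalkSpecializes hsp ≫ Y.residue ye
  letI : Algebra (X.presheaf.stalk (f y₀)) (Y.residueField ye) := (f.stalkMap y₀ ≫ ρY).hom.toAlgebra
  let ρ : Y.presheaf.stalk y₀ →ₐ[X.presheaf.stalk (f y₀)] Y.residueField ye :=
    { ρY.hom with commutes' := fun _ => rfl }
  have hρY : Spec.map ρY ≫ Y.fromSpecStalk y₀ = Y.fromSpecResidueField ye := by
    rw [Spec.map_comp, Category.assoc, Scheme.SpecMap_stalkSpecializes_fromSpecStalk]; rfl
  have hrange : Set.range ρ = Set.range (algebraMap (X.presheaf.stalk (f y₀)) (Y.residueField ye)) := by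
    refine LocalRange.range_eq ρ Algebra.FormallyUnramified.map_maximalIdeal (fun b => ?_) ?_
    · haveI := MonoField.isIso_residueFieldMap_of_mono f y₀
      obtain ⟨c, hc⟩ := (ConcreteCategory.bijective_of_isIso (f.residueFieldMap y₀)).2 (Y.residue y₀ b)
      obtain ⟨a, rfl⟩ := X.residue_surjective (f y₀) c
      refine ⟨a, (IsLocalRing.residue_eq_zero_iff _).1 ?_⟩
      rw [map_sub, sub_eq_zero]
      refine hc.symm.trans ?_
      exact congr($(Scheme.residue_residueFieldMap f y₀) a)
    · intro V hV hVloc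
      let φV : X.presheaf.stalk (f y₀) ⟶ CommRingCat.of V :=
        CommRingCat.ofHom ((algebraMap (X.presheaf.stalk (f y₀)) (Y.residueField ye)).codRestrict V.toSubring hV)
      let t := Spec.map φV ≫ X.fromSpecStalk (f y₀)
      have ht : t (closedPoint V) = f y₀ := by
        show (Spec.map φV ≫ X.fromSpecStalk _) _ = _
        rw [Scheme.Hom.comp_apply]
        have : Spec.map φV (closedPoint V) = closedPoint (X.presheaf.stalk (f y₀)) :=
          IsLocalRing.comap_closedPoint (S := V)
            ((algebraMap (X.presheaf.stalk (f y₀)) (Y.residueField ye)).codRestrict V.toSubring hV)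
        rw [this, Scheme.fromSpecStalk_closedPoint]
      have w : Y.fromSpecResidueField ye ≫ f =
          Spec.map (CommRingCat.ofHom (algebraMap V (Y.residueField ye))) ≫ t := by
        rw [← hρY, Category.assoc, ← Scheme.SpecMap_stalkMap_fromSpecStalk, ← Spec.map_comp_assoc,
          ← Spec.map_comp_assoc]
        rfl
      obtain ⟨l₀, hl₀⟩ := MonoField.exists_lift_of_mem_range f (K := IsLocalRing.ResidueField V)
        (Spec.map (CommRingCat.ofHom (IsLocalRing.residue V)) ≫ t) ⟨y₀, by
          show _ = t (Spec.map (CommRingCat.ofHom (IsLocalRing.residue V)) (closedPoint _))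
          rw [show Spec.map (CommRingCat.ofHom (IsLocalRing.residue V)) (closedPoint (IsLocalRing.ResidueField V)) =
            closedPoint V from IsLocalRing.comap_closedPoint (IsLocalRing.residue V), ht]⟩
      obtain ⟨l, hl₁, hl₂⟩ :=
        (hf { R := V, K := Y.residueField ye, i₁ := _, i₂ := t, commSq := ⟨w⟩ } ⟨l₀, hl₀⟩).exists_lift
      dsimp only at hl₁ hl₂
      have hc : l (closedPoint V) = y₀ := f.injective (by rw [← Scheme.Hom.comp_apply, hl₂, ht])
      let ψ := Y.presheaf.stalkSpecializes (specializes_of_eq hc) ≫ Scheme.stalkClosedPointTo l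
      have hψ : Spec.map ψ ≫ Y.fromSpecStalk y₀ = l := by
        rw [Spec.map_comp, Category.assoc, Scheme.SpecMap_stalkSpecializes_fromSpecStalk,
          Scheme.Spec_stalkClosedPointTo_fromSpecStalk]
      have hψK : ψ ≫ CommRingCat.ofHom (algebraMap V (Y.residueField ye)) = ρY := by
        apply Spec.map_injective
        rw [← cancel_mono (Y.fromSpecStalk y₀), Spec.map_comp, Category.assoc, hψ, hl₁, hρY]
      have hb : ∀ b, ((ψ.hom b : V) : Y.residueField ye) = ρ b := fun b => congr($hψK b)
      refine ⟨fun b => hb b ▸ (ψ.hom b).2, ⟨fun b hu => ?_⟩⟩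
      have : IsLocalHom ψ.hom := by
        have h1 : IsIso (Y.presheaf.stalkSpecializes (specializes_of_eq hc)) :=
          (Y.presheaf.stalkCongr (.of_eq hc)).isIso_inv
        have h2 : IsLocalHom (Y.presheaf.stalkSpecializes (specializes_of_eq hc)).hom := isLocalHom_of_isIso _
        exact inferInstanceAs (IsLocalHom ((Scheme.stalkClosedPointTo l).hom.comp
          (Y.presheaf.stalkSpecializes (specializes_of_eq hc)).hom))
      refine isUnit_of_map_unit ψ.hom b ?_
      have e : ψ.hom b = (ρ.toRingHom.codRestrict V.toSubring (fun b => hb b ▸ (ψ.hom b).2)) b :=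
        Subtype.ext (hb b)
      rw [e]
      exact hu
  -- the intermediate point as a prime of the local ring below
  obtain ⟨Pz, hPz⟩ : z ∈ Set.range (X.fromSpecStalk (f y₀)) := by
    rw [Scheme.range_fromSpecStalk]; exact h₂
  have hle : RingHom.ker (f.stalkMap y₀ ≫ ρY).hom ≤ Pz.asIdeal := by
    let Pe := Spec.map (f.stalkMap y₀ ≫ ρY) (closedPoint (Y.residueField ye))
    have h1 : X.fromSpecStalk (f y₀) Pe = f ye := by
      show (Spec.map (f.stalkMap y₀ ≫ ρY) ≫ X.fromSpecStalk (f y₀)) _ = _
      rw [Spec.map_comp, Category.assoc, Scheme.SpecMap_stalkMap_fromSpecStalk, reassoc_of% hρY,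
        Scheme.Hom.comp_apply, Scheme.fromSpecResidueField_apply]
    have h2 : Pe ⤳ Pz := (X.fromSpecStalk (f y₀)).isEmbedding.isInducing.specializes_iff.1 (by
      rw [h1, hPz]; exact h₁)
    intro a ha
    refine (PrimeSpectrum.le_iff_specializes (Pe : PrimeSpectrum _) Pz).2 h2 ?_
    show (f.stalkMap y₀ ≫ ρY).hom a ∈ (closedPoint (Y.residueField ye)).asIdeal
    rw [RingHom.mem_ker.1 ha]
    exact Ideal.zero_mem _
  let ρA := (algebraMap (X.presheaf.stalk (f y₀)) (Y.residueField ye)).rangeRestrict
  have hkerA : RingHom.ker ρA ≤ RingHom.ker (Ideal.Quotient.mk Pz.asIdeal) := by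
    rw [Ideal.mk_ker]
    intro a ha
    exact hle (congrArg Subtype.val ha)
  let η := RingHom.liftOfSurjective ρA (RingHom.rangeRestrict_surjective _) ⟨_, hkerA⟩
  let χ : Y.presheaf.stalk y₀ →+* X.presheaf.stalk (f y₀) ⧸ Pz.asIdeal :=
    η.comp (ρ.toRingHom.codRestrict _ fun b => by
      have : ρ b ∈ Set.range (algebraMap (X.presheaf.stalk (f y₀)) (Y.residueField ye)) := hrange ▸ ⟨b, rfl⟩
      exact this)
  have hχ : ∀ a, χ (f.stalkMap y₀ a) = Ideal.Quotient.mk Pz.asIdeal a := fun a =>
    (congrArg η (Subtype.ext rfl)).trans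
      (RingHom.liftOfSurjective_comp_apply ρA (RingHom.rangeRestrict_surjective _) ⟨_, hkerA⟩ a)
  let Q : PrimeSpectrum (Y.presheaf.stalk y₀) := ⟨RingHom.ker χ, RingHom.ker_isPrime _⟩
  refine ⟨Y.fromSpecStalk y₀ Q, ?_⟩
  rw [← Scheme.Hom.comp_apply, ← Scheme.SpecMap_stalkMap_fromSpecStalk, Scheme.Hom.comp_apply, ← hPz]
  congr 1
  refine PrimeSpectrum.ext (Ideal.ext fun a => ?_)
  show χ (f.stalkMap y₀ a) = 0 ↔ _
  rw [hχ, Ideal.Quotient.eq_zero_iff_mem]

theorem isImmersion_of_lifts [IsLocallyNoetherian X] [Mono f] [LocallyOfFinitePresentation f]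
    [QuasiCompact f] (hf : Lifts f) : IsImmersion f := by
  haveI : IsSeparated f := inferInstance
  -- specialisations lift
  have hspec : ∀ ye y₀ : Y, f ye ⤳ f y₀ → ye ⤳ y₀ := by
    intro ye y₀ h
    obtain ⟨A, φ, hφloc, hA⟩ : ∃ (A : ValuationSubring (Y.residueField ye))
        (φ : X.presheaf.stalk (f y₀) ⟶ CommRingCat.of A), IsLocalHom φ.hom ∧
        φ ≫ CommRingCat.ofHom A.subtype = X.presheaf.stalkSpecializes h ≫ f.stalkMap ye ≫ Y.residue ye := by
      obtain ⟨A, hA, hloc⟩ := exists_factor_valuationRing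
        (X.presheaf.stalkSpecializes h ≫ f.stalkMap ye ≫ Y.residue ye).hom
      exact ⟨A, CommRingCat.ofHom (RingHom.codRestrict _ A.toSubring hA), hloc, rfl⟩
    let t := Spec.map φ ≫ X.fromSpecStalk (f y₀)
    have w : Y.fromSpecResidueField ye ≫ f =
        Spec.map (CommRingCat.ofHom (algebraMap A (Y.residueField ye))) ≫ t := by
      rw [Scheme.fromSpecResidueField, Category.assoc, ← Scheme.SpecMap_stalkMap_fromSpecStalk,
        ← Scheme.SpecMap_stalkSpecializes_fromSpecStalk h, ← Spec.map_comp_assoc, ← Spec.map_comp_assoc,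
        show CommRingCat.ofHom (algebraMap A (Y.residueField ye)) = CommRingCat.ofHom A.subtype from rfl,
        ← Spec.map_comp_assoc, hA]
    have ht : t (closedPoint A) = f y₀ := by
      show (Spec.map φ ≫ X.fromSpecStalk _) _ = _
      rw [Scheme.Hom.comp_apply]
      have : Spec.map φ (closedPoint A) = closedPoint (X.presheaf.stalk (f y₀)) :=
        IsLocalRing.comap_closedPoint (S := A) φ.hom
      rw [this, Scheme.fromSpecStalk_closedPoint]
    obtain ⟨l₀, hl₀⟩ := MonoField.exists_lift_of_mem_range f (K := IsLocalRing.ResidueField A)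
      (Spec.map (CommRingCat.ofHom (IsLocalRing.residue A)) ≫ t) ⟨y₀, by
        show _ = t (Spec.map (CommRingCat.ofHom (IsLocalRing.residue A)) (closedPoint _))
        rw [show Spec.map (CommRingCat.ofHom (IsLocalRing.residue A)) (closedPoint (IsLocalRing.ResidueField A)) =
          closedPoint A from IsLocalRing.comap_closedPoint (IsLocalRing.residue A), ht]⟩
    obtain ⟨l, hl₁, hl₂⟩ :=
      (hf { R := A, K := Y.residueField ye, i₁ := _, i₂ := t, commSq := ⟨w⟩ } ⟨l₀, hl₀⟩).exists_lift
    dsimp only at hl₁ hl₂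
    have hc : l (closedPoint A) = y₀ := f.injective (by rw [← Scheme.Hom.comp_apply, hl₂, ht])
    have e1 : ye = l (Spec.map (CommRingCat.ofHom (algebraMap A (Y.residueField ye)))
        (closedPoint (Y.residueField ye))) :=
      (Scheme.fromSpecResidueField_apply ye _).symm.trans (congr($hl₁.symm (closedPoint (Y.residueField ye))))
    exact (specializes_of_eq e1).trans (((specializes_closedPoint _).map l.continuous).trans (specializes_of_eq hc))
  -- closure points come from specialisations
  set E := Set.range f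
  have hE : IsLocallyConstructible E := by
    rw [show E = f '' Set.univ from Set.image_univ.symm]
    exact f.isLocallyConstructible_image IsLocallyConstructible.univ
  set F := closure E \ E with hF
  have hEF : ∀ x ∈ E, x ∉ closure F := by
    rintro x hx hxF
    obtain ⟨V, hV, hxV, -⟩ := exists_isAffineOpen_mem_and_subset (U := (⊤ : X.Opens)) (x := x) trivial
    obtain ⟨q, hq⟩ : ∃ q : PrimeSpectrum Γ(X, V), hV.fromSpec q = x := hV.range_fromSpec.ge hxV
    let φ : PrimeSpectrum Γ(X, V) → X := fun p => hV.fromSpec p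
    have hφ : IsOpenEmbedding φ := hV.fromSpec.isOpenEmbedding
    have hcl : ∀ s, φ ⁻¹' closure s = closure (φ ⁻¹' s) := fun s =>
      hφ.isOpenMap.preimage_closure_eq_closure_preimage hφ.continuous s
    have hE' : Topology.IsConstructible (φ ⁻¹' E) := (hE.preimage_of_isOpenEmbedding hφ).isConstructible
    have hEcl : IsClosed[constructibleTopology (PrimeSpectrum Γ(X, V))] (φ ⁻¹' E) :=
      H28Top.isClosed_constr_of_isConstructible hE'
    have hFcl : IsClosed[constructibleTopology (PrimeSpectrum Γ(X, V))] (φ ⁻¹' F) := by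
      rw [hF, Set.preimage_diff, hcl]
      exact @IsClosed.inter _ _ _ (constructibleTopology _)
        (H28Top.isClosed_constr_of_isClosed isClosed_closure)
        (@IsOpen.isClosed_compl _ (constructibleTopology _) _ (H28Top.isOpen_constr_of_isConstructible hE'))
    have hqF : q ∈ closure (φ ⁻¹' F) := hcl F ▸ (show φ q ∈ closure F from (show φ q = x from hq).symm ▸ hxF)
    obtain ⟨r, hrF, hrq⟩ := H28Top.exists_specializes_of_mem_closure hFcl hqF
    have hrE : r ∈ closure (φ ⁻¹' E) := hcl E ▸ (show φ r ∈ closure E from hrF.1)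
    obtain ⟨e, heE, her⟩ := H28Top.exists_specializes_of_mem_closure hEcl hrE
    obtain ⟨ye, hye⟩ := heE
    obtain ⟨y₀, hy₀⟩ := hx
    have h₁ : f ye ⤳ φ r := hye ▸ her.map hφ.continuous
    have h₂ : φ r ⤳ f y₀ := by rw [hy₀, ← hq]; exact hrq.map hφ.continuous
    exact hrF.2 (mem_range_of_between f hf (hspec ye y₀ (h₁.trans h₂)) h₁ h₂)
  let V : X.Opens := ⟨(closure F)ᶜ, isClosed_closure.isOpen_compl⟩
  have hrV : Set.range f ⊆ Set.range V.ι := by
    rw [Scheme.Opens.range_ι]
    rintro x hx
    exact hEF x hx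
  let j := IsOpenImmersion.lift V.ι f hrV
  have hj : j ≫ V.ι = f := IsOpenImmersion.lift_fac _ _ _
  haveI : Mono j := mono_of_mono_fac hj
  haveI : LocallyOfFiniteType (j ≫ V.ι) := hj.symm ▸ inferInstanceAs (LocallyOfFiniteType f)
  haveI : LocallyOfFiniteType j := locallyOfFiniteType_of_comp j V.ι
  haveI : QuasiCompact (j ≫ V.ι) := hj.symm ▸ inferInstanceAs (QuasiCompact f)
  haveI : QuasiCompact j := QuasiCompact.of_comp j V.ι
  haveI : UniversallyClosed j := H11Val.universallyClosed_of_dvrExistence j fun A _ _ _ x y hxy => by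
    have w : x ≫ f = Spec.map (CommRingCat.ofHom (algebraMap A (FractionRing A))) ≫ y ≫ V.ι := by
      rw [← hj, reassoc_of% hxy]
    have hmem : (y ≫ V.ι) (closedPoint A) ∈ Set.range f := by
      have h1 : f (x (closedPoint (FractionRing A))) ⤳ (y ≫ V.ι) (closedPoint A) := by
        rw [← Scheme.Hom.comp_apply, w, Scheme.Hom.comp_apply]
        exact (specializes_closedPoint _).map (y ≫ V.ι).continuous
      have h2 : (y ≫ V.ι) (closedPoint A) ∈ closure (Set.range f) :=
        (h1.mem_closed isClosed_closure (subset_closure ⟨_, rfl⟩))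
      by_contra h3
      exact (y (closedPoint A)).2 (subset_closure ⟨h2, h3⟩)
    obtain ⟨l₀, hl₀⟩ := MonoField.exists_lift_of_mem_range f (K := IsLocalRing.ResidueField A)
      (Spec.map (CommRingCat.ofHom (IsLocalRing.residue A)) ≫ y ≫ V.ι) (by
        show (y ≫ V.ι) (Spec.map (CommRingCat.ofHom (IsLocalRing.residue A)) (closedPoint _)) ∈ Set.range f
        rw [show Spec.map (CommRingCat.ofHom (IsLocalRing.residue A)) (closedPoint (IsLocalRing.ResidueField A)) =
          closedPoint A from IsLocalRing.comap_closedPoint (IsLocalRing.residue A)]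
        exact hmem)
    obtain ⟨l, hl₁, hl₂⟩ :=
      (hf { R := A, K := FractionRing A, i₁ := x, i₂ := y ≫ V.ι, commSq := ⟨w⟩ } ⟨l₀, hl₀⟩).exists_lift
    dsimp only at hl₁ hl₂
    exact ⟨l, by rw [← cancel_mono V.ι, Category.assoc, hj, hl₂], hl₁⟩
  haveI : IsProper j := { }
  haveI : IsClosedImmersion j := (IsClosedImmersion.iff_isProper_and_mono j).2 ⟨inferInstance, inferInstance⟩
  rw [← hj]
  infer_instance

end Groth.Agent.H17.ImmersionCrit
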