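import Groth.Prelude.Def_W4c5cptfessfintypeLocImm
import Groth.Agent.H17.QcImage
import Groth.Agent.H17.Reduced
import Mathlib.AlgebraicGeometry.Morphisms.SurjectiveOnStalks
import Mathlib.AlgebraicGeometry.Morphisms.OpenImmersion
import Mathlib.AlgebraicGeometry.Morphisms.Separated
import Mathlib.RingTheory.Localization.BaseChange
import Mathlib.AlgebraicGeometry.Noetherian

/-! Localizing morphisms and localizing immersions. -/

set_option autoImplicit false
universe u

open CategoryTheory Limits AlgebraicGeometry TopologicalSpace TensorProduct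

namespace Groth.Agent.H17.LocIm

open LocImm

section Ring

variable {A B C : Type u} [CommRing A] [CommRing B] [CommRing C]

theorem isLocHom_iff (φ : A →+* B) : IsLocHom φ ↔
    (∀ b, ∃ a s, IsUnit (φ s) ∧ b * φ s = φ a) ∧
      (∀ a a', φ a = φ a' → ∃ s, IsUnit (φ s) ∧ s * a = s * a') := by
  let := φ.toAlgebra
  constructor
  · rintro ⟨S, hS⟩
    refine ⟨fun b => ?_, fun a a' h => ?_⟩
    · obtain ⟨⟨a, s⟩, h⟩ := IsLocalization.surj S b
      exact ⟨a, s, IsLocalization.map_units B s, h⟩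
    · obtain ⟨s, hs⟩ := IsLocalization.exists_of_eq (M := S) (S := B) h
      exact ⟨s, IsLocalization.map_units B s, hs⟩
  · rintro ⟨h1, h2⟩
    refine ⟨(IsUnit.submonoid B).comap φ.toMonoidHom,
      (isLocalization_iff _ _).mpr ⟨fun y => y.2, fun b => ?_, fun {a a'} h => ?_⟩⟩
    · obtain ⟨a, s, hs, h⟩ := h1 b; exact ⟨⟨a, ⟨s, hs⟩⟩, h⟩
    · obtain ⟨s, hs, h⟩ := h2 a a' h; exact ⟨⟨s, hs⟩, h⟩

theorem isLocHom_comp {φ : A →+* B} {ψ : B →+* C} (hφ : IsLocHom φ) (hψ : IsLocHom ψ) : IsLocHom (ψ.comp φ) := by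
  rw [isLocHom_iff] at *
  refine ⟨fun c => ?_, fun a a' h => ?_⟩
  · obtain ⟨b, s', hs', hc⟩ := hψ.1 c
    obtain ⟨a, s, hs, hb⟩ := hφ.1 b
    obtain ⟨a₂, s₂, hs₂, hs'2⟩ := hφ.1 s'
    have hu : IsUnit (ψ (φ a₂)) := by rw [← hs'2, map_mul]; exact hs'.mul (hs₂.map ψ)
    refine ⟨a * s₂, a₂ * s, ?_, ?_⟩
    · show IsUnit (ψ (φ (a₂ * s))); rw [map_mul, map_mul]; exact hu.mul (hs.map ψ)
    · show c * ψ (φ (a₂ * s)) = ψ (φ (a * s₂))
      rw [map_mul φ, map_mul φ, ← hb, ← hs'2]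
      simp only [map_mul]
      linear_combination (ψ (φ s₂) * ψ (φ s)) * hc
  · obtain ⟨s', hs', h'⟩ := hψ.2 _ _ h
    obtain ⟨a₂, s₂, hs₂, hs'2⟩ := hφ.1 s'
    have hu : IsUnit (ψ (φ a₂)) := by rw [← hs'2, map_mul]; exact hs'.mul (hs₂.map ψ)
    have h3 : φ (a₂ * a) = φ (a₂ * a') := by
      rw [map_mul, map_mul, ← hs'2]; linear_combination φ s₂ * h'
    obtain ⟨s, hs, h4⟩ := hφ.2 _ _ h3
    refine ⟨s * a₂, ?_, by linear_combination h4⟩
    show IsUnit (ψ (φ (s * a₂))); rw [map_mul, map_mul]; exact (hs.map ψ).mul hu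

/-- Cancel a localizing map on the left. -/
theorem isLocHom_of_comp {φ : A →+* B} {ψ : B →+* C} (hφ : IsLocHom φ) (h : IsLocHom (ψ.comp φ)) : IsLocHom ψ := by
  rw [isLocHom_iff] at *
  refine ⟨fun c => ?_, fun b b' hbb => ?_⟩
  · obtain ⟨a, s, hs, hc⟩ := h.1 c; exact ⟨φ a, φ s, hs, hc⟩
  · obtain ⟨a, s, hs, hb⟩ := hφ.1 b
    obtain ⟨a', s', hs', hb'⟩ := hφ.1 b'
    have : ψ (φ (a * s')) = ψ (φ (a' * s)) := by
      simp only [map_mul, ← hb, ← hb', hbb]; ring
    obtain ⟨t, ht, htt⟩ := h.2 _ _ this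
    refine ⟨φ t, ht, ((hs.mul hs').mul_left_inj).mp ?_⟩
    have := congrArg φ htt
    simp only [map_mul, ← hb, ← hb'] at this
    linear_combination this

theorem isLocHom_of_comp_injective {φ : A →+* B} {ψ : B →+* C} (hψ : Function.Injective ψ)
    (h : IsLocHom (ψ.comp φ)) : IsLocHom ψ := by
  rw [isLocHom_iff] at *
  refine ⟨fun c => ?_, fun b b' hbb => ⟨1, by simp, by rw [hψ hbb]⟩⟩
  obtain ⟨a, s, hs, hc⟩ := h.1 c; exact ⟨φ a, φ s, hs, hc⟩

end Ring

theorem isIso_stalkMap_oi {A B : Scheme.{u}} (g : A ⟶ B) [IsOpenImmersion g] (z : A) : IsIso (g.stalkMap z) :=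
  inferInstance

variable {X Y Z : Scheme.{u}} {f : X ⟶ Y}

theorem isIso_stalkMap (hf : IsLocalizing f) (x : X) : IsIso (f.stalkMap x) := by
  obtain ⟨⟨U, hU⟩, ⟨V, hV⟩, hx, e, hloc⟩ := hf x
  let φ := f.appLE U V e
  let q := hV.primeIdealOf ⟨x, hx⟩
  have hq : hV.fromSpec q = x := hV.fromSpec_primeIdealOf ⟨x, hx⟩
  have h0 : IsIso ((Spec.map φ).stalkMap q) := by
    refine ((MorphismProperty.isomorphisms CommRingCat).arrow_mk_iso_iff
      (Scheme.arrowStalkMapSpecIso φ q)).mpr ?_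
    rw [MorphismProperty.isomorphisms.iff, ConcreteCategory.isIso_iff_bijective]
    let := φ.hom.toAlgebra
    obtain ⟨S, hS⟩ := hloc
    let p := q.asIdeal.comap φ.hom
    have : IsLocalization.AtPrime (Localization.AtPrime q.asIdeal) (q.asIdeal.comap (algebraMap Γ(Y, U) Γ(X, V))) :=
      IsLocalization.isLocalization_isLocalization_atPrime_isLocalization S _ q.asIdeal
    have heq : Localization.localRingHom p q.asIdeal φ.hom rfl =
        (IsLocalization.algEquiv p.primeCompl (Localization.AtPrime p) (Localization.AtPrime q.asIdeal)).toRingEquiv.toRingHom := by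
      refine IsLocalization.ringHom_ext p.primeCompl (RingHom.ext fun a => ?_)
      show Localization.localRingHom p q.asIdeal φ.hom rfl (algebraMap _ _ a) = _
      rw [Localization.localRingHom_to_map]
      exact ((IsLocalization.algEquiv p.primeCompl (Localization.AtPrime p) (Localization.AtPrime q.asIdeal)).commutes a).symm
    show Function.Bijective (Localization.localRingHom p q.asIdeal φ.hom rfl)
    rw [heq]
    exact (IsLocalization.algEquiv p.primeCompl (Localization.AtPrime p) (Localization.AtPrime q.asIdeal)).bijective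
  have key : ∀ (g₁ g₂ : Spec Γ(X, V) ⟶ Y), g₁ = g₂ → IsIso (g₁.stalkMap q) → IsIso (g₂.stalkMap q) := by
    rintro g₁ _ rfl h; exact h
  have h1 : IsIso ((Spec.map φ ≫ hU.fromSpec).stalkMap q) := by
    rw [Scheme.Hom.stalkMap_comp]
    exact IsIso.comp_isIso' (isIso_stalkMap_oi hU.fromSpec _) h0
  have h2 := key _ _ (IsAffineOpen.SpecMap_appLE_fromSpec f hU hV e) h1
  rw [Scheme.Hom.stalkMap_comp] at h2
  have hoi : IsIso (hV.fromSpec.stalkMap q) := isIso_stalkMap_oi hV.fromSpec q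
  have h3 : IsIso (f.stalkMap (hV.fromSpec q)) :=
    @IsIso.of_isIso_comp_right _ _ _ _ _ (f.stalkMap (hV.fromSpec q)) (hV.fromSpec.stalkMap q) hoi h2
  rwa [hq] at h3

theorem surjectiveOnStalks (hf : IsLocalizing f) : SurjectiveOnStalks f :=
  ⟨fun x => (have := isIso_stalkMap hf x; (ConcreteCategory.bijective_of_isIso (f.stalkMap x)).2)⟩

theorem mono (hf : IsLocImmersion f) : Mono f :=
  have := surjectiveOnStalks hf.1
  SurjectiveOnStalks.mono_of_injective hf.2

/-- Generizations of an image point lift. -/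
theorem exists_lift_of_specializes (hf : IsLocalizing f) {x : X} {y : Y} (h : y ⤳ f x) :
    ∃ x', x' ⤳ x ∧ f x' = y := by
  have := isIso_stalkMap hf x
  have hy : y ∈ Set.range (Y.fromSpecStalk (f x)) := by rw [Y.range_fromSpecStalk]; exact h
  obtain ⟨z, rfl⟩ := hy
  obtain ⟨z', rfl⟩ := (Spec.map (f.stalkMap x)).surjective z
  refine ⟨X.fromSpecStalk x z', ?_, ?_⟩
  · have : X.fromSpecStalk x z' ∈ Set.range (X.fromSpecStalk x) := ⟨z', rfl⟩
    rw [X.range_fromSpecStalk] at this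
    exact this
  · rw [← Scheme.Hom.comp_apply, ← Scheme.SpecMap_stalkMap_fromSpecStalk, Scheme.Hom.comp_apply]

theorem stableUnderGeneralization_range (hf : IsLocalizing f) : StableUnderGeneralization (Set.range f) := by
  rintro _ y h ⟨x, rfl⟩
  obtain ⟨x', -, hx'⟩ := exists_lift_of_specializes hf h
  exact ⟨x', hx'⟩

theorem isEmbedding [IsNoetherian X] [IsLocallyNoetherian Y] (hf : IsLocImmersion f) : Topology.IsEmbedding f := by
  refine ⟨⟨le_antisymm (continuous_iff_le_induced.mp f.continuous) fun W hW => ?_⟩, hf.2⟩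
  let C := Wᶜ
  refine isOpen_induced_iff.mpr ⟨(closure (f '' C))ᶜ, isClosed_closure.isOpen_compl, ?_⟩
  ext x
  refine ⟨fun hx => by_contra fun hxW => hx (subset_closure ⟨x, hxW, rfl⟩), fun hxW hx => ?_⟩
  let Zc := Scheme.IdealSheafData.vanishingIdeal (X := X) ⟨C, hW.isClosed_compl⟩
  have hrange : Set.range (Zc.subschemeι ≫ f) = f '' C := by
    rw [Scheme.Hom.comp_base, TopCat.coe_comp, Set.range_comp, range_vanishingIdeal_subschemeι]
    rfl
  rw [← hrange] at hx
  obtain ⟨z, hz⟩ := exists_specializes_of_mem_closure_range (Zc.subschemeι ≫ f) hx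
  rw [Scheme.Hom.comp_apply] at hz
  obtain ⟨x', hx', hfx'⟩ := exists_lift_of_specializes hf.1 hz
  have hzC : Zc.subschemeι z ∈ C := by
    have : Zc.subschemeι z ∈ Set.range Zc.subschemeι := ⟨z, rfl⟩
    rw [range_vanishingIdeal_subschemeι] at this
    exact this
  rw [hf.2 hfx'] at hx'
  exact (hW.isClosed_compl.stableUnderSpecialization hx' hzC : x ∈ C) hxW

theorem isOpenImmersion_of_isOpen_range [IsNoetherian X] [IsLocallyNoetherian Y] (hf : IsLocImmersion f)
    (h : IsOpen (Set.range f)) : IsOpenImmersion f :=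
  IsOpenImmersion.iff_isIso_stalkMap.mpr ⟨⟨isEmbedding hf, h⟩, isIso_stalkMap hf.1⟩

theorem isOpen_of_isClosed_of_stableUnderGeneralization {T : Type*} [TopologicalSpace T] [QuasiSober T]
    [NoetherianSpace T] {s : Set T} (hc : IsClosed s) (hg : StableUnderGeneralization s) : IsOpen s := by
  have hfin : (irreducibleComponents T).Finite := NoetherianSpace.finite_irreducibleComponents
  rw [← isClosed_compl_iff]
  have : sᶜ = ⋃ Z ∈ {Z ∈ irreducibleComponents T | Disjoint Z s}, Z := by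
    ext t
    simp only [Set.mem_compl_iff, Set.mem_iUnion, Set.mem_ofPred_eq, exists_prop]
    refine ⟨fun ht => ⟨_, ⟨irreducibleComponent_mem_irreducibleComponents t, ?_⟩, mem_irreducibleComponent⟩, ?_⟩
    · refine Set.disjoint_left.mpr fun z hz hzs => ht ?_
      have hirr : IsIrreducible (irreducibleComponent t) := isIrreducible_irreducibleComponent
      have hgen := hirr.isGenericPoint_genericPoint_closure
      rw [closure_eq_iff_isClosed.mpr isClosed_irreducibleComponent] at hgen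
      exact hc.stableUnderSpecialization (hgen.specializes mem_irreducibleComponent)
        (hg (hgen.specializes hz) hzs)
    · rintro ⟨Z, ⟨-, hd⟩, ht⟩ hts
      exact Set.disjoint_left.mp hd ht hts
  rw [this]
  exact (hfin.subset fun Z hZ => hZ.1).isClosed_biUnion fun Z hZ => isClosed_of_mem_irreducibleComponents Z hZ.1

theorem isLocHom_appLE_basicOpen {U : Y.Opens} (hU : IsAffineOpen U) {V : X.Opens} (hV : IsAffineOpen V)
    (e : V ≤ f ⁻¹ᵁ U) (g : Γ(Y, U)) (hloc : IsLocHom (f.appLE U V e).hom)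
    (e' : X.basicOpen (f.appLE U V e g) ≤ f ⁻¹ᵁ Y.basicOpen g) :
    IsLocHom (f.appLE (Y.basicOpen g) (X.basicOpen (f.appLE U V e g)) e').hom := by
  have := hU.isLocalization_basicOpen g
  have := hV.isLocalization_basicOpen (f.appLE U V e g)
  refine isLocHom_of_comp (φ := algebraMap Γ(Y, U) Γ(Y, Y.basicOpen g)) ⟨Submonoid.powers g, by
    convert hU.isLocalization_basicOpen g⟩ ?_
  have h := isLocHom_comp hloc (show IsLocHom (algebraMap Γ(X, V) Γ(X, X.basicOpen (f.appLE U V e g))) from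
    ⟨Submonoid.powers (f.appLE U V e g), by
      convert hV.isLocalization_basicOpen (f.appLE U V e g)⟩)
  convert h using 1
  show ((Y.presheaf.map (homOfLE (Y.basicOpen_le g)).op) ≫ f.appLE (Y.basicOpen g) _ e').hom =
    (f.appLE U V e ≫ X.presheaf.map (homOfLE (X.basicOpen_le _)).op).hom
  rw [Scheme.Hom.map_appLE, Scheme.Hom.appLE_map]

theorem exists_affine_preimage [IsNoetherian X] [IsLocallyNoetherian Y] (hf : IsLocImmersion f) (x : X)
    {O : Y.Opens} (hO : f x ∈ O) :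
    ∃ V : Y.Opens, V ≤ O ∧ f x ∈ V ∧ IsAffineOpen V ∧ IsAffineOpen (f ⁻¹ᵁ V) ∧ IsLocHom (f.app V).hom := by
  obtain ⟨⟨U, hU⟩, ⟨W, hW⟩, hx, e, hloc⟩ := hf.1 x
  obtain ⟨P, hP, hPW⟩ := (isEmbedding hf).isInducing.isOpen_iff.mp W.2
  replace hPW : f ⁻¹' P = (W : Set X) := hPW
  have hxP : f x ∈ P := by
    have : x ∈ (W : Set X) := hx
    rwa [← hPW] at this
  obtain ⟨g, hg, hxg⟩ := hU.exists_basicOpen_le (V := ⟨P, hP⟩ ⊓ O) ⟨f x, hxP, hO⟩ (e hx)
  let φg := f.appLE U W e g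
  have hpre : f ⁻¹ᵁ Y.basicOpen g = X.basicOpen φg := by
    rw [Scheme.basicOpen_appLE]
    refine (inf_eq_right.mpr ?_).symm
    intro z hz
    show z ∈ (W : Set X)
    rw [← hPW]
    exact (hg hz).1
  refine ⟨Y.basicOpen g, hg.trans inf_le_right, hxg, hU.basicOpen g, hpre ▸ hW.basicOpen φg, ?_⟩
  have h := isLocHom_appLE_basicOpen hU hW e g hloc hpre.ge
  have key : ∀ (D : X.Opens) (hD : D ≤ f ⁻¹ᵁ Y.basicOpen g), D = f ⁻¹ᵁ Y.basicOpen g →
      IsLocHom (f.appLE (Y.basicOpen g) D hD).hom → IsLocHom (f.app (Y.basicOpen g)).hom := by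
    rintro D hD rfl hl
    rwa [Scheme.Hom.app_eq_appLE]
  exact key _ _ hpre.symm h

theorem isLocImmersion_of_nhds (H : ∀ x : X, ∃ V : Y.Opens, f x ∈ V ∧ IsAffineOpen V ∧ IsAffineOpen (f ⁻¹ᵁ V) ∧
    IsLocHom (f.app V).hom) : IsLocImmersion f := by
  refine ⟨fun x => ?_, fun x x' hxx => ?_⟩
  · obtain ⟨V, hxV, hV, hV', h⟩ := H x
    exact ⟨⟨V, hV⟩, ⟨_, hV'⟩, hxV, le_rfl, by rwa [← Scheme.Hom.app_eq_appLE]⟩
  · obtain ⟨V, hxV, hV, hV', h⟩ := H x
    have hx'V : x' ∈ f ⁻¹ᵁ V := show f x' ∈ V from hxx ▸ hxV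
    let := (f.app V).hom.toAlgebra
    obtain ⟨S, hS⟩ := h
    obtain ⟨q, hq⟩ : x ∈ Set.range hV'.fromSpec := by rw [hV'.range_fromSpec]; exact hxV
    obtain ⟨q', hq'⟩ : x' ∈ Set.range hV'.fromSpec := by rw [hV'.range_fromSpec]; exact hx'V
    have hsq := IsAffineOpen.SpecMap_appLE_fromSpec f hV hV' le_rfl
    rw [← Scheme.Hom.app_eq_appLE] at hsq
    have : PrimeSpectrum.comap (f.app V).hom q = PrimeSpectrum.comap (f.app V).hom q' := by
      apply hV.fromSpec.isOpenEmbedding.injective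
      have h1 := congr($hsq q); have h2 := congr($hsq q')
      simp only [Scheme.Hom.comp_apply] at h1 h2
      exact h1.trans ((by rw [hq, hq', hxx] : f (hV'.fromSpec q) = f (hV'.fromSpec q')).trans h2.symm)
    rw [← hq, ← hq', (PrimeSpectrum.localization_comap_isEmbedding Γ(X, f ⁻¹ᵁ V) S).injective this]

theorem baseChange {Y' : Scheme.{u}} (g : Y' ⟶ Y) (hf : IsLocImmersion f) :
    IsLocImmersion (pullback.snd f g) := by
  have := mono hf
  refine ⟨fun z => ?_, (pullback.snd f g).injective⟩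
  obtain ⟨⟨U, hU⟩, ⟨W, hW⟩, hx, e, hloc⟩ := hf.1 (pullback.fst f g z)
  have hgU : g (pullback.snd f g z) ∈ U := by
    rw [← Scheme.Hom.comp_apply, ← pullback.condition, Scheme.Hom.comp_apply]
    exact e hx
  obtain ⟨_, ⟨U', hU', rfl⟩, hzU', hU'le⟩ := Y'.isBasis_affineOpens.exists_subset_of_mem_open
    (show pullback.snd f g z ∈ (g ⁻¹ᵁ U : Set Y') from hgU) (g ⁻¹ᵁ U).2
  let sq := (IsPullback.of_hasPullback f g)
  let V : (pullback f g).Opens := pullback.fst f g ⁻¹ᵁ W ⊓ pullback.snd f g ⁻¹ᵁ U'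
  have : IsAffine _ := hU; have : IsAffine _ := hW; have : IsAffine _ := hU'
  have hV : IsAffineOpen V := .of_isIso (Scheme.Hom.isPullback_resLE sq hU'le e rfl).isoPullback.hom
  refine ⟨⟨U', hU'⟩, ⟨V, hV⟩, ⟨hx, hzU'⟩, inf_le_right, ?_⟩
  have hiso := isIso_pushoutSection_of_isAffineOpen sq (UY := V) hU'le e rfl hU hU' hW
  have po := (isIso_pushoutSection_iff sq (UY := V) hU'le e rfl).mp hiso
  let := (f.appLE U W e).hom.toAlgebra
  let := (g.appLE U U' hU'le).hom.toAlgebra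
  let := ((pullback.fst f g).appLE W V inf_le_left).hom.toAlgebra
  let := ((pullback.snd f g).appLE U' V inf_le_right).hom.toAlgebra
  let : Algebra Γ(Y, U) Γ(pullback f g, V) :=
    (((pullback.snd f g).appLE U' V inf_le_right).hom.comp (g.appLE U U' hU'le).hom).toAlgebra
  have : IsScalarTower Γ(Y, U) Γ(Y', U') Γ(pullback f g, V) := .of_algebraMap_eq fun _ => rfl
  have : IsScalarTower Γ(Y, U) Γ(X, W) Γ(pullback f g, V) := .of_algebraMap_eq fun a =>
    (congr($(po.w) a)).symm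
  obtain ⟨S, hS⟩ := hloc
  exact ⟨Algebra.algebraMapSubmonoid Γ(Y', U') S,
    (Algebra.isLocalization_iff_isPushout S Γ(X, W)).mpr (CommRingCat.isPushout_iff_isPushout.mp po.flip)⟩

end Groth.Agent.H17.LocIm
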