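import Groth.Agent.H17.LocIm
import Mathlib.AlgebraicGeometry.Morphisms.Preimmersion

/-! Composition, cancellation of localizing morphisms; localizing immersions are preimmersions. -/

set_option autoImplicit false
set_option linter.style.haveILetI false
universe u

open CategoryTheory Limits AlgebraicGeometry TopologicalSpace

namespace Groth.Agent.H17.LocImB

open LocImm

/-- `f` is localizing near `x`. -/
def LocAt {X Y : Scheme.{u}} (f : X ⟶ Y) (x : X) : Prop :=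
  ∃ (U : Y.affineOpens) (V : X.affineOpens) (_ : x ∈ V.1) (e : V.1 ≤ f ⁻¹ᵁ U.1), IsLocHom (f.appLE U V e).hom

variable {X Y Z : Scheme.{u}}

theorem isLocHom_res_basicOpen {V : X.Opens} (hV : IsAffineOpen V) (b : Γ(X, V)) :
    IsLocHom (X.presheaf.map (homOfLE (X.basicOpen_le b)).op).hom :=
  ⟨Submonoid.powers b, by convert hV.isLocalization_basicOpen b⟩

theorem isLocHom_of_bijective {A B : Type u} [CommRing A] [CommRing B] (φ : A →+* B) (h : Function.Bijective φ) :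
    IsLocHom φ := by
  rw [LocIm.isLocHom_iff]
  refine ⟨fun b => ?_, fun a a' e => ⟨1, by simp, by rw [h.1 e]⟩⟩
  obtain ⟨a, rfl⟩ := h.2 b
  exact ⟨a, 1, by simp, by simp⟩

theorem LocAt.comp {f : X ⟶ Y} {g : Y ⟶ Z} {x : X} (hf : LocAt f x) (hg : LocAt g (f x)) : LocAt (f ≫ g) x := by
  obtain ⟨⟨U₁, hU₁⟩, ⟨V₁, hV₁⟩, hx, e₁, h₁⟩ := hf
  obtain ⟨⟨U₂, hU₂⟩, ⟨V₂, hV₂⟩, hfx, e₂, h₂⟩ := hg
  obtain ⟨a, b, hab, hfa⟩ := exists_basicOpen_le_affine_inter hU₁ hV₂ (f x) ⟨e₁ hx, hfx⟩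
  have eW : X.basicOpen (f.appLE U₁ V₁ e₁ a) ≤ f ⁻¹ᵁ Y.basicOpen a := by
    rw [Scheme.basicOpen_appLE]; exact inf_le_right
  have hW := LocIm.isLocHom_appLE_basicOpen hU₁ hV₁ e₁ a h₁ eW
  have eD : Y.basicOpen a ≤ g ⁻¹ᵁ U₂ := by rw [hab]; exact (Y.basicOpen_le b).trans e₂
  have hD : IsLocHom (g.appLE U₂ (Y.basicOpen a) eD).hom := by
    have key : ∀ (D : Y.Opens) (eD : D ≤ g ⁻¹ᵁ U₂), D = Y.basicOpen b → IsLocHom (g.appLE U₂ D eD).hom := by
      rintro _ eD rfl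
      have := LocIm.isLocHom_comp h₂ (isLocHom_res_basicOpen hV₂ b)
      rw [show g.appLE U₂ (Y.basicOpen b) eD = g.appLE U₂ V₂ e₂ ≫ Y.presheaf.map (homOfLE (Y.basicOpen_le b)).op
        from (Scheme.Hom.appLE_map _ e₂ _).symm]
      exact this
    exact key _ _ hab
  have hxW : x ∈ X.basicOpen (f.appLE U₁ V₁ e₁ a) := by
    rw [Scheme.basicOpen_appLE]; exact ⟨hx, hfa⟩
  refine ⟨⟨U₂, hU₂⟩, ⟨_, hV₁.basicOpen _⟩, hxW, eW.trans (f.preimage_mono eD), ?_⟩
  rw [← Scheme.Hom.appLE_comp_appLE f g _ (Y.basicOpen a) _ eD eW]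
  exact LocIm.isLocHom_comp hD hW

theorem locAt_of_isOpenImmersion (f : X ⟶ Y) [IsOpenImmersion f] (x : X) : LocAt f x := by
  obtain ⟨_, ⟨V, hV, rfl⟩, hxV, -⟩ := X.isBasis_affineOpens.exists_subset_of_mem_open (Set.mem_univ x) isOpen_univ
  refine ⟨⟨f ''ᵁ V, hV.image_of_isOpenImmersion f⟩, ⟨V, hV⟩, hxV, (f.preimage_image_eq V).ge, ?_⟩
  refine isLocHom_of_bijective _ ?_
  have : IsIso (f.appLE (f ''ᵁ V) V (f.preimage_image_eq V).ge) := by
    rw [Scheme.Hom.appLE, Subsingleton.elim (homOfLE (f.preimage_image_eq V).ge) (eqToHom (f.preimage_image_eq V).symm)]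
    infer_instance
  exact ConcreteCategory.bijective_of_isIso (f.appLE (f ''ᵁ V) V (f.preimage_image_eq V).ge)

theorem isLocalizing_comp {f : X ⟶ Y} {g : Y ⟶ Z} (hf : IsLocalizing f) (hg : IsLocalizing g) :
    IsLocalizing (f ≫ g) := fun x => LocAt.comp (hf x) (hg (f x))

theorem isLocImmersion_comp {f : X ⟶ Y} {g : Y ⟶ Z} (hf : IsLocImmersion f) (hg : IsLocImmersion g) :
    IsLocImmersion (f ≫ g) := by
  refine ⟨isLocalizing_comp hf.1 hg.1, fun a b h => hf.2 (hg.2 ?_)⟩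
  exact h

theorem isLocImmersion_of_isOpenImmersion (f : X ⟶ Y) [IsOpenImmersion f] : IsLocImmersion f :=
  ⟨locAt_of_isOpenImmersion f, f.isOpenEmbedding.injective⟩

/-- Cancel a monomorphism on the right. -/
theorem isLocImmersion_of_comp_mono {f : X ⟶ Y} {g : Y ⟶ Z} [Mono g] (h : IsLocImmersion (f ≫ g)) :
    IsLocImmersion f := by
  have : f = (asIso (pullback.fst (f ≫ g) g)).inv ≫ pullback.snd (f ≫ g) g := by
    rw [asIso_inv, IsIso.eq_inv_comp, ← cancel_mono g, Category.assoc, pullback.condition]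
  rw [this]
  exact isLocImmersion_comp (isLocImmersion_of_isOpenImmersion _) (LocIm.baseChange g h)

theorem isPreimmersion [IsNoetherian X] [IsLocallyNoetherian Y] {f : X ⟶ Y} (hf : IsLocImmersion f) :
    IsPreimmersion f :=
  have := LocIm.surjectiveOnStalks hf.1
  { isEmbedding := LocIm.isEmbedding hf }

end Groth.Agent.H17.LocImB
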