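import Groth.Agent.H17.LocImmBasic
import Groth.Agent.H17.LocalImm
import Groth.Agent.S18197
import Groth.Agent.S18204
import Groth.Prelude.Def_EssFT

/-! A morphism essentially of finite type carrying a localizing immersion to a localizing immersion is a
localizing immersion near the image. -/

set_option autoImplicit false
set_option linter.style.haveILetI false
universe u

open CategoryTheory Limits AlgebraicGeometry TopologicalSpace

namespace Groth.Agent.H17.LocImmNhd

open LocImm

theorem isLocHom_algebraMap {A B : Type u} [CommRing A] [CommRing B] [Algebra A B] (S : Submonoid A)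
    [IsLocalization S B] : IsLocHom (algebraMap A B) := by
  rw [LocIm.isLocHom_iff]
  refine ⟨fun b => ?_, fun a a' h => ?_⟩
  · obtain ⟨⟨a, s⟩, h⟩ := IsLocalization.surj S b
    exact ⟨a, s, IsLocalization.map_units B s, h⟩
  · obtain ⟨s, hs⟩ := IsLocalization.exists_of_eq (M := S) (S := B) h
    exact ⟨s, IsLocalization.map_units B s, hs⟩

theorem isNoetherian_opens {X : Scheme.{u}} [IsNoetherian X] (U : X.Opens) : IsNoetherian (U : Scheme.{u}) :=
  have : CompactSpace (U : Scheme.{u}) := isCompact_iff_compactSpace.mp (NoetherianSpace.isCompact (U : Set X))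
  have := isLocallyNoetherian_of_isOpenImmersion U.ι
  { }

theorem bijective_localRingHom_of_isLocHom {A B : Type u} [CommRing A] [CommRing B] (φ : A →+* B)
    (h : IsLocHom φ) (q : Ideal B) [q.IsPrime] :
    Function.Bijective (Localization.localRingHom (q.comap φ) q φ rfl) := by
  let := φ.toAlgebra
  obtain ⟨S, hS⟩ := h
  let p := q.comap φ
  have : IsLocalization.AtPrime (Localization.AtPrime q) (q.comap (algebraMap A B)) :=
    IsLocalization.isLocalization_isLocalization_atPrime_isLocalization S _ q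
  have heq : Localization.localRingHom p q φ rfl =
      (IsLocalization.algEquiv p.primeCompl (Localization.AtPrime p) (Localization.AtPrime q)).toRingEquiv.toRingHom := by
    refine IsLocalization.ringHom_ext p.primeCompl (RingHom.ext fun a => ?_)
    show Localization.localRingHom p q φ rfl (algebraMap _ _ a) = _
    rw [Localization.localRingHom_to_map]
    exact ((IsLocalization.algEquiv p.primeCompl (Localization.AtPrime p) (Localization.AtPrime q)).commutes a).symm
  show Function.Bijective (Localization.localRingHom p q φ rfl)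
  rw [heq]
  exact (IsLocalization.algEquiv p.primeCompl (Localization.AtPrime p) (Localization.AtPrime q)).bijective

/-- An essentially finite type algebra which is an isomorphism on a local ring is localizing nearby. -/
theorem exists_isLocHom_away {A B : Type u} [CommRing A] [CommRing B] [Algebra A B] [Algebra.EssFiniteType A B]
    [IsNoetherianRing A] (p : Ideal B) [p.IsPrime]
    (h : Function.Bijective (Localization.localRingHom (p.comap (algebraMap A B)) p (algebraMap A B) rfl)) :
    ∃ t : B, t ∉ p ∧ ∀ (Bt : Type u) [CommRing Bt] [Algebra B Bt] [IsLocalization.Away t Bt],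
      IsLocHom ((algebraMap B Bt).comp (algebraMap A B)) := by
  let C := Algebra.EssFiniteType.subalgebra A B
  let ι : C →+* B := algebraMap C B
  have hι : IsLocHom ι := isLocHom_algebraMap (Algebra.EssFiniteType.submonoid A B)
  let P := p.comap ι
  have h1 : Function.Bijective (Localization.localRingHom (P.comap (algebraMap A C)) P (algebraMap A C) rfl) := by
    have hc := Localization.localRingHom_comp (P.comap (algebraMap A C)) P p (algebraMap A C) rfl ι rfl
    refine ((bijective_localRingHom_of_isLocHom ι hι p).of_comp_iff' _).1 ?_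
    rw [← RingHom.coe_comp, ← hc]
    exact h
  obtain ⟨r, t, ht, φ, hφ, hφc⟩ := LocalImm.exists_bijective_away P h1
  refine ⟨ι t, ht, fun Bt _ _ _ => ?_⟩
  let ψ : Localization.Away t →+* Bt := IsLocalization.Away.map (Localization.Away t) Bt ι t
  have hψc : ψ.comp (algebraMap C _) = (algebraMap B Bt).comp ι := IsLocalization.map_comp _
  have hψ : IsLocHom ψ := by
    refine LocIm.isLocHom_of_comp (φ := algebraMap C (Localization.Away t)) (isLocHom_algebraMap (Submonoid.powers t)) ?_
    rw [hψc]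
    exact LocIm.isLocHom_comp hι (isLocHom_algebraMap (Submonoid.powers (ι t)))
  have hA : IsLocHom (algebraMap A (Localization.Away r)) := isLocHom_algebraMap (Submonoid.powers r)
  have := LocIm.isLocHom_comp (LocIm.isLocHom_comp hA (LocImB.isLocHom_of_bijective φ hφ)) hψ
  rw [hφc, ← RingHom.comp_assoc, hψc, RingHom.comp_assoc] at this
  exact this

variable {X Y : Scheme.{u}}

theorem bijective_localRingHom_of_isIso_stalkMap (g : X ⟶ Y) {U : Y.Opens} (hU : IsAffineOpen U) {V : X.Opens}
    (hV : IsAffineOpen V) (e : V ≤ g ⁻¹ᵁ U) {y : X} (hy : y ∈ V) [IsIso (g.stalkMap y)] :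
    Function.Bijective (Localization.localRingHom ((hV.primeIdealOf ⟨y, hy⟩).asIdeal.comap (g.appLE U V e).hom)
      (hV.primeIdealOf ⟨y, hy⟩).asIdeal (g.appLE U V e).hom rfl) := by
  let φ := g.appLE U V e
  let q := hV.primeIdealOf ⟨y, hy⟩
  have hq : hV.fromSpec q = y := hV.fromSpec_primeIdealOf ⟨y, hy⟩
  have key : ∀ (g₁ g₂ : Spec Γ(X, V) ⟶ Y), g₁ = g₂ → IsIso (g₁.stalkMap q) → IsIso (g₂.stalkMap q) := by
    rintro g₁ _ rfl h; exact h
  have hgi : IsIso (g.stalkMap (hV.fromSpec q)) := hq ▸ inferInstance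
  have h1 : IsIso ((hV.fromSpec ≫ g).stalkMap q) := by
    rw [Scheme.Hom.stalkMap_comp]
    exact IsIso.comp_isIso' hgi (LocIm.isIso_stalkMap_oi hV.fromSpec q)
  have h2 := key _ _ (IsAffineOpen.SpecMap_appLE_fromSpec g hU hV e).symm h1
  rw [Scheme.Hom.stalkMap_comp] at h2
  have hoi := LocIm.isIso_stalkMap_oi hU.fromSpec (Spec.map φ q)
  have h3 : IsIso ((Spec.map φ).stalkMap q) :=
    @IsIso.of_isIso_comp_left _ _ _ _ _ (hU.fromSpec.stalkMap _) ((Spec.map φ).stalkMap q) hoi h2
  have h4 := ((MorphismProperty.isomorphisms CommRingCat).arrow_mk_iso_iff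
      (Scheme.arrowStalkMapSpecIso φ q)).mp h3
  rw [MorphismProperty.isomorphisms.iff, ConcreteCategory.isIso_iff_bijective] at h4
  exact h4

theorem locAt_of_isIso_stalkMap [IsLocallyNoetherian Y] (g : X ⟶ Y) [EssFT.LocallyEssFiniteType g] (y : X)
    [IsIso (g.stalkMap y)] : LocImB.LocAt g y := by
  obtain ⟨⟨U, hU⟩, ⟨V, hV⟩, hy, e, hess⟩ := EssFT.LocallyEssFiniteType.exists_appLE_essFiniteType (f := g) y
  let φ := g.appLE U V e
  let := φ.hom.toAlgebra
  have : Algebra.EssFiniteType Γ(Y, U) Γ(X, V) := hess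
  have : IsNoetherianRing Γ(Y, U) := IsLocallyNoetherian.component_noetherian ⟨U, hU⟩
  obtain ⟨t, ht, hloc⟩ := exists_isLocHom_away (hV.primeIdealOf ⟨y, hy⟩).asIdeal
    (bijective_localRingHom_of_isIso_stalkMap g hU hV e hy)
  have := hV.isLocalization_basicOpen t
  refine ⟨⟨U, hU⟩, ⟨_, hV.basicOpen t⟩, ?_, (X.basicOpen_le t).trans e, ?_⟩
  · have h4 : hV.primeIdealOf ⟨y, hy⟩ ∈ hV.fromSpec ⁻¹ᵁ X.basicOpen t := by
      rw [hV.fromSpec_preimage_basicOpen]; exact ht
    have h5 : hV.fromSpec (hV.primeIdealOf ⟨y, hy⟩) ∈ X.basicOpen t := h4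
    rwa [hV.fromSpec_primeIdealOf] at h5
  · have := hloc Γ(X, X.basicOpen t)
    rw [← Scheme.Hom.appLE_map g e (homOfLE (X.basicOpen_le t)).op]
    exact this

theorem exists_open_isLocImmersion {W : Scheme.{u}} [IsNoetherian W] [IsNoetherian X] [IsNoetherian Y]
    (f₁ : W ⟶ X) (f₂ : W ⟶ Y) (g : X ⟶ Y) (hf₁ : IsLocImmersion f₁) (hf₂ : IsLocImmersion f₂)
    [IsSeparated g] [EssFT.LocallyEssFiniteType g] (h : f₁ ≫ g = f₂) :
    ∃ U : X.Opens, Set.range f₁ ⊆ (U : Set X) ∧ IsLocImmersion (U.ι ≫ g) := by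
  subst h
  have hstalk : ∀ w : W, IsIso (g.stalkMap (f₁ w)) := fun w => by
    have h12 := LocIm.isIso_stalkMap hf₂.1 w
    rw [Scheme.Hom.stalkMap_comp] at h12
    exact @IsIso.of_isIso_comp_right _ _ _ _ _ (g.stalkMap (f₁ w)) (f₁.stalkMap w) (LocIm.isIso_stalkMap hf₁.1 w) h12
  let L : Set X := ⋃ (U : Y.affineOpens) (V : X.affineOpens) (e : V.1 ≤ g ⁻¹ᵁ U.1)
    (_ : IsLocHom (g.appLE U V e).hom), (V.1 : Set X)
  have hL : IsOpen L :=
    isOpen_iUnion fun _ => isOpen_iUnion fun V => isOpen_iUnion fun _ => isOpen_iUnion fun _ => V.1.2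
  have hmemL : ∀ z, z ∈ L → LocImB.LocAt g z := fun z hz => by
    simp only [L, Set.mem_iUnion] at hz
    obtain ⟨U, V, e, hloc, hz⟩ := hz
    exact ⟨U, V, hz, e, hloc⟩
  let bad : Set (Set X) := {Z ∈ irreducibleComponents X | Disjoint Z (Set.range f₁)}
  have hbad : IsClosed (⋃₀ bad) := by
    rw [Set.sUnion_eq_biUnion]
    exact ((NoetherianSpace.finite_irreducibleComponents (α := X)).subset fun Z hZ => hZ.1).isClosed_biUnion
      fun Z hZ => isClosed_of_mem_irreducibleComponents Z hZ.1
  let U : X.Opens := ⟨L ∩ (⋃₀ bad)ᶜ, hL.inter hbad.isOpen_compl⟩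
  have hsub : Set.range f₁ ⊆ (U : Set X) := by
    rintro _ ⟨w, rfl⟩
    refine ⟨?_, ?_⟩
    · have := hstalk w
      obtain ⟨U, V, hz, e, hloc⟩ := locAt_of_isIso_stalkMap g (f₁ w)
      simp only [L, Set.mem_iUnion]
      exact ⟨U, V, e, hloc, hz⟩
    · rintro ⟨Z, ⟨-, hd⟩, hwZ⟩
      exact Set.disjoint_left.1 hd hwZ ⟨w, rfl⟩
  have hUloc : IsLocalizing (U.ι ≫ g) := fun z =>
    LocImB.LocAt.comp (LocImB.locAt_of_isOpenImmersion U.ι z) (hmemL _ z.2.1)
  refine ⟨U, hsub, hUloc, ?_⟩
  have := isNoetherian_opens U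
  rw [Groth.Agent.S18197.result (U.ι ≫ g) hUloc]
  refine ⟨inferInstance, ?_⟩
  have hmax : ∀ z : (U : Scheme.{u}), (∀ z' : (U : Scheme.{u}), z' ⤳ z → z' = z) → U.ι z ∈ Set.range f₁ := by
    intro z hz
    by_contra hzr
    have hirr : IsIrreducible (irreducibleComponent (U.ι z)) := isIrreducible_irreducibleComponent
    have hgen := hirr.isGenericPoint_genericPoint_closure
    rw [closure_eq_iff_isClosed.mpr isClosed_irreducibleComponent] at hgen
    set η := hirr.genericPoint with hη
    have hηz : η ⤳ U.ι z := hgen.specializes mem_irreducibleComponent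
    have hηU : η ∈ U := hηz.mem_open U.2 z.2
    have hsp : (⟨η, hηU⟩ : (U : Scheme.{u})) ⤳ z := U.ι.isOpenEmbedding.isInducing.specializes_iff.1 hηz
    have heq : η = U.ι z := congrArg U.ι (hz _ hsp)
    refine z.2.2 ⟨_, ⟨irreducibleComponent_mem_irreducibleComponents (U.ι z), ?_⟩, mem_irreducibleComponent⟩
    refine Set.disjoint_left.2 fun t ht htr => hzr ?_
    rw [← heq]
    exact LocIm.stableUnderGeneralization_range hf₁.1 (hgen.specializes ht) htr
  intro a ha b hb hab
  obtain ⟨w, hw⟩ := hmax a ha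
  obtain ⟨w', hw'⟩ := hmax b hb
  have : w = w' := hf₂.2 (by
    show g (f₁ w) = g (f₁ w')
    rw [hw, hw']; exact hab)
  apply U.ι.isOpenEmbedding.injective
  rw [← hw, ← hw', this]

end Groth.Agent.H17.LocImmNhd
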