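import Groth.Agent.H17.LocImmFactor

/-! Properties of morphisms essentially of finite type checked at the points (Nayak 5.?). -/

set_option autoImplicit false
set_option linter.style.haveILetI false
universe u

open CategoryTheory Limits AlgebraicGeometry TopologicalSpace

namespace Groth.Agent.H17.LocImmLocus

open LocImm

variable {X Y : Scheme.{u}}

theorem isLocImmersion_fromSpecStalk (X : Scheme.{u}) (x : X) : IsLocImmersion (X.fromSpecStalk x) := by
  obtain ⟨_, ⟨V, hV, rfl⟩, hxV, -⟩ := X.isBasis_affineOpens.exists_subset_of_mem_open (Set.mem_univ x) isOpen_univ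
  rw [← hV.fromSpecStalk_eq_fromSpecStalk hxV]
  let := X.presheaf.algebra_section_stalk ⟨x, hxV⟩
  have := hV.isLocalization_stalk ⟨x, hxV⟩
  exact LocImB.isLocImmersion_comp (LocImmFactor.isLocImmersion_SpecMap _
    (LocImmNhd.isLocHom_algebraMap (hV.primeIdealOf ⟨x, hxV⟩).asIdeal.primeCompl))
    (LocImB.isLocImmersion_of_isOpenImmersion _)

theorem locallyEssFiniteType_fromSpecStalk_comp (p : X ⟶ Y) [EssFT.LocallyEssFiniteType p] (x : X) :
    EssFT.LocallyEssFiniteType (X.fromSpecStalk x ≫ p) := by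
  obtain ⟨U, V, hxV, e, hess⟩ := EssFT.LocallyEssFiniteType.exists_appLE_essFiniteType (f := p) x
  have hr : (⊤ : (Spec (X.presheaf.stalk x)).Opens) ≤ X.fromSpecStalk x ⁻¹ᵁ V.1 := fun z _ => by
    have : X.fromSpecStalk x z ∈ Set.range (X.fromSpecStalk x) := ⟨z, rfl⟩
    rw [X.range_fromSpecStalk] at this
    exact this.mem_open V.1.2 hxV
  refine ⟨fun z => ⟨U, ⟨⊤, isAffineOpen_top _⟩, trivial, hr.trans ((X.fromSpecStalk x).preimage_mono e), ?_⟩⟩
  rw [← Scheme.Hom.appLE_comp_appLE (X.fromSpecStalk x) p U.1 V.1 ⊤ e hr, CommRingCat.hom_comp]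
  refine RingHom.EssFiniteType.stableUnderComposition _ _ hess ?_
  have happ : (X.fromSpecStalk x).appLE V.1 ⊤ hr = X.presheaf.germ V.1 x hxV ≫ (Scheme.ΓSpecIso _).inv := by
    rw [Scheme.Hom.appLE, Scheme.fromSpecStalk_app hxV, Category.assoc, Category.assoc, ← Functor.map_comp]
    rw [show ((homOfLE le_top : X.fromSpecStalk x ⁻¹ᵁ V.1 ⟶ ⊤).op ≫ (homOfLE hr).op) = 𝟙 _ from Subsingleton.elim _ _,
      CategoryTheory.Functor.map_id, Category.comp_id]
  rw [happ, CommRingCat.hom_comp]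
  refine RingHom.EssFiniteType.stableUnderComposition _ _ ?_ ?_
  · let := X.presheaf.algebra_section_stalk ⟨x, hxV⟩
    have := V.2.isLocalization_stalk ⟨x, hxV⟩
    exact RingHom.essFiniteType_algebraMap.mpr
      (Algebra.EssFiniteType.of_isLocalization _ (V.2.primeIdealOf ⟨x, hxV⟩).asIdeal.primeCompl)
  · exact (RingHom.FiniteType.of_surjective _
      (ConcreteCategory.bijective_of_isIso (Scheme.ΓSpecIso (X.presheaf.stalk x)).inv).2).essFiniteType

variable (P : MorphismProperty Scheme.{u})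

theorem stalk_of_comp_iso {Z : Scheme.{u}} [IsLocallyNoetherian X] [IsLocallyNoetherian Y] [IsNoetherian Z]
    (hα : ∀ {W X Y : Scheme.{u}} [IsNoetherian W] [IsNoetherian X] [IsNoetherian Y] (i : W ⟶ X) (f : X ⟶ Y) [IsSeparated f] [EssFT.EssFiniteType f], LocImm.IsLocImmersion i → P f → P (i ≫ f))
    (k : X ⟶ Y) (p : Y ⟶ Z) [IsSeparated p] [EssFT.LocallyEssFiniteType p] (x : X) [IsIso (k.stalkMap x)] :
    P (X.fromSpecStalk x ≫ k ≫ p) ↔ P (Y.fromSpecStalk (k x) ≫ p) := by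
  have e : X.fromSpecStalk x ≫ k ≫ p = Spec.map (k.stalkMap x) ≫ Y.fromSpecStalk (k x) ≫ p := by
    rw [Scheme.SpecMap_stalkMap_fromSpecStalk_assoc]

  haveI : IsNoetherianRing (X.presheaf.stalk x) := inferInstance
  haveI : IsNoetherianRing (Y.presheaf.stalk (k x)) := inferInstance
  haveI := locallyEssFiniteType_fromSpecStalk_comp p (k x)
  haveI : IsSeparated (Y.fromSpecStalk (k x) ≫ p) := inferInstance
  haveI : EssFT.EssFiniteType (Y.fromSpecStalk (k x) ≫ p) := { }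
  rw [e]
  constructor
  · intro h
    have e' : Y.fromSpecStalk (k x) ≫ p = Spec.map (inv (k.stalkMap x)) ≫ Spec.map (k.stalkMap x) ≫ Y.fromSpecStalk (k x) ≫ p := by
      rw [← Spec.map_comp_assoc, IsIso.hom_inv_id, Spec.map_id, Category.id_comp]
    haveI : EssFT.LocallyEssFiniteType (Spec.map (k.stalkMap x) ≫ Y.fromSpecStalk (k x) ≫ p) := by
      have hx' : EssFT.LocallyEssFiniteType (Y.fromSpecStalk (k x) ≫ p) := inferInstance
      exact (MorphismProperty.cancel_left_of_respectsIso @EssFT.LocallyEssFiniteType _ _).2 hx'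
    haveI : EssFT.EssFiniteType (Spec.map (k.stalkMap x) ≫ Y.fromSpecStalk (k x) ≫ p) := { }
    rw [e']
    exact hα _ _ (LocImB.isLocImmersion_of_isOpenImmersion _) h
  · exact hα _ _ (LocImB.isLocImmersion_of_isOpenImmersion _)

theorem main
    (hα : ∀ {W X Y : Scheme.{u}} [IsNoetherian W] [IsNoetherian X] [IsNoetherian Y] (i : W ⟶ X) (f : X ⟶ Y) [IsSeparated f] [EssFT.EssFiniteType f], LocImm.IsLocImmersion i → P f → P (i ≫ f))
    (hβ₁ : ∀ {X Y : Scheme.{u}} [IsNoetherian X] [IsNoetherian Y] (f : X ⟶ Y) [IsSeparated f] [LocallyOfFiniteType f], (∀ x : X, P (X.fromSpecStalk x ≫ f)) → P f)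
    (hβ₂ : ∀ {X Y : Scheme.{u}} [IsNoetherian X] [IsNoetherian Y] (f : X ⟶ Y) [IsSeparated f] [LocallyOfFiniteType f], IsOpen {x : X | P (X.fromSpecStalk x ≫ f)})
    {X Y : Scheme.{u}} [IsNoetherian X] [IsNoetherian Y] (f : X ⟶ Y) [IsSeparated f] [EssFT.EssFiniteType f] :
    ((∀ x : X, P (X.fromSpecStalk x ≫ f)) → P f) ∧ IsOpen {x : X | P (X.fromSpecStalk x ≫ f)} ∧
      (P f → ∃ (Z : Scheme.{u}) (i : X ⟶ Z) (h : Z ⟶ Y), IsNoetherian Z ∧ LocImm.IsLocImmersion i ∧ IsSeparated h ∧ LocallyOfFiniteType h ∧ QuasiCompact h ∧ P h ∧ i ≫ h = f) := by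
  obtain ⟨W, k, p, hW, hk, hp, hp', -, rfl⟩ := LocImmFactor.exists_factor f
  haveI := LocImmCommon.locallyEssFiniteType_of_locallyOfFiniteType p
  let G : W.Opens := ⟨{w | P (W.fromSpecStalk w ≫ p)}, hβ₂ p⟩
  have hiff : ∀ x, P (X.fromSpecStalk x ≫ k ≫ p) ↔ k x ∈ G := fun x =>
    haveI := LocIm.isIso_stalkMap hk.1 x
    stalk_of_comp_iso P hα k p x
  have hZ : (∀ x, P (X.fromSpecStalk x ≫ k ≫ p)) →
      ∃ (Z : Scheme.{u}) (i : X ⟶ Z) (h : Z ⟶ Y), IsNoetherian Z ∧ LocImm.IsLocImmersion i ∧ IsSeparated h ∧ LocallyOfFiniteType h ∧ QuasiCompact h ∧ P h ∧ i ≫ h = k ≫ p := by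
    intro hall
    haveI := LocImmNhd.isNoetherian_opens G
    let i : X ⟶ G := IsOpenImmersion.lift G.ι k (by
      rw [Scheme.Opens.range_ι]; rintro _ ⟨x, rfl⟩; exact (hiff x).1 (hall x))
    have hi : i ≫ G.ι = k := IsOpenImmersion.lift_fac _ _ _
    refine ⟨G, i, G.ι ≫ p, inferInstance, LocImB.isLocImmersion_of_comp_mono (by rwa [hi]), inferInstance,
      inferInstance, inferInstance, hβ₁ _ fun u => ?_, by rw [← Category.assoc, hi]⟩
    haveI := LocIm.isIso_stalkMap_oi G.ι u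
    exact (stalk_of_comp_iso P hα G.ι p u).2 u.2
  refine ⟨fun hall => ?_, ?_, fun hf => hZ fun x => ?_⟩
  · obtain ⟨Z, i, h, hZ', hi, hh, hh', hhc, hPh, he⟩ := hZ hall
    haveI := LocImmCommon.locallyEssFiniteType_of_locallyOfFiniteType h
    haveI : EssFT.EssFiniteType h := { }
    rw [← he]
    exact hα i h hi hPh
  · rw [show {x : X | P (X.fromSpecStalk x ≫ k ≫ p)} = k ⁻¹' (G : Set W) from Set.ext hiff]
    exact G.2.preimage k.continuous
  · exact hα _ _ (isLocImmersion_fromSpecStalk X x) hf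

end Groth.Agent.H17.LocImmLocus
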