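import Groth.Agent.H17.LocImmNhd
import Groth.Agent.S18195
import Mathlib.AlgebraicGeometry.IdealSheaf.Subscheme

/-! Two localizing immersions into schemes of finite type factor through a common open. -/

set_option autoImplicit false
set_option linter.style.haveILetI false
universe u

open CategoryTheory Limits AlgebraicGeometry TopologicalSpace

namespace Groth.Agent.H17.LocImmCommon

open LocImm

variable {X Y Z : Scheme.{u}}

theorem toImage_app_injective (f : X ⟶ Y) [QuasiCompact f] (U : f.image.Opens) :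
    Function.Injective (f.toImage.app U).hom :=
  TopCat.Presheaf.app_injective_of_stalkFunctor_map_injective (F := f.image.sheaf) f.toImage.c U
    fun x _ => f.stalkFunctor_toImage_injective x

theorem locallyEssFiniteType_of_locallyOfFiniteType (f : X ⟶ Y) [LocallyOfFiniteType f] :
    EssFT.LocallyEssFiniteType f := ⟨fun x => by
  obtain ⟨_, ⟨U, hU, rfl⟩, hxU, -⟩ := Y.isBasis_affineOpens.exists_subset_of_mem_open (Set.mem_univ (f x)) isOpen_univ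
  obtain ⟨_, ⟨V, hV, rfl⟩, hxV, hVU⟩ :=
    X.isBasis_affineOpens.exists_subset_of_mem_open (show x ∈ (f ⁻¹ᵁ U : Set X) from hxU) (f ⁻¹ᵁ U).2
  refine ⟨⟨U, hU⟩, ⟨V, hV⟩, hxV, hVU, ?_⟩
  have h := HasRingHomProperty.appLE (P := @LocallyOfFiniteType) f inferInstance ⟨U, hU⟩ ⟨V, hV⟩ hVU
  let := (f.appLE U V hVU).hom.toAlgebra
  have : Algebra.FiniteType Γ(Y, U) Γ(X, V) := h
  exact (inferInstance : Algebra.EssFiniteType Γ(Y, U) Γ(X, V))⟩

theorem isNoetherian_of_locallyOfFiniteType (f : X ⟶ Y) [IsNoetherian Y] [LocallyOfFiniteType f] [QuasiCompact f] :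
    IsNoetherian X :=
  have := LocallyOfFiniteType.isLocallyNoetherian f
  have : CompactSpace X := QuasiCompact.compactSpace_of_compactSpace f
  { }

/-- The projection of the schematic image of a graph to a factor is an isomorphism near the image. -/
theorem exists_open_isOpenImmersion {W : Scheme.{u}} [IsNoetherian W] [IsNoetherian X] [IsNoetherian Y]
    (f₁ : W ⟶ X) (f₂ : W ⟶ Y) (g : X ⟶ Y) (hf₁ : IsLocImmersion f₁) (hf₂ : IsLocImmersion f₂)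
    [IsSeparated g] [LocallyOfFiniteType g] (h : f₁ ≫ g = f₂) :
    ∃ U : X.Opens, Set.range f₁ ⊆ (U : Set X) ∧ IsOpenImmersion (U.ι ≫ g) := by
  have := locallyEssFiniteType_of_locallyOfFiniteType g
  obtain ⟨U, hU, hUg⟩ := LocImmNhd.exists_open_isLocImmersion f₁ f₂ g hf₁ hf₂ h
  have := LocImmNhd.isNoetherian_opens U
  exact ⟨U, hU, Groth.Agent.S18204.result (U.ι ≫ g) hUg⟩

theorem exists_common_open {Y₁ Y₂ S : Scheme.{u}} [IsNoetherian X] [IsNoetherian Y₁] [IsNoetherian Y₂] [IsNoetherian S]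
    (f₁ : X ⟶ Y₁) (f₂ : X ⟶ Y₂) (π₁ : Y₁ ⟶ S) (π₂ : Y₂ ⟶ S)
    (hf₁ : IsLocImmersion f₁) (hf₂ : IsLocImmersion f₂)
    [IsSeparated π₁] [IsSeparated π₂] [LocallyOfFiniteType π₁] [LocallyOfFiniteType π₂] (h : f₁ ≫ π₁ = f₂ ≫ π₂) :
    ∃ (W : Scheme.{u}) (k : X ⟶ W) (g₁ : W ⟶ Y₁) (g₂ : W ⟶ Y₂), IsLocImmersion k ∧ IsOpenImmersion g₁ ∧
      IsOpenImmersion g₂ ∧ g₁ ≫ π₁ = g₂ ≫ π₂ ∧ k ≫ g₁ = f₁ ∧ k ≫ g₂ = f₂ := by
  let P := pullback π₁ π₂
  have : IsNoetherian P := isNoetherian_of_locallyOfFiniteType (pullback.fst π₁ π₂)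
  let φ₀ : X ⟶ P := pullback.lift f₁ f₂ h
  have : IsNoetherian φ₀.image := isNoetherian_of_locallyOfFiniteType φ₀.imageι
  let p₁ : φ₀.image ⟶ Y₁ := φ₀.imageι ≫ pullback.fst π₁ π₂
  let p₂ : φ₀.image ⟶ Y₂ := φ₀.imageι ≫ pullback.snd π₁ π₂
  have e₁ : φ₀.toImage ≫ p₁ = f₁ := by
    simp only [p₁, Scheme.Hom.toImage_imageι_assoc]; exact pullback.lift_fst _ _ _
  have e₂ : φ₀.toImage ≫ p₂ = f₂ := by
    simp only [p₂, Scheme.Hom.toImage_imageι_assoc]; exact pullback.lift_snd _ _ _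
  have hφ : IsLocImmersion φ₀.toImage :=
    Groth.Agent.S18195.result φ₀.toImage p₁ (by rw [e₁]; exact hf₁) (toImage_app_injective φ₀)
  obtain ⟨U₁, hU₁, hp₁⟩ := exists_open_isOpenImmersion φ₀.toImage f₁ p₁ hφ hf₁ e₁
  obtain ⟨U₂, hU₂, hp₂⟩ := exists_open_isOpenImmersion φ₀.toImage f₂ p₂ hφ hf₂ e₂
  let k : X ⟶ (U₁ ⊓ U₂ : φ₀.image.Opens) := IsOpenImmersion.lift (U₁ ⊓ U₂).ι φ₀.toImage (by
    rw [Scheme.Opens.range_ι]
    rintro _ ⟨x, rfl⟩
    exact ⟨hU₁ ⟨x, rfl⟩, hU₂ ⟨x, rfl⟩⟩)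
  have hk : k ≫ (U₁ ⊓ U₂).ι = φ₀.toImage := IsOpenImmersion.lift_fac _ _ _
  refine ⟨_, k, (U₁ ⊓ U₂).ι ≫ p₁, (U₁ ⊓ U₂).ι ≫ p₂, LocImB.isLocImmersion_of_comp_mono (by rw [hk]; exact hφ),
    ?_, ?_, ?_, ?_, ?_⟩
  · rw [← Scheme.homOfLE_ι (X := φ₀.image) (inf_le_left : U₁ ⊓ U₂ ≤ U₁), Category.assoc]
    infer_instance
  · rw [← Scheme.homOfLE_ι (X := φ₀.image) (inf_le_right : U₁ ⊓ U₂ ≤ U₂), Category.assoc]
    infer_instance
  · simp only [p₁, p₂, Category.assoc, pullback.condition]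
  · rw [← Category.assoc, hk, e₁]
  · rw [← Category.assoc, hk, e₂]

end Groth.Agent.H17.LocImmCommon
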