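import Groth.Agent.H17.LocImmGlue

/-! Factorization of separated morphisms essentially of finite type. -/

set_option autoImplicit false
set_option linter.style.haveILetI false
universe u

open CategoryTheory Limits AlgebraicGeometry TopologicalSpace

namespace Groth.Agent.H17.LocImmFactor

open LocImm

theorem isLocImmersion_SpecMap {A B : CommRingCat.{u}} (φ : A ⟶ B) (h : IsLocHom φ.hom) :
    IsLocImmersion (Spec.map φ) := by
  refine ⟨fun x => ?_, ?_⟩
  · refine ⟨⟨⊤, isAffineOpen_top _⟩, ⟨⊤, isAffineOpen_top _⟩, trivial, le_top, ?_⟩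
    have : (Spec.map φ).appLE ⊤ ⊤ le_top = (Scheme.ΓSpecIso A).hom ≫ φ ≫ (Scheme.ΓSpecIso B).inv := by
      rw [← Scheme.ΓSpecIso_naturality_assoc, Iso.hom_inv_id, Category.comp_id]
      simp [Scheme.Hom.appLE]
    show IsLocHom ((Spec.map φ).appLE ⊤ ⊤ le_top).hom
    rw [this]
    exact LocIm.isLocHom_comp (LocImB.isLocHom_of_bijective _ (ConcreteCategory.bijective_of_isIso (Scheme.ΓSpecIso A).hom))
      (LocIm.isLocHom_comp h (LocImB.isLocHom_of_bijective _ (ConcreteCategory.bijective_of_isIso (Scheme.ΓSpecIso B).inv)))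
  · let := φ.hom.toAlgebra
    obtain ⟨S, hS⟩ := h
    exact (PrimeSpectrum.localization_comap_isEmbedding B S).injective

variable {X S : Scheme.{u}} [IsNoetherian X] [IsNoetherian S]

/-- `f` factors over `U` through a localizing immersion. -/
def Factor (f : X ⟶ S) (U : X.Opens) : Prop :=
  ∃ (Y : Scheme.{u}) (k : U.toScheme ⟶ Y) (p : Y ⟶ S), IsNoetherian Y ∧ IsLocImmersion k ∧ IsSeparated p ∧
    LocallyOfFiniteType p ∧ k ≫ p = U.ι ≫ f

theorem factor_bot (f : X ⟶ S) : Factor f ⊥ := by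
  have := LocImmNhd.isNoetherian_opens (⊥ : S.Opens)
  refine ⟨(⊥ : S.Opens), IsOpenImmersion.lift (⊥ : S.Opens).ι ((⊥ : X.Opens).ι ≫ f) ?_, (⊥ : S.Opens).ι, this,
    ⟨fun x => x.2.elim, fun x => x.2.elim⟩, inferInstance, inferInstance, IsOpenImmersion.lift_fac _ _ _⟩
  rintro _ ⟨x, rfl⟩
  exact x.2.elim

theorem factor_sup (f : X ⟶ S) [IsSeparated f] {U V : X.Opens} (hU : Factor f U) (hV : Factor f V) :
    Factor f (U ⊔ V) := by
  obtain ⟨Y₁, k₁, p₁, hY₁, hk₁, hp₁, hp₁', e₁⟩ := hU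
  obtain ⟨Y₂, k₂, p₂, hY₂, hk₂, hp₂, hp₂', e₂⟩ := hV
  have := LocImmNhd.isNoetherian_opens (U ⊔ V)
  let T := (U ⊔ V).toScheme
  let U' : T.Opens := (U ⊔ V).ι ⁻¹ᵁ U
  let V' : T.Opens := (U ⊔ V).ι ⁻¹ᵁ V
  have hU' : Set.range (U'.ι ≫ (U ⊔ V).ι) ⊆ Set.range U.ι := by
    rw [Scheme.Opens.range_ι]; rintro _ ⟨x, rfl⟩; exact x.2
  have hV' : Set.range (V'.ι ≫ (U ⊔ V).ι) ⊆ Set.range V.ι := by
    rw [Scheme.Opens.range_ι]; rintro _ ⟨x, rfl⟩; exact x.2
  let a := IsOpenImmersion.lift U.ι (U'.ι ≫ (U ⊔ V).ι) hU'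
  let b := IsOpenImmersion.lift V.ι (V'.ι ≫ (U ⊔ V).ι) hV'
  have ha : a ≫ U.ι = U'.ι ≫ (U ⊔ V).ι := IsOpenImmersion.lift_fac _ _ _
  have hb : b ≫ V.ι = V'.ι ≫ (U ⊔ V).ι := IsOpenImmersion.lift_fac _ _ _
  haveI : IsOpenImmersion (a ≫ U.ι) := by rw [ha]; infer_instance
  haveI : IsOpenImmersion (b ≫ V.ι) := by rw [hb]; infer_instance
  haveI : IsOpenImmersion a := IsOpenImmersion.of_comp a U.ι
  haveI : IsOpenImmersion b := IsOpenImmersion.of_comp b V.ι
  obtain ⟨Y, k, p, hY, hk, hp, hp', -, e⟩ := LocImmGlue.exists_factor ((U ⊔ V).ι ≫ f) U' V'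
    (eq_top_iff.2 fun x _ => x.2)
    Y₁ Y₂ (a ≫ k₁) (b ≫ k₂) p₁ p₂
    (LocImB.isLocImmersion_comp (LocImB.isLocImmersion_of_isOpenImmersion a) hk₁)
    (LocImB.isLocImmersion_comp (LocImB.isLocImmersion_of_isOpenImmersion b) hk₂)
    (by rw [Category.assoc, e₁, ← Category.assoc, ha, Category.assoc])
    (by rw [Category.assoc, e₂, ← Category.assoc, hb, Category.assoc])
  exact ⟨Y, k, p, hY, hk, hp, hp', e⟩

theorem factor_affine (f : X ⟶ S) {U : S.Opens} (hU : IsAffineOpen U) {V : X.Opens} (hV : IsAffineOpen V)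
    (e : V ≤ f ⁻¹ᵁ U) (hess : (f.appLE U V e).hom.EssFiniteType) : Factor f V := by
  let := (f.appLE U V e).hom.toAlgebra
  have : Algebra.EssFiniteType Γ(S, U) Γ(X, V) := hess
  let C := Algebra.EssFiniteType.subalgebra Γ(S, U) Γ(X, V)
  let ι : CommRingCat.of C ⟶ Γ(X, V) := CommRingCat.ofHom (algebraMap C Γ(X, V))
  let α : Γ(S, U) ⟶ CommRingCat.of C := CommRingCat.ofHom (algebraMap Γ(S, U) C)
  have hι : IsLocHom ι.hom :=
    LocImmNhd.isLocHom_algebraMap (Algebra.EssFiniteType.submonoid Γ(S, U) Γ(X, V))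
  haveI : LocallyOfFiniteType (Spec.map α) :=
    (HasRingHomProperty.Spec_iff (P := @LocallyOfFiniteType)).2
      (RingHom.finiteType_algebraMap.2 (inferInstanceAs (Algebra.FiniteType Γ(S, U) C)))
  have hfac : α ≫ ι = f.appLE U V e := rfl
  have : IsNoetherianRing Γ(S, U) := IsLocallyNoetherian.component_noetherian ⟨U, hU⟩
  have : IsNoetherianRing C := Algebra.FiniteType.isNoetherianRing Γ(S, U) C
  refine ⟨Spec (CommRingCat.of C), hV.isoSpec.hom ≫ Spec.map ι, Spec.map α ≫ hU.fromSpec,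
    inferInstance,
    LocImB.isLocImmersion_comp (LocImB.isLocImmersion_of_isOpenImmersion _) (isLocImmersion_SpecMap ι hι),
    inferInstance, inferInstance, ?_⟩
  rw [Category.assoc, ← Spec.map_comp_assoc, hfac, IsAffineOpen.SpecMap_appLE_fromSpec f hU hV e,
    ← Category.assoc, hV.isoSpec_hom_fromSpec]

theorem exists_factor (f : X ⟶ S) [IsSeparated f] [EssFT.LocallyEssFiniteType f] :
    ∃ (Y : Scheme.{u}) (k : X ⟶ Y) (p : Y ⟶ S), IsNoetherian Y ∧ IsLocImmersion k ∧ IsSeparated p ∧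
      LocallyOfFiniteType p ∧ QuasiCompact p ∧ k ≫ p = f := by
  classical
  choose U V hx e hess using fun x : X => EssFT.LocallyEssFiniteType.exists_appLE_essFiniteType (f := f) x
  obtain ⟨t, ht⟩ := isCompact_univ.elim_finite_subcover (fun x : X => ((V x).1 : Set X)) (fun x => (V x).1.2)
    fun x _ => Set.mem_iUnion.2 ⟨x, hx x⟩
  have hind : ∀ s : Finset X, Factor f (s.sup fun x => (V x).1) := by
    intro s
    induction s using Finset.induction_on with
    | empty => rw [Finset.sup_empty]; exact factor_bot f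
    | insert a s ha ih =>
      rw [Finset.sup_insert]
      exact factor_sup f (factor_affine f (U a).2 (V a).2 (e a) (hess a)) ih
  have htop : (t.sup fun x => (V x).1) = ⊤ := by
    refine eq_top_iff.2 fun x _ => ?_
    obtain ⟨i, hi⟩ := Set.mem_iUnion.1 (ht (Set.mem_univ x))
    obtain ⟨hit, hxi⟩ := Set.mem_iUnion.1 hi
    exact (Finset.le_sup (f := fun x => (V x).1) hit) hxi
  have h := hind t
  rw [htop] at h
  obtain ⟨Y, k, p, hY, hk, hp, hp', he⟩ := h
  refine ⟨Y, X.topIso.inv ≫ k, p, hY,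
    LocImB.isLocImmersion_comp (LocImB.isLocImmersion_of_isOpenImmersion _) hk, hp, hp', ?_, ?_⟩
  · infer_instance
  · rw [Category.assoc, he, ← Category.assoc, show X.topIso.inv ≫ (⊤ : X.Opens).ι = 𝟙 X from X.topIso.inv_hom_id,
      Category.id_comp]

end Groth.Agent.H17.LocImmFactor
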