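import Groth.Agent.H17.LocImmCommon
import Groth.Agent.H17.OpenPushout
import Groth.Agent.H17.TwoGlue

/-! Gluing two factorizations through localizing immersions (Nayak). -/

set_option autoImplicit false
set_option linter.style.haveILetI false
universe u

open CategoryTheory Limits AlgebraicGeometry TopologicalSpace

namespace Groth.Agent.H17.LocImmGlue

open LocImm

/-- A closed subset of a Noetherian sober space has finitely many points generizing all others. -/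
theorem exists_finite_generic {P : Type*} [TopologicalSpace P] [NoetherianSpace P] [QuasiSober P]
    {C : Set P} (hC : IsClosed C) : ∃ T ⊆ C, T.Finite ∧ ∀ c ∈ C, ∃ t ∈ T, t ⤳ c := by
  obtain ⟨S, hSfin, hScl, hSirr, rfl⟩ := NoetherianSpace.exists_finite_set_isClosed_irreducible hC
  have hgen : ∀ Z ∈ S, ∃ t ∈ Z, ∀ c ∈ Z, t ⤳ c := fun Z hZ => by
    have h := (hSirr Z hZ).isGenericPoint_genericPoint_closure
    rw [(hScl Z hZ).closure_eq] at h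
    exact ⟨_, h.mem, fun c hc => h.specializes hc⟩
  choose t ht htc using hgen
  have := hSfin.to_subtype
  refine ⟨Set.range fun Z : S => t Z.1 Z.2, ?_, Set.finite_range _, ?_⟩
  · rintro _ ⟨⟨Z, hZ⟩, rfl⟩; exact ⟨Z, hZ, ht Z hZ⟩
  · rintro c ⟨Z, hZ, hc⟩; exact ⟨t Z hZ, ⟨⟨Z, hZ⟩, rfl⟩, htc Z hZ c hc⟩

/-- Every point has a maximal generization. -/
theorem exists_maximal_generization {W : Scheme.{u}} (w : W) :
    ∃ η, η ⤳ w ∧ ∀ η', η' ⤳ η → η' = η := by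
  have hirr : IsIrreducible (irreducibleComponent w) := isIrreducible_irreducibleComponent
  have hgen := hirr.isGenericPoint_genericPoint_closure
  rw [closure_eq_iff_isClosed.mpr isClosed_irreducibleComponent] at hgen
  refine ⟨_, hgen.specializes mem_irreducibleComponent, fun η' h => ?_⟩
  have hsub : irreducibleComponent w ⊆ closure {η'} := fun x hx => (h.trans (hgen.specializes hx)).mem_closure
  have heq := (irreducibleComponent_mem_irreducibleComponents w).eq_of_ge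
    isIrreducible_singleton.closure hsub
  exact (IsGenericPoint.eq hgen (show IsGenericPoint η' (irreducibleComponent w) from heq.symm.trans rfl |>.symm ▸ rfl)).symm

theorem locAt_of_comp {A B C : Scheme.{u}} (j : A ⟶ B) [IsOpenImmersion j] (f : B ⟶ C) (a : A)
    (h : LocImB.LocAt (j ≫ f) a) : LocImB.LocAt f (j a) := by
  obtain ⟨⟨U, hU⟩, ⟨V, hV⟩, ha, e, hloc⟩ := h
  have hle : j ''ᵁ V ≤ f ⁻¹ᵁ U := by
    rintro _ ⟨v, hv, rfl⟩; exact e hv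
  refine ⟨⟨U, hU⟩, ⟨_, hV.image_of_isOpenImmersion j⟩, ⟨a, ha, rfl⟩, hle, ?_⟩
  have hiso : IsIso (j.appLE (j ''ᵁ V) V (j.preimage_image_eq V).ge) := by
    rw [Scheme.Hom.appLE, Subsingleton.elim (homOfLE (j.preimage_image_eq V).ge) (eqToHom (j.preimage_image_eq V).symm)]
    infer_instance
  have heq : f.appLE U (j ''ᵁ V) hle = (j ≫ f).appLE U V e ≫ inv (j.appLE (j ''ᵁ V) V (j.preimage_image_eq V).ge) := by
    rw [IsIso.eq_comp_inv, Scheme.Hom.appLE_comp_appLE]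
  rw [heq]
  exact LocIm.isLocHom_comp hloc (LocImB.isLocHom_of_bijective _ (ConcreteCategory.bijective_of_isIso
    (inv (j.appLE (j ''ᵁ V) V (j.preimage_image_eq V).ge))))

variable {X S : Scheme.{u}} [IsNoetherian X] [IsNoetherian S]

/-- Closure condition: shrink the two targets so that the overlap is closed in their product. -/
theorem exists_opens_isClosed {V₁ V₂ U12 Y₁ Y₂ W : Scheme.{u}} [IsNoetherian V₁] [IsNoetherian V₂] [IsNoetherian Y₁] [IsNoetherian Y₂]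
    [IsNoetherian W] (p₁ : Y₁ ⟶ S) (p₂ : Y₂ ⟶ S) [LocallyOfFiniteType p₁] (k₁ : V₁ ⟶ Y₁) (k₂ : V₂ ⟶ Y₂)
    (hk₁ : IsLocImmersion k₁) (hk₂ : IsLocImmersion k₂) (k : U12 ⟶ W)
    (g₁ : W ⟶ Y₁) (g₂ : W ⟶ Y₂) [IsOpenImmersion g₁] (hg : g₁ ≫ p₁ = g₂ ≫ p₂) (a₁ : U12 ⟶ V₁) (a₂ : U12 ⟶ V₂)
    (ha : a₁ ≫ k₁ ≫ p₁ = a₂ ≫ k₂ ≫ p₂) (hka₁ : k ≫ g₁ = a₁ ≫ k₁) (hka₂ : k ≫ g₂ = a₂ ≫ k₂)
    (hmax : ∀ η : W, (∀ η', η' ⤳ η → η' = η) → η ∈ Set.range k)
    (hclosed : IsClosed (Set.range (pullback.lift a₁ a₂ ha))) :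
    ∃ (O₁ : Y₁.Opens) (O₂ : Y₂.Opens), Set.range k₁ ⊆ (O₁ : Set Y₁) ∧ Set.range k₂ ⊆ (O₂ : Set Y₂) ∧
      ∀ c ∈ closure (Set.range (pullback.lift g₁ g₂ hg)), pullback.fst p₁ p₂ c ∈ O₁ → pullback.snd p₁ p₂ c ∈ O₂ →
        c ∈ Set.range (pullback.lift g₁ g₂ hg) := by
  set Δ := pullback.lift g₁ g₂ hg with hΔ
  haveI : IsPreimmersion k₁ := LocImB.isPreimmersion hk₁
  haveI : IsPreimmersion k₂ := LocImB.isPreimmersion hk₂
  haveI : IsImmersion (Δ ≫ pullback.fst p₁ p₂) := by rw [hΔ, pullback.lift_fst]; infer_instance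
  haveI : IsImmersion Δ := IsImmersion.of_comp Δ (pullback.fst p₁ p₂)
  haveI : IsNoetherian (pullback p₁ p₂) := by
    have := LocImmCommon.isNoetherian_of_locallyOfFiniteType (pullback.snd p₁ p₂)
    exact this
  let q := pullback.map (k₁ ≫ p₁) (k₂ ≫ p₂) p₁ p₂ k₁ k₂ (𝟙 S) (by simp) (by simp)
  haveI : IsPreimmersion q :=
    MorphismProperty.pullbackMap (P := @IsPreimmersion) (by infer_instance) (by infer_instance) (by simp) (by simp)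
  have hfac : pullback.lift a₁ a₂ ha ≫ q = k ≫ Δ := by
    apply pullback.hom_ext
    · rw [Category.assoc, Category.assoc, pullback.lift_fst, pullback.lift_fst_assoc, hΔ, pullback.lift_fst, hka₁]
    · rw [Category.assoc, Category.assoc, pullback.lift_snd, pullback.lift_snd_assoc, hΔ, pullback.lift_snd, hka₂]
  let C := closure (Set.range Δ) \ Set.range Δ
  have hC : IsClosed C := by
    have : C = closure (Set.range Δ) ∩ (coborder (Set.range Δ))ᶜ := by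
      ext c
      refine and_congr_right fun hc => not_congr ⟨fun h => subset_coborder h, fun h => ?_⟩
      rw [← closure_inter_coborder (s := Set.range Δ)]
      exact ⟨hc, h⟩
    rw [this]
    exact isClosed_closure.inter Δ.isLocallyClosed_range.isOpen_coborder.isClosed_compl
  have claim : ∀ c ∈ C, ¬ (pullback.fst p₁ p₂ c ∈ Set.range k₁ ∧ pullback.snd p₁ p₂ c ∈ Set.range k₂) := by
    rintro c ⟨hc, hcn⟩ hc12
    obtain ⟨v, hv⟩ : c ∈ Set.range q := by rw [Scheme.Pullback.range_map]; exact hc12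
    obtain ⟨w, hw⟩ := exists_specializes_of_mem_closure_range Δ hc
    obtain ⟨η, hη, hηmax⟩ := exists_maximal_generization w
    obtain ⟨t, ht⟩ := hmax η hηmax
    have h1 : q (pullback.lift a₁ a₂ ha t) ⤳ q v := by
      rw [← Scheme.Hom.comp_apply, hfac, Scheme.Hom.comp_apply, ht, hv]
      exact (hη.map Δ.continuous).trans hw
    obtain ⟨t', ht'⟩ := hclosed.stableUnderSpecialization (q.isEmbedding.isInducing.specializes_iff.1 h1) ⟨t, rfl⟩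
    refine hcn ⟨k t', ?_⟩
    rw [← Scheme.Hom.comp_apply, ← hfac, Scheme.Hom.comp_apply, ht', hv]
  obtain ⟨T, hTC, hTfin, hT⟩ := exists_finite_generic hC
  have key : ∀ {Y V : Scheme.{u}} [IsNoetherian V] (f : V ⟶ Y) (hf : IsLocImmersion f) (π : pullback p₁ p₂ ⟶ Y),
      ∃ O : Y.Opens, Set.range f ⊆ (O : Set Y) ∧
        ∀ t ∈ T, π t ∉ Set.range f → ∀ c, t ⤳ c → π c ∉ O := by
    intro Y V _ f hf π
    let bad : Set Y := ⋃ t ∈ T ∩ {t | π t ∉ Set.range f}, closure {π t}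
    have hbad : IsClosed bad := (hTfin.inter_of_left _).isClosed_biUnion fun _ _ => isClosed_closure
    refine ⟨⟨badᶜ, hbad.isOpen_compl⟩, ?_, fun t htT ht c hc hcO => hcO ?_⟩
    · intro y hy hyb
      simp only [bad, Set.mem_iUnion] at hyb
      obtain ⟨t, ⟨-, ht⟩, hyt⟩ := hyb
      exact ht (LocIm.stableUnderGeneralization_range hf.1 (specializes_iff_mem_closure.2 hyt) hy)
    · simp only [bad, Set.mem_iUnion]
      exact ⟨t, ⟨htT, ht⟩, (hc.map π.continuous).mem_closure⟩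
  obtain ⟨O₁, hO₁, hO₁'⟩ := key k₁ hk₁ (pullback.fst p₁ p₂)
  obtain ⟨O₂, hO₂, hO₂'⟩ := key k₂ hk₂ (pullback.snd p₁ p₂)
  refine ⟨O₁, O₂, hO₁, hO₂, fun c hc h1 h2 => ?_⟩
  by_contra hcn
  obtain ⟨t, htT, htc⟩ := hT c ⟨hc, hcn⟩
  by_cases h : pullback.fst p₁ p₂ t ∈ Set.range k₁
  · exact hO₂' t htT (fun h' => claim t (hTC htT) ⟨h, h'⟩) c htc h2
  · exact hO₁' t htT h c htc h1

theorem isDominant_range {V Y : Scheme.{u}} (k : V ⟶ Y) [IsDominant k] [QuasiCompact k] (η : Y)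
    (hη : ∀ η', η' ⤳ η → η' = η) : η ∈ Set.range k := by
  obtain ⟨z, hz⟩ := exists_specializes_of_mem_closure_range k
    (y := η) (by rw [k.denseRange.closure_range]; trivial)
  exact ⟨z, hη _ hz⟩

theorem exists_factor_dominant (f : X ⟶ S) [IsSeparated f]
    (U₁ U₂ : X.Opens) (hU : U₁ ⊔ U₂ = ⊤) (Y₁ Y₂ : Scheme.{u}) [IsNoetherian Y₁] [IsNoetherian Y₂]
    (k₁ : (U₁ : Scheme.{u}) ⟶ Y₁) (k₂ : (U₂ : Scheme.{u}) ⟶ Y₂) (p₁ : Y₁ ⟶ S) (p₂ : Y₂ ⟶ S)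
    (hk₁ : IsLocImmersion k₁) (hk₂ : IsLocImmersion k₂) [IsDominant k₁]
    [IsSeparated p₁] [IsSeparated p₂] [LocallyOfFiniteType p₁] [LocallyOfFiniteType p₂]
    (h₁ : k₁ ≫ p₁ = U₁.ι ≫ f) (h₂ : k₂ ≫ p₂ = U₂.ι ≫ f) :
    ∃ (Y : Scheme.{u}) (k : X ⟶ Y) (p : Y ⟶ S), IsNoetherian Y ∧ IsLocImmersion k ∧ IsSeparated p ∧
      LocallyOfFiniteType p ∧ QuasiCompact p ∧ k ≫ p = f := by
  haveI := LocImmNhd.isNoetherian_opens U₁
  haveI := LocImmNhd.isNoetherian_opens U₂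
  haveI := LocImmNhd.isNoetherian_opens (U₁ ⊓ U₂)
  haveI := LocImB.isPreimmersion hk₁
  haveI := LocImB.isPreimmersion hk₂
  let a₁ := X.homOfLE (inf_le_left : U₁ ⊓ U₂ ≤ U₁)
  let a₂ := X.homOfLE (inf_le_right : U₁ ⊓ U₂ ≤ U₂)
  have haf : a₁ ≫ k₁ ≫ p₁ = a₂ ≫ k₂ ≫ p₂ := by simp [a₁, a₂, h₁, h₂]
  have hloc₁ := LocImB.isLocImmersion_comp (LocImB.isLocImmersion_of_isOpenImmersion a₁) hk₁
  have hloc₂ := LocImB.isLocImmersion_comp (LocImB.isLocImmersion_of_isOpenImmersion a₂) hk₂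
  obtain ⟨W₀, k₀, g₁, g₂, -, hg₁, hg₂, hg, hk₀₁, hk₀₂⟩ := LocImmCommon.exists_common_open (a₁ ≫ k₁) (a₂ ≫ k₂)
    p₁ p₂ hloc₁ hloc₂ (by rw [Category.assoc, Category.assoc, haf])
  obtain ⟨P₁, hP₁, hP₁'⟩ := k₁.isEmbedding.isInducing.isOpen_iff.1 a₁.opensRange.2
  obtain ⟨P₂, hP₂, hP₂'⟩ := k₂.isEmbedding.isInducing.isOpen_iff.1 a₂.opensRange.2
  let W : W₀.Opens := g₁ ⁻¹ᵁ ⟨P₁, hP₁⟩ ⊓ g₂ ⁻¹ᵁ ⟨P₂, hP₂⟩
  have hk₀W : Set.range k₀ ⊆ Set.range W.ι := by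
    rw [Scheme.Opens.range_ι]
    rintro _ ⟨t, rfl⟩
    refine ⟨?_, ?_⟩
    · show g₁ (k₀ t) ∈ P₁
      rw [← Scheme.Hom.comp_apply, hk₀₁, Scheme.Hom.comp_apply]
      exact hP₁'.ge ⟨t, rfl⟩
    · show g₂ (k₀ t) ∈ P₂
      rw [← Scheme.Hom.comp_apply, hk₀₂, Scheme.Hom.comp_apply]
      exact hP₂'.ge ⟨t, rfl⟩
  haveI : IsNoetherian W₀ := LocImmCommon.isNoetherian_of_locallyOfFiniteType g₁
  haveI := LocImmNhd.isNoetherian_opens W
  let k : (U₁ ⊓ U₂ : X.Opens).toScheme ⟶ W := IsOpenImmersion.lift W.ι k₀ hk₀W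
  have hkW : k ≫ W.ι = k₀ := IsOpenImmersion.lift_fac _ _ _
  let b₁ := W.ι ≫ g₁
  let b₂ := W.ι ≫ g₂
  have hkb₁ : k ≫ b₁ = a₁ ≫ k₁ := by simp only [b₁, ← Category.assoc, hkW]; exact hk₀₁
  have hkb₂ : k ≫ b₂ = a₂ ≫ k₂ := by simp only [b₂, ← Category.assoc, hkW]; exact hk₀₂
  have hpre₁ : ∀ (u : (U₁ : Scheme.{u})) (w : W), b₁ w = k₁ u → u ∈ Set.range a₁ := fun u w h => by
    refine hP₁'.le (show k₁ u ∈ P₁ from ?_)
    rw [← h]; exact w.2.1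
  have hmax : ∀ η : W, (∀ η', η' ⤳ η → η' = η) → η ∈ Set.range k := by
    intro η hη
    obtain ⟨z, hz⟩ := isDominant_range k₁ (b₁ η) fun η' h' => by
      obtain ⟨w', rfl⟩ : η' ∈ Set.range b₁ := h'.mem_open b₁.isOpenEmbedding.isOpen_range ⟨η, rfl⟩
      rw [hη w' (b₁.isOpenEmbedding.isInducing.specializes_iff.1 h')]
    obtain ⟨t, rfl⟩ := hpre₁ z η hz.symm
    refine ⟨t, b₁.isOpenEmbedding.injective ?_⟩
    rw [← Scheme.Hom.comp_apply, hkb₁, Scheme.Hom.comp_apply, hz]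
  -- the diagonal of `X` gives closedness upstairs
  have hclosed : IsClosed (Set.range (pullback.lift a₁ a₂ haf)) := by
    rw [← OpenPushout.preimage_range_diagonal f U₁.ι U₂.ι (k₁ ≫ p₁) (k₂ ≫ p₂) h₁.symm h₂.symm a₁ a₂
      (by simp [a₁, a₂]) haf]
    · exact (pullback.diagonal f).isClosedEmbedding.isClosed_range.preimage (Scheme.Hom.continuous _)
    · rintro x ⟨hx₁, hx₂⟩
      rw [Scheme.Opens.range_ι] at hx₁ hx₂
      rw [Scheme.homOfLE_ι, Scheme.Opens.range_ι]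
      exact ⟨hx₁, hx₂⟩
  obtain ⟨O₁, O₂, hO₁, hO₂, hcl⟩ := exists_opens_isClosed p₁ p₂ k₁ k₂ hk₁ hk₂ k b₁ b₂
    (by simp only [b₁, b₂, Category.assoc, hg]) a₁ a₂ haf hkb₁ hkb₂ hmax hclosed
  -- the final overlap
  let W' : W.toScheme.Opens := b₁ ⁻¹ᵁ O₁ ⊓ b₂ ⁻¹ᵁ O₂
  let c₁ : W'.toScheme ⟶ O₁ := IsOpenImmersion.lift O₁.ι (W'.ι ≫ b₁) (by
    rw [Scheme.Opens.range_ι]; rintro _ ⟨w, rfl⟩; exact w.2.1)
  let c₂ : W'.toScheme ⟶ O₂ := IsOpenImmersion.lift O₂.ι (W'.ι ≫ b₂) (by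
    rw [Scheme.Opens.range_ι]; rintro _ ⟨w, rfl⟩; exact w.2.2)
  have hc₁ : c₁ ≫ O₁.ι = W'.ι ≫ b₁ := IsOpenImmersion.lift_fac _ _ _
  have hc₂ : c₂ ≫ O₂.ι = W'.ι ≫ b₂ := IsOpenImmersion.lift_fac _ _ _
  haveI : IsOpenImmersion (c₁ ≫ O₁.ι) := by rw [hc₁]; infer_instance
  haveI : IsOpenImmersion (c₂ ≫ O₂.ι) := by rw [hc₂]; infer_instance
  haveI : IsOpenImmersion c₁ := IsOpenImmersion.of_comp _ O₁.ι
  haveI : IsOpenImmersion c₂ := IsOpenImmersion.of_comp _ O₂.ι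
  have hc : c₁ ≫ O₁.ι ≫ p₁ = c₂ ≫ O₂.ι ≫ p₂ := by
    rw [← Category.assoc, hc₁, ← Category.assoc c₂, hc₂]; simp only [b₁, b₂, Category.assoc, hg]
  let m := pullback.map (O₁.ι ≫ p₁) (O₂.ι ≫ p₂) p₁ p₂ O₁.ι O₂.ι (𝟙 S) (by simp) (by simp)
  let Δ := pullback.lift b₁ b₂ (show b₁ ≫ p₁ = b₂ ≫ p₂ by simp only [b₁, b₂, Category.assoc, hg])
  have hm : pullback.lift c₁ c₂ hc ≫ m = W'.ι ≫ Δ := by
    apply pullback.hom_ext
    · simp only [m, Δ, Category.assoc, pullback.lift_fst, pullback.lift_fst_assoc, hc₁]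
    · simp only [m, Δ, Category.assoc, pullback.lift_snd, pullback.lift_snd_assoc, hc₂]
  have hm₁ : ∀ v, pullback.fst p₁ p₂ (m v) ∈ O₁ := fun v => by
    rw [← Scheme.Hom.comp_apply, show m ≫ pullback.fst p₁ p₂ = _ from pullback.lift_fst _ _ _, Scheme.Hom.comp_apply]
    exact (pullback.fst (O₁.ι ≫ p₁) (O₂.ι ≫ p₂) v).2
  have hm₂ : ∀ v, pullback.snd p₁ p₂ (m v) ∈ O₂ := fun v => by
    rw [← Scheme.Hom.comp_apply, show m ≫ pullback.snd p₁ p₂ = _ from pullback.lift_snd _ _ _, Scheme.Hom.comp_apply]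
    exact (pullback.snd (O₁.ι ≫ p₁) (O₂.ι ≫ p₂) v).2
  have hclW : IsClosed (Set.range (pullback.lift c₁ c₂ hc)) := by
    have : Set.range (pullback.lift c₁ c₂ hc) = m ⁻¹' closure (Set.range Δ) := by
      ext v
      constructor
      · rintro ⟨w, rfl⟩
        refine subset_closure ⟨W'.ι w, ?_⟩
        rw [← Scheme.Hom.comp_apply, ← hm, Scheme.Hom.comp_apply]
      · intro hv
        obtain ⟨w, hw⟩ := hcl _ hv (hm₁ v) (hm₂ v)
        have hw₁ : b₁ w ∈ O₁ := by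
          rw [← show Δ ≫ pullback.fst p₁ p₂ = b₁ from pullback.lift_fst _ _ _, Scheme.Hom.comp_apply, hw]
          exact hm₁ v
        have hw₂ : b₂ w ∈ O₂ := by
          rw [← show Δ ≫ pullback.snd p₁ p₂ = b₂ from pullback.lift_snd _ _ _, Scheme.Hom.comp_apply, hw]
          exact hm₂ v
        refine ⟨⟨w, hw₁, hw₂⟩, m.isOpenEmbedding.injective ?_⟩
        rw [← Scheme.Hom.comp_apply, hm, Scheme.Hom.comp_apply]
        exact hw
    rw [this]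
    exact isClosed_closure.preimage m.continuous
  let p := pushout.desc (O₁.ι ≫ p₁) (O₂.ι ≫ p₂) hc
  haveI : IsSeparated p := OpenPushout.isSeparated_desc c₁ c₂ _ _ hc hclW
  haveI : LocallyOfFiniteType p := OpenPushout.locallyOfFiniteType_desc c₁ c₂ _ _ hc
  haveI := LocImmNhd.isNoetherian_opens O₁
  haveI := LocImmNhd.isNoetherian_opens O₂
  haveI : IsLocallyNoetherian (pushout c₁ c₂) := LocallyOfFiniteType.isLocallyNoetherian p
  haveI := OpenPushout.compactSpace c₁ c₂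
  haveI : IsNoetherian (pushout c₁ c₂) := { }
  -- the map from `X`
  let k₁' : (U₁ : Scheme.{u}) ⟶ O₁ := IsOpenImmersion.lift O₁.ι k₁ (by rwa [Scheme.Opens.range_ι])
  let k₂' : (U₂ : Scheme.{u}) ⟶ O₂ := IsOpenImmersion.lift O₂.ι k₂ (by rwa [Scheme.Opens.range_ι])
  have hk₁'e : k₁' ≫ O₁.ι = k₁ := IsOpenImmersion.lift_fac _ _ _
  have hk₂'e : k₂' ≫ O₂.ι = k₂ := IsOpenImmersion.lift_fac _ _ _
  let k' : (U₁ ⊓ U₂ : X.Opens).toScheme ⟶ W' := IsOpenImmersion.lift W'.ι k (by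
    rw [Scheme.Opens.range_ι]
    rintro _ ⟨t, rfl⟩
    refine ⟨?_, ?_⟩
    · show b₁ (k t) ∈ O₁
      rw [← Scheme.Hom.comp_apply, hkb₁, Scheme.Hom.comp_apply]
      exact hO₁ ⟨_, rfl⟩
    · show b₂ (k t) ∈ O₂
      rw [← Scheme.Hom.comp_apply, hkb₂, Scheme.Hom.comp_apply]
      exact hO₂ ⟨_, rfl⟩)
  have hk'e : k' ≫ W'.ι = k := IsOpenImmersion.lift_fac _ _ _
  have e₁ : a₁ ≫ k₁' = k' ≫ c₁ := by
    rw [← cancel_mono O₁.ι, Category.assoc, Category.assoc, hk₁'e, hc₁, ← Category.assoc k', hk'e, hkb₁]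
  have e₂ : a₂ ≫ k₂' = k' ≫ c₂ := by
    rw [← cancel_mono O₂.ι, Category.assoc, Category.assoc, hk₂'e, hc₂, ← Category.assoc k', hk'e, hkb₂]
  obtain ⟨K₀, hK₁, hK₂⟩ := exists_glue_two U₁ U₂ (k₁' ≫ pushout.inl c₁ c₂) (k₂' ≫ pushout.inr c₁ c₂) (by
    rw [← Category.assoc, ← Category.assoc, e₁, e₂, Category.assoc, Category.assoc, pushout.condition])
  let K : X ⟶ pushout c₁ c₂ := X.topIso.inv ≫ X.homOfLE (le_of_eq hU.symm) ≫ K₀
  have hι : ∀ (U : X.Opens) (hle : U ≤ U₁ ⊔ U₂),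
      U.ι ≫ X.topIso.inv ≫ X.homOfLE (le_of_eq hU.symm) = X.homOfLE hle := by
    intro U hle
    rw [← cancel_mono (U₁ ⊔ U₂).ι]
    simp only [Category.assoc, Scheme.homOfLE_ι]
    rw [show X.topIso.inv ≫ (⊤ : X.Opens).ι = 𝟙 X from X.topIso.inv_hom_id, Category.comp_id]
  have hKU₁ : U₁.ι ≫ K = k₁' ≫ pushout.inl c₁ c₂ := by
    simp only [K]; rw [← hK₁, ← hι U₁ le_sup_left]; simp
  have hKU₂ : U₂.ι ≫ K = k₂' ≫ pushout.inr c₁ c₂ := by
    simp only [K]; rw [← hK₂, ← hι U₂ le_sup_right]; simp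
  have hl₁ : IsLocImmersion (U₁.ι ≫ K) := by
    rw [hKU₁]
    exact LocImB.isLocImmersion_comp (LocImB.isLocImmersion_of_comp_mono (g := O₁.ι) (by rwa [hk₁'e]))
      (LocImB.isLocImmersion_of_isOpenImmersion _)
  have hl₂ : IsLocImmersion (U₂.ι ≫ K) := by
    rw [hKU₂]
    exact LocImB.isLocImmersion_comp (LocImB.isLocImmersion_of_comp_mono (g := O₂.ι) (by rwa [hk₂'e]))
      (LocImB.isLocImmersion_of_isOpenImmersion _)
  have hcov : ∀ x : X, x ∈ U₁ ∨ x ∈ U₂ := fun x => by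
    have : x ∈ U₁ ⊔ U₂ := by rw [hU]; trivial
    exact this
  have hmem : ∀ (x x' : X), x ∈ U₁ → x' ∈ U₂ → K x = K x' → x ∈ U₂ := by
    intro x x' hx hx' he
    obtain ⟨w, hw, -⟩ := OpenPushout.inl_eq_inr c₁ c₂ (a := k₁' ⟨x, hx⟩) (b := k₂' ⟨x', hx'⟩) (by
      rw [← Scheme.Hom.comp_apply, ← Scheme.Hom.comp_apply, ← hKU₁, ← hKU₂]
      exact he)
    obtain ⟨t, ht⟩ := hpre₁ ⟨x, hx⟩ (W'.ι w)
      ((congr($hc₁ w)).symm.trans ((congrArg O₁.ι hw).trans congr($hk₁'e ⟨x, hx⟩)))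
    have : (a₁ ≫ U₁.ι) t = x := by rw [Scheme.Hom.comp_apply, ht]; rfl
    rw [Scheme.homOfLE_ι] at this
    rw [← this]
    exact t.2.2
  refine ⟨pushout c₁ c₂, K, p, inferInstance, ⟨fun x => ?_, fun x x' he => ?_⟩, inferInstance, inferInstance,
    inferInstance, ?_⟩
  · rcases hcov x with hx | hx
    · exact locAt_of_comp U₁.ι K ⟨x, hx⟩ (hl₁.1 _)
    · exact locAt_of_comp U₂.ι K ⟨x, hx⟩ (hl₂.1 _)
  · have h22 : ∀ (x x' : X) (hx : x ∈ U₂) (hx' : x' ∈ U₂), K x = K x' → x = x' := fun x x' hx hx' he =>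
      congrArg U₂.ι (hl₂.2 (a₁ := ⟨x, hx⟩) (a₂ := ⟨x', hx'⟩) he)
    rcases hcov x with hx | hx <;> rcases hcov x' with hx' | hx'
    · exact congrArg U₁.ι (hl₁.2 (a₁ := ⟨x, hx⟩) (a₂ := ⟨x', hx'⟩) he)
    · exact h22 x x' (hmem x x' hx hx' he) hx' he
    · exact h22 x x' hx (hmem x' x hx' hx he.symm) he
    · exact h22 x x' hx hx' he
  · refine Scheme.Cover.hom_ext (Scheme.openCoverOfIsOpenCover _ (fun i : Bool => if i then U₁ else U₂)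
      (.mk (eq_top_iff.2 fun x _ => Opens.mem_iSup.2 ((hcov x).elim (fun h => ⟨true, h⟩) (fun h => ⟨false, h⟩))))) _ _ ?_
    intro i
    cases i
    · show U₂.ι ≫ K ≫ p = U₂.ι ≫ f
      rw [← Category.assoc, hKU₂, Category.assoc, pushout.inr_desc, ← Category.assoc, hk₂'e, h₂]
    · show U₁.ι ≫ K ≫ p = U₁.ι ≫ f
      rw [← Category.assoc, hKU₁, Category.assoc, pushout.inl_desc, ← Category.assoc, hk₁'e, h₁]

theorem exists_factor (f : X ⟶ S) [IsSeparated f]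
    (U₁ U₂ : X.Opens) (hU : U₁ ⊔ U₂ = ⊤) (Y₁ Y₂ : Scheme.{u}) [IsNoetherian Y₁] [IsNoetherian Y₂]
    (k₁ : (U₁ : Scheme.{u}) ⟶ Y₁) (k₂ : (U₂ : Scheme.{u}) ⟶ Y₂) (p₁ : Y₁ ⟶ S) (p₂ : Y₂ ⟶ S)
    (hk₁ : IsLocImmersion k₁) (hk₂ : IsLocImmersion k₂)
    [IsSeparated p₁] [IsSeparated p₂] [LocallyOfFiniteType p₁] [LocallyOfFiniteType p₂]
    (h₁ : k₁ ≫ p₁ = U₁.ι ≫ f) (h₂ : k₂ ≫ p₂ = U₂.ι ≫ f) :
    ∃ (Y : Scheme.{u}) (k : X ⟶ Y) (p : Y ⟶ S), IsNoetherian Y ∧ IsLocImmersion k ∧ IsSeparated p ∧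
      LocallyOfFiniteType p ∧ QuasiCompact p ∧ k ≫ p = f := by
  haveI := LocImmNhd.isNoetherian_opens U₁
  haveI : IsNoetherian k₁.image := LocImmCommon.isNoetherian_of_locallyOfFiniteType k₁.imageι
  exact exists_factor_dominant f U₁ U₂ hU k₁.image Y₂ k₁.toImage k₂ (k₁.imageι ≫ p₁) p₂
    (Groth.Agent.S18195.result k₁.toImage k₁.imageι (by rwa [k₁.toImage_imageι])
      (LocImmCommon.toImage_app_injective k₁)) hk₂ (by rw [k₁.toImage_imageι_assoc, h₁]) h₂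

end Groth.Agent.H17.LocImmGlue
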