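import Groth.Agent.H1CAlg.ProjDescent
import Groth.Agent.H8Props.RelFP.PullSections
import Groth.Agent.H29Fitt.Sheaf
import Mathlib

/-!
# Projectivity of sections is affine local
-/

set_option autoImplicit false
set_option linter.style.haveILetI false
universe u

open TensorProduct AlgebraicGeometry CategoryTheory TopologicalSpace

namespace Groth.Agent.H17.LocProj

/-- Projectivity is local on the spectrum. -/
theorem projective_of_localizations {R : Type u} [CommRing R] {M : Type u} [AddCommGroup M] [Module R M]
    {ι : Type u} [Finite ι] (g : ι → R) (hg : Ideal.span (Set.range g) = ⊤)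
    (h : ∀ i, Module.Projective (Localization.Away (g i)) (Localization.Away (g i) ⊗[R] M)) :
    Module.Projective R M := by
  classical
  haveI := Fintype.ofFinite ι
  let S := ∀ i, Localization.Away (g i)
  haveI : Module.Flat R S :=
    Module.Flat.of_linearEquiv (DirectSum.linearEquivFunOnFintype R ι fun i => Localization.Away (g i)).symm
  haveI : Module.FaithfullyFlat R S := by
    refine Module.FaithfullyFlat.of_comap_surjective fun P => ?_
    obtain ⟨i, hi⟩ : ∃ i, g i ∉ P.asIdeal := by
      by_contra! hc
      exact P.isPrime.ne_top (top_le_iff.mp (hg ▸ Ideal.span_le.mpr (by rintro _ ⟨i, rfl⟩; exact hc i)))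
    have hP : P ∈ Set.range (PrimeSpectrum.comap (algebraMap R (Localization.Away (g i)))) := by
      rw [PrimeSpectrum.localization_away_comap_range (Localization.Away (g i)) (g i)]
      exact hi
    obtain ⟨Q, hQ⟩ := hP
    exact ⟨PrimeSpectrum.comap (Pi.evalRingHom (fun i => Localization.Away (g i)) i) Q, hQ⟩
  let π₀ : (M →₀ R) →ₗ[R] M := Finsupp.linearCombination R id
  have hπ₀ : Function.Surjective π₀ := fun m => ⟨Finsupp.single m 1, by simp [π₀]⟩
  have hsec : ∀ i, ∃ s : Localization.Away (g i) ⊗[R] M →ₗ[Localization.Away (g i)]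
      Localization.Away (g i) ⊗[R] (M →₀ R), (π₀.baseChange (Localization.Away (g i))) ∘ₗ s = LinearMap.id := by
    intro i
    haveI := h i
    exact Module.projective_lifting_property _ _ (LinearMap.lTensor_surjective _ hπ₀)
  choose s hs using hsec
  let j : ∀ i, Localization.Away (g i) ⊗[R] (M →₀ R) →ₗ[R] S ⊗[R] (M →₀ R) := fun i =>
    (LinearMap.single R (fun i => Localization.Away (g i)) i).rTensor (M →₀ R)
  let t : M →ₗ[R] S ⊗[R] (M →₀ R) :=
    ∑ i, j i ∘ₗ (s i).restrictScalars R ∘ₗ TensorProduct.mk R (Localization.Away (g i)) M 1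
  let σ : S ⊗[R] M →ₗ[S] S ⊗[R] (M →₀ R) :=
    TensorProduct.AlgebraTensorModule.lift ((LinearMap.ringLmapEquivSelf S S _).symm t).flip.flip
  have hσ : (π₀.baseChange S) ∘ₗ σ = LinearMap.id := by
    refine TensorProduct.AlgebraTensorModule.ext fun a m => ?_
    have key : π₀.baseChange S (t m) = (1 : S) ⊗ₜ m := by
      simp only [t, LinearMap.sum_apply, map_sum, LinearMap.comp_apply]
      have h1 : ∀ i, ∀ z : Localization.Away (g i) ⊗[R] (M →₀ R), π₀.baseChange S (j i z) =
          (LinearMap.single R (fun i => Localization.Away (g i)) i).rTensor M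
            (π₀.baseChange (Localization.Away (g i)) z) := fun i z => by
        induction z using TensorProduct.induction_on with
        | zero => simp
        | tmul a x => rfl
        | add x y hx hy => simp only [map_add, hx, hy]
      simp only [h1]
      calc _ = ∑ i, (LinearMap.single R (fun i => Localization.Away (g i)) i 1) ⊗ₜ[R] m := by
            refine Finset.sum_congr rfl fun i _ => ?_
            rw [show π₀.baseChange (Localization.Away (g i)) ((s i).restrictScalars R _) = _ from
              LinearMap.congr_fun (hs i) _]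
            rfl
        _ = _ := by
          rw [← TensorProduct.sum_tmul]
          congr 1
          exact (Finset.univ_sum_single (1 : S))
    show π₀.baseChange S (a • t m) = a ⊗ₜ m
    rw [map_smul, key, TensorProduct.smul_tmul', smul_eq_mul, mul_one]
  haveI : Module.Projective S (S ⊗[R] M) := Module.Projective.of_split σ (π₀.baseChange S) hσ
  exact H1CAlg.projective_of_baseChange R S M

variable {X : Scheme.{u}} (F : X.Modules) (hF : Coh.IsQCoh F)

/-- Sections over an affine open are projective. -/
def ProjAt (U : X.Opens) : Prop := Module.Projective Γ(X, U) Γ(F, U)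

include hF in
theorem projAt_basicOpen {U : X.Opens} (hU : IsAffineOpen U) (t : Γ(X, U)) (h : ProjAt F U) :
    ProjAt F (X.basicOpen t) := by
  letI := Module.compHom Γ(F, X.basicOpen t) (algebraMap Γ(X, U) Γ(X, X.basicOpen t))
  haveI : IsScalarTower Γ(X, U) Γ(X, X.basicOpen t) Γ(F, X.basicOpen t) :=
    IsScalarTower.of_algebraMap_smul fun _ _ => rfl
  haveI := hU.isLocalization_basicOpen t
  haveI := H29Fitt.isLocalizedModule_resLin F hF hU t
  have hbc : IsBaseChange Γ(X, X.basicOpen t) (H29Fitt.resLin F t) :=
    IsLocalizedModule.isBaseChange (Submonoid.powers t) _ _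
  haveI : Module.Projective Γ(X, U) Γ(F, U) := h
  exact Module.Projective.of_equiv hbc.equiv

include hF in
theorem projAt_of_cover {U : X.Opens} (hU : IsAffineOpen U) (s : Finset Γ(X, U))
    (hs : Ideal.span (s : Set Γ(X, U)) = ⊤) (h : ∀ t ∈ s, ProjAt F (X.basicOpen t)) : ProjAt F U := by
  refine projective_of_localizations (R := Γ(X, U)) (fun t : ↥s => t.1) ?_ fun ⟨t, ht⟩ => ?_
  · rw [Subtype.range_coe_subtype]; exact hs
  letI := Module.compHom Γ(F, X.basicOpen t) (algebraMap Γ(X, U) Γ(X, X.basicOpen t))
  haveI := hU.isLocalization_basicOpen t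
  haveI := H29Fitt.isLocalizedModule_resLin F hF hU t
  let e : Localization.Away t ≃ₐ[Γ(X, U)] Γ(X, X.basicOpen t) :=
    IsLocalization.algEquiv (Submonoid.powers t) _ _
  haveI : IsScalarTower Γ(X, U) Γ(X, X.basicOpen t) Γ(F, X.basicOpen t) :=
    IsScalarTower.of_algebraMap_smul fun _ _ => rfl
  letI : Module (Localization.Away t) Γ(F, X.basicOpen t) := Module.compHom _ e.toRingEquiv.toRingHom
  haveI : IsScalarTower Γ(X, U) (Localization.Away t) Γ(F, X.basicOpen t) :=
    IsScalarTower.of_algebraMap_smul fun r m => by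
      show e (algebraMap _ _ r) • m = _
      rw [AlgEquiv.commutes]; rfl
  have hbc : IsBaseChange (Localization.Away t) (H29Fitt.resLin F t) :=
    IsLocalizedModule.isBaseChange (Submonoid.powers t) _ _
  haveI : Module.Projective Γ(X, X.basicOpen t) Γ(F, X.basicOpen t) := h t ht
  haveI i1 : RingHomInvPair e.toRingEquiv.symm.toRingHom e.toRingEquiv.toRingHom :=
    RingHomInvPair.of_ringEquiv e.toRingEquiv.symm
  haveI i2 : RingHomInvPair e.toRingEquiv.toRingHom e.toRingEquiv.symm.toRingHom :=
    RingHomInvPair.of_ringEquiv e.toRingEquiv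
  haveI : Module.Projective (Localization.Away t) Γ(F, X.basicOpen t) :=
    Module.Projective.of_equiv (σ := e.toRingEquiv.symm.toRingHom) (σ' := e.toRingEquiv.toRingHom)
      ({ AddEquiv.refl Γ(F, X.basicOpen t) with
        map_smul' := fun r m => by
          show r • m = e (e.symm r) • m
          rw [AlgEquiv.apply_symm_apply] } :
        Γ(F, X.basicOpen t) ≃ₛₗ[e.toRingEquiv.symm.toRingHom] Γ(F, X.basicOpen t))
  exact Module.Projective.of_equiv hbc.equiv.symm

include hF in
theorem projAt_of_affine_cover {I : Type*} (U : I → X.Opens) (hU : ∀ i, IsAffineOpen (U i))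
    (hcov : (⨆ i, U i) = ⊤) (hP : ∀ i, ProjAt F (U i)) {V : X.Opens} (hV : IsAffineOpen V) :
    ProjAt F V := by
  refine of_affine_open_cover (P := fun W : X.affineOpens => ProjAt F W.1) (fun i => ⟨U i, hU i⟩)
    hcov ⟨V, hV⟩ (fun W f h => projAt_basicOpen F hF W.2 f h) (fun W s hs h => ?_) hP
  exact projAt_of_cover F hF W.2 s hs fun t ht => h ⟨t, ht⟩

end Groth.Agent.H17.LocProj
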