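import Mathlib.Geometry.RingedSpace.LocallyRingedSpace
import Mathlib.Topology.Sheaves.LocallySurjective
import Mathlib.Topology.Sheaves.SheafCondition.UniqueGluing
import Mathlib.Topology.Sheaves.Stalks

/-!
Factorization through closed subspaces of locally ringed spaces cut out by surjections of structure
sheaves.
-/

set_option autoImplicit false

universe u

open CategoryTheory TopologicalSpace Opposite AlgebraicGeometry

namespace Groth.Agent.H17.Lrs

theorem res_res {T : TopCat.{u}} (F : TopCat.Presheaf CommRingCat.{u} T) {U V W : Opens T}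
    (h : V ≤ U) (h' : W ≤ V) (s : F.obj (op U)) :
    F.map (homOfLE h').op (F.map (homOfLE h).op s) = F.map (homOfLE (h'.trans h)).op s := by
  rw [← ConcreteCategory.comp_apply, ← Functor.map_comp]
  rfl

theorem res_self {T : TopCat.{u}} (F : TopCat.Presheaf CommRingCat.{u} T) {U : Opens T}
    (h : U ≤ U) (s : F.obj (op U)) : F.map (homOfLE h).op s = s := by
  rw [Subsingleton.elim (homOfLE h).op (𝟙 _), CategoryTheory.Functor.map_id]
  rfl

variable {Z X Y : LocallyRingedSpace.{u}}

/-- The preimage of an open subset. -/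
abbrev pre {A B : LocallyRingedSpace.{u}} (h : A ⟶ B) (U : Opens B.toTopCat) : Opens A.toTopCat :=
  (Opens.map h.base).obj U

theorem app_res {A B : LocallyRingedSpace.{u}} (h : A ⟶ B) {U V : Opens B.toTopCat} (e : V ≤ U)
    (s : B.presheaf.obj (op U)) :
    h.c.app (op V) (B.presheaf.map (homOfLE e).op s) =
      A.presheaf.map (homOfLE (fun z hz => e hz : pre h V ≤ pre h U)).op (h.c.app (op U) s) :=
  congr($(h.c.naturality (homOfLE e).op) s)

variable (i : Z ⟶ X) (f : Y ⟶ X)

/-- The defining property of the image of a section of `Z` over `V` as a section of `Y`. -/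
def IsVal (g₀ : Y.toTopCat → Z.toTopCat) (V : Opens Z.toTopCat) (gV : Opens Y.toTopCat)
    (_ : ∀ y, y ∈ gV ↔ g₀ y ∈ V) (a : Z.presheaf.obj (op V)) (c : Y.presheaf.obj (op gV)) : Prop :=
  ∀ (W : Opens X.toTopCat) (hW : pre i W ≤ V) (hf : pre f W ≤ gV) (b : X.presheaf.obj (op W)),
    i.c.app (op W) b = Z.presheaf.map (homOfLE hW).op a →
      Y.presheaf.map (homOfLE hf).op c = f.c.app (op W) b

variable (hi : Topology.IsClosedEmbedding i.base) (hsurj : TopCat.Presheaf.IsLocallySurjective i.c)
  (hkill : ∀ (U : Opens X.toTopCat) (s : X.presheaf.obj (op U)),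
    i.c.app (op U) s = 0 → f.c.app (op U) s = 0)

include hi hsurj hkill

theorem range_subset : Set.range f.base ⊆ Set.range i.base := by
  rintro _ ⟨y, rfl⟩
  by_contra hy
  let W : Opens X.toTopCat := ⟨(Set.range i.base)ᶜ, hi.isClosed_range.isOpen_compl⟩
  have h1 : i.c.app (op W) 1 = 0 := by
    refine TopCat.Presheaf.section_ext Z.sheaf (pre i W) _ _ fun z hz => ?_
    exact absurd ⟨z, rfl⟩ hz
  have h2 := hkill W 1 h1
  rw [map_one] at h2
  have h3 := congrArg (Y.presheaf.germ (pre f W) y hy) h2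
  rw [map_one, map_zero] at h3
  exact one_ne_zero h3

theorem f_eq_of_eq {W : Opens X.toTopCat} {b b' : X.presheaf.obj (op W)}
    (h : i.c.app (op W) b = i.c.app (op W) b') : f.c.app (op W) b = f.c.app (op W) b' := by
  rw [← sub_eq_zero, ← map_sub]
  exact hkill W _ (by rw [map_sub, h, sub_self])

theorem existsUnique_val (g₀ : Y.toTopCat → Z.toTopCat) (hg₀ : ∀ y, i.base (g₀ y) = f.base y)
    (V : Opens Z.toTopCat) (gV : Opens Y.toTopCat) (hgV : ∀ y, y ∈ gV ↔ g₀ y ∈ V)
    (a : Z.presheaf.obj (op V)) : ∃! c, IsVal i f g₀ V gV hgV a c := by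
  classical
  let ι := Σ W : {W : Opens X.toTopCat // pre i W ≤ V},
    {b : X.presheaf.obj (op W.1) // i.c.app (op W.1) b = Z.presheaf.map (homOfLE W.2).op a}
  have hle : ∀ W : Opens X.toTopCat, pre i W ≤ V → pre f W ≤ gV := fun W hW y hy =>
    (hgV y).2 (hW (show i.base (g₀ y) ∈ W from (hg₀ y).symm ▸ hy))
  let U : ι → Opens Y.toTopCat := fun j => pre f j.1.1
  have hcov : gV ≤ iSup U := by
    intro y hy
    obtain ⟨W₀, hW₀, hW₀e⟩ := hi.isInducing.isOpen_iff.1 V.2
    let W : Opens X.toTopCat := ⟨W₀, hW₀⟩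
    have hWV : pre i W ≤ V := fun z hz => (Set.ext_iff.1 hW₀e z).1 hz
    have hVW : V ≤ pre i W := fun z hz => (Set.ext_iff.1 hW₀e z).2 hz
    have hfy : f.base y ∈ W := hg₀ y ▸ hVW ((hgV y).1 hy)
    obtain ⟨W', hW', ⟨b, hb⟩, hyW'⟩ := (TopCat.Presheaf.isLocallySurjective_iff _).1 hsurj W
      (Z.presheaf.map (homOfLE hWV).op a) (f.base y) hfy
    refine Opens.mem_iSup.2 ⟨⟨⟨W', le_trans (fun z hz => hW' hz) hWV⟩, ⟨b, ?_⟩⟩, hyW'⟩
    refine hb.trans ?_
    exact res_res Z.presheaf hWV _ a
  have hcompat : TopCat.Presheaf.IsCompatible Y.presheaf U (fun j => f.c.app (op j.1.1) j.2.1) := by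
    intro j k
    let W := j.1.1 ⊓ k.1.1
    have h := f_eq_of_eq i f hi hsurj hkill (W := W)
      (b := X.presheaf.map (homOfLE inf_le_left).op j.2.1)
      (b' := X.presheaf.map (homOfLE inf_le_right).op k.2.1) (by
        rw [app_res, app_res, j.2.2, k.2.2, res_res, res_res])
    rw [app_res, app_res] at h
    exact h
  obtain ⟨c, hc, huniq⟩ := Y.sheaf.existsUnique_gluing' U gV (fun j => homOfLE (hle _ j.1.2)) hcov _ hcompat
  refine ⟨c, fun W hW hf b hb => hc ⟨⟨W, hW⟩, ⟨b, hb⟩⟩, fun c' hc' => huniq c' fun j => ?_⟩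
  exact hc' j.1.1 j.1.2 _ j.2.1 j.2.2

/-- The factorization. -/
theorem exists_fac : ∃ g : Y ⟶ Z, g ≫ i = f := by
  classical
  have hr := range_subset i f hi hsurj hkill
  choose g₀ hg₀ using fun y => hr ⟨y, rfl⟩
  have hcont : Continuous g₀ := by
    rw [hi.isInducing.continuous_iff]
    rw [show (i.base ∘ g₀ : Y.toTopCat → X.toTopCat) = f.base from funext hg₀]
    exact f.base.hom.continuous
  let gb : Y.toTopCat ⟶ Z.toTopCat := TopCat.ofHom ⟨g₀, hcont⟩
  have hex := fun (V : Opens Z.toTopCat) (a : Z.presheaf.obj (op V)) =>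
    existsUnique_val i f hi hsurj hkill g₀ hg₀ V ((Opens.map gb).obj V) (fun y => Iff.rfl) a
  let val := fun V a => (hex V a).choose
  have hval : ∀ V a, IsVal i f g₀ V ((Opens.map gb).obj V) (fun y => Iff.rfl) a (val V a) :=
    fun V a => (hex V a).choose_spec.1
  have huniq : ∀ V a c, IsVal i f g₀ V ((Opens.map gb).obj V) (fun y => Iff.rfl) a c → c = val V a :=
    fun V a c h => (hex V a).choose_spec.2 c h
  -- lifts exist locally, which gives additivity and multiplicativity
  have hop : ∀ V (a a' : Z.presheaf.obj (op V)),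
      val V (a + a') = val V a + val V a' ∧ val V (a * a') = val V a * val V a' := by
    intro V a a'
    have key : ∀ (W : Opens X.toTopCat) (hW : pre i W ≤ V) (hf : pre f W ≤ (Opens.map gb).obj V)
        (y : Y.toTopCat) (hy : f.base y ∈ W), ∃ (W' : Opens X.toTopCat) (hW' : W' ≤ W) (_ : f.base y ∈ W')
          (b b' : X.presheaf.obj (op W')),
          i.c.app (op W') b = Z.presheaf.map (homOfLE (le_trans (fun z hz => hW' hz) hW)).op a ∧
          i.c.app (op W') b' = Z.presheaf.map (homOfLE (le_trans (fun z hz => hW' hz) hW)).op a' := by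
      intro W hW hf y hy
      obtain ⟨W₁, hW₁, ⟨b, hb⟩, hy₁⟩ := (TopCat.Presheaf.isLocallySurjective_iff _).1 hsurj W
        (Z.presheaf.map (homOfLE hW).op a) (f.base y) hy
      obtain ⟨W₂, hW₂, ⟨b', hb'⟩, hy₂⟩ := (TopCat.Presheaf.isLocallySurjective_iff _).1 hsurj W
        (Z.presheaf.map (homOfLE hW).op a') (f.base y) hy
      refine ⟨W₁ ⊓ W₂, le_trans inf_le_left hW₁, ⟨hy₁, hy₂⟩,
        X.presheaf.map (homOfLE inf_le_left).op b, X.presheaf.map (homOfLE inf_le_right).op b', ?_, ?_⟩
      · rw [app_res, show i.c.app (op W₁) b = _ from hb]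
        exact (res_res Z.presheaf _ _ _).trans (res_res Z.presheaf _ _ _)
      · rw [app_res, show i.c.app (op W₂) b' = _ from hb']
        exact (res_res Z.presheaf _ _ _).trans (res_res Z.presheaf _ _ _)
    constructor <;> symm <;> refine huniq V _ _ fun W hW hf b₀ hb₀ => ?_
    all_goals
      refine TopCat.Presheaf.section_ext Y.sheaf (pre f W) _ _ fun y hy => ?_
      obtain ⟨W', hW', hy', b, b', hb, hb'⟩ := key W hW hf y hy
      have hle : pre f W' ≤ pre f W := fun z hz => hW' hz
      change Y.presheaf.germ (pre f W) y hy _ = Y.presheaf.germ (pre f W) y hy _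
      rw [← TopCat.Presheaf.germ_res_apply Y.presheaf (homOfLE hle) y hy',
        ← TopCat.Presheaf.germ_res_apply Y.presheaf (homOfLE hle) y hy' (f.c.app (op W) b₀)]
      congr 1
      rw [res_res, ← app_res f hW']
    · rw [map_add, hval V a W' (le_trans (fun z hz => hW' hz) hW) _ b hb,
        hval V a' W' (le_trans (fun z hz => hW' hz) hW) _ b' hb', ← map_add]
      refine f_eq_of_eq i f hi hsurj hkill ?_
      rw [map_add, hb, hb', ← map_add, app_res, hb₀]
      exact (res_res Z.presheaf _ _ _).symm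
    · rw [map_mul, hval V a W' (le_trans (fun z hz => hW' hz) hW) _ b hb,
        hval V a' W' (le_trans (fun z hz => hW' hz) hW) _ b' hb', ← map_mul]
      refine f_eq_of_eq i f hi hsurj hkill ?_
      rw [map_mul, hb, hb', ← map_mul, app_res, hb₀]
      exact (res_res Z.presheaf _ _ _).symm
  have hone : ∀ V, val V 1 = 1 := fun V => (huniq V 1 1 fun W hW hf b hb => by
    rw [map_one, ← map_one (f.c.app (op W)).hom]
    refine f_eq_of_eq i f hi hsurj hkill ?_
    rw [map_one, hb, map_one]).symm
  have hzero : ∀ V, val V 0 = 0 := fun V => by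
    have := (hop V 0 0).1
    rw [add_zero] at this
    exact left_eq_add.1 this
  let gc : Z.presheaf ⟶ gb _* Y.presheaf :=
    { app := fun V => CommRingCat.ofHom
        { toFun := val V.unop
          map_one' := hone _
          map_mul' := fun a a' => (hop _ a a').2
          map_zero' := hzero _
          map_add' := fun a a' => (hop _ a a').1 }
      naturality := fun V V' e => by
        refine ConcreteCategory.hom_ext _ _ fun a => ?_
        show val V'.unop (Z.presheaf.map e a) = Y.presheaf.map ((Opens.map gb).map e.unop).op (val V.unop a)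
        symm
        refine huniq V'.unop _ _ fun W hW hf b hb => ?_
        rw [← ConcreteCategory.comp_apply, ← Functor.map_comp]
        refine hval V.unop a W (hW.trans e.unop.le) (hf.trans fun y hy => e.unop.le hy) b ?_
        rw [hb, ← ConcreteCategory.comp_apply, ← Functor.map_comp]
        rfl }
  let F : Y.toPresheafedSpace ⟶ X.toPresheafedSpace := f.toHom
  let I : Z.toPresheafedSpace ⟶ X.toPresheafedSpace := i.toHom
  have hcomp : (PresheafedSpace.Hom.mk gb gc : Y.toPresheafedSpace ⟶ Z.toPresheafedSpace) ≫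
      I = F := by
    refine PresheafedSpace.ext _ _ (TopCat.ext fun y => hg₀ y) ?_
    refine NatTrans.ext (funext fun W => ?_)
    refine ConcreteCategory.hom_ext _ _ fun b => ?_
    have hle : pre f W.unop ≤ (Opens.map gb).obj (pre i W.unop) := fun y hy =>
      show i.base (g₀ y) ∈ W.unop from (hg₀ y).symm ▸ hy
    have h2 := hval (pre i W.unop) (i.c.app W b) W.unop le_rfl hle b (res_self Z.presheaf _ _).symm
    refine Eq.trans ?_ h2
    show Y.presheaf.map _ _ = Y.presheaf.map _ _
    exact congr($(congrArg Y.presheaf.map (Subsingleton.elim _ _)) (val (pre i W.unop) (i.c.app W b)))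
  let G : Y.toPresheafedSpace ⟶ Z.toPresheafedSpace := PresheafedSpace.Hom.mk gb gc
  have hlocal : ∀ y, IsLocalHom (G.stalkMap y).hom := by
    intro y
    constructor
    intro z hz
    have hs : Function.Surjective (i.toHom.stalkMap (g₀ y)) := by
      have hx := (TopCat.Presheaf.locally_surjective_iff_surjective_on_stalks i.c).1 hsurj (i.base (g₀ y))
      haveI : IsIso (Z.presheaf.stalkPushforward CommRingCat i.base (g₀ y)) :=
        TopCat.Presheaf.stalkPushforward.stalkPushforward_iso_of_isInducing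
          CommRingCat hi.isInducing Z.presheaf (g₀ y)
      intro t
      obtain ⟨t', ht'⟩ := (ConcreteCategory.bijective_of_isIso
        (Z.presheaf.stalkPushforward CommRingCat i.base (g₀ y))).2 t
      obtain ⟨t'', ht''⟩ := hx t'
      refine ⟨t'', ?_⟩
      show Z.presheaf.stalkPushforward CommRingCat i.base (g₀ y)
        ((TopCat.Presheaf.stalkFunctor CommRingCat (i.base (g₀ y))).map i.c t'') = t
      rw [ht'']; exact ht'
    obtain ⟨w, rfl⟩ := hs z
    refine IsUnit.map (i.toHom.stalkMap (g₀ y)).hom ?_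
    have h1 : IsLocalHom ((G ≫ I).stalkMap y).hom := by
      have : ∀ e : Y.toPresheafedSpace ⟶ X.toPresheafedSpace,
          e = F →
          IsLocalHom (e.stalkMap y).hom := by
        rintro _ rfl; exact f.prop y
      exact this _ hcomp
    rw [PresheafedSpace.stalkMap.comp] at h1
    exact h1.map_nonunit w hz
  exact ⟨⟨G, hlocal⟩, LocallyRingedSpace.Hom.ext' hcomp⟩

omit hi hsurj hkill in
theorem eq_of_fac (hi : Topology.IsClosedEmbedding i.base)
    (hsurj : TopCat.Presheaf.IsLocallySurjective i.c) {g g' : Y ⟶ Z} (h : g ≫ i = f)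
    (h' : g' ≫ i = f) : g = g' := by
  have hkill : ∀ (U : Opens X.toTopCat) (s : X.presheaf.obj (op U)),
      i.c.app (op U) s = 0 → f.c.app (op U) s = 0 := by
    intro U s hs
    subst h
    show g.c.app (op (pre i U)) (i.c.app (op U) s) = 0
    rw [hs, map_zero]
  have hbase : g.base = g'.base := TopCat.ext fun y => hi.injective (by
    show (g ≫ i).base y = (g' ≫ i).base y
    rw [h, h'])
  have hg₀ : ∀ (g : Y ⟶ Z), g ≫ i = f → ∀ y, i.base (g.base y) = f.base y := fun g hg y => by
    subst hg; rfl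
  have hv : ∀ (g : Y ⟶ Z), g ≫ i = f → ∀ (g₀ : Y.toTopCat → Z.toTopCat) (V : Opens Z.toTopCat)
      (a : Z.presheaf.obj (op V)) (hgV : ∀ y, y ∈ pre g V ↔ g₀ y ∈ V),
      IsVal i f g₀ V (pre g V) hgV a (g.c.app (op V) a) := by
    intro g hg g₀ V a hgV W hW hf b hb
    subst hg
    show _ = g.c.app (op (pre i W)) (i.c.app (op W) b)
    rw [hb, app_res]
    rfl
  have h₁ : g.toHom = g'.toHom := by
    refine PresheafedSpace.ext _ _ hbase ?_
    refine NatTrans.ext (funext fun V => ?_)
    refine ConcreteCategory.hom_ext _ _ fun a => ?_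
    have hle : pre g' V.unop ≤ pre g V.unop := fun y hy => by
      show g.base y ∈ V.unop
      rw [hbase]; exact hy
    refine (existsUnique_val i f hi hsurj hkill g'.base (hg₀ g' h') V.unop (pre g' V.unop)
      (fun y => Iff.rfl) a).unique ?_ (hv g' h' g'.base V.unop a (fun y => Iff.rfl))
    intro W hW hf b hb
    show Y.presheaf.map (homOfLE hf).op (Y.presheaf.map _ (g.c.app V a)) = _
    rw [← ConcreteCategory.comp_apply, ← Functor.map_comp]
    exact hv g h g.base V.unop a (fun y => Iff.rfl) W hW (hf.trans hle) b hb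
  exact LocallyRingedSpace.Hom.ext' h₁

end Groth.Agent.H17.Lrs
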