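import Groth.Agent.H17.LrsImm
import Groth.Prelude.Def_W4stkremschemesLRS
import Mathlib.AlgebraicGeometry.IdealSheaf.Subscheme
import Mathlib.AlgebraicGeometry.Morphisms.ClosedImmersion

/-! Closed subspaces of schemes are schemes. -/

set_option autoImplicit false

universe u

open CategoryTheory TopologicalSpace Opposite AlgebraicGeometry

namespace Groth.Agent.H17.Lrs

/-- Membership in an ideal of the sections on an affine open is local on stalks. -/
theorem mem_of_germ_mem {X : Scheme.{u}} {V : X.Opens} (hV : IsAffineOpen V) (K : Ideal Γ(X, V))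
    (a : Γ(X, V))
    (h : ∀ (x : X) (hx : x ∈ V),
      X.presheaf.germ V x hx a ∈ K.map (X.presheaf.germ V x hx).hom) : a ∈ K := by
  let J : Ideal Γ(X, V) := Submodule.comap (LinearMap.toSpanSingleton Γ(X, V) Γ(X, V) a) K
  have hJ : J = ⊤ := by
    by_contra hne
    obtain ⟨P, hP, hle⟩ := Ideal.exists_le_maximal J hne
    let q : PrimeSpectrum Γ(X, V) := ⟨P, hP.isPrime⟩
    have hx : hV.fromSpec q ∈ V := by
      have : hV.fromSpec q ∈ Set.range hV.fromSpec := ⟨q, rfl⟩
      rwa [hV.range_fromSpec] at this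
    have hq : hV.primeIdealOf ⟨hV.fromSpec q, hx⟩ = q :=
      hV.fromSpec.isOpenEmbedding.injective (hV.fromSpec_primeIdealOf ⟨_, hx⟩)
    letI := TopCat.Presheaf.algebra_section_stalk X.presheaf (⟨hV.fromSpec q, hx⟩ : V)
    haveI := hV.isLocalization_stalk ⟨hV.fromSpec q, hx⟩
    have hm : algebraMap Γ(X, V) (X.presheaf.stalk (hV.fromSpec q)) a ∈
        K.map (algebraMap Γ(X, V) (X.presheaf.stalk (hV.fromSpec q))) := h _ hx
    obtain ⟨⟨⟨b, hb⟩, t⟩, hbt⟩ := (IsLocalization.mem_map_algebraMap_iff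
      (hV.primeIdealOf ⟨hV.fromSpec q, hx⟩).asIdeal.primeCompl (X.presheaf.stalk (hV.fromSpec q))).1 hm
    rw [← map_mul] at hbt
    obtain ⟨c, hc⟩ := (IsLocalization.eq_iff_exists
      (hV.primeIdealOf ⟨hV.fromSpec q, hx⟩).asIdeal.primeCompl (X.presheaf.stalk (hV.fromSpec q))).1 hbt
    have hmem : (c * t : Γ(X, V)) ∈ J := by
      show (c * t : Γ(X, V)) * a ∈ K
      rw [mul_assoc, mul_comm (t : Γ(X, V)), hc]
      exact K.mul_mem_left _ hb
    have := hle hmem
    rcases hP.isPrime.mem_or_mem this with h' | h'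
    · exact c.2 ((congrArg PrimeSpectrum.asIdeal hq).ge h')
    · exact t.2 ((congrArg PrimeSpectrum.asIdeal hq).ge h')
  have : (1 : Γ(X, V)) ∈ J := hJ ▸ Submodule.mem_top
  simpa [J] using this

theorem germ_eq_zero_of_basicOpen {X : Scheme.{u}} {U W : X.Opens} (h : W ≤ U) (a : Γ(X, U))
    (ha : X.presheaf.map (homOfLE h).op a = 0) (x : X) (hx : x ∈ W) :
    X.presheaf.germ U x (h hx) a = 0 := by
  rw [← TopCat.Presheaf.germ_res_apply X.presheaf (homOfLE h) x hx, ha, map_zero]

variable {X : Scheme.{u}} {Z : LocallyRingedSpace.{u}} (i : Z ⟶ X.toLocallyRingedSpace)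

theorem exists_pow_mul_killed (hi : LRSImm.IsClosedImmersion i) {U : X.Opens} (hU : IsAffineOpen U)
    (t b : Γ(X, U))
    (hb : i.c.app (op (X.basicOpen t)) (X.presheaf.map (homOfLE (X.basicOpen_le t)).op b) = 0) :
    ∃ n : ℕ, i.c.app (op U) (t ^ n * b) = 0 := by
  classical
  obtain ⟨-, -, hgen⟩ := hi
  choose W hxW ι s hs hspan using hgen
  have hg : ∀ x : U, ∃ g : Γ(X, U), X.basicOpen g ≤ W x.1 ∧ x.1 ∈ X.basicOpen g := fun x =>
    hU.exists_basicOpen_le (V := W x.1) ⟨x.1, hxW x.1⟩ x.2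
  choose g hgW hxg using hg
  obtain ⟨G, hG⟩ := hU.isCompact.elim_finite_subcover (fun x : U => ((X.basicOpen (g x) : X.Opens) : Set X))
    (fun x => (X.basicOpen (g x)).2) (fun x hx => Set.mem_iUnion.2 ⟨⟨x, hx⟩, hxg ⟨x, hx⟩⟩)
  -- on each piece, a power of `t` kills
  have hpiece : ∀ x : U, ∃ m : ℕ,
      i.c.app (op (X.basicOpen (g x))) (X.presheaf.map (homOfLE (X.basicOpen_le (g x))).op (t ^ m * b)) = 0 := by
    intro x
    set A := X.basicOpen (g x)
    have hA : IsAffineOpen A := hU.basicOpen (g x)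
    set tA : Γ(X, A) := X.presheaf.map (homOfLE (X.basicOpen_le (g x))).op t with htA
    set bA : Γ(X, A) := X.presheaf.map (homOfLE (X.basicOpen_le (g x))).op b with hbA
    set D := X.basicOpen tA
    have hDA : D ≤ A := X.basicOpen_le tA
    have hDt : D ≤ X.basicOpen t := by
      rw [show D = X.basicOpen tA from rfl, htA, X.basicOpen_res]
      exact inf_le_right
    let sA : ι x.1 → Γ(X, A) := fun j => X.presheaf.map (homOfLE (hgW x)).op (s x.1 j)
    let K : Ideal Γ(X, A) := Ideal.span (Set.range sA)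
    have hbD : X.presheaf.map (homOfLE hDA).op bA ∈ K.map (X.presheaf.map (homOfLE hDA).op).hom := by
      refine mem_of_germ_mem (hA.basicOpen tA) _ _ fun y hy => ?_
      have hyW : y ∈ W x.1 := hgW x (hDA hy)
      have hyt : y ∈ X.basicOpen t := hDt hy
      have hker : X.presheaf.germ D y hy (X.presheaf.map (homOfLE hDA).op bA) ∈
          RingHom.ker ((TopCat.Presheaf.stalkFunctor CommRingCat y).map i.c).hom := by
        rw [TopCat.Presheaf.germ_res_apply, hbA, TopCat.Presheaf.germ_res_apply,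
          ← TopCat.Presheaf.germ_res_apply X.presheaf (homOfLE (X.basicOpen_le t)) y hyt]
        show (TopCat.Presheaf.stalkFunctor CommRingCat y).map i.c
          (X.presheaf.germ (X.basicOpen t) y hyt _) = 0
        refine (TopCat.Presheaf.stalkFunctor_map_germ_apply _ y hyt i.c _).trans ?_
        refine Eq.trans ?_ (map_zero ((i.base _* Z.presheaf).germ (X.basicOpen t) y hyt).hom)
        exact congrArg _ hb
      rw [← hspan x.1 y hyW] at hker
      refine (Ideal.span_le.2 ?_) hker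
      rintro _ ⟨j, rfl⟩
      have hj := Ideal.mem_map_of_mem (X.presheaf.germ D y hy).hom
        (Ideal.mem_map_of_mem (X.presheaf.map (homOfLE hDA).op).hom
          (Ideal.subset_span ⟨j, rfl⟩ : sA j ∈ K))
      change X.presheaf.germ D y hy (X.presheaf.map (homOfLE hDA).op (sA j)) ∈ _ at hj
      rw [TopCat.Presheaf.germ_res_apply] at hj
      simp only [sA, TopCat.Presheaf.germ_res_apply] at hj
      exact hj
    haveI := hA.isLocalization_basicOpen tA
    obtain ⟨_, ⟨m, rfl⟩, hm⟩ := (IsLocalization.algebraMap_mem_map_algebraMap_iff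
      (Submonoid.powers tA) Γ(X, D) K bA).1 hbD
    refine ⟨m, ?_⟩
    have hK : K ≤ RingHom.ker (i.c.app (op A)).hom := by
      rw [Ideal.span_le]
      rintro _ ⟨j, rfl⟩
      show i.c.app (op A) (sA j) = 0
      rw [show i.c.app (op A) (sA j) = _ from app_res i (hgW x) (s x.1 j), hs, map_zero]
    rw [map_mul, map_pow, ← htA, ← hbA]
    exact hK hm
  choose m hm using hpiece
  refine ⟨G.sup m, ?_⟩
  refine TopCat.Presheaf.section_ext Z.sheaf (pre i U) _ _ fun z hz => ?_
  obtain ⟨x, hxG, hzx⟩ : ∃ x ∈ G, i.base z ∈ X.basicOpen (g x) := by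
    simpa using hG hz
  have hle : pre i (X.basicOpen (g x)) ≤ pre i U := fun w hw => X.basicOpen_le (g x) hw
  show Z.presheaf.germ (pre i U) z hz (i.c.app (op U) (t ^ G.sup m * b)) = Z.presheaf.germ (pre i U) z hz 0
  rw [map_zero, ← TopCat.Presheaf.germ_res_apply Z.presheaf (homOfLE hle) z hzx,
    ← app_res i (X.basicOpen_le (g x))]
  have : t ^ G.sup m * b = t ^ (G.sup m - m x) * (t ^ m x * b) := by
    rw [← mul_assoc, ← pow_add, Nat.sub_add_cancel (Finset.le_sup hxG)]
  rw [this]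
  show Z.presheaf.germ _ z hzx ((i.c.app (op (X.basicOpen (g x)))).hom
    ((X.presheaf.map (homOfLE (X.basicOpen_le (g x))).op).hom (t ^ (G.sup m - m x) * (t ^ m x * b)))) = 0
  rw [map_mul, map_mul]
  erw [hm x]
  rw [mul_zero, map_zero]

/-- The ideal sheaf of a closed subspace. -/
def kerData (hi : LRSImm.IsClosedImmersion i) : X.IdealSheafData where
  ideal U := RingHom.ker (i.c.app (op U.1)).hom
  map_ideal_basicOpen U t := by
    refine le_antisymm (Ideal.map_le_iff_le_comap.2 fun a ha => ?_) (fun a ha => ?_)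
    · show i.c.app (op (X.basicOpen t)) (X.presheaf.map (homOfLE (X.basicOpen_le t)).op a) = 0
      rw [show i.c.app (op (X.basicOpen t)) _ = _ from app_res i (X.basicOpen_le t) a,
        show i.c.app (op U.1) a = 0 from ha, map_zero]
    · haveI := U.2.isLocalization_basicOpen t
      obtain ⟨⟨b, ⟨_, n, rfl⟩⟩, hb⟩ := IsLocalization.surj (Submonoid.powers t) a
      have hb0 : i.c.app (op (X.basicOpen t)) (X.presheaf.map (homOfLE (X.basicOpen_le t)).op b) = 0 := by
        have h1 : X.presheaf.map (homOfLE (X.basicOpen_le t)).op b ∈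
            RingHom.ker (i.c.app (op (X.basicOpen t))).hom := by
          change algebraMap Γ(X, U.1) Γ(X, X.basicOpen t) b ∈ _
          rw [← hb]
          exact Ideal.mul_mem_right _ _ ha
        exact h1
      obtain ⟨m, hm⟩ := exists_pow_mul_killed i hi U.2 t b hb0
      have hmem := Ideal.mem_map_of_mem (algebraMap Γ(X, U.1) Γ(X, X.basicOpen t))
        (show t ^ m * b ∈ RingHom.ker (i.c.app (op U.1)).hom from hm)
      rw [map_mul, map_pow, Ideal.unit_mul_mem_iff_mem _
        ((IsLocalization.map_units Γ(X, X.basicOpen t) (⟨t, 1, pow_one t⟩ : Submonoid.powers t)).pow m),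
        ← hb, Ideal.mul_unit_mem_iff_mem _ (IsLocalization.map_units _ _)] at hmem
      exact hmem

theorem app_eq_zero_iff_germ {A : LocallyRingedSpace.{u}} (j : A ⟶ X.toLocallyRingedSpace)
    {U : X.Opens} (s : Γ(X, U))
    (h : ∀ x ∈ U, ∃ (V : X.Opens) (hVU : V ≤ U), x ∈ V ∧
      j.c.app (op V) (X.presheaf.map (homOfLE hVU).op s) = 0) :
    j.c.app (op U) s = 0 := by
  refine TopCat.Presheaf.section_ext A.sheaf (pre j U) _ _ fun z hz => ?_
  obtain ⟨V, hVU, hzV, hV⟩ := h (j.base z) hz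
  have hle : pre j V ≤ pre j U := fun w hw => hVU hw
  show A.presheaf.germ (pre j U) z hz (j.c.app (op U) s) = A.presheaf.germ (pre j U) z hz 0
  rw [map_zero, ← TopCat.Presheaf.germ_res_apply A.presheaf (homOfLE hle) z hzV,
    show A.presheaf.map (homOfLE hle).op (j.c.app (op U) s) = _ from (app_res j hVU s).symm]
  erw [hV]
  rw [map_zero]

theorem exists_scheme_iso (hi : LRSImm.IsClosedImmersion i) :
    ∃ (Z' : Scheme.{u}) (e : Z'.toLocallyRingedSpace ≅ Z),
      AlgebraicGeometry.IsClosedImmersion (Scheme.Hom.mk (e.hom ≫ i) : Z' ⟶ X) := by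
  let J := kerData i hi
  let Z' := J.subscheme
  let j : Z'.toLocallyRingedSpace ⟶ X.toLocallyRingedSpace := J.subschemeι.toLRSHom
  have hje : Topology.IsClosedEmbedding j.base := J.subschemeι.isClosedEmbedding
  have hjs : TopCat.Presheaf.IsLocallySurjective j.c := by
    rw [TopCat.Presheaf.isLocallySurjective_iff]
    intro U s x hx
    obtain ⟨V, hV, hxV, hVU⟩ := exists_isAffineOpen_mem_and_subset (U := U) (x := x) hx
    have hVU' : V ≤ U := hVU
    exact ⟨V, hVU', J.subschemeι_app_surjective ⟨V, hV⟩ _, hxV⟩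
  -- the two kernels agree on affine opens
  have haff : ∀ (V : X.Opens), IsAffineOpen V → ∀ a : Γ(X, V),
      i.c.app (op V) a = 0 ↔ j.c.app (op V) a = 0 := by
    intro V hV a
    have h := J.ker_subschemeι_app ⟨V, hV⟩
    exact ⟨fun ha => show a ∈ RingHom.ker (J.subschemeι.app V).hom from h.symm ▸ ha,
      fun ha => show a ∈ J.ideal ⟨V, hV⟩ from h ▸ ha⟩
  have hkill : ∀ (U : X.Opens) (s : Γ(X, U)), (i.c.app (op U) s = 0 → j.c.app (op U) s = 0) ∧
      (j.c.app (op U) s = 0 → i.c.app (op U) s = 0) := by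
    intro U s
    constructor <;> intro hs <;> refine app_eq_zero_iff_germ _ s fun x hx => ?_
    all_goals obtain ⟨V, hV, hxV, hVU⟩ := exists_isAffineOpen_mem_and_subset (U := U) (x := x) hx
    · refine ⟨V, hVU, hxV, (haff V hV _).1 ?_⟩
      rw [show i.c.app (op V) _ = _ from app_res i hVU s, hs, map_zero]
    · refine ⟨V, hVU, hxV, (haff V hV _).2 ?_⟩
      rw [show j.c.app (op V) _ = _ from app_res j hVU s, hs, map_zero]
  obtain ⟨φ, hφ⟩ := exists_fac i j hi.1 hi.2.1 (fun U s => (hkill U s).1)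
  obtain ⟨ψ, hψ⟩ := exists_fac j i hje hjs (fun U s => (hkill U s).2)
  have h1 : φ ≫ ψ = 𝟙 _ := eq_of_fac j j hje hjs (by rw [Category.assoc, hψ, hφ]) (Category.id_comp j)
  have h2 : ψ ≫ φ = 𝟙 _ := eq_of_fac i i hi.1 hi.2.1 (by rw [Category.assoc, hφ, hψ]) (Category.id_comp i)
  refine ⟨Z', ⟨φ, ψ, h1, h2⟩, ?_⟩
  have : (Scheme.Hom.mk (φ ≫ i) : Z' ⟶ X) = J.subschemeι := Scheme.Hom.ext' hφ
  show AlgebraicGeometry.IsClosedImmersion (Scheme.Hom.mk (φ ≫ i) : Z' ⟶ X)
  rw [this]
  infer_instance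

end Groth.Agent.H17.Lrs
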