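import Groth.Agent.H22Alg.NormalizationDimOne
import Groth.Prelude.Def_Pi1

/-! Universal property of the normalization of an integral scheme. -/

set_option autoImplicit false
set_option linter.style.haveILetI false
universe u
open CategoryTheory CategoryTheory.Limits AlgebraicGeometry TopologicalSpace Opposite

namespace Groth.Agent.H17.NormalizationUP

section

variable {X Z : Scheme.{u}} [IsIntegral X] (g : Z ⟶ X) (hZ : Pi1.IsNormalScheme Z)
  (hg : ∀ z, Function.Injective (g.stalkMap z).hom)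

include hZ hg in
theorem germ_ne_zero {U : X.Opens} [Nonempty U] {V : Z.Opens} (e : V ≤ g ⁻¹ᵁ U) {c : Γ(X, U)} (hc : c ≠ 0) (y : Z)
    (hy : y ∈ V) : Z.presheaf.germ V y hy (g.appLE U V e c) ≠ 0 := by
  intro h
  apply hc
  have h1 : g.stalkMap y (X.presheaf.germ U (g y) (e hy) c) = Z.presheaf.germ V y hy (g.appLE U V e c) := by
    rw [Scheme.Hom.germ_stalkMap_apply]
    simp [Scheme.Hom.appLE, TopCat.Presheaf.germ_res_apply']
  rw [h] at h1
  have h2 : X.presheaf.germ U (g y) (e hy) c = 0 := hg y (h1.trans (map_zero _).symm)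
  exact germ_injective_of_isIntegral X (g y) (e hy) (h2.trans (map_zero _).symm)

include hZ hg in
theorem eq_zero_of_mul {U : X.Opens} [Nonempty U] {V : Z.Opens} (e : V ≤ g ⁻¹ᵁ U) {c : Γ(X, U)} (hc : c ≠ 0) {s : Γ(Z, V)}
    (h : g.appLE U V e c * s = 0) : s = 0 := by
  refine TopCat.Presheaf.section_ext Z.sheaf V s 0 fun y hy => ?_
  haveI := (hZ y).1
  show Z.presheaf.germ V y hy s = Z.presheaf.germ V y hy 0
  rw [map_zero]
  refine (mul_eq_zero.1 ?_).resolve_left (germ_ne_zero g hZ hg e hc y hy)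
  rw [← map_mul, h, map_zero]

include hZ hg in
/-- An integral fraction becomes a section. -/
theorem exists_quotient {U : X.Opens} (hU : IsAffineOpen U) [Nonempty U] {V : Z.Opens} (e : V ≤ g ⁻¹ᵁ U) {c a : Γ(X, U)} (hc : c ≠ 0)
    {b : X.functionField} (hb : _root_.IsIntegral Γ(X, U) b)
    (hcb : algebraMap Γ(X, U) X.functionField c * b = algebraMap Γ(X, U) X.functionField a) :
    ∃ s : Γ(Z, V), g.appLE U V e c * s = g.appLE U V e a := by
  haveI := functionField_isFractionRing_of_isAffineOpen X U hU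
  have loc : ∀ y : V, ∃ (N : Z.Opens) (hN : N ≤ V), y.1 ∈ N ∧
      ∃ t, g.appLE U N (hN.trans e) c * t = g.appLE U N (hN.trans e) a := by
    rintro ⟨y, hy⟩
    haveI := (hZ y).1
    haveI := (hZ y).2
    let ψ : Γ(X, U) →+* Z.presheaf.stalk y := (g.appLE U V e ≫ Z.presheaf.germ V y hy).hom
    let F := FractionRing (Z.presheaf.stalk y)
    have hψ : Function.Injective ((algebraMap (Z.presheaf.stalk y) F).comp ψ) := by
      rw [injective_iff_map_eq_zero]
      intro x hx
      by_contra hx0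
      exact germ_ne_zero g hZ hg e hx0 y hy (IsFractionRing.injective _ F (hx.trans (map_zero _).symm))
    let θ : X.functionField →+* F := IsFractionRing.lift hψ
    have hθ : ∀ x, θ (algebraMap Γ(X, U) X.functionField x) = algebraMap _ F (ψ x) :=
      IsFractionRing.lift_algebraMap hψ
    obtain ⟨p, hp, hpb⟩ := hb
    obtain ⟨s, hs⟩ := IsIntegrallyClosed.isIntegral_iff.1 (show _root_.IsIntegral (Z.presheaf.stalk y) (θ b) from
      ⟨p.map ψ, hp.map _, by
        have h0 := congrArg θ hpb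
        rw [map_zero, Polynomial.hom_eval₂, show θ.comp (algebraMap Γ(X, U) X.functionField) =
          (algebraMap _ F).comp ψ from RingHom.ext hθ] at h0
        rw [Polynomial.eval₂_map]
        exact h0⟩)
    have hsa : ψ c * s = ψ a := by
      apply IsFractionRing.injective (Z.presheaf.stalk y) F
      rw [map_mul, hs, ← hθ, ← hθ, ← map_mul, hcb]
    obtain ⟨N, hyN, t, rfl⟩ := Z.presheaf.exists_germ_eq s
    have hyN' : y ∈ N ⊓ V := ⟨hyN, hy⟩
    let t' : Γ(Z, N ⊓ V) := Z.presheaf.map (homOfLE inf_le_left).op t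
    let l := g.appLE U (N ⊓ V) (inf_le_right.trans e) c * t'
    let r := g.appLE U (N ⊓ V) (inf_le_right.trans e) a
    have hlr : Z.presheaf.germ (N ⊓ V) y hyN' l = Z.presheaf.germ (N ⊓ V) y hyN' r := by
      simp only [l, r, t', map_mul, ← g.appLE_map e (homOfLE (inf_le_right : N ⊓ V ≤ V)).op,
        CommRingCat.comp_apply, TopCat.Presheaf.germ_res_apply]
      exact hsa
    obtain ⟨M, hyM, iM, iM', hM⟩ := TopCat.Presheaf.germ_eq Z.presheaf y hyN' hyN' l r hlr
    refine ⟨M, iM.le.trans inf_le_right, hyM, Z.presheaf.map iM.op t', ?_⟩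
    rw [Subsingleton.elim iM' iM] at hM
    simp only [l, r, map_mul, ← CommRingCat.comp_apply, g.appLE_map] at hM
    simpa only [← CommRingCat.comp_apply] using hM
  choose N hN hyN t ht using loc
  obtain ⟨s, hs, -⟩ := Z.sheaf.existsUnique_gluing' N V (fun y => homOfLE (hN y))
    (fun y hy => Opens.mem_iSup.2 ⟨⟨y, hy⟩, hyN ⟨y, hy⟩⟩) t (fun i j => by
      let a' : Γ(Z, N i ⊓ N j) := Z.presheaf.map (homOfLE inf_le_left).op (t i)
      let b' : Γ(Z, N i ⊓ N j) := Z.presheaf.map (homOfLE inf_le_right).op (t j)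
      show a' = b'
      refine sub_eq_zero.1 (eq_zero_of_mul g hZ hg ((inf_le_left.trans (hN i)).trans e) hc ?_)
      rw [mul_sub, sub_eq_zero]
      have h1 := congrArg (Z.presheaf.map (homOfLE (inf_le_left : N i ⊓ N j ≤ N i)).op) (ht i)
      have h2 := congrArg (Z.presheaf.map (homOfLE (inf_le_right : N i ⊓ N j ≤ N j)).op) (ht j)
      simp only [map_mul, ← CommRingCat.comp_apply, g.appLE_map] at h1 h2
      exact h1.trans h2.symm)
  change Γ(Z, V) at s
  refine ⟨s, (TopCat.Sheaf.eq_of_locally_eq' Z.sheaf N V (fun y => homOfLE (hN y))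
    (fun y hy => Opens.mem_iSup.2 ⟨⟨y, hy⟩, hyN ⟨y, hy⟩⟩) _ _ fun y => ?_)⟩
  show Z.presheaf.map _ (g.appLE U V e c * s) = Z.presheaf.map _ (g.appLE U V e a)
  rw [map_mul, show Z.presheaf.map (homOfLE (hN y)).op s = t y from hs y]
  simp only [← CommRingCat.comp_apply, g.appLE_map]
  exact ht y

theorem exists_fraction {U : X.Opens} (hU : IsAffineOpen U) [Nonempty U] (b : X.functionField) :
    ∃ c a : Γ(X, U), c ≠ 0 ∧ algebraMap Γ(X, U) X.functionField c * b = algebraMap Γ(X, U) X.functionField a := by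
  haveI := functionField_isFractionRing_of_isAffineOpen X U hU
  obtain ⟨a, c, hc, rfl⟩ := IsFractionRing.div_surjective (A := Γ(X, U)) b
  exact ⟨c, a, nonZeroDivisors.ne_zero hc, mul_div_cancel₀ _
    (IsFractionRing.to_map_ne_zero_of_mem_nonZeroDivisors hc)⟩

include hZ hg in
/-- `g^* : A → Γ(V)` extends to the integral closure. -/
theorem exists_extension {U : X.Opens} (hU : IsAffineOpen U) [Nonempty U] {V : Z.Opens} (e : V ≤ g ⁻¹ᵁ U) :
    ∃ σ : integralClosure Γ(X, U) X.functionField →+* Γ(Z, V), ∀ x, σ (algebraMap _ _ x) = g.appLE U V e x := by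
  haveI := functionField_isFractionRing_of_isAffineOpen X U hU
  let M : Submonoid Γ(Z, V) := (nonZeroDivisors Γ(X, U)).map (g.appLE U V e).hom
  have hM : M ≤ nonZeroDivisors Γ(Z, V) := by
    rintro _ ⟨c, hc, rfl⟩
    exact mem_nonZeroDivisors_iff_right.2 fun s hs =>
      eq_zero_of_mul g hZ hg e (nonZeroDivisors.ne_zero hc) (by rw [mul_comm]; exact hs)
  let L := Localization M
  let θ : X.functionField →+* L := IsLocalization.map L (g.appLE U V e).hom
    (show nonZeroDivisors Γ(X, U) ≤ M.comap (g.appLE U V e).hom from fun c hc => Submonoid.mem_map_of_mem _ hc)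
  have hθ : ∀ x, θ (algebraMap Γ(X, U) X.functionField x) = algebraMap _ L (g.appLE U V e x) := fun x =>
    IsLocalization.map_eq _ x
  have hinj : Function.Injective (algebraMap Γ(Z, V) L) := IsLocalization.injective L hM
  have hmem : ∀ b : integralClosure Γ(X, U) X.functionField, ∃ s, algebraMap Γ(Z, V) L s = θ b := by
    intro b
    obtain ⟨c, a, hc, hcb⟩ := exists_fraction hU (b : X.functionField)
    obtain ⟨s, hs⟩ := exists_quotient g hZ hg hU e hc b.2 hcb
    refine ⟨s, ?_⟩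
    have hu : IsUnit (algebraMap Γ(Z, V) L (g.appLE U V e c)) :=
      IsLocalization.map_units L (⟨_, Submonoid.mem_map_of_mem _ (mem_nonZeroDivisors_of_ne_zero hc)⟩ : M)
    apply hu.mul_left_cancel
    rw [← map_mul, hs, ← hθ, ← hθ, ← map_mul, hcb]
  choose s hs using hmem
  refine ⟨{ toFun := s
            map_one' := hinj (by rw [hs, map_one]; exact map_one θ)
            map_mul' := fun b b' => hinj (by rw [map_mul, hs, hs, hs]; exact map_mul θ _ _)
            map_zero' := hinj (by rw [hs, map_zero]; exact map_zero θ)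
            map_add' := fun b b' => hinj (by rw [map_add, hs, hs, hs]; exact map_add θ _ _) }, fun x => ?_⟩
  exact hinj ((hs _).trans (hθ x))

variable [QuasiCompact (X.fromSpecStalk (genericPoint ↥X))] [QuasiSeparated (X.fromSpecStalk (genericPoint ↥X))]

include hZ hg in
theorem hom_ext (h₁ h₂ : Z ⟶ Curv2.normalization X) (e₁ : h₁ ≫ Curv2.normalizationι X = g)
    (e₂ : h₂ ≫ Curv2.normalizationι X = g) : h₁ = h₂ := by
  haveI := H22Alg.NormalizationDimOne.isIntegralHom_normalizationι X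
  refine Scheme.hom_ext_of_forall _ _ fun z => ?_
  obtain ⟨U, hU, hzU, -⟩ := exists_isAffineOpen_mem_and_subset (Set.mem_univ (g z)) (U := (⊤ : X.Opens))
  haveI : Nonempty U := ⟨⟨_, hzU⟩⟩
  let U' := Curv2.normalizationι X ⁻¹ᵁ U
  have hU' : IsAffineOpen U' := hU.preimage _
  let V := g ⁻¹ᵁ U
  have f₁ : V ≤ h₁ ⁻¹ᵁ U' := by rw [← Scheme.Hom.comp_preimage, e₁]
  have f₂ : V ≤ h₂ ⁻¹ᵁ U' := by rw [← Scheme.Hom.comp_preimage, e₂]
  refine ⟨V, hzU, ?_⟩
  have key : ∀ (h : Z ⟶ Curv2.normalization X) (f : V ≤ h ⁻¹ᵁ U'),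
      V.toSpecΓ ≫ Spec.map (h.appLE U' V f) ≫ hU'.fromSpec = V.ι ≫ h := fun h f => by
    rw [Scheme.Opens.toSpecΓ_SpecMap_appLE_assoc, IsAffineOpen.toSpecΓ_fromSpec, Scheme.Hom.resLE_comp_ι]
  rw [← key h₁ f₁, ← key h₂ f₂]
  congr 3
  obtain ⟨φ, hφ⟩ := H22Alg.NormalizationDimOne.exists_obj_iso X hU
  ext b
  obtain ⟨b, rfl⟩ := φ.surjective b
  obtain ⟨c, a, hc, hcb⟩ := exists_fraction hU (b : X.functionField)
  have hcb' : (Curv2.normalizationι X).app U c * φ b = (Curv2.normalizationι X).app U a := by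
    rw [← hφ, ← hφ, ← map_mul]
    exact congrArg φ (Subtype.ext hcb)
  have hh : ∀ (h : Z ⟶ Curv2.normalization X) (f : V ≤ h ⁻¹ᵁ U'), h ≫ Curv2.normalizationι X = g →
      g.appLE U V le_rfl c * h.appLE U' V f (φ b) = g.appLE U V le_rfl a := fun h f eh => by
    subst eh
    have := congrArg (h.appLE U' V f) hcb'
    rw [map_mul, ← CommRingCat.comp_apply, ← CommRingCat.comp_apply] at this
    rw [Scheme.Hom.app_eq_appLE, Scheme.Hom.appLE_comp_appLE] at this
    exact this
  rw [← sub_eq_zero]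
  refine eq_zero_of_mul g hZ hg le_rfl hc ?_
  rw [mul_sub, sub_eq_zero]
  exact (hh h₁ f₁ e₁).trans (hh h₂ f₂ e₂).symm

end

theorem existsUnique_lift (X : Scheme.{u}) [IsIntegral X]
    [QuasiCompact (X.fromSpecStalk (genericPoint ↥X))] [QuasiSeparated (X.fromSpecStalk (genericPoint ↥X))]
    {Z : Scheme.{u}} (g : Z ⟶ X) (hZ : Pi1.IsNormalScheme Z)
    (hg : ∀ z, Function.Injective (g.stalkMap z).hom) :
    ∃! h : Z ⟶ Curv2.normalization X, h ≫ Curv2.normalizationι X = g := by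
  haveI := H22Alg.NormalizationDimOne.isIntegralHom_normalizationι X
  have loc : ∀ z : Z, ∃ U : X.Opens, g z ∈ U ∧
      ∃ h : (g ⁻¹ᵁ U).toScheme ⟶ Curv2.normalization X, h ≫ Curv2.normalizationι X = (g ⁻¹ᵁ U).ι ≫ g := by
    intro z
    obtain ⟨U, hU, hzU, -⟩ := exists_isAffineOpen_mem_and_subset (Set.mem_univ (g z)) (U := (⊤ : X.Opens))
    haveI : Nonempty U := ⟨⟨_, hzU⟩⟩
    have hU' : IsAffineOpen (Curv2.normalizationι X ⁻¹ᵁ U) := hU.preimage _
    obtain ⟨φ, hφ⟩ := H22Alg.NormalizationDimOne.exists_obj_iso X hU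
    obtain ⟨σ, hσ⟩ := exists_extension g hZ hg hU (le_refl (g ⁻¹ᵁ U))
    refine ⟨U, hzU, (g ⁻¹ᵁ U).toSpecΓ ≫ Spec.map (CommRingCat.ofHom (σ.comp φ.symm.toRingHom)) ≫ hU'.fromSpec, ?_⟩
    rw [Category.assoc, Category.assoc, ← hU.SpecMap_appLE_fromSpec (Curv2.normalizationι X) hU' le_rfl,
      ← Spec.map_comp_assoc]
    have : (Curv2.normalizationι X).appLE U _ le_rfl ≫ CommRingCat.ofHom (σ.comp φ.symm.toRingHom) =
        g.appLE U (g ⁻¹ᵁ U) le_rfl := by
      ext x
      rw [← Scheme.Hom.app_eq_appLE]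
      show σ (φ.symm ((Curv2.normalizationι X).app U x)) = _
      rw [← hφ, φ.symm_apply_apply, hσ]
    rw [this, Scheme.Opens.toSpecΓ_SpecMap_appLE_assoc, IsAffineOpen.toSpecΓ_fromSpec, Scheme.Hom.resLE_comp_ι]
  choose U hzU h hh using loc
  let 𝒰 : Z.OpenCover := Z.openCoverOfIsOpenCover (fun z => g ⁻¹ᵁ U z)
    (IsOpenCover.mk (eq_top_iff.2 fun z _ => Opens.mem_iSup.2 ⟨z, hzU z⟩))
  have hh' : ∀ i, h i ≫ Curv2.normalizationι X = 𝒰.f i ≫ g := hh
  have hf : ∀ i j, pullback.fst (𝒰.f i) (𝒰.f j) ≫ h i = pullback.snd _ _ ≫ h j := by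
    intro i j
    let p := pullback.fst (𝒰.f i) (𝒰.f j) ≫ 𝒰.f i
    refine hom_ext (p ≫ g) (fun w => ?_) (fun w => ?_) _ _ ?_ ?_
    · haveI := (hZ (p w)).1
      exact ⟨MulEquiv.isDomain _ (asIso (p.stalkMap w)).commRingCatIsoToRingEquiv.symm.toMulEquiv,
        @IsIntegrallyClosed.of_equiv _ _ _ _ (asIso (p.stalkMap w)).commRingCatIsoToRingEquiv (hZ _).2⟩
    · rw [Scheme.Hom.stalkMap_comp]
      exact fun a b hab => hg (p w) ((ConcreteCategory.bijective_of_isIso (p.stalkMap w)).1 hab)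
    · exact ((Category.assoc _ _ _).trans (congrArg (_ ≫ ·) (hh' i))).trans (Category.assoc _ _ _).symm
    · exact (((Category.assoc _ _ _).trans (congrArg (_ ≫ ·) (hh' j))).trans (pullback.condition_assoc g).symm).trans (Category.assoc _ _ _).symm
  refine ⟨𝒰.glueMorphisms h hf, 𝒰.hom_ext _ _ fun i => ?_, fun h' e' => ?_⟩
  · rw [← Category.assoc, Scheme.Cover.ι_glueMorphisms]
    exact hh' i
  · refine hom_ext g hZ hg _ _ e' (𝒰.hom_ext _ _ fun i => ?_)
    rw [← Category.assoc, Scheme.Cover.ι_glueMorphisms]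
    exact hh' i

end Groth.Agent.H17.NormalizationUP
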