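import Groth.Agent.H17.AssPts
import Groth.Agent.H10Coh.FinType2
import Groth.Agent.H10Coh.HigherDirect
import Groth.Agent.H06Mod.StalkExact
import Groth.Agent.H29Fitt.Sheaf
import Mathlib.RingTheory.Filtration
import Mathlib.RingTheory.Ideal.AssociatedPrime.Localization
import Mathlib.RingTheory.Ideal.AssociatedPrime.Finiteness
import Mathlib.CategoryTheory.Limits.Shapes.ConcreteCategory

/-! Primary quotients of coherent modules on locally Noetherian schemes. -/

set_option autoImplicit false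
set_option linter.style.haveILetI false
universe u

open CategoryTheory CategoryTheory.Limits AlgebraicGeometry TopologicalSpace Opposite

namespace Groth.Agent.H17.Primary

open AssPts H06Mod

section Algebra

variable {A : Type u} [CommRing A] [IsNoetherianRing A] [IsLocalRing A] {M : Type u} [AddCommGroup M]
  [Module A M] [Module.Finite A M]

local notation "𝔪" => IsLocalRing.maximalIdeal A

/-- Some power of `𝔪` times `M` meets the `𝔪`-power torsion trivially. -/
theorem exists_pow_eq_zero : ∃ k : ℕ, ∀ v ∈ (𝔪 ^ k • ⊤ : Submodule A M),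
    𝔪 ≤ (Submodule.colon (⊥ : Submodule A M) {v}).radical → v = 0 := by
  classical
  let Γ : Submodule A M :=
    { carrier := {v | 𝔪 ≤ (Submodule.colon (⊥ : Submodule A M) {v}).radical}
      zero_mem' := fun r _ => ⟨0, by simp [Submodule.mem_colon_singleton]⟩
      add_mem' := fun {v w} hv hw r hr => by
        obtain ⟨n, hn⟩ := hv hr
        obtain ⟨n', hn'⟩ := hw hr
        rw [Submodule.mem_colon_singleton, Submodule.mem_bot] at hn hn'
        refine ⟨n + n', ?_⟩
        rw [Submodule.mem_colon_singleton, Submodule.mem_bot, smul_add, pow_add, mul_comm, mul_smul, hn,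
          smul_zero, zero_add, mul_comm, mul_smul, hn', smul_zero]
      smul_mem' := fun c v hv r hr => by
        obtain ⟨n, hn⟩ := hv hr
        rw [Submodule.mem_colon_singleton, Submodule.mem_bot] at hn
        exact ⟨n, by rw [Submodule.mem_colon_singleton, Submodule.mem_bot, smul_comm, hn, smul_zero]⟩ }
  obtain ⟨T, hT⟩ := IsNoetherian.noetherian Γ
  have hc : ∃ c, ∀ v ∈ Γ, ∀ a ∈ 𝔪 ^ c, a • v = 0 := by
    have h : ∀ v ∈ T, ∃ c, 𝔪 ^ c ≤ Submodule.colon (⊥ : Submodule A M) {v} := fun v hv =>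
      Ideal.exists_pow_le_of_le_radical_of_fg (show v ∈ Γ from hT ▸ Submodule.subset_span hv)
        (IsNoetherian.noetherian 𝔪)
    choose c hc using h
    refine ⟨∑ v : T, c v.1 v.2, fun v hv a ha => ?_⟩
    rw [← hT] at hv
    induction hv using Submodule.span_induction with
    | mem w hw =>
      have := hc w hw (Ideal.pow_le_pow_right
        (Finset.single_le_sum (f := fun v : T => c v.1 v.2) (fun _ _ => Nat.zero_le _) (Finset.mem_univ ⟨w, hw⟩)) ha)
      rwa [Submodule.mem_colon_singleton, Submodule.mem_bot] at this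
    | zero => rw [smul_zero]
    | add u w _ _ hu hw => rw [smul_add, hu, hw, add_zero]
    | smul r w _ hw => rw [smul_comm, hw, smul_zero]
  obtain ⟨c, hc⟩ := hc
  obtain ⟨k, hk⟩ := Ideal.exists_pow_inf_eq_pow_smul 𝔪 Γ
  refine ⟨k + c, fun v hv hvΓ => ?_⟩
  have h1 : v ∈ (𝔪 ^ (k + c) • ⊤ ⊓ Γ : Submodule A M) := ⟨hv, hvΓ⟩
  rw [hk (k + c) (Nat.le_add_right _ _), Nat.add_sub_cancel_left] at h1
  refine Submodule.smul_induction_on h1 (fun a ha n hn => hc n hn.2 a ha) fun x y hx hy => by rw [hx, hy, add_zero]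

end Algebra

variable {X : Scheme.{u}}

/-- A skyscraper with values killed by a power of the maximal ideal is quasi-coherent. -/
theorem isQCoh_sky (x : X) (N : Type u) [AddCommGroup N] [Module (X.presheaf.stalk x) N] (k : ℕ)
    (hN : ∀ a ∈ IsLocalRing.maximalIdeal (X.presheaf.stalk x) ^ k, ∀ v : N, a • v = 0) :
    Coh.IsQCoh (sky x N) := by
  classical
  refine H10Coh.isQuasicoherent_of_localizing _ (fun W hW t s hs => ?_) fun W hW t s' => ?_
  · by_cases hx : x ∈ W
    · by_cases hxt : x ∈ X.basicOpen t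
      · refine ⟨0, ?_⟩
        rw [pow_zero, one_smul]
        refine skyEval_ext x N fun h => ?_
        exact congrArg (skyEval x N (X.basicOpen t) hxt) hs
      · refine ⟨k, skyEval_ext x N fun h => ?_⟩
        rw [skyEval_smul, map_pow, hN _ (Ideal.pow_mem_pow ?_ k), map_zero]
        rw [IsLocalRing.mem_maximalIdeal, mem_nonunits_iff, isUnit_germ_iff]
        exact hxt
    · exact ⟨0, by rw [pow_zero, one_smul]; exact skyEval_ext x N fun h => absurd h hx⟩
  · refine ⟨0, (fun _ => if hxt : x ∈ X.basicOpen t then s' ⟨⟨hxt⟩⟩ else 0), ?_⟩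
    rw [pow_zero, map_one, one_smul]
    refine skyEval_ext x N fun h => ?_
    show (if hxt : x ∈ X.basicOpen t then (s' ⟨⟨hxt⟩⟩ : N) else 0) = _
    rw [dif_pos h]
    rfl

theorem isUnit_smul_eq_zero {x : X} {N : Type u} [AddCommGroup N] [Module (X.presheaf.stalk x) N]
    {U : X.Opens} {t : Γ(X, U)} {s : Γ(sky x N, U)} (ht : x ∈ U → x ∈ X.basicOpen t) (h : t • s = 0) : s = 0 := by
  refine skyEval_ext x N fun hx => ?_
  have h1 := congrArg (skyEval x N U hx) h
  rw [skyEval_smul, map_zero] at h1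
  rw [map_zero]
  exact ((isUnit_germ_iff hx t).2 (ht hx)).smul_eq_zero.1 h1

/-- Associated points of a quasi-coherent submodule of a skyscraper. -/
theorem ass_subset_of_mono_sky [IsLocallyNoetherian X] {G : X.Modules} (hG : Coh.IsQCoh G) {x : X} {N : Type u}
    [AddCommGroup N] [Module (X.presheaf.stalk x) N] (i : G ⟶ sky x N) [Mono i] :
    AssSch.Ass G ⊆ {x} := by
  intro y hy
  rw [Set.mem_singleton_iff]
  by_contra hyx
  obtain ⟨V, hV, hyV, s, -, hne, hs⟩ := exists_section_of_ass G hy (O := ⊤) trivial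
  refine hne ?_
  have hzero : ∀ (U : X.Opens) (s : Γ(G, U)), (x ∈ U → False) → s = 0 := fun U s hU =>
    H10Coh.injective_app_of_mono' i U ((skyEval_ext x N fun h => (hU h).elim).trans (map_zero _).symm)
  by_cases hxV : x ∈ V
  · by_cases hsp : y ⤳ x
    · have hns : ¬ x ⤳ y := fun h => hyx (hsp.antisymm h).eq
      obtain ⟨O, hO, hyO, hxO⟩ : ∃ O : X.Opens, IsAffineOpen O ∧ y ∈ O ∧ x ∉ O := by
        obtain ⟨O, hO, hyO, hxO⟩ := not_specializes_iff_exists_open.1 hns
        obtain ⟨O', hO', hyO', hle⟩ := exists_isAffineOpen_mem_and_subset (U := (⟨O, hO⟩ : X.Opens)) hyO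
        exact ⟨O', hO', hyO', fun h => hxO (hle h)⟩
      have h0 := hzero (V ⊓ O) (G.presheaf.map (homOfLE (inf_le_left : V ⊓ O ≤ V)).op s) fun h => hxO h.2
      have hy' : y ∈ V ⊓ O := ⟨hyV, hyO⟩
      rw [← TopCat.Presheaf.germ_res_apply G.presheaf (homOfLE (inf_le_left : V ⊓ O ≤ V)) y hy' s, h0, map_zero]
    · obtain ⟨t, hxt, hyt, n, hn⟩ := hs x hxV hsp
      have : s = 0 := H10Coh.injective_app_of_mono' i V (by
        rw [map_zero]
        refine isUnit_smul_eq_zero (t := t ^ n) (fun hx => ?_) (by rw [← i.app_smul, hn, map_zero])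
        rw [← isUnit_germ_iff hx, map_pow]
        exact ((isUnit_germ_iff hx t).2 hxt).pow n)
      rw [this, map_zero]
  · rw [hzero V s hxV, map_zero]

theorem ass_nonempty_of_germ {G : X.Modules} (hG : Coh.IsQCoh G) {y : X} (v : G.presheaf.stalk y) (hv : v ≠ 0) :
    ∃ z ∈ AssSch.Ass G, z ⤳ y :=
  exists_ass_specializes G hG ⟨⟨v, 0, hv⟩⟩

/-- The primary quotient at an associated point. -/
theorem exists_primary_quotient [IsLocallyNoetherian X] (M : X.Modules) (hM : Coh.IsCoh M) {x : X}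
    (hx : x ∈ AssSch.Ass M) :
    ∃ (G : X.Modules) (q : M ⟶ G), Epi q ∧ Coh.IsCoh G ∧ AssSch.Ass G = {x} ∧
      ∀ v : M.presheaf.stalk x, stalkLin q x v = 0 →
        IsLocalRing.maximalIdeal (X.presheaf.stalk x) ≤ (Submodule.colon (⊥ : Submodule (X.presheaf.stalk x) _) {v}).radical →
          v = 0 := by
  classical
  haveI : IsNoetherianRing (X.presheaf.stalk x) := inferInstance
  haveI := H06Mod.finite_stalk M hM.2 x
  obtain ⟨k, hk⟩ := exists_pow_eq_zero (A := X.presheaf.stalk x) (M := M.presheaf.stalk x)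
  let Q : Submodule (X.presheaf.stalk x) (M.presheaf.stalk x) :=
    IsLocalRing.maximalIdeal (X.presheaf.stalk x) ^ k • ⊤
  let N := M.presheaf.stalk x ⧸ Q
  have hS : Coh.IsQCoh (sky x N) := isQCoh_sky x N k fun a ha v => by
    obtain ⟨v, rfl⟩ := Submodule.Quotient.mk_surjective Q v
    rw [← Submodule.Quotient.mk_smul, Submodule.Quotient.mk_eq_zero]
    exact Submodule.smul_mem_smul ha trivial
  let φ : M ⟶ sky x N := homOfStalk Q.mkQ
  let G := Abelian.coimage φ
  let q : M ⟶ G := Abelian.coimage.π φ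
  have hK : Coh.IsQCoh (kernel φ) := @H10Coh.isQuasicoherent_kernel _ _ _ φ hM.1 hS
  have hG : Coh.IsCoh G := H10Coh.isCoh_cokernel (kernel.ι φ) hK hM
  let i : G ⟶ sky x N := Abelian.factorThruCoimage φ
  have hqi : q ≫ i = φ := Abelian.coimage.fac φ
  have hkey : ∀ v : M.presheaf.stalk x, stalkLin q x v = 0 → v ∈ Q := by
    intro v hv
    obtain ⟨U, hU, a, rfl⟩ := M.presheaf.exists_germ_eq v
    rw [stalkLin_germ] at hv
    have h1 := congrArg (stalkOfHom i) hv
    rw [stalkOfHom_germ, map_zero, ← ConcreteCategory.comp_apply, ← Scheme.Modules.Hom.comp_app, hqi,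
      skyEval_homOfStalk] at h1
    exact (Submodule.Quotient.mk_eq_zero Q).1 h1
  refine ⟨G, q, inferInstanceAs (Epi (Abelian.coimage.π φ)), hG, ?_, fun v hv hm => hk v (hkey v hv) hm⟩
  refine Set.Subset.antisymm (ass_subset_of_mono_sky hG.1 i) ?_
  rintro _ rfl
  obtain ⟨hp, m, hm⟩ := hx
  have hm0 : m ≠ 0 := fun h0 => hp.ne_top (hm.trans (Ideal.radical_eq_top.2 (by
    rw [h0]; ext; simp [Submodule.mem_colon_singleton])))
  obtain ⟨z, hz, -⟩ := ass_nonempty_of_germ hG.1 (stalkLin q _ m) fun h0 => hm0 (hk m (hkey m h0) hm.le)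
  rwa [← show z = _ from ass_subset_of_mono_sky hG.1 i hz]

/-- Sections with zero images in all primary quotients vanish. -/
theorem eq_zero_of_quotients [IsLocallyNoetherian X] {M : X.Modules} (hM : Coh.IsQCoh M)
    {G : AssSch.Ass M → X.Modules} (q : ∀ x, M ⟶ G x)
    (hq : ∀ (x : AssSch.Ass M) (v : M.presheaf.stalk x.1), stalkLin (q x) x.1 v = 0 →
      IsLocalRing.maximalIdeal (X.presheaf.stalk x.1) ≤ (Submodule.colon (⊥ : Submodule (X.presheaf.stalk x.1) _) {v}).radical →
        v = 0) (U : X.Opens) (s : Γ(M, U)) (h : ∀ x, (q x).app U s = 0) : s = 0 := by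
  refine TopCat.Presheaf.section_ext (⟨M.presheaf, M.isSheaf⟩ : TopCat.Sheaf Ab.{u} X) U _ _ fun y hy => ?_
  show M.presheaf.germ U y hy s = M.presheaf.germ U y hy 0
  rw [map_zero]
  by_contra hne
  obtain ⟨V, hV, hyV, hle⟩ := exists_isAffineOpen_mem_and_subset (U := U) hy
  let s' : Γ(M, V) := M.presheaf.map (homOfLE (show V ≤ U from hle)).op s
  have hne' : M.presheaf.germ V y hyV s' ≠ 0 := by rw [TopCat.Presheaf.germ_res_apply]; exact hne
  have hann : LinearMap.ker (LinearMap.toSpanSingleton Γ(X, V) Γ(M, V) s') ≤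
      (hV.primeIdealOf ⟨y, hyV⟩).asIdeal := fun a ha =>
    (mem_primeIdealOf hV hyV a).2 fun hu => hne' (germ_eq_zero_of_smul M hyV hu (by simpa using ha))
  obtain ⟨p, hp, -⟩ := Ideal.exists_minimalPrimes_le hann
  obtain ⟨⟨z, hzV⟩, hz⟩ := H29Blow.exists_primeIdealOf_eq hV ⟨p, hp.1.1⟩
  have hzp : (hV.primeIdealOf ⟨z, hzV⟩).asIdeal = p := congrArg PrimeSpectrum.asIdeal hz
  obtain ⟨hw, hgne⟩ := isWeakAssPoint_of_minimal M hM hV hzV s' (hzp.symm ▸ hp)
  have hzA : z ∈ AssSch.Ass M := (H29Blow.isAssPoint_iff_isWeakAssPoint M z).2 hw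
  refine hgne (hq ⟨z, hzA⟩ _ ?_ ?_)
  · rw [stalkLin_germ]
    show (G ⟨z, hzA⟩).presheaf.germ V z hzV ((q ⟨z, hzA⟩).app V (M.presheaf.map _ s)) = 0
    rw [show (q ⟨z, hzA⟩).app V (M.presheaf.map (homOfLE (show V ≤ U from hle)).op s) =
      (G ⟨z, hzA⟩).presheaf.map (homOfLE (show V ≤ U from hle)).op ((q ⟨z, hzA⟩).app U s) from
      congr($((q ⟨z, hzA⟩).mapPresheaf.naturality (homOfLE (show V ≤ U from hle)).op) s), h, map_zero, map_zero]
  · -- the maximal ideal is the radical of the annihilator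
    intro a ha
    letI := TopCat.Presheaf.algebra_section_stalk X.presheaf (⟨z, hzV⟩ : V)
    haveI := hV.isLocalization_stalk ⟨z, hzV⟩
    obtain ⟨a₀, t, rfl⟩ := IsLocalization.exists_mk'_eq (hV.primeIdealOf ⟨z, hzV⟩).asIdeal.primeCompl a
    have ha₀ : a₀ ∈ p := by
      rw [← hzp]
      exact (IsLocalization.AtPrime.mk'_mem_maximal_iff (X.presheaf.stalk z) _ a₀ t).1 ha
    haveI : IsNoetherianRing Γ(X, V) := IsLocallyNoetherian.component_noetherian ⟨V, hV⟩
    obtain ⟨c, hc, n, hn⟩ : ∃ c ∉ p, ∃ n : ℕ, (c * a₀ ^ n) • s' = 0 := by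
      by_contra hcon
      push Not at hcon
      haveI := hp.1.1
      obtain ⟨Q', hQ', hJQ, hdis⟩ := Ideal.exists_le_prime_disjoint
        (LinearMap.ker (LinearMap.toSpanSingleton Γ(X, V) Γ(M, V) s')) (p.primeCompl ⊔ Submonoid.powers a₀)
        (Set.disjoint_left.2 fun w hw hwS => by
          obtain ⟨c, hc, v, ⟨n, rfl⟩, rfl⟩ := Submonoid.mem_sup.mp hwS
          exact hcon c hc n (by simpa using hw))
      have hle' : Q' ≤ p := fun w hw => by
        by_contra hwp
        exact Set.disjoint_left.1 hdis hw (Submonoid.mem_sup_left hwp)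
      exact Set.disjoint_left.1 hdis (hp.2 ⟨hQ', hJQ⟩ hle' ha₀) (Submonoid.mem_sup_right (Submonoid.mem_powers a₀))
    refine ⟨n, ?_⟩
    rw [Submodule.mem_colon_singleton, Submodule.mem_bot]
    have h1 := congrArg (M.presheaf.germ V z hzV) hn
    rw [germ_smul', map_zero, map_mul, mul_smul] at h1
    have h2 := ((isUnit_germ_iff hzV c).2 (by
      by_contra h'
      exact hc (hzp ▸ (mem_primeIdealOf hV hzV c).2 h'))).smul_eq_zero.1 h1
    rw [map_pow] at h2
    rw [← (IsLocalization.map_units (X.presheaf.stalk z) t).pow n |>.smul_eq_zero, smul_smul, ← mul_pow,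
      IsLocalization.mk'_spec']
    exact h2

/-- The associated points in an affine open are finite. -/
theorem finite_ass_affine [IsLocallyNoetherian X] {M : X.Modules} (hM : Coh.IsCoh M) {V : X.Opens}
    (hV : IsAffineOpen V) : {x | x ∈ AssSch.Ass M ∧ x ∈ V}.Finite := by
  haveI : IsNoetherianRing Γ(X, V) := IsLocallyNoetherian.component_noetherian ⟨V, hV⟩
  haveI := ((H10Coh.isCoh_iff_finite_sections M).1 hM).2 V hV
  let f : {x | x ∈ AssSch.Ass M ∧ x ∈ V} → {P : Ideal Γ(X, V) // P ∈ associatedPrimes Γ(X, V) Γ(M, V)} :=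
    fun x => ⟨(hV.primeIdealOf ⟨x.1, x.2.2⟩).asIdeal, by
      letI := TopCat.Presheaf.algebra_section_stalk X.presheaf (⟨x.1, x.2.2⟩ : V)
      letI := Module.compHom (M.presheaf.stalk x.1) (algebraMap Γ(X, V) (X.presheaf.stalk x.1))
      haveI : IsScalarTower Γ(X, V) (X.presheaf.stalk x.1) (M.presheaf.stalk x.1) :=
        .of_algebraMap_smul fun _ _ => rfl
      haveI := hV.isLocalization_stalk ⟨x.1, x.2.2⟩
      haveI := H29Fitt.isLocalizedModule_germLin M hM.1 hV ⟨x.1, x.2.2⟩
      rw [← IsLocalization.AtPrime.under_maximalIdeal (X.presheaf.stalk x.1) (hV.primeIdealOf ⟨x.1, x.2.2⟩).asIdeal]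
      exact Module.associatedPrimes.comap_mem_associatedPrimes_of_mem_associatedPrimes_of_isLocalizedModule_of_fg
        (hV.primeIdealOf ⟨x.1, x.2.2⟩).asIdeal.primeCompl (H29Fitt.germLin M ⟨x.1, x.2.2⟩)
        (IsLocalRing.maximalIdeal (X.presheaf.stalk x.1)) x.2.1 (IsNoetherian.noetherian _)⟩
  haveI := (associatedPrimes.finite Γ(X, V) Γ(M, V)).to_subtype
  refine Set.finite_coe_iff.1 (Finite.of_injective f fun a b h => Subtype.ext ?_)
  have := congrArg hV.fromSpec (PrimeSpectrum.ext (congrArg Subtype.val h) :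
    hV.primeIdealOf ⟨a.1, a.2.2⟩ = hV.primeIdealOf ⟨b.1, b.2.2⟩)
  rwa [hV.fromSpec_primeIdealOf, hV.fromSpec_primeIdealOf] at this

/-- Jointly monic families are injective on sections. -/
theorem eq_zero_of_jointly_mono {M : X.Modules} {ι : Type u} {G : ι → X.Modules} (q : ∀ i, M ⟶ G i)
    (hm : ∀ (T : X.Modules) (a b : T ⟶ M), (∀ i, a ≫ q i = b ≫ q i) → a = b) (U : X.Opens) (s : Γ(M, U))
    (h : ∀ i, (q i).app U s = 0) : s = 0 := by
  let F : X.Modules ⥤ AddCommGrpCat.{u} :=
    Scheme.Modules.toPresheaf X ⋙ (evaluation (Opens X)ᵒᵖ AddCommGrpCat.{u}).obj (op U)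
  haveI : HasProduct G := inferInstance
  let Φ : M ⟶ ∏ᶜ G := Pi.lift q
  haveI : Mono Φ := ⟨fun a b hab => hm _ a b fun i => by
    rw [← Pi.lift_π q i, ← Category.assoc, hab, Category.assoc]⟩
  haveI : PreservesLimitsOfShape (Discrete ι) (Scheme.Modules.toPresheaf X) := inferInstance
  haveI : PreservesLimitsOfShape (Discrete ι) ((evaluation (Opens X)ᵒᵖ AddCommGrpCat.{u}).obj (op U)) := inferInstance
  haveI : PreservesLimitsOfShape (Discrete ι) F := comp_preservesLimitsOfShape _ _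
  haveI : PreservesLimit (Discrete.functor G) F := inferInstance
  have h1 : F.map Φ s = F.map Φ 0 := by
    refine Concrete.Pi.map_ext (F := F) G _ _ fun i => ?_
    rw [← ConcreteCategory.comp_apply, ← F.map_comp, ← ConcreteCategory.comp_apply, ← F.map_comp, Pi.lift_π]
    exact (h i).trans (map_zero ((q i).app U).hom).symm
  exact H10Coh.injective_app_of_mono' Φ U h1

end Groth.Agent.H17.Primary
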