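import Groth.Agent.H7Lim.ThickeningHom
import Groth.Prelude.Def_OmegaPn

/-! Infinitesimal neighbourhoods of sections are affine, indeed integral, over the base. -/

set_option autoImplicit false
universe u

open CategoryTheory CategoryTheory.Limits AlgebraicGeometry

namespace Groth.Agent.H17.PrinAffine

theorem isClosedImmersion_toInfNbhd {X Y : Scheme.{u}} (i : Y ⟶ X) [IsClosedImmersion i] (n : ℕ) :
    IsClosedImmersion (PrinPart.toInfNbhd i n) := by
  have : IsClosedImmersion (PrinPart.infNbhdι i n) :=
    inferInstanceAs (IsClosedImmersion (i.ker ^ (n + 1)).subschemeι)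
  have : IsClosedImmersion (PrinPart.toInfNbhd i n ≫ PrinPart.infNbhdι i n) := by
    rw [PrinPart.toInfNbhd_ι]; infer_instance
  exact IsClosedImmersion.of_comp (PrinPart.toInfNbhd i n) (PrinPart.infNbhdι i n)

/-- A morphism out of a neighbourhood which restricts to the identity is integral. -/
theorem isIntegralHom_of_section {X Y : Scheme.{u}} (i : Y ⟶ X) [IsClosedImmersion i] (n : ℕ)
    (p : PrinPart.infNbhd i n ⟶ Y) (hp : PrinPart.toInfNbhd i n ≫ p = 𝟙 Y) : IsIntegralHom p := by
  have := isClosedImmersion_toInfNbhd i n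
  have : Surjective (PrinPart.toInfNbhd i n) := ⟨PrinPart.toInfNbhd_surjective i n⟩
  exact (H7Lim.isIntegralHom_iff_of_thickening (PrinPart.toInfNbhd i n) (𝟙 Y) (𝟙 Y) p
    (by rw [hp, Category.comp_id])).mp inferInstance

end Groth.Agent.H17.PrinAffine
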