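import Groth.Prelude.Def_OmegaPn
import Groth.Agent.H17.OmegaLocal

/-!
# Affine charts of the infinitesimal neighbourhoods of the diagonal

Over affine opens `U ≤ f⁻¹ V` the ring of `nbhd f n` is `(A ⊗_R A) / I^(n+1)`.
-/

set_option autoImplicit false
universe u

open CategoryTheory CategoryTheory.Limits AlgebraicGeometry Opposite TopologicalSpace TensorProduct

namespace Groth.Agent.H17.PrinChart

variable {X S : Scheme.{u}} (f : X ⟶ S) (n : ℕ)

theorem app_congr {Z Y : Scheme.{u}} {m m' : Z ⟶ Y} (e : m = m') (V : Y.Opens) (W : Z.Opens)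
    (h : W ≤ m ⁻¹ᵁ V) (h' : W ≤ m' ⁻¹ᵁ V) (s : Γ(Y, V)) :
    Z.presheaf.map (homOfLE h).op (m.app V s) = Z.presheaf.map (homOfLE h').op (m'.app V s) := by
  subst e; rfl

theorem res_bijective {Z : Scheme.{u}} {W W' : Z.Opens} (e : W' = W) :
    Function.Bijective (Z.presheaf.map (homOfLE e.le).op) := by
  subst e
  rw [show (homOfLE (le_refl W')).op = 𝟙 _ from rfl, CategoryTheory.Functor.map_id]
  exact Function.bijective_id

theorem toNbhd_surjective (y : PrinPart.nbhd f n) : ∃ x : X, PrinPart.toNbhd f n x = y :=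
  PrinPart.toInfNbhd_surjective _ n y

theorem pr1_toNbhd (x : X) : PrinPart.pr1 f n (PrinPart.toNbhd f n x) = x := by
  rw [← Scheme.Hom.comp_apply, PrinPart.toNbhd_pr1]; rfl

theorem pr2_toNbhd (x : X) : PrinPart.pr2 f n (PrinPart.toNbhd f n x) = x := by
  rw [← Scheme.Hom.comp_apply, PrinPart.toNbhd_pr2]; rfl

theorem toNbhd_pr1_apply (y : PrinPart.nbhd f n) : PrinPart.toNbhd f n (PrinPart.pr1 f n y) = y := by
  obtain ⟨x, rfl⟩ := toNbhd_surjective f n y
  rw [pr1_toNbhd]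

/-- Every open of the neighbourhood is the inverse image of an open of `X`. -/
theorem preimage_toNbhd (W : (PrinPart.nbhd f n).Opens) :
    PrinPart.pr1 f n ⁻¹ᵁ (PrinPart.toNbhd f n ⁻¹ᵁ W) = W := by
  ext y
  show PrinPart.toNbhd f n (PrinPart.pr1 f n y) ∈ W ↔ y ∈ W
  rw [toNbhd_pr1_apply]

/-- The comorphism of the second projection, read over the inverse image by the first one. -/
noncomputable def app2 (U : X.Opens) : Γ(X, U) →+* Γ(PrinPart.nbhd f n, PrinPart.pr1 f n ⁻¹ᵁ U) :=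
  ((PrinPart.nbhd f n).presheaf.map (homOfLE (PrinPart.preimage_pr1 f n U).le).op).hom.comp
    ((PrinPart.pr2 f n).app U).hom

theorem app2_map {U U' : X.Opens} (e : U' ≤ U) (a : Γ(X, U)) :
    app2 f n U' (X.presheaf.map (homOfLE e).op a) =
      (PrinPart.nbhd f n).presheaf.map (homOfLE ((PrinPart.pr1 f n).preimage_mono e)).op (app2 f n U a) := by
  show ((X.presheaf.map (homOfLE e).op ≫ (PrinPart.pr2 f n).app U') ≫ _) a =
    (((PrinPart.pr2 f n).app U ≫ _) ≫ _) a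
  rw [Scheme.Hom.naturality, Category.assoc, Category.assoc]
  erw [← Functor.map_comp, ← Functor.map_comp]
  rfl

theorem dP_smul (F : X.Modules) (U : X.Opens) (a : Γ(X, U)) (t : Γ(F, U)) :
    (PrinPart.dP f n F U (a • t) : Γ((Scheme.Modules.pullback (PrinPart.pr2 f n)).obj F, PrinPart.pr1 f n ⁻¹ᵁ U)) =
      app2 f n U a • (show Γ((Scheme.Modules.pullback (PrinPart.pr2 f n)).obj F, PrinPart.pr1 f n ⁻¹ᵁ U) from
        PrinPart.dP f n F U t) := by
  rw [PrinPart.dP_apply, OmegaSh.pullSect_smul]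
  exact Scheme.Modules.map_smul _ _ _ _

theorem smul_PMod (F : X.Modules) (U : X.Opens) (a : Γ(X, U)) (σ : Γ(PrinPart.PMod f n F, U)) :
    (a • σ : Γ(PrinPart.PMod f n F, U)) =
      ((PrinPart.pr1 f n).app U a • (show Γ((Scheme.Modules.pullback (PrinPart.pr2 f n)).obj F,
        PrinPart.pr1 f n ⁻¹ᵁ U) from σ) :) := rfl

variable {U : X.Opens} {V : S.Opens}

theorem isClosed_range_inter (hU : IsAffineOpen U) (hV : IsAffineOpen V) (h : U ≤ f ⁻¹ᵁ V) :
    OmegaSh.diagNbhd f U ≤ (pullback.diagonal f).coborderRange := by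
  have := OmegaLocal.isClosedImmersion_restrict f hU hV h
  have hc := (pullback.diagonal f ∣_ OmegaSh.diagNbhd f U).isClosedEmbedding.isClosed_range
  intro z hz
  show z ∈ coborder (Set.range (pullback.diagonal f))
  rw [coborder, Set.mem_compl_iff, Set.mem_sdiff]
  rintro ⟨hz1, hz2⟩
  apply hz2
  rw [morphismRestrict_base] at hc
  erw [Set.range_restrictPreimage] at hc
  obtain ⟨C, hC, hCe⟩ := isClosed_induced_iff.mp hc
  have hsub : (OmegaSh.diagNbhd f U : Set ↑(pullback f f)) ∩ Set.range (pullback.diagonal f) ⊆ C :=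
    fun w hw => by
      exact (Set.ext_iff.mp hCe ⟨w, (show w ∈ OmegaSh.diagNbhd f U from hw.1)⟩).mpr hw.2
  have hzC : z ∈ C :=
    closure_minimal hsub hC ((OmegaSh.diagNbhd f U).2.inter_closure ⟨hz, hz1⟩)
  exact (Set.ext_iff.mp hCe ⟨z, hz⟩).mp hzC

/-- The chart: `Γ(X^{(n)}_Δ, pr₁⁻¹ U) = (A ⊗_R A) / I^(n+1)`. -/
theorem exists_chart (hU : IsAffineOpen U) (hV : IsAffineOpen V) (h : U ≤ f ⁻¹ᵁ V) :
    letI := (f.appLE V U h).hom.toAlgebra
    IsAffineOpen (PrinPart.pr1 f n ⁻¹ᵁ U) ∧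
      ∃ Φ : Γ(X, U) ⊗[Γ(S, V)] Γ(X, U) →+* Γ(PrinPart.nbhd f n, PrinPart.pr1 f n ⁻¹ᵁ U),
        (∀ a b, Φ (a ⊗ₜ b) = (PrinPart.pr1 f n).app U a * app2 f n U b) ∧ Function.Surjective Φ ∧
          RingHom.ker Φ = KaehlerDifferential.ideal Γ(S, V) Γ(X, U) ^ (n + 1) := by
  let Δ := pullback.diagonal f
  let d := PrinPart.diagCl f
  let c := Δ.coborderRange.ι
  let W := OmegaSh.diagNbhd f U
  let φ := f.appLE V U h
  algebraize [φ.hom]
  have hW : IsAffineOpen W := OmegaLocal.isAffineOpen_diagNbhd f hU hV h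
  have hWc : W ≤ c.opensRange := by
    rw [Scheme.Opens.opensRange_ι]; exact isClosed_range_inter f hU hV h
  have hW' : IsAffineOpen (c ⁻¹ᵁ W) := hW.preimage_of_isOpenImmersion c hWc
  let ι := PrinPart.infNbhdι d n
  let W' : (Δ.coborderRange : Scheme.{u}).affineOpens := ⟨c ⁻¹ᵁ W, hW'⟩
  have hι : IsAffineOpen (ι ⁻¹ᵁ W'.1) ∧ Function.Surjective (ι.app W'.1) ∧
      RingHom.ker (ι.app W'.1).hom = RingHom.ker (d.app W'.1).hom ^ (n + 1) := by
    refine ⟨hW'.preimage (d.ker ^ (n + 1)).subschemeι, (d.ker ^ (n + 1)).subschemeι_app_surjective W', ?_⟩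
    have := (d.ker ^ (n + 1)).ker_subschemeι_app W'
    have hd : IsClosedImmersion d := inferInstance
    refine this.trans ?_
    show d.ker.ideal W' ^ (n + 1) = _
    rw [Scheme.Hom.ker_apply]
  have hpre : PrinPart.pr1 f n ⁻¹ᵁ U = ι ⁻¹ᵁ W'.1 := by
    ext y
    show PrinPart.pr1 f n y ∈ U ↔ PrinPart.pr1 f n y ∈ U ∧ PrinPart.pr2 f n y ∈ U
    rw [← PrinPart.pr1_apply, and_self]
  refine ⟨hpre ▸ hι.1, ?_⟩
  let res := (PrinPart.nbhd f n).presheaf.map (homOfLE hpre.le).op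
  have hres : Function.Bijective res := res_bijective hpre
  have hcb : Function.Bijective (c.app W) := PullSect.bijective_app_of_le c hWc
  have := isIso_pushoutSection_of_isAffineOpen (IsPullback.of_hasPullback f f) (UY := W) h h rfl hV hU hU
  have sq := (isIso_pushoutSection_iff (IsPullback.of_hasPullback f f) (UY := W) h h rfl).mp this
  let i := IsPushout.isoIsPushout _ _ sq (CommRingCat.isPushout_tensorProduct Γ(S, V) Γ(X, U) Γ(X, U))
  let ρ : Γ(X, U) ⊗[Γ(S, V)] Γ(X, U) →+* Γ(pullback f f, W) := i.inv.hom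
  have hρ : Function.Bijective ρ := ConcreteCategory.bijective_of_isIso i.inv
  have hl : ∀ a, ρ (a ⊗ₜ[Γ(S, V)] 1) = (pullback.fst f f).appLE U W inf_le_left a := fun a =>
    congr($(IsPushout.inl_isoIsPushout_inv _ _ sq (CommRingCat.isPushout_tensorProduct Γ(S, V) Γ(X, U) Γ(X, U))) a)
  have hr : ∀ a, ρ (1 ⊗ₜ[Γ(S, V)] a) = (pullback.snd f f).appLE U W inf_le_right a := fun a =>
    congr($(IsPushout.inr_isoIsPushout_inv _ _ sq (CommRingCat.isPushout_tensorProduct Γ(S, V) Γ(X, U) Γ(X, U))) a)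
  let nι := PrinPart.nbhdι f n
  let Φ : Γ(X, U) ⊗[Γ(S, V)] Γ(X, U) →+* Γ(PrinPart.nbhd f n, PrinPart.pr1 f n ⁻¹ᵁ U) :=
    res.hom.comp ((ι.app W'.1).hom.comp ((c.app W).hom.comp ρ))
  have happ : ∀ (p : pullback f f ⟶ X) (e : W ≤ p ⁻¹ᵁ U) (e' : PrinPart.pr1 f n ⁻¹ᵁ U ≤ (nι ≫ p) ⁻¹ᵁ U)
      (a : Γ(X, U)), res (ι.app W'.1 (c.app W (p.appLE U W e a))) =
        (PrinPart.nbhd f n).presheaf.map (homOfLE e').op ((nι ≫ p).app U a) := by
    intro p e e' a
    show res ((ι ≫ c).app W (p.appLE U W e a)) = _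
    simp only [← ConcreteCategory.comp_apply]
    rw [Scheme.Hom.app_eq_appLE, Scheme.Hom.app_eq_appLE]
    simp only [res, Scheme.Hom.appLE_map, Scheme.Hom.appLE_comp_appLE, nι, PrinPart.nbhdι]
    exact congr($(Scheme.Hom.appLE_map _ _ _) a)
  have h1 : ∀ a, Φ (a ⊗ₜ 1) = (PrinPart.pr1 f n).app U a := fun a => by
    show res (ι.app W'.1 (c.app W (ρ _))) = _
    rw [hl, happ (pullback.fst f f) inf_le_left le_rfl a]
    exact congr($((PrinPart.nbhd f n).presheaf.map_id _) _)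
  have h2 : ∀ a, Φ (1 ⊗ₜ a) = app2 f n U a := fun a => by
    show res (ι.app W'.1 (c.app W (ρ _))) = _
    rw [hr, happ (pullback.snd f f) inf_le_right (PrinPart.preimage_pr1 f n U).le a]
    rfl
  refine ⟨Φ, fun a b => ?_, hres.2.comp (hι.2.1.comp (hcb.2.comp hρ.2)), ?_⟩
  · rw [← h1, ← h2, ← map_mul, Algebra.TensorProduct.tmul_mul_tmul, mul_one, one_mul]
  let rΔ : Γ(X, Δ ⁻¹ᵁ W) ⟶ Γ(X, U) := X.presheaf.map (homOfLE (OmegaSh.le_preimage_diagNbhd f U)).op
  have hrΔ : Function.Bijective rΔ := res_bijective (OmegaLocal.preimage_diagNbhd f U).symm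
  have hΔ : ∀ x, rΔ (Δ.app W (ρ x)) = Algebra.TensorProduct.lmul' Γ(S, V) x := by
    intro x
    induction x using TensorProduct.induction_on with
    | zero => simp
    | add a b ha hb => simp [map_add, ha, hb]
    | tmul a b =>
      rw [show a ⊗ₜ[Γ(S, V)] b = (a ⊗ₜ 1) * (1 ⊗ₜ b) by simp, map_mul, map_mul, map_mul, hl, hr,
        OmegaSh.res_diagonal_app_appLE f _ (pullback.diagonal_fst f) U inf_le_left a,
        OmegaSh.res_diagonal_app_appLE f _ (pullback.diagonal_snd f) U inf_le_right b]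
      simp
  have hΔd : Δ = d ≫ c := (Scheme.Hom.liftCoborder_ι _).symm
  have hkerΔ : ∀ x, d.app W'.1 (c.app W (ρ x)) = 0 ↔ x ∈ KaehlerDifferential.ideal Γ(S, V) Γ(X, U) := by
    intro x
    show _ ↔ Algebra.TensorProduct.lmul' Γ(S, V) x = 0
    rw [← hΔ, map_eq_zero_iff _ hrΔ.1]
    have : ∀ (m : X ⟶ pullback f f), m = d ≫ c → ((d.app W'.1 (c.app W (ρ x)) = 0) ↔ m.app W (ρ x) = 0) := by
      rintro m rfl; rfl
    exact this Δ hΔd
  let σ : Γ(X, U) ⊗[Γ(S, V)] Γ(X, U) ≃+* Γ((Δ.coborderRange : Scheme.{u}), W'.1) :=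
    RingEquiv.ofBijective ((c.app W).hom.comp ρ) (hcb.comp hρ)
  have hker : RingHom.ker (d.app W'.1).hom =
      Ideal.map σ (KaehlerDifferential.ideal Γ(S, V) Γ(X, U)) := by
    ext y
    obtain ⟨x, rfl⟩ := σ.surjective y
    rw [Ideal.mem_map_of_equiv]
    refine ((hkerΔ x).trans ⟨fun h => ⟨x, h, rfl⟩, ?_⟩)
    rintro ⟨x', hx', e⟩
    rwa [← σ.injective e]
  ext x
  have h3 : Φ x = 0 ↔ σ x ∈ Ideal.map σ (KaehlerDifferential.ideal Γ(S, V) Γ(X, U) ^ (n + 1)) := by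
    rw [Ideal.map_pow, ← hker, ← hι.2.2]
    exact map_eq_zero_iff res.hom hres.1
  rw [RingHom.mem_ker, h3, Ideal.mem_map_of_equiv]
  refine ⟨?_, fun h => ⟨x, h, rfl⟩⟩
  rintro ⟨x', hx', e⟩
  rwa [← σ.injective e]

end Groth.Agent.H17.PrinChart
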