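import Groth.Agent.H17.PrinChart
import Groth.Agent.H17.PrinAffine
import Groth.Agent.H06DiffOp.PrincipalParts
import Groth.Agent.H29Fitt.PullbackQCoh
import Groth.Agent.H06EGA9.FlatConstructible
import Groth.Agent.H8Props.FinLocFree.Sheaf
import Groth.Agent.H10Coh.BaseChange

/-! Finiteness of sheaves of principal parts. -/

set_option autoImplicit false
set_option linter.style.haveILetI false
universe u

open CategoryTheory CategoryTheory.Limits AlgebraicGeometry Opposite TopologicalSpace TensorProduct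

namespace Groth.Agent.H17.PrinFinite

open PrinChart

variable {X S : Scheme.{u}} (f : X ⟶ S) (n : ℕ)

theorem isQCoh_PMod (F : X.Modules) (hF : Coh.IsQCoh F) : Coh.IsQCoh (PrinPart.PMod f n F) := by
  have := PrinAffine.isIntegralHom_of_section (PrinPart.diagCl f) n (PrinPart.pr1 f n)
    (PrinPart.toNbhd_pr1 f n)
  have h := H29Fitt.isQCoh_pullback (PrinPart.pr2 f n) F hF
  haveI : ((Scheme.Modules.pullback (PrinPart.pr2 f n)).obj F).IsQuasicoherent := h
  exact H10Coh.isQuasicoherent_pushforward_of_isAffineHom (PrinPart.pr1 f n) _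

variable {U : X.Opens} {V : S.Opens}

/-- The ring of the neighbourhood over `U` as an algebra through the first projection. -/
noncomputable abbrev alg1 (U : X.Opens) : Algebra Γ(X, U) Γ(PrinPart.nbhd f n, PrinPart.pr1 f n ⁻¹ᵁ U) :=
  ((PrinPart.pr1 f n).app U).hom.toAlgebra

theorem exists_linearEquiv (hU : IsAffineOpen U) (hV : IsAffineOpen V) (h : U ≤ f ⁻¹ᵁ V) :
    letI := (f.appLE V U h).hom.toAlgebra
    letI := alg1 f n U
    IsAffineOpen (PrinPart.pr1 f n ⁻¹ᵁ U) ∧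
      Nonempty (PP16.P n Γ(S, V) Γ(X, U) ≃ₗ[Γ(X, U)] Γ(PrinPart.nbhd f n, PrinPart.pr1 f n ⁻¹ᵁ U)) := by
  letI := (f.appLE V U h).hom.toAlgebra
  letI := alg1 f n U
  obtain ⟨hW, Φ, hΦ, hs, hk⟩ := exists_chart f n hU hV h
  let e : PP16.P n Γ(S, V) Γ(X, U) ≃+* Γ(PrinPart.nbhd f n, PrinPart.pr1 f n ⁻¹ᵁ U) :=
    (Ideal.quotEquivOfEq hk.symm).trans (RingHom.quotientKerEquivOfSurjective hs)
  refine ⟨hW, ⟨{ e with map_smul' := fun b q => ?_ }⟩⟩
  show e (b • q) = (PrinPart.pr1 f n).app U b * e q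
  rw [Algebra.smul_def, map_mul]
  refine congrArg (· * e q) ?_
  show Φ (b ⊗ₜ 1) = _
  rw [hΦ, map_one, mul_one]

theorem finite_PMod_sections [LocallyOfFiniteType f] (F : X.Modules) (hF : Coh.IsQCoh F) (hft : CohB1.IsFT F)
    (hU : IsAffineOpen U) (hV : IsAffineOpen V) (h : U ≤ f ⁻¹ᵁ V) :
    Module.Finite Γ(X, U) Γ(PrinPart.PMod f n F, U) := by
  let W := PrinPart.pr1 f n ⁻¹ᵁ U
  let E := (Scheme.Modules.pullback (PrinPart.pr2 f n)).obj F
  letI := (f.appLE V U h).hom.toAlgebra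
  letI := alg1 f n U
  obtain ⟨hW, ⟨e⟩⟩ := exists_linearEquiv f n hU hV h
  have : Algebra.FiniteType Γ(S, V) Γ(X, U) := f.finiteType_appLE hV hU h
  have := H06DiffOp.finite_P n Γ(S, V) Γ(X, U)
  have : Module.Finite Γ(X, U) Γ(PrinPart.nbhd f n, W) := Module.Finite.equiv e
  haveI : E.IsQuasicoherent := H29Fitt.isQCoh_pullback (PrinPart.pr2 f n) F hF
  have : Module.Finite Γ(PrinPart.nbhd f n, W) Γ(E, W) :=
    H10Coh.finite_sections E (H29Fitt.isFT_pullback (PrinPart.pr2 f n) F hF hft) hW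
  letI : Module Γ(X, U) Γ(E, W) := Module.compHom _ ((PrinPart.pr1 f n).app U).hom
  haveI : IsScalarTower Γ(X, U) Γ(PrinPart.nbhd f n, W) Γ(E, W) := .of_algebraMap_smul fun _ _ => rfl
  exact Module.Finite.trans (R := Γ(X, U)) Γ(PrinPart.nbhd f n, W) Γ(E, W)

theorem fp_PMod_sections [LocallyOfFinitePresentation f] (F : X.Modules) (hF : CohB1.IsFP F)
    (hU : IsAffineOpen U) (hV : IsAffineOpen V) (h : U ≤ f ⁻¹ᵁ V) :
    Module.FinitePresentation Γ(X, U) Γ(PrinPart.PMod f n F, U) := by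
  let W := PrinPart.pr1 f n ⁻¹ᵁ U
  let E := (Scheme.Modules.pullback (PrinPart.pr2 f n)).obj F
  letI := (f.appLE V U h).hom.toAlgebra
  letI := alg1 f n U
  obtain ⟨hW, ⟨e⟩⟩ := exists_linearEquiv f n hU hV h
  have : Algebra.FinitePresentation Γ(S, V) Γ(X, U) := f.finitePresentation_appLE hV hU h
  have := H06DiffOp.finitePresentation_P n Γ(S, V) Γ(X, U)
  have : Module.FinitePresentation Γ(X, U) Γ(PrinPart.nbhd f n, W) := Module.FinitePresentation.of_equiv e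
  have : Module.FinitePresentation Γ(PrinPart.nbhd f n, W) Γ(E, W) :=
    H8Props.FinLocFree.finitePresentation_sections E (H06EGA9.isFP_pullback (PrinPart.pr2 f n) hF) hW
  letI : Module Γ(X, U) Γ(E, W) := Module.compHom _ ((PrinPart.pr1 f n).app U).hom
  haveI : IsScalarTower Γ(X, U) Γ(PrinPart.nbhd f n, W) Γ(E, W) := .of_algebraMap_smul fun _ _ => rfl
  exact Module.FinitePresentation.trans (R := Γ(X, U)) (M := Γ(E, W)) Γ(PrinPart.nbhd f n, W)

theorem exists_cover (f : X ⟶ S) : IsOpenCover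
    (fun p : {p : X.Opens × S.Opens // IsAffineOpen p.1 ∧ IsAffineOpen p.2 ∧ p.1 ≤ f ⁻¹ᵁ p.2} => p.1.1) := by
  rw [IsOpenCover, eq_top_iff]
  intro x _
  obtain ⟨_, ⟨V, hV, rfl⟩, hxV, -⟩ :=
    S.isBasis_affineOpens.exists_subset_of_mem_open (Set.mem_univ (f x)) isOpen_univ
  obtain ⟨_, ⟨U, hU, rfl⟩, hx, hle⟩ :=
    X.isBasis_affineOpens.exists_subset_of_mem_open (show x ∈ (f ⁻¹ᵁ V : Set X) from hxV) (f ⁻¹ᵁ V).2
  exact Opens.mem_iSup.2 ⟨⟨(U, V), hU, hV, hle⟩, hx⟩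

theorem isCoh_PMod [LocallyOfFiniteType f] (F : X.Modules) (hF : Coh.IsCoh F) :
    Coh.IsCoh (PrinPart.PMod f n F) := by
  have hq := isQCoh_PMod f n F hF.1
  haveI : (PrinPart.PMod f n F).IsQuasicoherent := hq
  exact ⟨hq, (H10Coh.isFT_isFP_of_affineCover _ _ (exists_cover f) (fun p => p.2.1)
    fun p => finite_PMod_sections f n F hF.1 hF.2 p.2.1 p.2.2.1 p.2.2.2).1⟩

theorem isFP_PMod [LocallyOfFinitePresentation f] (F : X.Modules) (hF : CohB1.IsFP F) :
    CohB1.IsFP (PrinPart.PMod f n F) :=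
  H8Props.FinLocFree.isFP_of_affineCover _ (isQCoh_PMod f n F (H29Fitt.isQCoh_of_isFP F hF)) _ (exists_cover f)
    (fun p => p.2.1) fun p => fp_PMod_sections f n F hF p.2.1 p.2.2.1 p.2.2.2

end Groth.Agent.H17.PrinFinite
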