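import Groth.Agent.H17.PrinFactor

/-! Consequences of the stalkwise criterion for differential operators. -/

set_option autoImplicit false
set_option linter.style.haveILetI false
universe u

open CategoryTheory CategoryTheory.Limits AlgebraicGeometry Opposite TopologicalSpace

namespace Groth.Agent.H17.PrinOps

open PrinFactor

variable {X S : Scheme.{u}} (f : X ⟶ S) (n : ℕ)

attribute [local instance] H06Mod.stalkAlgebra

theorem stalkOp_comp {F G H : X.Modules} (D : F.presheaf ⟶ G.presheaf) (D' : G.presheaf ⟶ H.presheaf) (x : X)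
    (m : F.presheaf.stalk x) : stalkOp (D ≫ D') x m = stalkOp D' x (stalkOp D x m) := by
  show ((TopCat.Presheaf.stalkFunctor Ab.{u} x).map (D ≫ D')) m = _
  rw [Functor.map_comp]
  rfl

theorem of_le {F G : X.Modules} {n m : ℕ} (h : n ≤ m) {D : F.presheaf ⟶ G.presheaf}
    (hD : PrinPart.IsDiffOpLE f F G n D) : PrinPart.IsDiffOpLE f F G m D := by
  rw [isDiffOpLE_iff] at hD ⊢
  intro x
  letI := FlatMod.moduleStalkOver f F x
  letI := FlatMod.moduleStalkOver f G x
  haveI := isScalarTower_stalk f F x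
  haveI := isScalarTower_stalk f G x
  obtain ⟨hl, hd⟩ := hD x
  exact ⟨hl, H06DiffOp.diffOp_mono h hd⟩

theorem comp {F G H : X.Modules} {n n' : ℕ} {D : F.presheaf ⟶ G.presheaf} {D' : G.presheaf ⟶ H.presheaf}
    (hD : PrinPart.IsDiffOpLE f F G n D) (hD' : PrinPart.IsDiffOpLE f G H n' D') :
    PrinPart.IsDiffOpLE f F H (n + n') (D ≫ D') := by
  rw [isDiffOpLE_iff] at hD hD' ⊢
  intro x
  letI := FlatMod.moduleStalkOver f F x
  letI := FlatMod.moduleStalkOver f G x
  letI := FlatMod.moduleStalkOver f H x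
  haveI := isScalarTower_stalk f F x
  haveI := isScalarTower_stalk f G x
  haveI := isScalarTower_stalk f H x
  obtain ⟨hl, hd⟩ := hD x
  obtain ⟨hl', hd'⟩ := hD' x
  have hc : IsBaseLinear f (D ≫ D') x := fun s m => by rw [stalkOp_comp, stalkOp_comp, hl, hl']
  refine ⟨hc, ?_⟩
  rw [show opLin f hc = (opLin f hl').comp (opLin f hl) from LinearMap.ext fun m => stalkOp_comp D D' x m]
  exact H06DiffOp.diffOp_comp hd hd'

/-- `d^n` is itself an operator of order at most `n`. -/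
theorem dPHom_isDiffOp (F : X.Modules) :
    PrinPart.IsDiffOpLE f F (PrinPart.PMod f n F) n (PrinPart.dPHom f n F) :=
  ⟨𝟙 _, fun _ _ => rfl⟩

theorem linear_of_le_zero {F G : X.Modules} {D : F.presheaf ⟶ G.presheaf}
    (hD : PrinPart.IsDiffOpLE f F G 0 D) (U : X.Opens) (a : Γ(X, U)) (t : Γ(F, U)) :
    D.app (op U) (a • t) = a • D.app (op U) t := by
  rw [isDiffOpLE_iff] at hD
  refine germ_ext fun x hx => ?_
  obtain ⟨hl, hd⟩ := hD x
  have h := hd (X.presheaf.germ U x hx a) (F.presheaf.germ U x hx t)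
  rw [← stalkOp_germ, H06Mod.germ_smul, H06Mod.germ_smul, ← stalkOp_germ]
  exact h

theorem isDiffOpLE_zero_iff {F G : X.Modules} (D : F.presheaf ⟶ G.presheaf) :
    PrinPart.IsDiffOpLE f F G 0 D ↔
      ∀ (U : X.Opens) (a : Γ(X, U)) (t : Γ(F, U)), D.app (op U) (a • t) = a • D.app (op U) t := by
  refine ⟨linear_of_le_zero f, fun h => (isDiffOpLE_iff f 0 D).mpr fun x => ?_⟩
  have key : ∀ (b : X.presheaf.stalk x) (m : F.presheaf.stalk x), stalkOp D x (b • m) = b • stalkOp D x m := by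
    intro b m
    obtain ⟨U, hU, a, t, rfl, rfl⟩ := H06Mod.exists_germ_pair F x b m
    rw [← H06Mod.germ_smul, stalkOp_germ, stalkOp_germ, h, H06Mod.germ_smul]
  exact ⟨fun s m => key _ m, fun b m => key b m⟩

/-- A linear map with given values. -/
theorem exists_hom_of_linear {F G : X.Modules} (D : F.presheaf ⟶ G.presheaf)
    (h : ∀ (U : X.Opens) (a : Γ(X, U)) (t : Γ(F, U)), D.app (op U) (a • t) = a • D.app (op U) t) :
    ∃ φ : F ⟶ G, ∀ (U : X.Opens) (t : Γ(F, U)), φ.app U t = D.app (op U) t :=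
  ⟨⟨PresheafOfModules.homMk D fun U r m => h U.unop r m⟩, fun _ _ => rfl⟩

theorem dP_zero_bijective (F : X.Modules) (U : X.Opens) : Function.Bijective (PrinPart.dP f 0 F U) := by
  obtain ⟨ι, hι⟩ := exists_hom_of_linear (PrinPart.dPHom f 0 F) (linear_of_le_zero f (dPHom_isDiffOp f 0 F))
  obtain ⟨v, hv⟩ := (isDiffOpLE_zero_iff f (F := F) (G := F) (𝟙 F.presheaf)).mpr fun U a t => rfl
  have h1 : v ≫ ι = 𝟙 _ := hom_ext f 0 F _ _ _ fun W t => by
    show ι.app W (v.app W (PrinPart.dP f 0 F W t)) = PrinPart.dP f 0 F W t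
    rw [← hv W t]
    exact hι W t
  refine ⟨fun a b e => ?_, fun σ => ⟨v.app U σ, ?_⟩⟩
  · have := congrArg (v.app U) e
    rwa [← hv, ← hv] at this
  · show _ = (𝟙 (PrinPart.PMod f 0 F) : _ ⟶ _).app U σ
    rw [← h1]
    exact (hι U (v.app U σ)).symm

/-- Finitely many germs are defined over a common open. -/
theorem exists_common {k : ℕ} {x : X} {F : X.Modules} (b : Fin k → X.presheaf.stalk x)
    (m : F.presheaf.stalk x) : ∃ (U : X.Opens) (hU : x ∈ U) (a : Fin k → Γ(X, U)) (t : Γ(F, U)),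
      (∀ i, X.presheaf.germ U x hU (a i) = b i) ∧ F.presheaf.germ U x hU t = m := by
  obtain ⟨W, hW, t, rfl⟩ := F.presheaf.exists_germ_eq m
  choose V hV a ha using fun i => X.presheaf.exists_germ_eq (b i)
  let U : X.Opens := ⟨(⋂ i, (V i : Set X)) ∩ W, (isOpen_iInter_of_finite fun i => (V i).2).inter W.2⟩
  have hxU : x ∈ U := ⟨Set.mem_iInter.mpr hV, hW⟩
  refine ⟨U, hxU, fun i => X.presheaf.map (homOfLE (fun y hy => Set.mem_iInter.mp hy.1 i : U ≤ V i)).op (a i),
    F.presheaf.map (homOfLE (fun y hy => hy.2 : U ≤ W)).op t, fun i => ?_, ?_⟩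
  · rw [TopCat.Presheaf.germ_res_apply, ha]
  · rw [TopCat.Presheaf.germ_res_apply]

theorem stalkOp_altSum {F G : X.Modules} (D : F.presheaf ⟶ G.presheaf) {U : X.Opens} {x : X} (hx : x ∈ U)
    (k : ℕ) (a : Fin k → Γ(X, U)) (t : Γ(F, U)) :
    (∑ H : Finset (Fin k), ((-1 : ℤ) ^ H.card) • ((∏ i ∈ H, X.presheaf.germ U x hx (a i)) •
      stalkOp D x ((∏ i ∈ Hᶜ, X.presheaf.germ U x hx (a i)) • F.presheaf.germ U x hx t))) =
    G.presheaf.germ U x hx (∑ H : Finset (Fin k),
      ((-1 : ℤ) ^ H.card) • ((∏ i ∈ H, a i) • D.app (op U) ((∏ i ∈ Hᶜ, a i) • t))) := by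
  rw [map_sum]
  refine Finset.sum_congr rfl fun H _ => ?_
  rw [map_zsmul, H06Mod.germ_smul, map_prod, ← map_prod (X.presheaf.germ U x hx).hom (fun i => a i) Hᶜ,
    ← H06Mod.germ_smul, stalkOp_germ]

end Groth.Agent.H17.PrinOps
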