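import Groth.Agent.H17.PrinChart
import Groth.Agent.H06Mod.StalkPullback
import Groth.Agent.H06PP.Basic
import Mathlib.Topology.Sheaves.Stalks

/-!
# Stalks of the sheaves of principal parts

`P^n_{X/S}(F)_x = P^n_{O_x/O_s} ⊗_{O_x} F_x`.
-/

set_option autoImplicit false
set_option linter.style.haveILetI false
universe u

open CategoryTheory CategoryTheory.Limits AlgebraicGeometry Opposite TopologicalSpace TensorProduct

namespace Groth.Agent.H17.PrinStalk

open PrinChart

variable {X Z : Scheme.{u}}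

/-- The comorphism on stalks, with a free name for the image point. -/
noncomputable def stalkTo (p : Z ⟶ X) (y : Z) {x : X} (h : p y = x) :
    X.presheaf.stalk x →+* Z.presheaf.stalk y :=
  (X.presheaf.stalkSpecializes (specializes_of_eq h) ≫ p.stalkMap y).hom

theorem stalkTo_germ (p : Z ⟶ X) (y : Z) {x : X} (h : p y = x) (U : X.Opens) (hx : x ∈ U) (a : Γ(X, U)) :
    stalkTo p y h (X.presheaf.germ U x hx a) =
      Z.presheaf.germ (p ⁻¹ᵁ U) y (show p y ∈ U from h ▸ hx) (p.app U a) := by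
  subst h
  simp only [stalkTo, TopCat.Presheaf.stalkSpecializes_refl, Category.id_comp]
  exact Scheme.Hom.germ_stalkMap_apply _ _ _ _ _

theorem isLocalHom_stalkTo (p : Z ⟶ X) (y : Z) {x : X} (h : p y = x) : IsLocalHom (stalkTo p y h) := by
  subst h
  simp only [stalkTo, TopCat.Presheaf.stalkSpecializes_refl, Category.id_comp]
  infer_instance

/-- The canonical map on stalks of an inverse image, with a free name for the image point. -/
noncomputable def pullTo (p : Z ⟶ X) (M : X.Modules) (y : Z) {x : X} (h : p y = x) :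
    M.presheaf.stalk x →+ ((Scheme.Modules.pullback p).obj M).presheaf.stalk y :=
  (M.presheaf.stalkSpecializes (specializes_of_eq h) ≫ H06Mod.pullStalk p M y).hom

theorem pullTo_germ (p : Z ⟶ X) (M : X.Modules) (y : Z) {x : X} (h : p y = x) (U : X.Opens) (hx : x ∈ U)
    (m : Γ(M, U)) :
    pullTo p M y h (M.presheaf.germ U x hx m) = ((Scheme.Modules.pullback p).obj M).presheaf.germ (p ⁻¹ᵁ U) y
      (show p y ∈ U from h ▸ hx) (OmegaSh.pullSect p M U m) := by
  subst h
  simp only [pullTo, TopCat.Presheaf.stalkSpecializes_refl, Category.id_comp]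
  exact H06Mod.pullStalk_germ _ _ _ _ _ _

theorem pullTo_smul (p : Z ⟶ X) (M : X.Modules) (y : Z) {x : X} (h : p y = x) (r : X.presheaf.stalk x)
    (m : M.presheaf.stalk x) : pullTo p M y h (r • m) = stalkTo p y h r • pullTo p M y h m := by
  subst h
  simp only [pullTo, stalkTo, TopCat.Presheaf.stalkSpecializes_refl, Category.id_comp]
  exact H06Mod.pullStalk_smul _ _ _ _ _

/-- `(p^* M)_y = Q ⊗ M_{p y}` for any presentation `Q` of the local ring. -/
theorem exists_tensor_bijective (p : Z ⟶ X) (M : X.Modules) (y : Z) {x : X} (h : p y = x)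
    (Q : Type u) [CommRing Q] [Algebra (X.presheaf.stalk x) Q] (e : Q →+* Z.presheaf.stalk y)
    (he : Function.Bijective e) (hea : ∀ b, e (algebraMap (X.presheaf.stalk x) Q b) = stalkTo p y h b) :
    ∃ L : Q ⊗[X.presheaf.stalk x] M.presheaf.stalk x →+ ((Scheme.Modules.pullback p).obj M).presheaf.stalk y,
      (∀ q m, L (q ⊗ₜ m) = e q • pullTo p M y h m) ∧ Function.Bijective L := by
  subst h
  let alg := H06Mod.stalkAlgebra p y
  let e' : Q ≃ₗ[X.presheaf.stalk (p.base y)] Z.presheaf.stalk y :=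
    { RingEquiv.ofBijective e he with
      map_smul' := fun b q => by
        show e (b • q) = (p.stalkMap y).hom b * e q
        rw [Algebra.smul_def, map_mul, hea]
        simp [stalkTo, TopCat.Presheaf.stalkSpecializes_refl] }
  refine ⟨(H06Mod.pullStalkLin p M y).toAddMonoidHom.comp
    (TensorProduct.congr e' (LinearEquiv.refl _ (M.presheaf.stalk (p.base y)))).toAddEquiv.toAddMonoidHom,
    fun q m => ?_, (H06Mod.pullStalkLin_bijective p M y).comp (LinearEquiv.bijective _)⟩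
  show H06Mod.pullStalkLin p M y (e q ⊗ₜ m) = _
  rw [H06Mod.pullStalkLin_tmul]
  simp only [pullTo, TopCat.Presheaf.stalkSpecializes_refl, Category.id_comp]

/-- The stalk of a direct image maps to the stalk. -/
noncomputable def pushTo (p : Z ⟶ X) (E : Z.Modules) (y : Z) {x : X} (h : p y = x) :
    ((Scheme.Modules.pushforward p).obj E).presheaf.stalk x →+ E.presheaf.stalk y :=
  (((Scheme.Modules.pushforward p).obj E).presheaf.stalkSpecializes (specializes_of_eq h) ≫
    E.presheaf.stalkPushforward Ab p.base y).hom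

theorem pushTo_germ (p : Z ⟶ X) (E : Z.Modules) (y : Z) {x : X} (h : p y = x) (U : X.Opens) (hx : x ∈ U)
    (σ : Γ((Scheme.Modules.pushforward p).obj E, U)) :
    pushTo p E y h (((Scheme.Modules.pushforward p).obj E).presheaf.germ U x hx σ) =
      E.presheaf.germ (p ⁻¹ᵁ U) y (show p y ∈ U from h ▸ hx) σ := by
  subst h
  simp only [pushTo, TopCat.Presheaf.stalkSpecializes_refl, Category.id_comp]
  exact congr($(TopCat.Presheaf.stalkPushforward_germ Ab p.base E.presheaf U y hx) σ)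

theorem pushTo_bijective (p : Z ⟶ X) (hp : Topology.IsInducing p.base) (E : Z.Modules) (y : Z) {x : X}
    (h : p y = x) : Function.Bijective (pushTo p E y h) := by
  subst h
  simp only [pushTo, TopCat.Presheaf.stalkSpecializes_refl, Category.id_comp]
  have : IsIso (E.presheaf.stalkPushforward Ab p.base y) :=
    TopCat.Presheaf.stalkPushforward.stalkPushforward_iso_of_isInducing Ab hp E.presheaf y
  exact ConcreteCategory.bijective_of_isIso (E.presheaf.stalkPushforward Ab p.base y)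

theorem pushTo_smul (p : Z ⟶ X) (E : Z.Modules) (y : Z) {x : X} (h : p y = x) (r : X.presheaf.stalk x)
    (σ : ((Scheme.Modules.pushforward p).obj E).presheaf.stalk x) :
    pushTo p E y h (r • σ) = stalkTo p y h r • pushTo p E y h σ := by
  obtain ⟨U, hU, r, σ, rfl, rfl⟩ := H06Mod.exists_germ_pair _ x r σ
  rw [← H06Mod.germ_smul, pushTo_germ, pushTo_germ, stalkTo_germ, ← H06Mod.germ_smul]
  rfl

section Ring

variable {S : Scheme.{u}} (f : X ⟶ S) (n : ℕ) (x : X)

attribute [local instance] H06Mod.stalkAlgebra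

/-- The base local ring. -/
local notation "Os" => S.presheaf.stalk (f.base x)
local notation "Ox" => X.presheaf.stalk x

/-- The two maps `O_x → O_{nbhd, Δ x}`. -/
noncomputable abbrev γ₁ : Ox →+* (PrinPart.nbhd f n).presheaf.stalk (PrinPart.toNbhd f n x) :=
  stalkTo (PrinPart.pr1 f n) _ (pr1_toNbhd f n x)

/-- See `γ₁`. -/
noncomputable abbrev γ₂ : Ox →+* (PrinPart.nbhd f n).presheaf.stalk (PrinPart.toNbhd f n x) :=
  stalkTo (PrinPart.pr2 f n) _ (pr2_toNbhd f n x)

theorem mem_preimage {U : X.Opens} (hx : x ∈ U) : PrinPart.toNbhd f n x ∈ PrinPart.pr1 f n ⁻¹ᵁ U :=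
  show PrinPart.pr1 f n (PrinPart.toNbhd f n x) ∈ U from (pr1_toNbhd f n x).symm ▸ hx

theorem γ₂_germ (U : X.Opens) (hx : x ∈ U) (a : Γ(X, U)) :
    γ₂ f n x (X.presheaf.germ U x hx a) =
      (PrinPart.nbhd f n).presheaf.germ (PrinPart.pr1 f n ⁻¹ᵁ U) _ (mem_preimage f n x hx) (app2 f n U a) := by
  rw [stalkTo_germ]
  exact (TopCat.Presheaf.germ_res_apply _ (homOfLE (PrinPart.preimage_pr1 f n U).le) _
    (mem_preimage f n x hx) _).symm

theorem γ₂_base (s : Os) : γ₂ f n x (algebraMap Os Ox s) = γ₁ f n x (algebraMap Os Ox s) := by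
  obtain ⟨V, hV, s, rfl⟩ := S.presheaf.exists_germ_eq s
  show γ₂ f n x (f.stalkMap x (S.presheaf.germ V (f.base x) hV s)) =
    γ₁ f n x (f.stalkMap x (S.presheaf.germ V (f.base x) hV s))
  rw [Scheme.Hom.germ_stalkMap_apply, γ₂_germ f n x _ hV, stalkTo_germ]
  refine congrArg _ ?_
  refine (app_congr (PrinPart.pr1_comp f n).symm V _ ?_ le_rfl s).trans ?_
  exact congr($((PrinPart.nbhd f n).presheaf.map_id _) _)

/-- `O_x ⊗_{O_s} O_x → O_{nbhd, Δ x}`. -/
noncomputable def tau : Ox ⊗[Os] Ox →+* (PrinPart.nbhd f n).presheaf.stalk (PrinPart.toNbhd f n x) :=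
  letI : Algebra Os ((PrinPart.nbhd f n).presheaf.stalk (PrinPart.toNbhd f n x)) :=
    ((γ₁ f n x).comp (algebraMap Os Ox)).toAlgebra
  (Algebra.TensorProduct.lift (S := Os) (⟨γ₁ f n x, fun _ => rfl⟩ : Ox →ₐ[Os] _)
    (⟨γ₂ f n x, fun s => γ₂_base f n x s⟩ : Ox →ₐ[Os] _) fun _ _ => Commute.all _ _).toRingHom

theorem tau_tmul (a b : Ox) : tau f n x (a ⊗ₜ b) = γ₁ f n x a * γ₂ f n x b := rfl

variable {U : X.Opens} {V : S.Opens}

theorem germ_appLE (h : U ≤ f ⁻¹ᵁ V) (hx : x ∈ U) (r : Γ(S, V)) :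
    X.presheaf.germ U x hx (f.appLE V U h r) = algebraMap Os Ox (S.presheaf.germ V (f.base x) (h hx) r) := by
  show _ = f.stalkMap x _
  rw [Scheme.Hom.germ_stalkMap_apply]
  exact TopCat.Presheaf.germ_res_apply _ _ _ hx _

theorem tau_pow_le (z : Ox ⊗[Os] Ox) (hz : z ∈ KaehlerDifferential.ideal Os Ox ^ (n + 1)) :
    tau f n x z = 0 := by
  obtain ⟨_, ⟨V, hV, rfl⟩, hxV, -⟩ :=
    S.isBasis_affineOpens.exists_subset_of_mem_open (Set.mem_univ (f x)) isOpen_univ
  obtain ⟨_, ⟨U, hU, rfl⟩, hx, hle⟩ :=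
    X.isBasis_affineOpens.exists_subset_of_mem_open (show x ∈ (f ⁻¹ᵁ V : Set X) from hxV) (f ⁻¹ᵁ V).2
  let φ := f.appLE V U hle
  algebraize [φ.hom]
  obtain ⟨-, Φ, hΦ, -, hker⟩ := exists_chart f n hU hV hle
  let G : Γ(X, U) ⊗[Γ(S, V)] Γ(X, U) →+* (PrinPart.nbhd f n).presheaf.stalk (PrinPart.toNbhd f n x) :=
    ((PrinPart.nbhd f n).presheaf.germ _ _ (mem_preimage f n x hx)).hom.comp Φ
  let N := (KaehlerDifferential.ideal Γ(S, V) Γ(X, U)).map G
  have hN : N ^ (n + 1) = ⊥ := by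
    rw [← Ideal.map_pow, Ideal.map_eq_bot_iff_le_ker]
    intro w hw
    rw [← hker] at hw
    show (PrinPart.nbhd f n).presheaf.germ _ _ (mem_preimage f n x hx) (Φ w) = 0
    rw [RingHom.mem_ker.mp hw]
    exact map_zero _
  have hG : ∀ a b, G (a ⊗ₜ b) = γ₁ f n x (X.presheaf.germ U x hx a) * γ₂ f n x (X.presheaf.germ U x hx b) :=
    fun a b => by
      rw [stalkTo_germ, γ₂_germ f n x U hx, ← map_mul]
      exact congrArg _ (hΦ a b)
  have hd : ∀ a : Γ(X, U), γ₂ f n x (X.presheaf.germ U x hx a) - γ₁ f n x (X.presheaf.germ U x hx a) ∈ N := by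
    intro a
    have : G ((1 : Γ(X, U)) ⊗ₜ a - a ⊗ₜ 1) ∈ N :=
      Ideal.mem_map_of_mem G (KaehlerDifferential.one_smul_sub_smul_one_mem_ideal _ a)
    simpa [map_sub, hG] using this
  have hd' : ∀ b : Ox, γ₂ f n x b - γ₁ f n x b ∈ N := by
    intro b
    let := TopCat.Presheaf.algebra_section_stalk X.presheaf (⟨x, hx⟩ : U)
    have := hU.isLocalization_stalk ⟨x, hx⟩
    obtain ⟨⟨a, s⟩, has⟩ := IsLocalization.surj (hU.primeIdealOf ⟨x, hx⟩).asIdeal.primeCompl b
    change b * X.presheaf.germ U x hx (s : Γ(X, U)) = X.presheaf.germ U x hx a at has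
    have hsu : IsUnit (X.presheaf.germ U x hx (s : Γ(X, U))) :=
      IsLocalization.map_units (X.presheaf.stalk x) s
    refine (Ideal.mul_unit_mem_iff_mem _ (hsu.map (γ₂ f n x))).mp ?_
    have e : (γ₂ f n x b - γ₁ f n x b) * γ₂ f n x (X.presheaf.germ U x hx (s : Γ(X, U))) =
        (γ₂ f n x (X.presheaf.germ U x hx a) - γ₁ f n x (X.presheaf.germ U x hx a)) -
          γ₁ f n x b * (γ₂ f n x (X.presheaf.germ U x hx (s : Γ(X, U))) -
            γ₁ f n x (X.presheaf.germ U x hx (s : Γ(X, U)))) := by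
      rw [← has, map_mul, map_mul]; ring
    rw [e]
    exact sub_mem (hd a) (Ideal.mul_mem_left _ _ (hd _))
  have h1 : (KaehlerDifferential.ideal Os Ox).map (tau f n x) ≤ N := by
    rw [← KaehlerDifferential.span_range_eq_ideal, Ideal.map_span, Ideal.span_le]
    rintro _ ⟨_, ⟨s, rfl⟩, rfl⟩
    simpa [map_sub, tau_tmul] using hd' s
  have h2 := Ideal.pow_right_mono h1 (n + 1)
  rw [← Ideal.map_pow, hN] at h2
  exact Ideal.mem_bot.mp (h2 (Ideal.mem_map_of_mem _ hz))

/-- `P^n_{O_x/O_s} → O_{nbhd, Δ x}`. -/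
noncomputable def phi : PP16.P n Os Ox →+* (PrinPart.nbhd f n).presheaf.stalk (PrinPart.toNbhd f n x) :=
  Ideal.Quotient.lift _ (tau f n x) (tau_pow_le f n x)

theorem phi_algebraMap (b : Ox) : phi f n x (algebraMap Ox (PP16.P n Os Ox) b) = γ₁ f n x b := by
  show tau f n x (b ⊗ₜ 1) = _
  rw [tau_tmul, map_one, mul_one]

theorem phi_dn (b : Ox) : phi f n x (PP16.dn n Os Ox b) = γ₂ f n x b := by
  show tau f n x ((1 : Ox) ⊗ₜ b) = _
  rw [tau_tmul, map_one, one_mul]

theorem phi_bijective : Function.Bijective (phi f n x) := by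
  obtain ⟨_, ⟨V, hV, rfl⟩, hxV, -⟩ :=
    S.isBasis_affineOpens.exists_subset_of_mem_open (Set.mem_univ (f x)) isOpen_univ
  obtain ⟨_, ⟨U, hU, rfl⟩, hx, hle⟩ :=
    X.isBasis_affineOpens.exists_subset_of_mem_open (show x ∈ (f ⁻¹ᵁ V : Set X) from hxV) (f ⁻¹ᵁ V).2
  let φ := f.appLE V U hle
  algebraize [φ.hom]
  obtain ⟨hW, Φ, hΦ, hΦs, hker⟩ := exists_chart f n hU hV hle
  let Q := PP16.P n Os Ox
  let A := Γ(X, U)
  let y := PrinPart.toNbhd f n x
  let gA := (X.presheaf.germ U x hx).hom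
  letI : Algebra A Ox := gA.toAlgebra
  letI : Algebra Γ(S, V) Os := (S.presheaf.germ V (f.base x) (hle hx)).hom.toAlgebra
  letI : Algebra Γ(S, V) Ox := (gA.comp φ.hom).toAlgebra
  haveI : IsScalarTower Γ(S, V) A Ox := .of_algebraMap_eq fun _ => rfl
  haveI : IsScalarTower Γ(S, V) Os Ox := .of_algebraMap_eq fun r => germ_appLE f x hle hx r
  let θ₀ : A ⊗[Γ(S, V)] A →+* Q :=
    (Ideal.Quotient.mk _).comp (PP16.tensorMap Γ(S, V) A Os Ox).toRingHom
  have hθ₀ : ∀ a b, θ₀ (a ⊗ₜ b) = Ideal.Quotient.mk _ (gA a ⊗ₜ gA b) := fun a b =>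
    congrArg _ (PP16.tensorMap_tmul _ _ _ _ a b)
  have hθk : RingHom.ker Φ ≤ RingHom.ker θ₀ := by
    rw [hker]
    intro z hz
    refine Ideal.Quotient.eq_zero_iff_mem.mpr ?_
    have h := Ideal.pow_right_mono (PP16.ideal_map_tensorMap_le Γ(S, V) A Os Ox) (n + 1)
    rw [← Ideal.map_pow] at h
    exact h (Ideal.mem_map_of_mem _ hz)
  let θ := Φ.liftOfSurjective hΦs ⟨θ₀, hθk⟩
  have hθ : ∀ z, θ (Φ z) = θ₀ z := fun z => Φ.liftOfRightInverse_comp_apply _ _ ⟨θ₀, hθk⟩ z
  let := TopCat.Presheaf.algebra_section_stalk (PrinPart.nbhd f n).presheaf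
    (⟨y, mem_preimage f n x hx⟩ : PrinPart.pr1 f n ⁻¹ᵁ U)
  have hloc := hW.isLocalization_stalk ⟨y, mem_preimage f n x hx⟩
  let g := ((PrinPart.nbhd f n).presheaf.germ _ y (mem_preimage f n x hx)).hom
  have hgΦ : ∀ a b, g (Φ (a ⊗ₜ b)) = γ₁ f n x (gA a) * γ₂ f n x (gA b) := fun a b => by
    rw [hΦ, map_mul, stalkTo_germ, γ₂_germ f n x U hx]
  have hu : ∀ w : (hW.primeIdealOf ⟨y, mem_preimage f n x hx⟩).asIdeal.primeCompl, IsUnit (θ w) := by
    rintro ⟨w, hw⟩
    have hgw : IsUnit (g w) := IsLocalization.map_units _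
      (⟨w, hw⟩ : (hW.primeIdealOf ⟨y, mem_preimage f n x hx⟩).asIdeal.primeCompl)
    obtain ⟨z, rfl⟩ := hΦs w
    let m := Algebra.TensorProduct.lmul' Γ(S, V) z
    have hz : z - m ⊗ₜ 1 ∈ KaehlerDifferential.ideal Γ(S, V) A := by
      show Algebra.TensorProduct.lmul' Γ(S, V) (z - m ⊗ₜ 1) = 0
      simp [m]
    have hnil : IsNilpotent (Φ (z - m ⊗ₜ 1)) := ⟨n + 1, by
      rw [← map_pow]
      exact RingHom.mem_ker.mp (hker ▸ Ideal.pow_mem_pow hz (n + 1))⟩
    have hm : IsUnit (gA m) := by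
      have h1 : IsUnit (g (Φ z) + (- g (Φ (z - m ⊗ₜ 1)))) :=
        (hnil.map g).neg.isUnit_add_left_of_commute hgw (Commute.all _ _)
      rw [← map_neg, ← map_add, map_sub, neg_sub, add_sub_cancel, hgΦ, map_one, map_one, mul_one] at h1
      exact (isLocalHom_stalkTo _ _ _).map_nonunit _ h1
    show IsUnit (θ (Φ z))
    have h2 : IsUnit (θ (Φ (m ⊗ₜ 1)) + θ (Φ (z - m ⊗ₜ 1))) := by
      refine (hnil.map θ).isUnit_add_left_of_commute ?_ (Commute.all _ _)
      rw [hθ, hθ₀, map_one]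
      exact hm.map (algebraMap Ox Q)
    rwa [← map_add, ← map_add, add_sub_cancel] at h2
  let ψ : (PrinPart.nbhd f n).presheaf.stalk y →+* Q := IsLocalization.lift hu
  have hψ : ∀ z, ψ (g (Φ z)) = θ₀ z := fun z => (IsLocalization.lift_eq hu _).trans (hθ z)
  have h1 : (phi f n x).comp ψ = RingHom.id _ := by
    refine IsLocalization.ringHom_ext (hW.primeIdealOf ⟨y, mem_preimage f n x hx⟩).asIdeal.primeCompl ?_
    ext w
    obtain ⟨z, rfl⟩ := hΦs w
    show phi f n x (ψ (g (Φ z))) = g (Φ z)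
    rw [hψ]
    induction z using TensorProduct.induction_on with
    | zero => simp
    | add a b ha hb => rw [map_add θ₀, map_add (phi f n x), ha, hb, map_add, map_add]
    | tmul a b => rw [hθ₀, hgΦ]; exact tau_tmul f n x _ _
  have h2 : ψ.comp (phi f n x) = RingHom.id _ := by
    let := TopCat.Presheaf.algebra_section_stalk X.presheaf (⟨x, hx⟩ : U)
    have := hU.isLocalization_stalk ⟨x, hx⟩
    refine H06PP.ringHom_ext (fun b => ?_) fun b => ?_
    · have : ψ.comp (γ₁ f n x) = algebraMap Ox Q := by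
        refine IsLocalization.ringHom_ext (hU.primeIdealOf ⟨x, hx⟩).asIdeal.primeCompl ?_
        ext a
        show ψ (γ₁ f n x (gA a)) = algebraMap Ox Q (gA a)
        rw [show γ₁ f n x (gA a) = g (Φ (a ⊗ₜ 1)) by rw [hgΦ, map_one, map_one, mul_one], hψ, hθ₀, map_one]
        rfl
      show ψ (phi f n x (algebraMap Ox Q b)) = _
      rw [phi_algebraMap]
      exact congr($this b)
    · have : ψ.comp (γ₂ f n x) = (PP16.dn n Os Ox).toRingHom := by
        refine IsLocalization.ringHom_ext (hU.primeIdealOf ⟨x, hx⟩).asIdeal.primeCompl ?_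
        ext a
        show ψ (γ₂ f n x (gA a)) = PP16.dn n Os Ox (gA a)
        rw [show γ₂ f n x (gA a) = g (Φ (1 ⊗ₜ a)) by rw [hgΦ, map_one, map_one, one_mul], hψ, hθ₀, map_one]
        rfl
      show ψ (phi f n x (PP16.dn n Os Ox b)) = _
      rw [phi_dn]
      exact congr($this b)
  exact ⟨Function.LeftInverse.injective (g := ψ) fun q => congr($h2 q),
    Function.RightInverse.surjective (g := ψ) fun w => congr($h1 w)⟩

end Ring

end Groth.Agent.H17.PrinStalk
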