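import Groth.Agent.H17.PrinChart

/-! The symmetry of the infinitesimal neighbourhoods of the diagonal. -/

set_option autoImplicit false
universe u

open CategoryTheory CategoryTheory.Limits AlgebraicGeometry Opposite TopologicalSpace

namespace Groth.Agent.H17.PrinSymm

theorem app_eq_zero_congr {Z Y : Scheme.{u}} {m m' : Z ⟶ Y} (e : m = m') (U : Y.Opens) (a : Γ(Y, U))
    (h : m.app U a = 0) : m'.app U a = 0 := by
  subst e; exact h

/-- An automorphism fixing a closed subscheme preserves its infinitesimal neighbourhoods. -/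
theorem exists_lift_of_fix {X C : Scheme.{u}} (d : X ⟶ C) [IsClosedImmersion d] (s : C ⟶ C) [IsIso s]
    (hs : d ≫ s = d) (n : ℕ) :
    ∃ σ : PrinPart.infNbhd d n ⟶ PrinPart.infNbhd d n,
      σ ≫ PrinPart.infNbhdι d n = PrinPart.infNbhdι d n ≫ s := by
  let ι := PrinPart.infNbhdι d n
  have : IsClosedImmersion ι := inferInstanceAs (IsClosedImmersion (d.ker ^ (n + 1)).subschemeι)
  have H : ι.ker ≤ (ι ≫ s).ker := by
    intro U
    rw [Scheme.Hom.ker_apply, Scheme.Hom.ker_apply]
    intro x hx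
    let W : C.affineOpens := ⟨s ⁻¹ᵁ U.1, U.2.preimage_of_isIso s⟩
    have hx' : x ∈ d.ker.ideal U ^ (n + 1) := by
      have := (d.ker ^ (n + 1)).ker_subschemeι_app U
      rw [show (d.ker.ideal U ^ (n + 1)) = (d.ker ^ (n + 1)).ideal U from rfl, ← this]
      exact hx
    have h1 : (d.ker.ideal U).map (s.app U.1).hom ≤ d.ker.ideal W := by
      rw [Scheme.Hom.ker_apply, Scheme.Hom.ker_apply, Ideal.map_le_iff_le_comap]
      intro a ha
      exact app_eq_zero_congr hs.symm U.1 a ha
    have h2 : s.app U.1 x ∈ (d.ker ^ (n + 1)).ideal W := by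
      have := Ideal.pow_right_mono h1 (n + 1)
      rw [← Ideal.map_pow] at this
      exact this (Ideal.mem_map_of_mem _ hx')
    rw [← (d.ker ^ (n + 1)).ker_subschemeι_app W] at h2
    exact h2
  exact ⟨IsClosedImmersion.lift ι (ι ≫ s) H, IsClosedImmersion.lift_fac _ _ H⟩

variable {X S : Scheme.{u}} (f : X ⟶ S) (n : ℕ)

theorem exists_symm :
    ∃ σ : PrinPart.nbhd f n ⟶ PrinPart.nbhd f n,
      σ ≫ PrinPart.nbhdι f n = PrinPart.nbhdι f n ≫ (pullbackSymmetry f f).hom ∧
      σ ≫ σ = 𝟙 (PrinPart.nbhd f n) ∧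
      σ ≫ PrinPart.pr1 f n = PrinPart.pr2 f n ∧ σ ≫ PrinPart.pr2 f n = PrinPart.pr1 f n ∧
      PrinPart.toNbhd f n ≫ σ = PrinPart.toNbhd f n := by
  let Δ := pullback.diagonal f
  let sym := (pullbackSymmetry f f).hom
  have hΔ : Δ ≫ sym = Δ := by
    apply pullback.hom_ext <;> simp [Δ, sym]
  have hinv : sym ≫ sym = 𝟙 _ := by
    apply pullback.hom_ext <;> simp [sym]
  let c := Δ.coborderRange.ι
  have hmem : ∀ z : ↑(pullback f f), z ∈ Δ.coborderRange → sym z ∈ Δ.coborderRange := by
    intro z hz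
    let h := Scheme.homeoOfIso (pullbackSymmetry f f)
    have hr : h ⁻¹' Set.range Δ = Set.range Δ := by
      ext w
      constructor
      · rintro ⟨x, hx⟩
        refine ⟨x, ?_⟩
        have := congrArg sym hx
        rw [← Scheme.Hom.comp_apply, hΔ] at this
        rw [this]
        show sym (sym w) = w
        rw [← Scheme.Hom.comp_apply, hinv]; rfl
      · rintro ⟨x, rfl⟩
        exact ⟨x, by show _ = sym (Δ x); rw [← Scheme.Hom.comp_apply, hΔ]⟩
    show h z ∈ coborder (Set.range Δ)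
    rw [← Set.mem_preimage, coborder, Set.preimage_compl, Set.preimage_sdiff, h.preimage_closure, hr]
    exact hz
  let g := c ≫ sym
  have hrange : Set.range g ⊆ Set.range c := by
    rintro _ ⟨z, rfl⟩
    rw [Scheme.Opens.range_ι]
    exact hmem _ z.2
  let s := IsOpenImmersion.lift c g hrange
  have hs : s ≫ c = c ≫ sym := IsOpenImmersion.lift_fac _ _ _
  have hss : s ≫ s = 𝟙 _ := by
    rw [← cancel_mono c, Category.assoc, hs, ← Category.assoc, hs, Category.assoc, hinv, Category.comp_id,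
      Category.id_comp]
  have : IsIso s := ⟨s, hss, hss⟩
  have hd : PrinPart.diagCl f ≫ s = PrinPart.diagCl f := by
    have e : PrinPart.diagCl f ≫ c = Δ := Scheme.Hom.liftCoborder_ι _
    rw [← cancel_mono c, Category.assoc, hs, ← Category.assoc, e, hΔ]
  obtain ⟨σ, hσ⟩ := exists_lift_of_fix (PrinPart.diagCl f) s hd n
  have hι : σ ≫ PrinPart.nbhdι f n = PrinPart.nbhdι f n ≫ sym := by
    show σ ≫ PrinPart.infNbhdι _ n ≫ c = (PrinPart.infNbhdι _ n ≫ c) ≫ sym
    rw [← Category.assoc, hσ, Category.assoc, hs, Category.assoc]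
  have : IsImmersion (PrinPart.nbhdι f n) := by
    have : IsClosedImmersion (PrinPart.infNbhdι (PrinPart.diagCl f) n) :=
      inferInstanceAs (IsClosedImmersion ((PrinPart.diagCl f).ker ^ (n + 1)).subschemeι)
    show IsImmersion (PrinPart.infNbhdι _ n ≫ c)
    infer_instance
  refine ⟨σ, hι, ?_, ?_, ?_, ?_⟩
  · rw [← cancel_mono (PrinPart.nbhdι f n), Category.assoc, hι, ← Category.assoc, hι, Category.assoc, hinv,
      Category.comp_id, Category.id_comp]
  · rw [PrinPart.pr1, PrinPart.pr2, ← Category.assoc, hι, Category.assoc, pullbackSymmetry_hom_comp_fst]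
  · rw [PrinPart.pr1, PrinPart.pr2, ← Category.assoc, hι, Category.assoc, pullbackSymmetry_hom_comp_snd]
  · rw [← cancel_mono (PrinPart.nbhdι f n), Category.assoc, hι, ← Category.assoc, PrinPart.toNbhd_ι, hΔ]

end Groth.Agent.H17.PrinSymm
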