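import Groth.Agent.H17.PrinChart
import Groth.Agent.H11Tilde.StalkGen
import Groth.Prelude.Def_PP16

/-! `P^n_{X/S}` is free of rank one over the ring of the neighbourhood. -/

set_option autoImplicit false
set_option linter.style.haveILetI false
universe u

open CategoryTheory CategoryTheory.Limits AlgebraicGeometry Opposite TopologicalSpace TensorProduct

namespace Groth.Agent.H17.PrinUnit

open PrinChart

variable {X S : Scheme.{u}} (f : X ⟶ S) (n : ℕ)

theorem isGen_one (U : X.Opens) :
    H11Tilde.IsGen (Coh.structureModule X) (OmegaSh.strSect X U 1) := by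
  refine H11Tilde.isGen_of_bijective fun W hW => ?_
  have : (fun r : Γ(X, W) => r • (Coh.structureModule X).presheaf.map (homOfLE hW).op (OmegaSh.strSect X U 1)) =
      OmegaSh.strSect X W := funext fun r => by
    show r * X.presheaf.map (homOfLE hW).op 1 = r
    rw [map_one, mul_one]
  rw [this]
  exact ⟨fun _ _ h => h, fun y => ⟨y, rfl⟩⟩

/-- The module of the neighbourhood behind `P^n_{X/S}`. -/
noncomputable abbrev E : (PrinPart.nbhd f n).Modules :=
  (Scheme.Modules.pullback (PrinPart.pr2 f n)).obj (Coh.structureModule X)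

/-- `1 = d^n(1)`. -/
noncomputable abbrev one (U : X.Opens) : Γ(E f n, PrinPart.pr1 f n ⁻¹ᵁ U) :=
  PrinPart.dn f n U 1

theorem bijective_smul_one (U : X.Opens) :
    Function.Bijective fun r : Γ(PrinPart.nbhd f n, PrinPart.pr1 f n ⁻¹ᵁ U) => r • one f n U :=
  (((isGen_one (X := X) U).pullSect (PrinPart.pr2 f n)).bijective (PrinPart.preimage_pr1 f n U).le :)

theorem dn_eq (U : X.Opens) (b : Γ(X, U)) :
    (PrinPart.dn f n U b : Γ(E f n, PrinPart.pr1 f n ⁻¹ᵁ U)) = app2 f n U b • one f n U := by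
  refine Eq.trans ?_ (dP_smul f n (Coh.structureModule X) U b (OmegaSh.strSect X U 1))
  exact congrArg (PrinPart.dP f n (Coh.structureModule X) U) (mul_one b).symm

theorem smul_dn (U : X.Opens) (a b : Γ(X, U)) :
    (a • PrinPart.dn f n U b : Γ(PrinPart.P f n, U)) =
      (((PrinPart.pr1 f n).app U a * app2 f n U b) • one f n U :) := by
  rw [mul_smul, ← dn_eq]
  rfl

/-- Transport of `B ⊗_A B` along compatible isomorphisms. -/
theorem tensorMap_bijective_and_mem {A B A' B' : Type u} [CommRing A] [CommRing B] [Algebra A B] [CommRing A']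
    [CommRing B'] [Algebra A' B'] (α : A ≃+* A') (β : B ≃+* B')
    (h : ∀ a, β (algebraMap A B a) = algebraMap A' B' (α a)) :
    ∃ τ : B ⊗[A] B →+* B' ⊗[A'] B', Function.Surjective τ ∧ (∀ b c, τ (b ⊗ₜ c) = β b ⊗ₜ β c) ∧
      ∀ (k : ℕ) (z : B ⊗[A] B), τ z ∈ KaehlerDifferential.ideal A' B' ^ k ↔ z ∈ KaehlerDifferential.ideal A B ^ k := by
  letI : Algebra A A' := α.toRingHom.toAlgebra
  letI : Algebra B B' := β.toRingHom.toAlgebra
  letI : Algebra A B' := (β.toRingHom.comp (algebraMap A B)).toAlgebra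
  haveI : IsScalarTower A B B' := .of_algebraMap_eq fun _ => rfl
  haveI : IsScalarTower A A' B' := .of_algebraMap_eq fun a => h a
  letI : Algebra A' A := α.symm.toRingHom.toAlgebra
  letI : Algebra B' B := β.symm.toRingHom.toAlgebra
  letI : Algebra A' B := (β.symm.toRingHom.comp (algebraMap A' B')).toAlgebra
  haveI : IsScalarTower A' B' B := .of_algebraMap_eq fun _ => rfl
  haveI : IsScalarTower A' A B := .of_algebraMap_eq fun a => by
    show β.symm (algebraMap A' B' a) = algebraMap A B (α.symm a)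
    rw [β.symm_apply_eq, h, α.apply_symm_apply]
  let τ := (PP16.tensorMap A B A' B').toRingHom
  let σ := (PP16.tensorMap A' B' A B).toRingHom
  have e1 : ∀ z, σ (τ z) = z := by
    intro z
    induction z using TensorProduct.induction_on with
    | zero => simp
    | add a b ha hb => rw [map_add, map_add, ha, hb]
    | tmul a b =>
      show (PP16.tensorMap A' B' A B) (PP16.tensorMap A B A' B' (a ⊗ₜ b)) = _
      rw [PP16.tensorMap_tmul, PP16.tensorMap_tmul]
      show β.symm (β a) ⊗ₜ[A] β.symm (β b) = _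
      rw [β.symm_apply_apply, β.symm_apply_apply]
  have e2 : ∀ z, τ (σ z) = z := by
    intro z
    induction z using TensorProduct.induction_on with
    | zero => simp
    | add a b ha hb => rw [map_add, map_add, ha, hb]
    | tmul a b =>
      show (PP16.tensorMap A B A' B') (PP16.tensorMap A' B' A B (a ⊗ₜ b)) = _
      rw [PP16.tensorMap_tmul, PP16.tensorMap_tmul]
      show β (β.symm a) ⊗ₜ[A'] β (β.symm b) = _
      rw [β.apply_symm_apply, β.apply_symm_apply]
  refine ⟨τ, fun z => ⟨σ z, e2 z⟩, fun b c => PP16.tensorMap_tmul A B A' B' b c, fun k z => ⟨fun hz => ?_, fun hz => ?_⟩⟩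
  · have := Ideal.pow_right_mono (PP16.ideal_map_tensorMap_le A' B' A B) k
    rw [← Ideal.map_pow] at this
    exact e1 z ▸ this (Ideal.mem_map_of_mem _ hz)
  · have := Ideal.pow_right_mono (PP16.ideal_map_tensorMap_le A B A' B') k
    rw [← Ideal.map_pow] at this
    exact this (Ideal.mem_map_of_mem _ hz)

theorem globalSections_affine (A B : Type u) [CommRing A] [CommRing B] [Algebra A B]
    (ψ : B ⊗[A] B →+
      Γ(PrinPart.P (Spec.map (CommRingCat.ofHom (algebraMap A B))) n, (⊤ : (Spec (CommRingCat.of B)).Opens)))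
    (hψ : ∀ b b' : B, ψ (b ⊗ₜ[A] b') =
      (Scheme.ΓSpecIso (CommRingCat.of B)).inv b •
        PrinPart.dn (Spec.map (CommRingCat.ofHom (algebraMap A B))) n ⊤
          ((Scheme.ΓSpecIso (CommRingCat.of B)).inv b')) :
    Function.Surjective ψ ∧ ψ.ker = (KaehlerDifferential.ideal A B ^ (n + 1)).toAddSubgroup := by
  let φ := CommRingCat.ofHom (algebraMap A B)
  let g := Spec.map φ
  let U : (Spec (CommRingCat.of B)).Opens := ⊤
  let V : (Spec (CommRingCat.of A)).Opens := ⊤
  have h : U ≤ g ⁻¹ᵁ V := le_rfl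
  letI := (g.appLE V U h).hom.toAlgebra
  obtain ⟨-, Φ, hΦ, hΦs, hker⟩ := exists_chart g n (isAffineOpen_top _) (isAffineOpen_top _) h
  let α := (Scheme.ΓSpecIso (CommRingCat.of A)).symm.commRingCatIsoToRingEquiv
  let β := (Scheme.ΓSpecIso (CommRingCat.of B)).symm.commRingCatIsoToRingEquiv
  obtain ⟨τ, hτs, hτ, hτm⟩ := tensorMap_bijective_and_mem (A := A) (B := B) (A' := Γ(Spec (CommRingCat.of A), V))
    (B' := Γ(Spec (CommRingCat.of B), U)) α β (fun a => by
      have := congr($(Scheme.ΓSpecIso_inv_naturality φ) a)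
      refine this.trans ?_
      show _ = g.appLE V (g ⁻¹ᵁ V) le_rfl (α a)
      rw [← Scheme.Hom.app_eq_appLE]
      rfl)
  let L : Γ(PrinPart.nbhd g n, PrinPart.pr1 g n ⁻¹ᵁ U) →+ Γ(E g n, PrinPart.pr1 g n ⁻¹ᵁ U) :=
    AddMonoidHom.mk' (fun r => r • one g n U) fun a b => add_smul a b _
  have hL : Function.Bijective L := bijective_smul_one g n U
  have key : ∀ z, ψ z = L (Φ (τ z)) := by
    intro z
    induction z using TensorProduct.induction_on with
    | zero => rw [map_zero, map_zero, map_zero, map_zero]; rfl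
    | add a b ha hb => rw [map_add, map_add, map_add, map_add, ha, hb]; rfl
    | tmul b c =>
      rw [hψ, hτ, hΦ]
      exact smul_dn g n U _ _
  refine ⟨fun y => ?_, ?_⟩
  · obtain ⟨r, hr⟩ := hL.2 y
    obtain ⟨z', rfl⟩ := hΦs r
    obtain ⟨z, rfl⟩ := hτs z'
    exact ⟨z, (key z).trans hr⟩
  ext z
  rw [AddMonoidHom.mem_ker, key, Submodule.mem_toAddSubgroup, ← hτm, ← hker, RingHom.mem_ker]
  exact ⟨fun e => hL.1 (e.trans (map_zero L).symm), fun e => (congrArg L e).trans (map_zero L)⟩

end Groth.Agent.H17.PrinUnit
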