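import Groth.Prelude.Def_ProCons
import Mathlib.AlgebraicGeometry.Morphisms.QuasiSeparated
import Mathlib.AlgebraicGeometry.AffineScheme
import Mathlib.AlgebraicGeometry.Properties
import Mathlib.Topology.Constructible

set_option autoImplicit false
universe u
open CategoryTheory Limits AlgebraicGeometry TopologicalSpace Set

namespace Groth.Agent.H17.ProConsPre

theorem exists_nhd {X Y : Scheme.{u}} (f : X ⟶ Y) (U : Set Y) (hU : IsOpen U) (x : X) (hx : f x ∈ U) :
    ∃ W : Set X, IsOpen W ∧ x ∈ W ∧ ∃ h : ∀ w ∈ W, f w ∈ U,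
      ∀ T : Set ↥U, Topology.IsLocallyConstructible T →
        Topology.IsLocallyConstructible ((fun w : ↥W => (⟨f w.1, h w.1 w.2⟩ : ↥U)) ⁻¹' T) := by
  obtain ⟨_, ⟨V, hV, rfl⟩, hxV, hVU⟩ := Y.isBasis_affineOpens.exists_subset_of_mem_open hx hU
  obtain ⟨_, ⟨W, hW, rfl⟩, hxW, hWV⟩ :=
    X.isBasis_affineOpens.exists_subset_of_mem_open (show x ∈ (f ⁻¹ᵁ V : Set X) from hxV) (f ⁻¹ᵁ V).2
  refine ⟨W, W.2, hxW, fun w hw => hVU (hWV hw), fun T hT => ?_⟩
  have : IsAffine (Scheme.Opens.toScheme V) := hV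
  have : IsAffine (Scheme.Opens.toScheme W) := hW
  let g := f.resLE V W hWV
  let i : ↥V → ↥U := fun v => ⟨v.1, hVU v.2⟩
  have hi : Topology.IsOpenEmbedding i := Topology.IsOpenEmbedding.of_comp _
    hU.isOpenEmbedding_subtypeVal V.2.isOpenEmbedding_subtypeVal
  have hTc : Topology.IsConstructible (X := (Scheme.Opens.toScheme V)) (i ⁻¹' T) :=
    Topology.IsLocallyConstructible.isConstructible (X := Scheme.Opens.toScheme V) (hT.preimage_of_isOpenEmbedding hi)
  have hfun : (fun w : ↥W => (⟨f w.1, hVU (hWV w.2)⟩ : ↥U)) = i ∘ (fun w : (Scheme.Opens.toScheme W) => g w) := by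
    funext w
    apply Subtype.ext
    show f w.1 = Scheme.Opens.ι V (g w)
    rw [← Scheme.Hom.comp_apply, Scheme.Hom.resLE_comp_ι]
    rfl
  refine (congrArg (fun φ : ↥W → ↥U => Topology.IsLocallyConstructible (φ ⁻¹' T)) hfun).mpr ?_
  refine Topology.IsConstructible.isLocallyConstructible (X := Scheme.Opens.toScheme W)
    ((hTc.preimage g.continuous fun s hs hsc => ?_ :) : Topology.IsConstructible ((fun w : (Scheme.Opens.toScheme W) => g w) ⁻¹' (i ⁻¹' T)))
  have hcomp : IsCompact s := by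
    have := hsc isCompact_univ isOpen_univ
    rwa [Set.inter_univ] at this
  exact (QuasiCompact.isCompact_preimage (f := g) s hs hcomp).isRetrocompact ((hs.preimage g.continuous))

end Groth.Agent.H17.ProConsPre
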