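import Groth.Agent.H17.MonoField
import Mathlib.AlgebraicGeometry.Pullbacks
import Mathlib.AlgebraicGeometry.Morphisms.FiniteType
import Mathlib.RingTheory.FiniteType
import Mathlib.Algebra.Category.Ring.Constructions

/-! Reflection of specializations after base change. -/

set_option autoImplicit false

universe u

open CategoryTheory Limits AlgebraicGeometry TopologicalSpace TensorProduct

namespace Groth.Agent.H17.SpecReflect

/-- `snd` of the base change along `g` reflects specializations. -/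
def Reflects {X Y X' : Scheme.{u}} (f : Y ⟶ X) (g : X' ⟶ X) : Prop :=
  ∀ y₀ y₁ : ↥(pullback f g), pullback.snd f g y₁ ⤳ pullback.snd f g y₀ → y₁ ⤳ y₀

theorem isPullback_comp_mono {P A B S T : Scheme.{u}} {a : P ⟶ A} {b : P ⟶ B} {p : A ⟶ S} {q : B ⟶ S}
    (sq : IsPullback a b p q) (i : S ⟶ T) [Mono i] : IsPullback a b (p ≫ i) (q ≫ i) := by
  refine ⟨⟨by rw [reassoc_of% sq.w]⟩, ⟨PullbackCone.IsLimit.mk _
    (fun s => sq.lift s.fst s.snd ((cancel_mono i).1 (by simpa using s.condition))) (fun s => sq.lift_fst _ _ _)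
    (fun s => sq.lift_snd _ _ _) fun s m h₁ h₂ => sq.hom_ext ?_ ?_⟩⟩
  · rw [sq.lift_fst]; exact h₁
  · rw [sq.lift_snd]; exact h₂

variable {X Y X' : Scheme.{u}} (f : Y ⟶ X) (g : X' ⟶ X)

theorem lift_chart {W Q : Scheme.{u}} (j : W ⟶ Y) [IsOpenImmersion j] {a : Q ⟶ W} {b : Q ⟶ X'}
    (sq : IsPullback a b (j ≫ f) g) :
    IsOpenImmersion (pullback.lift (a ≫ j) b (by rw [Category.assoc, sq.w]) : Q ⟶ pullback f g) ∧
    Set.range (pullback.lift (a ≫ j) b (by rw [Category.assoc, sq.w]) : Q ⟶ pullback f g) =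
      (pullback.fst f g) ⁻¹' Set.range j := by
  set m : Q ⟶ pullback f g := pullback.lift (a ≫ j) b (by rw [Category.assoc, sq.w]) with hm
  have hsq : IsPullback m a (pullback.fst f g) j :=
    IsPullback.of_right (h₁₁ := m) (h₁₂ := pullback.snd f g) (v₁₁ := a) (v₁₂ := pullback.fst f g) (v₁₃ := g)
      (h₂₁ := j) (h₂₂ := f) (by rw [pullback.lift_snd]; exact sq.flip) (pullback.lift_fst _ _ _)
      (IsPullback.of_hasPullback f g).flip
  refine ⟨MorphismProperty.of_isPullback (P := @IsOpenImmersion) hsq.flip inferInstance, ?_⟩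
  ext z
  constructor
  · rintro ⟨w, rfl⟩
    exact ⟨a w, by rw [← Scheme.Hom.comp_apply, ← Scheme.Hom.comp_apply, hsq.w]⟩
  · rintro ⟨w, hw⟩
    obtain ⟨q, hq, -⟩ := Scheme.exists_preimage_of_isPullback hsq z w hw.symm
    exact ⟨q, hq⟩

theorem reflects_of_affine {A B R : CommRingCat.{u}} (ψ : A ⟶ B) (φ : A ⟶ R) (i : Spec A ⟶ X)
    [IsOpenImmersion i] (j : Spec B ⟶ Y) [IsOpenImmersion j] (hj : j ≫ f = Spec.map ψ ≫ i)
    (h : ∀ (X₀ : Scheme.{u}) (g₀ : X₀ ⟶ X) [LocallyOfFiniteType g₀], Reflects f g₀)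
    (y₀ y₁ : ↥(pullback f (Spec.map φ ≫ i)))
    (h₀ : pullback.fst f (Spec.map φ ≫ i) y₀ ∈ Set.range j)
    (hsp : pullback.snd f (Spec.map φ ≫ i) y₁ ⤳ pullback.snd f (Spec.map φ ≫ i) y₀) : y₁ ⤳ y₀ := by
  -- specialisation of the images in `Y`
  have h₁ : pullback.fst f (Spec.map φ ≫ i) y₁ ∈ Set.range j := by
    let m : pullback f (Spec.map φ ≫ i) ⟶ pullback f i := pullback.map f (Spec.map φ ≫ i) f i (𝟙 Y) (Spec.map φ) (𝟙 X) (by simp) (by simp)
    have hm : m y₁ ⤳ m y₀ := h _ i _ _ (by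
      rw [← Scheme.Hom.comp_apply, ← Scheme.Hom.comp_apply, pullback.lift_snd, Scheme.Hom.comp_apply,
        Scheme.Hom.comp_apply]
      exact hsp.map (Spec.map φ).continuous)
    have := hm.map (pullback.fst f i).continuous
    rw [← Scheme.Hom.comp_apply, ← Scheme.Hom.comp_apply, pullback.lift_fst, Category.comp_id] at this
    exact this.mem_open j.isOpenEmbedding.isOpen_range h₀
  letI := ψ.hom.toAlgebra
  letI := φ.hom.toAlgebra
  let chart : ∀ (S : Type u) [CommRing S] [Algebra A S],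
      ∃ m : Spec (CommRingCat.of (B ⊗[A] S)) ⟶ pullback f (Spec.map (CommRingCat.ofHom (algebraMap A S)) ≫ i),
        IsOpenImmersion m ∧
        m ≫ pullback.fst _ _ = Spec.map (CommRingCat.ofHom Algebra.TensorProduct.includeLeftRingHom) ≫ j ∧
        m ≫ pullback.snd _ _ = Spec.map (CommRingCat.ofHom Algebra.TensorProduct.includeRight.toRingHom) ∧
        Set.range m = (pullback.fst f (Spec.map (CommRingCat.ofHom (algebraMap A S)) ≫ i)) ⁻¹' Set.range j := by
    intro S _ _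
    have sq := isPullback_comp_mono (isPullback_SpecMap_of_isPushout _ _ _ _
      (CommRingCat.isPushout_tensorProduct A B S)) i
    have sq' : IsPullback (Spec.map (CommRingCat.ofHom (Algebra.TensorProduct.includeLeftRingHom (R := A) (A := B) (B := S))))
        (Spec.map (CommRingCat.ofHom (Algebra.TensorProduct.includeRight (R := A) (A := B) (B := S)).toRingHom))
        (j ≫ f) (Spec.map (CommRingCat.ofHom (algebraMap A S)) ≫ i) := by
      rw [hj]; exact sq
    exact ⟨_, (lift_chart f _ j sq').1, pullback.lift_fst _ _ _, pullback.lift_snd _ _ _, (lift_chart f _ j sq').2⟩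
  obtain ⟨m, hm, hmf, hms, hmr⟩ := chart R
  obtain ⟨q₀, rfl⟩ : y₀ ∈ Set.range m := hmr.ge h₀
  obtain ⟨q₁, rfl⟩ : y₁ ∈ Set.range m := hmr.ge h₁
  refine Specializes.map ?_ m.continuous
  refine (PrimeSpectrum.le_iff_specializes (q₁ : PrimeSpectrum (B ⊗[A] R)) q₀).1 fun c hc => ?_
  obtain ⟨s, c', hc'⟩ : ∃ (s : Finset R) (c' : B ⊗[A] (Algebra.adjoin A (s : Set R))),
      Algebra.TensorProduct.map (AlgHom.id A B) (Algebra.adjoin A (s : Set R)).val c' = c := by
    clear hc
    classical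
    induction c using TensorProduct.induction_on with
    | zero => exact ⟨∅, 0, map_zero _⟩
    | tmul b r => exact ⟨{r}, b ⊗ₜ ⟨r, Algebra.subset_adjoin (Finset.mem_singleton_self r)⟩, by simp⟩
    | add c₁ c₂ h₁ h₂ =>
      obtain ⟨s₁, d₁, rfl⟩ := h₁
      obtain ⟨s₂, d₂, rfl⟩ := h₂
      have hl : Algebra.adjoin A (s₁ : Set R) ≤ Algebra.adjoin A ((s₁ ∪ s₂ : Finset R) : Set R) :=
        Algebra.adjoin_mono (by simp)
      have hr : Algebra.adjoin A (s₂ : Set R) ≤ Algebra.adjoin A ((s₁ ∪ s₂ : Finset R) : Set R) :=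
        Algebra.adjoin_mono (by simp)
      refine ⟨s₁ ∪ s₂, Algebra.TensorProduct.map (AlgHom.id A B) (Subalgebra.inclusion hl) d₁ +
        Algebra.TensorProduct.map (AlgHom.id A B) (Subalgebra.inclusion hr) d₂, ?_⟩
      rw [map_add, ← AlgHom.comp_apply, ← AlgHom.comp_apply, ← Algebra.TensorProduct.map_comp,
        ← Algebra.TensorProduct.map_comp]
      rfl
  let S := Algebra.adjoin A (s : Set R)
  haveI : Algebra.FiniteType A S := (Subalgebra.fg_iff_finiteType S).1 (Subalgebra.fg_adjoin_finset s)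
  obtain ⟨m', hm', hmf', hms', -⟩ := chart S
  let ν := Spec.map (CommRingCat.ofHom (Algebra.TensorProduct.map (AlgHom.id A B) S.val).toRingHom)
  let g' := Spec.map (CommRingCat.ofHom (algebraMap A S)) ≫ i
  haveI : LocallyOfFiniteType (Spec.map (CommRingCat.ofHom (algebraMap A S))) :=
    (HasRingHomProperty.Spec_iff (P := @LocallyOfFiniteType)).2 (RingHom.finiteType_algebraMap.2 inferInstance)
  have hcomp : ν ≫ m' ≫ pullback.snd f g' =
      m ≫ pullback.snd f (Spec.map φ ≫ i) ≫ Spec.map (CommRingCat.ofHom S.val.toRingHom) := by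
    have hms2 : m ≫ pullback.snd f (Spec.map φ ≫ i) = Spec.map (CommRingCat.ofHom
        (Algebra.TensorProduct.includeRight (R := A) (A := B) (B := R)).toRingHom) := hms
    rw [hms', reassoc_of% hms2, ← Spec.map_comp, ← Spec.map_comp]
    congr 1
  have key : m' (ν q₁) ⤳ m' (ν q₀) := h _ g' _ _ (by
    have e : ∀ q, pullback.snd f g' (m' (ν q)) = Spec.map (CommRingCat.ofHom S.val.toRingHom) (pullback.snd f (Spec.map φ ≫ i) (m q)) :=
      fun q => congr($hcomp q)
    rw [e, e]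
    exact hsp.map (Spec.map _).continuous)
  have key' : ν q₁ ⤳ ν q₀ := m'.isOpenEmbedding.isInducing.specializes_iff.1 key
  rw [← hc']
  exact (PrimeSpectrum.le_iff_specializes (ν q₁ : PrimeSpectrum (B ⊗[A] S)) (ν q₀)).2 key'
    (show c' ∈ (q₁ : PrimeSpectrum (B ⊗[A] R)).asIdeal.comap
      (Algebra.TensorProduct.map (AlgHom.id A B) S.val).toRingHom by
      show _ ∈ (q₁ : PrimeSpectrum (B ⊗[A] R)).asIdeal
      exact hc'.symm ▸ hc)

theorem reflects_of_lft (h : ∀ (X₀ : Scheme.{u}) (g₀ : X₀ ⟶ X) [LocallyOfFiniteType g₀], Reflects f g₀) :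
    Reflects f g := by
  intro y₀ y₁ hsp
  obtain ⟨V, hV, hxV, -⟩ := exists_isAffineOpen_mem_and_subset (U := (⊤ : X.Opens))
    (x := f (pullback.fst f g y₀)) trivial
  obtain ⟨W, hW, hwW, hWV⟩ := exists_isAffineOpen_mem_and_subset (U := f ⁻¹ᵁ V) (x := pullback.fst f g y₀) hxV
  obtain ⟨U, hU, hsU, hUV⟩ := exists_isAffineOpen_mem_and_subset (U := g ⁻¹ᵁ V) (x := pullback.snd f g y₀) (by
    show g (pullback.snd f g y₀) ∈ V
    rw [← Scheme.Hom.comp_apply, ← pullback.condition, Scheme.Hom.comp_apply]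
    exact hxV)
  let φ := g.appLE V U hUV
  let g₁ := Spec.map φ ≫ hV.fromSpec
  have hg₁ : g₁ = hU.fromSpec ≫ g := IsAffineOpen.SpecMap_appLE_fromSpec g hV hU hUV
  let e : pullback f g₁ ⟶ pullback f g :=
    pullback.map f g₁ f g (𝟙 Y) hU.fromSpec (𝟙 X) (by simp) (by simp [hg₁])
  have sq : IsPullback e (pullback.snd f g₁) (pullback.snd f g) hU.fromSpec :=
    IsPullback.of_right (h₁₁ := e) (v₁₁ := pullback.snd f g₁) (h₁₂ := pullback.fst f g) (v₁₃ := f)
      (h₂₁ := hU.fromSpec) (h₂₂ := g) (by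
        rw [pullback.lift_fst, Category.comp_id, ← hg₁]
        exact IsPullback.of_hasPullback f g₁) (pullback.lift_snd _ _ _) (IsPullback.of_hasPullback f g)
  have hlift : ∀ y, pullback.snd f g y ∈ U → ∃ z, e z = y := fun y hy => by
    obtain ⟨u, hu⟩ : pullback.snd f g y ∈ Set.range hU.fromSpec := hU.range_fromSpec.ge hy
    obtain ⟨z, hz, -⟩ := Scheme.exists_preimage_of_isPullback sq y u hu.symm
    exact ⟨z, hz⟩
  obtain ⟨z₀, rfl⟩ := hlift y₀ hsU
  obtain ⟨z₁, rfl⟩ := hlift y₁ (hsp.mem_open U.2 hsU)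
  refine Specializes.map ?_ e.continuous
  have hp : ∀ z, pullback.snd f g (e z) = hU.fromSpec (pullback.snd f g₁ z) := fun z => congr($(sq.w) z)
  rw [hp, hp] at hsp
  refine reflects_of_affine f (f.appLE V W hWV) φ hV.fromSpec hW.fromSpec
    (IsAffineOpen.SpecMap_appLE_fromSpec f hV hW hWV).symm h z₀ z₁ ?_
    (hU.fromSpec.isOpenEmbedding.isInducing.specializes_iff.1 hsp)
  rw [hW.range_fromSpec]
  have : pullback.fst f g₁ z₀ = pullback.fst f g (e z₀) := by
    rw [← Scheme.Hom.comp_apply e, pullback.lift_fst, Category.comp_id]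
  exact this.symm ▸ hwW

end Groth.Agent.H17.SpecReflect
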