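import Groth.Agent.H22Alg.ExtPowSheaf
import Groth.Agent.H11Tilde.QCohCrit
import Mathlib

/-! # The exterior power of a tilde -/

set_option autoImplicit false
set_option linter.style.haveILetI false
universe u

open CategoryTheory AlgebraicGeometry Opposite TopologicalSpace exteriorPower

noncomputable section

namespace Groth.Agent.H17.TildeExtPow

section

open Groth.Agent.H22Alg Groth.Agent.H22Alg.ExtPowAlg Groth.Agent.H22Alg.ExtPowSheaf

variable {X : Scheme.{u}} {i : ℕ} {E : X.Modules}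

theorem isQCoh_sheaf (hE : Coh.IsQCoh E) : Coh.IsQCoh (sheaf i E) := by
  refine H11Tilde.isQuasicoherent_of_basicOpen_localization _ (fun U : X.affineOpens => U.1)
    (iSup_affineOpens_eq_top X) (fun U => U.2) (fun U r s hs => ?_) (fun U r s' => ?_)
  · letI := Module.compHom (Sec i E (X.basicOpen r)) (algebraMap Γ(X, U.1) Γ(X, X.basicOpen r))
    haveI := isLocalizedModule_res (i := i) hE U.2 r
    obtain ⟨x, rfl⟩ := surjective_η hE U.2 s
    rw [η_res] at hs
    have h0 : res i E (X.basicOpen_le r) x = 0 := injective_η hE (U.2.basicOpen r) (by rw [hs, map_zero])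
    obtain ⟨⟨_, n, rfl⟩, hn⟩ := (IsLocalizedModule.eq_zero_iff (Submonoid.powers r)
      ({ toFun := res i E (X.basicOpen_le r)
         map_add' := map_add _
         map_smul' := (res i E (X.basicOpen_le r)).map_smulₛₗ } :
        Sec i E U.1 →ₗ[Γ(X, U.1)] Sec i E (X.basicOpen r))).1 h0
    refine ⟨n, ?_⟩
    rw [← map_smul]
    exact (congrArg (η i E U.1) hn).trans (map_zero _)
  · letI := Module.compHom (Sec i E (X.basicOpen r)) (algebraMap Γ(X, U.1) Γ(X, X.basicOpen r))
    haveI := isLocalizedModule_res (i := i) hE U.2 r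
    obtain ⟨x', rfl⟩ := surjective_η hE (U.2.basicOpen r) s'
    obtain ⟨⟨x, ⟨_, n, rfl⟩⟩, hn⟩ := IsLocalizedModule.surj (Submonoid.powers r)
      ({ toFun := res i E (X.basicOpen_le r)
         map_add' := map_add _
         map_smul' := (res i E (X.basicOpen_le r)).map_smulₛₗ } :
        Sec i E U.1 →ₗ[Γ(X, U.1)] Sec i E (X.basicOpen r)) x'
    exact ⟨n, η i E U.1 x, (η_res i E (X.basicOpen_le r) x).trans
      ((congrArg (η i E _) hn.symm).trans (((η i E (X.basicOpen r)).map_smul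
      (X.presheaf.map (homOfLE (X.basicOpen_le r)).op (r ^ n)) x')))⟩

/-- A morphism on sections as a linear map. -/
def appL {M N : X.Modules} (g : M ⟶ N) (U : X.Opens) : Γ(M, U) →ₗ[Γ(X, U)] Γ(N, U) where
  toFun := g.app U
  map_add' := map_add _
  map_smul' r x := Scheme.Modules.Hom.app_smul g r x

end

theorem isExtPow_tilde (R : CommRingCat.{u}) (M : ModuleCat.{u} R) (n : ℕ) :
    ExtPow.IsExtPow n (tilde (R := R) M) (tilde (R := R) (ModuleCat.of R ↥(⋀[R]^n M))) := by
  let E := tilde (R := R) (M)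
  have hE : Coh.IsQCoh E := (inferInstance : E.IsQuasicoherent)
  have hL := Groth.Agent.H22Alg.ExtPowSheaf.isExtPow_sheaf (i := n) hE
  let L := Groth.Agent.H22Alg.ExtPowSheaf.sheaf n E
  have hLq : Coh.IsQCoh L := isQCoh_sheaf hE
  obtain ⟨φ, hφ⟩ := hL
  let T : (Spec R).affineOpens := ⟨⊤, isAffineOpen_top _⟩
  let σ : R ≃+* Γ(Spec R, ⊤) := (Scheme.ΓSpecIso R).symm.commRingCatIsoToRingEquiv
  let ι := tilde.isoTop (R := R) (M)
  let g : M →ₛₗ[(σ : R →+* Γ(Spec R, ⊤))] Γ(E, ⊤) :=
    { toFun := fun m => ι.hom m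
      map_add' := fun a b => map_add ι.hom.hom a b
      map_smul' := fun r m => map_smul ι.hom.hom r m }
  let g' : Γ(E, ⊤) →ₛₗ[(σ.symm : Γ(Spec R, ⊤) →+* R)] M :=
    { toFun := fun m => ι.inv m
      map_add' := fun a b => map_add ι.inv.hom a b
      map_smul' := fun r m => by
        obtain ⟨r, rfl⟩ := σ.surjective r
        refine (ι.inv.hom.map_smul r m).trans ?_
        exact congrArg (· • ι.inv m) (σ.symm_apply_apply r).symm }
  let w := Groth.Agent.H22Alg.ExtPowAlg.wmap n _ g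
  let w' := Groth.Agent.H22Alg.ExtPowAlg.wmap n _ g'
  have h1 : ∀ x, w' (w x) = x := fun x =>
    (Groth.Agent.H22Alg.ExtPowAlg.wmap_comp n _ _ (RingHom.id R) (RingHom.ext σ.symm_apply_apply) g g'
      LinearMap.id (fun m => congr($(ι.hom_inv_id) m)) x).trans
      (Groth.Agent.H22Alg.ExtPowAlg.wmap_id n _ rfl LinearMap.id (fun _ => rfl) x)
  have h2 : ∀ x, w (w' x) = x := fun x =>
    (Groth.Agent.H22Alg.ExtPowAlg.wmap_comp n _ _ (RingHom.id _) (RingHom.ext σ.apply_symm_apply) g' g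
      LinearMap.id (fun m => congr($(ι.inv_hom_id) m)) x).trans
      (Groth.Agent.H22Alg.ExtPowAlg.wmap_id n _ rfl LinearMap.id (fun _ => rfl) x)
  let f : ↥(⋀[R]^n M) →ₗ[R] ((modulesSpecToSheaf (R := R).obj L).presheaf.obj (Opposite.op ⊤)) :=
    { toFun := fun x => (φ T).symm (w x)
      map_add' := fun a b => (congrArg (φ T).symm (map_add w a b)).trans (map_add (φ T).symm _ _)
      map_smul' := fun r x => (congrArg (φ T).symm (w.map_smulₛₗ r x)).trans ((φ T).symm.map_smul (σ r) _) }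
  have hf : Function.Bijective f :=
    (φ T).symm.bijective.comp (Function.bijective_iff_has_inverse.2 ⟨w', h1, h2⟩)
  haveI : L.IsQuasicoherent := hLq
  let eM : ModuleCat.of R ↥(⋀[R]^n M) ≅ (modulesSpecToSheaf (R := R).obj L).presheaf.obj (Opposite.op ⊤) :=
    LinearEquiv.toModuleIso (LinearEquiv.ofBijective f hf)
  let e : tilde (R := R) (ModuleCat.of R ↥(⋀[R]^n M)) ≅ L :=
    (tilde.functor R).mapIso eM ≪≫ @asIso _ _ _ _ (Scheme.Modules.fromTildeΓ (R := R) L)
      (Scheme.Modules.isIso_fromTildeΓ_of_isQuasicoherent (R := R) L)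
  let eU : ∀ U : (Spec R).affineOpens, Γ(tilde (R := R) (ModuleCat.of R ↥(⋀[R]^n M)), U.1) ≃ₗ[Γ(Spec R, U.1)]
      Γ(L, U.1) := fun U =>
    LinearEquiv.ofLinearMap (appL e.hom U.1) (appL e.inv U.1)
      (LinearMap.ext fun x => congr($(e.inv_hom_id).app U.1 x))
      (LinearMap.ext fun x => congr($(e.hom_inv_id).app U.1 x))
  refine ⟨fun U => (eU U).trans (φ U), fun U V h v => ?_⟩
  show _ = e.inv.app V.1 ((φ V).symm _)
  rw [← hφ U V h v]
  exact (congr($(e.inv.mapPresheaf.naturality (homOfLE h).op) ((φ U).symm (exteriorPower.ιMulti _ n v)))).symm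

end Groth.Agent.H17.TildeExtPow
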