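import Groth.Agent.H17.Cusp

/-! Towers of elementary extensions; relative (semi)normalization. -/

set_option autoImplicit false
universe u

open AlgebraicGeometry CategoryTheory

namespace Groth.Agent.H17.Tower

open UnivHomeoAlg

variable {A B : Type u} [CommRing A] [CommRing B] [Algebra A B]

/-- Each step of a list is elementary over the subalgebra generated by the previous ones. -/
def IsTower (P : Subalgebra A B → B → Prop) (l : List B) : Prop :=
  ∀ i : Fin l.length, P (Algebra.adjoin A {b : B | ∃ j : Fin l.length, j < i ∧ b = l.get j}) (l.get i)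

theorem IsTower.append {P : Subalgebra A B → B → Prop}
    (hP : ∀ (S T : Subalgebra A B) (b : B), S ≤ T → P S b → P T b) {l l' : List B}
    (h : IsTower P l) (h' : IsTower P l') : IsTower P (l ++ l') := by
  intro i
  by_cases hi : i.1 < l.length
  · have := h ⟨i, hi⟩
    rw [show (l ++ l').get i = l.get ⟨i, hi⟩ from by simp [List.getElem_append_left hi]]
    refine hP _ _ _ (Algebra.adjoin_mono ?_) this
    rintro _ ⟨j, hj, rfl⟩
    exact ⟨⟨j.1, by simp; omega⟩, hj, by simp [List.getElem_append_left j.2]⟩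
  · have hlt : i.1 - l.length < l'.length := by have := i.2; simp at this; omega
    have := h' ⟨i.1 - l.length, hlt⟩
    rw [show (l ++ l').get i = l'.get ⟨i.1 - l.length, hlt⟩ from by simp [List.getElem_append_right (not_lt.mp hi)]]
    refine hP _ _ _ (Algebra.adjoin_mono ?_) this
    rintro _ ⟨j, hj, rfl⟩
    have hj' : j.1 < i.1 - l.length := hj
    refine ⟨⟨l.length + j.1, by simp⟩, show l.length + j.1 < i.1 by omega, ?_⟩
    simp [List.getElem_append_right (Nat.le_add_right l.length j.1)]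

theorem IsTower.snoc {P : Subalgebra A B → B → Prop}
    (hP : ∀ (S T : Subalgebra A B) (b : B), S ≤ T → P S b → P T b) {l : List B}
    (h : IsTower P l) (b : B) (hb : P (Algebra.adjoin A {c : B | c ∈ l}) b) : IsTower P (l ++ [b]) := by
  intro i
  by_cases hi : i.1 < l.length
  · have := h ⟨i, hi⟩
    rw [show (l ++ [b]).get i = l.get ⟨i, hi⟩ from by simp [List.getElem_append_left hi]]
    refine hP _ _ _ (Algebra.adjoin_mono ?_) this
    rintro _ ⟨j, hj, rfl⟩
    exact ⟨⟨j.1, by simp⟩, hj, by simp [List.getElem_append_left j.2]⟩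
  · have hil : i.1 = l.length := by have := i.2; simp at this; omega
    rw [show (l ++ [b]).get i = b from by simp [List.getElem_append_right (not_lt.mp hi)]]
    refine hP _ _ _ (Algebra.adjoin_mono ?_) hb
    intro c hc
    obtain ⟨j, hj, rfl⟩ := List.getElem_of_mem hc
    exact ⟨⟨j, by simp; omega⟩, show j < i.1 by omega, by simp [List.getElem_append_left hj]⟩

/-- The subalgebra of elements reached by towers. -/
def reached (P : Subalgebra A B → B → Prop)
    (hP : ∀ (S T : Subalgebra A B) (b : B), S ≤ T → P S b → P T b) : Subalgebra A B where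
  carrier := {b | ∃ l, IsTower P l ∧ b ∈ Algebra.adjoin A {c : B | c ∈ l}}
  mul_mem' := by
    rintro x y ⟨l, hl, hx⟩ ⟨l', hl', hy⟩
    exact ⟨l ++ l', hl.append hP hl', mul_mem
      (Algebra.adjoin_mono (fun c hc => List.mem_append_left l' hc) hx)
      (Algebra.adjoin_mono (fun c hc => List.mem_append_right l hc) hy)⟩
  add_mem' := by
    rintro x y ⟨l, hl, hx⟩ ⟨l', hl', hy⟩
    exact ⟨l ++ l', hl.append hP hl', add_mem
      (Algebra.adjoin_mono (fun c hc => List.mem_append_left l' hc) hx)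
      (Algebra.adjoin_mono (fun c hc => List.mem_append_right l hc) hy)⟩
  algebraMap_mem' a := ⟨[], fun i => i.elim0, Subalgebra.algebraMap_mem _ a⟩

theorem exists_tower_finset {P : Subalgebra A B → B → Prop}
    {hP : ∀ (S T : Subalgebra A B) (b : B), S ≤ T → P S b → P T b} (E : Finset B)
    (hE : ∀ b ∈ E, b ∈ reached P hP) :
    ∃ l, (↑E : Set B) ⊆ Algebra.adjoin A {b : B | b ∈ l} ∧ IsTower P l := by
  classical
  induction E using Finset.induction_on with
  | empty => exact ⟨[], by simp, fun i => i.elim0⟩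
  | insert a E _ ih =>
    obtain ⟨l, hEl, hl⟩ := ih fun b hb => hE b (Finset.mem_insert_of_mem hb)
    obtain ⟨l', hl', ha⟩ := hE a (Finset.mem_insert_self a E)
    refine ⟨l ++ l', ?_, hl.append hP hl'⟩
    rw [Finset.coe_insert, Set.insert_subset_iff]
    exact ⟨Algebra.adjoin_mono (fun c hc => List.mem_append_right l hc) ha,
      hEl.trans (Algebra.adjoin_mono (fun c hc => List.mem_append_left l' hc))⟩

theorem reached_eq_top {P : Subalgebra A B → B → Prop}
    (hP : ∀ (S T : Subalgebra A B) (b : B), S ≤ T → P S b → P T b)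
    (hfin : ∀ (S : Subalgebra A B) (b : B), P S b → ∃ E : Finset B, (↑E : Set B) ⊆ S ∧ P (Algebra.adjoin A ↑E) b)
    (H : ∀ S : Subalgebra A B, S ≠ ⊤ → ∃ b, b ∉ S ∧ P S b) : reached P hP = ⊤ := by
  by_contra h
  obtain ⟨b, hb, hb'⟩ := H _ h
  obtain ⟨E, hE, hEb⟩ := hfin _ _ hb'
  obtain ⟨l, hEl, hl⟩ := exists_tower_finset E fun c hc => hE hc
  refine hb ⟨l ++ [b], hl.snoc hP b (hP _ _ _ (Algebra.adjoin_le hEl) hEb), Algebra.subset_adjoin ?_⟩
  simp

/-- Induction along a tower. -/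
theorem tower_induction {P : Subalgebra A B → B → Prop} {l : List B} (h : IsTower P l)
    (S : Subalgebra A B) (hstep : ∀ T b, T ≤ S → P T b → b ∈ S) : Algebra.adjoin A {b : B | b ∈ l} ≤ S := by
  refine Algebra.adjoin_le fun b hb => ?_
  obtain ⟨n, hn, rfl⟩ := List.getElem_of_mem hb
  induction n using Nat.strong_induction_on with
  | _ n ih =>
    refine hstep _ _ (Algebra.adjoin_le ?_) (h ⟨n, hn⟩)
    rintro _ ⟨j, hj, rfl⟩
    exact ih j.1 hj j.2 (List.getElem_mem j.2)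

def SqCube (S : Subalgebra A B) (b : B) : Prop := b ^ 2 ∈ S ∧ b ^ 3 ∈ S

def PRoot (S : Subalgebra A B) (b : B) : Prop :=
  SqCube S b ∨ ∃ p : ℕ, p.Prime ∧ (p : B) * b ∈ S ∧ b ^ p ∈ S

theorem sqCube_mono (S T : Subalgebra A B) (b : B) (h : S ≤ T) (hb : SqCube S b) : SqCube T b := ⟨h hb.1, h hb.2⟩

theorem pRoot_mono (S T : Subalgebra A B) (b : B) (h : S ≤ T) (hb : PRoot S b) : PRoot T b :=
  hb.imp (sqCube_mono S T b h) fun ⟨p, hp, h1, h2⟩ => ⟨p, hp, h h1, h h2⟩

theorem sqCube_fin (S : Subalgebra A B) (b : B) (hb : SqCube S b) :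
    ∃ E : Finset B, (↑E : Set B) ⊆ S ∧ SqCube (Algebra.adjoin A ↑E) b := by
  classical
  exact ⟨{b ^ 2, b ^ 3}, by simp [Set.insert_subset_iff, hb.1, hb.2],
    Algebra.subset_adjoin (by simp), Algebra.subset_adjoin (by simp)⟩

theorem pRoot_fin (S : Subalgebra A B) (b : B) (hb : PRoot S b) :
    ∃ E : Finset B, (↑E : Set B) ⊆ S ∧ PRoot (Algebra.adjoin A ↑E) b := by
  classical
  rcases hb with hb | ⟨p, hp, h1, h2⟩
  · obtain ⟨E, hE, hE'⟩ := sqCube_fin S b hb; exact ⟨E, hE, Or.inl hE'⟩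
  · exact ⟨{(p : B) * b, b ^ p}, by simp [Set.insert_subset_iff, h1, h2],
      Or.inr ⟨p, hp, Algebra.subset_adjoin (by simp), Algebra.subset_adjoin (by simp)⟩⟩

theorem pRoot_isIntegral {S : Subalgebra A B} (hS : S ≤ integralClosure A B) {b : B} (hb : PRoot S b) :
    b ∈ integralClosure A B := by
  rcases hb with ⟨h2, -⟩ | ⟨p, hp, -, h2⟩
  · exact IsIntegral.of_pow two_pos (hS h2)
  · exact IsIntegral.of_pow hp.pos (hS h2)

theorem pRoot_agree {S : Subalgebra A B} {L : Type u} [Field L] {ψ ψ' : B →+* L}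
    (hS : ∀ x ∈ S, ψ x = ψ' x) {b : B} (hb : PRoot S b) : ψ b = ψ' b := by
  rcases hb with ⟨h2, h3⟩ | ⟨p, hp, h1, h2⟩
  · have hx : ψ b ^ 2 = ψ' b ^ 2 := by rw [← map_pow, ← map_pow]; exact hS _ h2
    have hy : ψ b ^ 3 = ψ' b ^ 3 := by rw [← map_pow, ← map_pow]; exact hS _ h3
    by_cases h0 : ψ b = 0
    · rw [h0, zero_pow two_ne_zero, eq_comm, pow_eq_zero_iff two_ne_zero] at hx
      rw [h0, hx]
    · exact mul_left_cancel₀ (pow_ne_zero 2 h0) (by linear_combination hy - ψ' b * hx)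
  · by_cases hK : (p : L) = 0
    · have : CharP L p := CharP.charP_iff_prime_eq_zero hp |>.mpr hK
      have : Fact p.Prime := ⟨hp⟩
      exact frobenius_inj L p (show ψ b ^ p = ψ' b ^ p by rw [← map_pow, ← map_pow]; exact hS _ h2)
    · have := hS _ h1
      rw [map_mul, map_mul, map_natCast, map_natCast] at this
      exact mul_left_cancel₀ hK this

theorem sqCube_range {S : Subalgebra A B} {L : Type u} [Field L] {ψ : B →+* L} {F : Subfield L}
    (hS : ∀ x ∈ S, ψ x ∈ F) {b : B} (hb : SqCube S b) : ψ b ∈ F := by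
  have h2 : ψ b ^ 2 ∈ F := by rw [← map_pow]; exact hS _ hb.1
  have h3 : ψ b ^ 3 ∈ F := by rw [← map_pow]; exact hS _ hb.2
  by_cases h0 : ψ b = 0
  · rw [h0]; exact zero_mem F
  · rw [show ψ b = ψ b ^ 3 / ψ b ^ 2 by field_simp]; exact div_mem h3 h2

/-- The subalgebra of elements with prescribed values in field valued points. -/
theorem properties_of_towers (H : ∀ b : B, ∃ l, IsTower (PRoot (A := A)) l ∧ b ∈ Algebra.adjoin A {c : B | c ∈ l}) :
    Algebra.IsIntegral A B ∧ Uq A B := by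
  refine ⟨⟨fun b => ?_⟩, fun L _ ψ ψ' h => RingHom.ext fun b => ?_⟩
  · obtain ⟨l, hl, hb⟩ := H b
    exact tower_induction hl (integralClosure A B) (fun T c hT hc => pRoot_isIntegral hT hc) hb
  · obtain ⟨l, hl, hb⟩ := H b
    let S : Subalgebra A B :=
      { (RingHom.eqLocus ψ ψ').toSubsemiring with algebraMap_mem' := fun a => congr($h a) }
    exact tower_induction hl S (fun T c hT hc => pRoot_agree (fun x hx => hT hx) hc) hb

theorem rg_of_towers (H : ∀ b : B, ∃ l, IsTower (SqCube (A := A)) l ∧ b ∈ Algebra.adjoin A {c : B | c ∈ l}) : Rg A B := by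
  intro L _ ψ F hF b
  obtain ⟨l, hl, hb⟩ := H b
  let S : Subalgebra A B :=
    { (F.toSubring.comap ψ).toSubsemiring with algebraMap_mem' := hF }
  exact tower_induction hl S (fun T c hT hc => sqCube_range (ψ := ψ) (F := F) (fun x hx => hT hx) hc) hb

theorem exists_step (hi : Algebra.IsIntegral A B) (hu : Uq A B) (S : Subalgebra A B) (hS : S ≠ ⊤) :
    ∃ b, b ∉ S ∧ (PRoot S b ∧ (Rg A B → SqCube S b)) := by
  have : Algebra.IsIntegral S B := Algebra.IsIntegral.tower_top (R := A)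
  have hns : ¬ Function.Surjective (algebraMap S B) := fun h => hS (eq_top_iff.mpr fun b _ => by
    obtain ⟨a, rfl⟩ := h b; exact a.2)
  have hm : ∀ x : B, x ∈ (algebraMap S B).range ↔ x ∈ S := fun x =>
    ⟨fun ⟨a, ha⟩ => ha ▸ a.2, fun h => ⟨⟨x, h⟩, rfl⟩⟩
  rcases Cusp.exists_elementary (uq_top S hu) hns with ⟨b, h1, h2, h3⟩ | ⟨⟨p, b, hp, h1, h2, h3⟩, hr⟩
  · rw [hm] at h1 h2 h3
    exact ⟨b, h1, Or.inl ⟨h2, h3⟩, fun _ => ⟨h2, h3⟩⟩
  · rw [hm] at h1 h2 h3
    exact ⟨b, h1, Or.inr ⟨p, hp, h2, h3⟩, fun h => absurd (rg_top S h) hr⟩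

/-- The weak normalization of `A` in `B`. -/
theorem exists_maximal (hker : ∀ a, algebraMap A B a = 0 → IsNilpotent a) :
    (∃ B' : Subalgebra A B, (Algebra.IsIntegral A B' ∧ Uq A B' ∧ Lf A B') ∧
      ∀ S : Subalgebra A B, Algebra.IsIntegral A S → Uq A S → S ≤ B') ∧
    (∃ B' : Subalgebra A B, (Algebra.IsIntegral A B' ∧ Uq A B' ∧ Lf A B' ∧ Rg A B') ∧
      ∀ S : Subalgebra A B, Algebra.IsIntegral A S → Uq A S → Rg A S → S ≤ B') := by
  have hsup : ∀ S T : Subalgebra A B, Algebra.IsIntegral A S → Algebra.IsIntegral A T →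
      Algebra.IsIntegral A ↥(S ⊔ T) ∧ (Uq A S → Uq A T → Uq A ↥(S ⊔ T)) ∧
        (Rg A S → Rg A T → Rg A ↥(S ⊔ T)) := by
    intro S T hS hT
    have hle : S ⊔ T ≤ integralClosure A B := sup_le
      (fun x hx => (isIntegral_algHom_iff S.val Subtype.val_injective).mpr (hS.isIntegral ⟨x, hx⟩))
      (fun x hx => (isIntegral_algHom_iff T.val Subtype.val_injective).mpr (hT.isIntegral ⟨x, hx⟩))
    refine ⟨⟨fun x => (isIntegral_algHom_iff (S ⊔ T).val Subtype.val_injective).mp (hle x.2)⟩, ?_, ?_⟩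
    · intro uS uT L _ ψ ψ' h
      let Z : Subalgebra A ↥(S ⊔ T) :=
        { (RingHom.eqLocus ψ ψ').toSubsemiring with algebraMap_mem' := fun a => congr($h a) }
      have h1 : S ≤ Z.map (S ⊔ T).val := fun x hx => ⟨⟨x, le_sup_left (b := T) hx⟩,
        congr($(uS L (ψ.comp (Subalgebra.inclusion (le_sup_left : S ≤ S ⊔ T)).toRingHom)
          (ψ'.comp (Subalgebra.inclusion (le_sup_left : S ≤ S ⊔ T)).toRingHom)
          (RingHom.ext fun a => congr($h a))) ⟨x, hx⟩), rfl⟩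
      have h2 : T ≤ Z.map (S ⊔ T).val := fun x hx => ⟨⟨x, le_sup_right (a := S) hx⟩,
        congr($(uT L (ψ.comp (Subalgebra.inclusion (le_sup_right : T ≤ S ⊔ T)).toRingHom)
          (ψ'.comp (Subalgebra.inclusion (le_sup_right : T ≤ S ⊔ T)).toRingHom)
          (RingHom.ext fun a => congr($h a))) ⟨x, hx⟩), rfl⟩
      refine RingHom.ext fun x => ?_
      obtain ⟨y, hy, hy'⟩ := sup_le h1 h2 x.2
      rw [show x = y from Subtype.ext hy'.symm]; exact hy
    · intro rS rT L _ ψ F hF x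
      let Z : Subalgebra A ↥(S ⊔ T) :=
        { (F.toSubring.comap ψ).toSubsemiring with algebraMap_mem' := hF }
      have h1 : S ≤ Z.map (S ⊔ T).val := fun y hy => ⟨⟨y, le_sup_left (b := T) hy⟩,
        rS L (ψ.comp (Subalgebra.inclusion (le_sup_left : S ≤ S ⊔ T)).toRingHom) F (fun a => hF a) ⟨y, hy⟩, rfl⟩
      have h2 : T ≤ Z.map (S ⊔ T).val := fun y hy => ⟨⟨y, le_sup_right (a := S) hy⟩,
        rT L (ψ.comp (Subalgebra.inclusion (le_sup_right : T ≤ S ⊔ T)).toRingHom) F (fun a => hF a) ⟨y, hy⟩, rfl⟩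
      obtain ⟨y, hy, hy'⟩ := sup_le h1 h2 x.2
      rw [show x = y from Subtype.ext hy'.symm]; exact hy
  have hbot : Algebra.IsIntegral A ↥(⊥ : Subalgebra A B) ∧ Uq A ↥(⊥ : Subalgebra A B) ∧
      Rg A ↥(⊥ : Subalgebra A B) := by
    have hsurj : Function.Surjective (algebraMap A ↥(⊥ : Subalgebra A B)) := fun x => by
      obtain ⟨a, ha⟩ := Algebra.mem_bot.mp x.2; exact ⟨a, Subtype.ext ha⟩
    refine ⟨⟨fun x => by obtain ⟨a, rfl⟩ := hsurj x; exact isIntegral_algebraMap⟩, ?_, ?_⟩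
    · intro L _ ψ ψ' h; exact RingHom.ext fun x => by obtain ⟨a, rfl⟩ := hsurj x; exact congr($h a)
    · intro L _ ψ F hF x; obtain ⟨a, rfl⟩ := hsurj x; exact hF a
  have hdir : ∀ (Q : Subalgebra A B → Prop), Q ⊥ → (∀ S T, Q S → Q T → Q (S ⊔ T)) →
      ∃ B' : Subalgebra A B, (∀ S, Q S → S ≤ B') ∧ ∀ x ∈ B', ∃ S, Q S ∧ x ∈ S := fun Q hb hs =>
    ⟨{ carrier := {x | ∃ S, Q S ∧ x ∈ S}
       mul_mem' := fun {x y} ⟨S, hS, hx⟩ ⟨T, hT, hy⟩ =>
         ⟨S ⊔ T, hs S T hS hT, mul_mem ((le_sup_left : S ≤ S ⊔ T) hx) ((le_sup_right : T ≤ S ⊔ T) hy)⟩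
       add_mem' := fun {x y} ⟨S, hS, hx⟩ ⟨T, hT, hy⟩ =>
         ⟨S ⊔ T, hs S T hS hT, add_mem ((le_sup_left : S ≤ S ⊔ T) hx) ((le_sup_right : T ≤ S ⊔ T) hy)⟩
       algebraMap_mem' := fun a => ⟨⊥, hb, Subalgebra.algebraMap_mem _ a⟩ },
      fun S hS x hx => ⟨S, hS, hx⟩, fun x hx => hx⟩
  have hprop : ∀ (Q : Subalgebra A B → Prop) (B' : Subalgebra A B), (∀ S, Q S → S ≤ B') →
      (∀ x ∈ B', ∃ S, Q S ∧ x ∈ S) → (∀ S, Q S → Algebra.IsIntegral A S ∧ Uq A S) →
      Algebra.IsIntegral A B' ∧ Uq A B' ∧ Lf A B' ∧ ((∀ S, Q S → Rg A S) → Rg A B') := by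
    intro Q B' hle hmem hQ
    have hi : Algebra.IsIntegral A B' := ⟨fun x => by
      obtain ⟨S, hS, hx⟩ := hmem x x.2
      exact (isIntegral_algHom_iff B'.val Subtype.val_injective).mp
        ((isIntegral_algHom_iff S.val Subtype.val_injective).mpr ((hQ S hS).1.isIntegral ⟨x, hx⟩))⟩
    refine ⟨hi, ?_, lf_of_integral fun a ha => hker a congr(($ha : B)), ?_⟩
    · intro L _ ψ ψ' h
      refine RingHom.ext fun x => ?_
      obtain ⟨S, hS, hx⟩ := hmem x x.2
      exact congr($((hQ S hS).2 L (ψ.comp (Subalgebra.inclusion (hle S hS)).toRingHom)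
        (ψ'.comp (Subalgebra.inclusion (hle S hS)).toRingHom) (RingHom.ext fun a => congr($h a))) ⟨x, hx⟩)
    · intro hR L _ ψ F hF x
      obtain ⟨S, hS, hx⟩ := hmem x x.2
      exact hR S hS L (ψ.comp (Subalgebra.inclusion (hle S hS)).toRingHom) F (fun a => hF a) ⟨x, hx⟩
  refine ⟨?_, ?_⟩
  · obtain ⟨B', h1, h2⟩ := hdir (fun S => Algebra.IsIntegral A S ∧ Uq A S) ⟨hbot.1, hbot.2.1⟩
      fun S T hS hT => ⟨(hsup S T hS.1 hT.1).1, (hsup S T hS.1 hT.1).2.1 hS.2 hT.2⟩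
    obtain ⟨a, b, c, -⟩ := hprop _ B' h1 h2 fun S hS => hS
    exact ⟨B', ⟨a, b, c⟩, fun S hS hu => h1 S ⟨hS, hu⟩⟩
  · obtain ⟨B', h1, h2⟩ := hdir (fun S => Algebra.IsIntegral A S ∧ Uq A S ∧ Rg A S) hbot
      fun S T hS hT => ⟨(hsup S T hS.1 hT.1).1, (hsup S T hS.1 hT.1).2.1 hS.2.1 hT.2.1,
        (hsup S T hS.1 hT.1).2.2 hS.2.2 hT.2.2⟩
    obtain ⟨a, b, c, d⟩ := hprop _ B' h1 h2 fun S hS => ⟨hS.1, hS.2.1⟩
    exact ⟨B', ⟨a, b, c, d fun S hS => hS.2.2⟩, fun S hS hu hr => h1 S ⟨hS, hu, hr⟩⟩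

theorem uq_range {C : Type u} [CommRing C] [Algebra A C] (g : C →ₐ[A] B) (hu : Uq A C) : Uq A g.range :=
  fun L _ ψ ψ' h => RingHom.ext fun x => by
    obtain ⟨_, c, rfl⟩ := x
    exact congr($(hu L (ψ.comp g.rangeRestrict.toRingHom) (ψ'.comp g.rangeRestrict.toRingHom)
      (RingHom.ext fun a => by simpa using congr($h a))) c)

theorem rg_range {C : Type u} [CommRing C] [Algebra A C] (g : C →ₐ[A] B) (hr : Rg A C) : Rg A g.range :=
  fun L _ ψ F hF x => by
    obtain ⟨_, c, rfl⟩ := x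
    exact hr L (ψ.comp g.rangeRestrict.toRingHom) F (fun a => by simpa using hF a) c

theorem isIntegral_range {C : Type u} [CommRing C] [Algebra A C] (g : C →ₐ[A] B) (hi : Algebra.IsIntegral A C) :
    Algebra.IsIntegral A g.range := ⟨fun x => by
  obtain ⟨c, hc⟩ := g.rangeRestrict_surjective x
  exact hc ▸ (hi.isIntegral c).map g.rangeRestrict⟩

theorem isNilpotent_of_isDominant [IsDominant (Spec.map (CommRingCat.ofHom (algebraMap A B)))]
    (a : A) (ha : algebraMap A B a = 0) : IsNilpotent a := by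
  have hd : DenseRange (PrimeSpectrum.comap (algebraMap A B)) :=
    (Spec.map (CommRingCat.ofHom (algebraMap A B))).denseRange
  exact (PrimeSpectrum.denseRange_comap_iff_ker_le_nilRadical _).mp hd (RingHom.mem_ker.mpr ha)

end Groth.Agent.H17.Tower
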