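import Groth.Agent.H11Ample.Extend
import Groth.Agent.H29Blow.QCohLoc

/-! Sections vanishing on `X_s` are killed by powers of `s`; sections over `X_s` extend after twisting. -/

set_option autoImplicit false
set_option linter.style.haveILetI false

noncomputable section

universe u

open CategoryTheory AlgebraicGeometry Opposite TopologicalSpace
open Groth.Agent.H11Tilde Groth.Agent.H11Ample

namespace Groth.Agent.H17.TwistSections

variable {X : Scheme.{u}} {L F : X.Modules}

theorem exists_tm_spow_eq_zero [CompactSpace X] (hL : PicF.IsInvertible L) (hF : Coh.IsQCoh F) (g : Γ(L, ⊤))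
    (t : Γ(F, ⊤)) (ht : F.presheaf.map (homOfLE (le_top : gen L g ≤ ⊤)).op t = 0) :
    ∃ n : ℕ, 0 < n ∧ tm t (spow g n) = 0 := by
  obtain ⟨J, hJ, V, e, hV, he, hcov⟩ := exists_finite_gen_cover hL
  haveI := Fintype.ofFinite J
  choose c hc using fun j => exists_coeff (he j) (L.presheaf.map (homOfLE (le_top : V j ≤ ⊤)).op g)
  have hloc : ∀ j, ∃ p : ℕ, c j ^ p • F.presheaf.map (homOfLE (le_top : V j ≤ ⊤)).op t = 0 := fun j => by
    refine H29Blow.exists_pow_smul_eq_zero F hF (hV j) (c j) _ ?_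
    have hle : X.basicOpen (c j) ≤ gen L g := (gen_inf_eq_basicOpen (he j) g (c j) (hc j)).ge.trans inf_le_left
    rw [H10Coh.mres_mres]
    have h := congrArg (F.presheaf.map (homOfLE hle).op) ht
    rw [H10Coh.mres_mres, map_zero] at h
    exact h
  choose p hp using hloc
  refine ⟨Finset.univ.sup p + 1, Nat.succ_pos _, ?_⟩
  refine eq_of_locally _ _ fun x _ => ?_
  obtain ⟨j, hj⟩ := hcov x
  refine ⟨V j, le_top, hj, ?_⟩
  rw [tm_res, spow_res, hc j, spow_smul, tm_smul_right, ← tm_smul_left, map_zero]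
  have h0 : c j ^ (Finset.univ.sup p + 1) • F.presheaf.map (homOfLE (le_top : V j ≤ ⊤)).op t = 0 := by
    obtain ⟨d, hd⟩ := Nat.exists_eq_add_of_le ((Finset.le_sup (f := p) (Finset.mem_univ j)).trans (Nat.le_succ _))
    rw [show Finset.univ.sup p + 1 = d + p j by omega, pow_add, mul_smul, hp j, smul_zero]
  rw [h0, show (0 : Γ(F, V j)) = (0 : Γ(X, V j)) • (0 : Γ(F, V j)) from (zero_smul _ _).symm, tm_smul_left, zero_smul]

theorem exists_extend_twist [CompactSpace X] [QuasiSeparatedSpace X] (hL : PicF.IsInvertible L) (hF : Coh.IsQCoh F)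
    (g : Γ(L, ⊤)) (t : Γ(F, gen L g)) :
    ∃ n : ℕ, 0 < n ∧ ∃ t' : Γ(CohB1.tensorMod F (CohB1.tensorPow L n), ⊤),
      (CohB1.tensorMod F (CohB1.tensorPow L n)).presheaf.map (homOfLE (le_top : gen L g ≤ ⊤)).op t' =
        tm t (spow (L.presheaf.map (homOfLE (le_top : gen L g ≤ ⊤)).op g) n) := by
  have hG : gen (CohB1.tensorPow L 1) (spow g 1) = gen L g := gen_spow hL g 1 one_pos
  let e₀ := L.presheaf.map (homOfLE ((hG.le.trans le_top) : gen (CohB1.tensorPow L 1) (spow g 1) ≤ ⊤)).op g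
  obtain ⟨N, hN⟩ := exists_extend hL hF 1 0 (spow g 1)
    (tm (F.presheaf.map (homOfLE hG.le).op t) (spow e₀ 0))
  obtain ⟨S, hS⟩ := hN (N + 1) (Nat.le_succ _)
  have key : ∀ (m : ℕ) (S : Γ(CohB1.tensorMod F (CohB1.tensorPow L m), ⊤)),
      (CohB1.tensorMod F (CohB1.tensorPow L m)).presheaf.map (homOfLE (le_top : gen L g ≤ ⊤)).op S =
        tm t (spow (L.presheaf.map (homOfLE (le_top : gen L g ≤ ⊤)).op g) m) → m = N + 1 →
      ∃ t' : Γ(CohB1.tensorMod F (CohB1.tensorPow L (N + 1)), ⊤),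
        (CohB1.tensorMod F (CohB1.tensorPow L (N + 1))).presheaf.map (homOfLE (le_top : gen L g ≤ ⊤)).op t' =
          tm t (spow (L.presheaf.map (homOfLE (le_top : gen L g ≤ ⊤)).op g) (N + 1)) := by
    rintro m S h rfl
    exact ⟨S, h⟩
  refine ⟨N + 1, Nat.succ_pos _, key _ S ?_ (by omega)⟩
  have h := hS (gen L g) hG.ge (L.presheaf.map (homOfLE (le_top : gen L g ≤ ⊤)).op g) t 1
    (isGen_gen g)
    (by rw [tm_res, spow_res, H10Coh.mres_mres, H10Coh.mres_mres, H10Coh.mres_self])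
    (by rw [spow_res, one_smul])
  rwa [one_pow, one_smul] at h

end Groth.Agent.H17.TwistSections
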