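import Groth.Agent.H22Alg.NormalizationDimOne
import Groth.Agent.H7Flat.UnivHomeo
import Groth.Prelude.Def_CAlg2
import Mathlib.RingTheory.Ideal.GoingUp
import Mathlib.FieldTheory.Perfect

/-! Geometrically unibranch integral schemes: the normalization is a universal homeomorphism. -/

set_option autoImplicit false
set_option linter.style.haveILetI false
universe u
open CategoryTheory CategoryTheory.Limits AlgebraicGeometry TopologicalSpace Opposite

namespace Groth.Agent.H17.UnibranchNormalization

theorem eq_of_points {A R K L : Type u} [CommRing A] [CommRing R] [IsLocalRing R] [Field K] [Field L]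
    [Algebra A R] (p : Ideal A) [p.IsPrime] [IsLocalization.AtPrime R p] [Algebra R K] [Algebra A K]
    [IsScalarTower A R K] [IsLocalRing (integralClosure R K)]
    (H : ∀ x : integralClosure R K ⧸ IsLocalRing.maximalIdeal (integralClosure R K),
      ∃ (n : ℕ) (r : R), Ideal.Quotient.mk _ (algebraMap R (integralClosure R K) r) =
        x ^ (ringExpChar (integralClosure R K ⧸ IsLocalRing.maximalIdeal (integralClosure R K))) ^ n)
    (φ₁ φ₂ : integralClosure A K →+* L) (φ : A →+* L)
    (h₁ : φ₁.comp (algebraMap A _) = φ) (h₂ : φ₂.comp (algebraMap A _) = φ) (hp : RingHom.ker φ = p) :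
    φ₁ = φ₂ := by
  let C := integralClosure R K
  let m : Ideal C := IsLocalRing.maximalIdeal C
  let ι : integralClosure A K →+* C :=
    (integralClosure A K).val.toRingHom.codRestrict C.toSubring fun b => b.2.tower_top
  let j : A →+* C := (algebraMap R C).comp (algebraMap A R)
  have hj : ∀ a, ι (algebraMap A _ a) = j a := fun a => Subtype.ext (IsScalarTower.algebraMap_apply A R K a)
  have hmA : m.comap j = p := by
    haveI : (m.comap (algebraMap R C)).IsMaximal := Ideal.isMaximal_comap_of_isIntegral_of_isMaximal m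
    rw [← Ideal.comap_comap, IsLocalRing.eq_maximalIdeal ‹(m.comap (algebraMap R C)).IsMaximal›]
    exact IsLocalization.AtPrime.under_maximalIdeal R p
  have hker : ∀ (ψ : integralClosure A K →+* L), ψ.comp (algebraMap A _) = φ →
      ∀ b, ι b ∈ m → ψ b = 0 := by
    intro ψ hψ b hb
    let P := RingHom.ker ψ
    haveI : P.IsPrime := RingHom.ker_isPrime _
    have hPA : P.comap (algebraMap A _) = p := by rw [RingHom.comap_ker, hψ, hp]
    have hle : P ≤ m.comap ι := by
      let Q : Ideal C :=
        { carrier := {c | ∃ s ∉ p, ∃ b ∈ P, j s * c = ι b}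
          zero_mem' := ⟨1, p.primeCompl.one_mem, 0, P.zero_mem, by simp⟩
          add_mem' := by
            rintro c c' ⟨s, hs, b, hb, e⟩ ⟨s', hs', b', hb', e'⟩
            refine ⟨s * s', p.primeCompl.mul_mem hs hs', algebraMap A _ s' * b + algebraMap A _ s * b',
              P.add_mem (P.mul_mem_left _ hb) (P.mul_mem_left _ hb'), ?_⟩
            rw [map_add, map_mul, map_mul, map_mul, hj, hj, ← e, ← e']; ring
          smul_mem' := by
            rintro r c ⟨s, hs, b, hb, e⟩
            obtain ⟨⟨t, ht⟩, hti⟩ := IsIntegral.exists_multiple_integral_of_isLocalization p.primeCompl (r : K) r.2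
            refine ⟨t * s, p.primeCompl.mul_mem ht hs, ⟨_, hti⟩ * b, P.mul_mem_left _ hb, ?_⟩
            rw [map_mul, map_mul ι, ← e, smul_eq_mul]
            have : ι ⟨_, hti⟩ = j t * r := Subtype.ext (by
              show t • (r : K) = algebraMap R K (algebraMap A R t) * r
              rw [Algebra.smul_def, IsScalarTower.algebraMap_apply A R K])
            rw [this]; ring }
      have hQ : Q ≠ ⊤ := by
        intro h
        obtain ⟨s, hs, b, hb, e⟩ := (show (1 : C) ∈ Q from h ▸ trivial)
        rw [mul_one, ← hj] at e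
        refine hs ?_
        rw [← hPA]
        show algebraMap A _ s ∈ P
        have h2 : (algebraMap A (integralClosure A K) s : K) = (b : K) := congrArg (fun c : C => (c : K)) e
        rw [Subtype.ext h2]
        exact hb
      intro b hb
      exact IsLocalRing.le_maximalIdeal hQ ⟨1, p.primeCompl.one_mem, b, hb, by rw [map_one, one_mul]⟩
    by_contra hb0
    have := Ideal.comap_lt_comap_of_integral_mem_sdiff (R := A) hle ⟨hb, hb0⟩
      (Algebra.IsIntegral.isIntegral b)
    rw [hPA, Ideal.comap_comap, show ι.comp (algebraMap A _) = j from RingHom.ext hj, hmA] at this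
    exact lt_irrefl _ this
  let k := C ⧸ m
  letI : Field k := Ideal.Quotient.field m
  let φk : A ⧸ p →+* k := Ideal.Quotient.lift p ((Ideal.Quotient.mk m).comp j) fun a ha =>
    Ideal.Quotient.eq_zero_iff_mem.2 (by rw [← hmA] at ha; exact ha)
  let φL : A ⧸ p →+* L := Ideal.Quotient.lift p φ fun a ha => by rw [← hp] at ha; exact ha
  have hφk : Function.Injective φk := RingHom.lift_injective_of_ker_le_ideal p _ fun a ha => by
    rw [← hmA]; show j a ∈ m; exact Ideal.Quotient.eq_zero_iff_mem.1 (ha : Ideal.Quotient.mk m (j a) = 0)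
  have hφL : Function.Injective φL := RingHom.lift_injective_of_ker_le_ideal p _ fun a ha => by
    rw [← hp]; exact ha
  set q := ringExpChar k with hq
  haveI : ExpChar k q := ringExpChar.of_eq hq.symm
  haveI : ExpChar (A ⧸ p) q := (φk.expChar_iff hφk q).2 inferInstance
  haveI : ExpChar L q := expChar_of_injective_ringHom hφL q
  ext b
  obtain ⟨n, r, hr⟩ := H (Ideal.Quotient.mk m (ι b))
  obtain ⟨⟨a, s⟩, rfl⟩ : ∃ y : A × p.primeCompl, IsLocalization.mk' R y.1 y.2 = r := by
    obtain ⟨a, s, h⟩ := IsLocalization.exists_mk'_eq p.primeCompl r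
    exact ⟨(a, s), h⟩
  let d := b ^ q ^ n * algebraMap A _ (s : A) - algebraMap A _ a
  have hd : ι d ∈ m := by
    rw [← Ideal.Quotient.eq_zero_iff_mem]
    simp only [d, map_sub, map_mul, map_pow, hj]
    rw [← show Ideal.Quotient.mk m (algebraMap R C (IsLocalization.mk' R a s)) = _ ^ q ^ n from hr,
      ← map_mul, show j (s : A) = algebraMap R C (algebraMap A R (s : A)) from rfl, ← map_mul,
      IsLocalization.mk'_spec, show j a = algebraMap R C (algebraMap A R a) from rfl, sub_self]
  have e₁ := hker φ₁ h₁ d hd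
  have e₂ := hker φ₂ h₂ d hd
  simp only [d, map_sub, map_mul, map_pow, ← RingHom.comp_apply, h₁, h₂, sub_eq_zero] at e₁ e₂
  have hs : φ s ≠ 0 := fun h => s.2 (hp.le h)
  exact iterateFrobenius_inj L q n (mul_right_cancel₀ hs (e₁.trans e₂.symm))

theorem isUnivHomeo_normalizationι (X : Scheme.{u}) [IsIntegral X]
    [QuasiCompact (X.fromSpecStalk (genericPoint ↥X))] [QuasiSeparated (X.fromSpecStalk (genericPoint ↥X))]
    (hX : ∀ x : X, CAlg2.IsGeomUnibranch (X.presheaf.stalk x)) :
    FlatMor.IsUnivHomeo (Curv2.normalizationι X) := by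
  classical
  haveI hint := H22Alg.NormalizationDimOne.isIntegralHom_normalizationι X
  rw [H7Flat.isUnivHomeo_iff]
  refine ⟨hint, ?_, ⟨?_⟩⟩
  · refine ((tfae_universallyInjective _).out 0 1).2 fun L hL a b hab => ?_
    letI := hL
    change a ≫ Curv2.normalizationι X = b ≫ Curv2.normalizationι X at hab
    let x := Curv2.normalizationι X (a (IsLocalRing.closedPoint L))
    obtain ⟨U, hU, hxU, -⟩ := exists_isAffineOpen_mem_and_subset (Set.mem_univ x) (U := (⊤ : X.Opens))
    haveI : Nonempty U := ⟨⟨_, hxU⟩⟩
    let U' := Curv2.normalizationι X ⁻¹ᵁ U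
    have hU' : IsAffineOpen U' := hU.preimage _
    have hlift : ∀ c : Spec (.of L) ⟶ Curv2.normalization X,
        c ≫ Curv2.normalizationι X = a ≫ Curv2.normalizationι X →
        ∃ ψ, Spec.map ψ ≫ hU'.fromSpec = c := by
      intro c hc
      have hsub : Set.range c ⊆ Set.range hU'.fromSpec := by
        rw [hU'.range_fromSpec]
        rintro _ ⟨z, rfl⟩
        obtain rfl : z = IsLocalRing.closedPoint L := Subsingleton.elim _ _
        show Curv2.normalizationι X (c _) ∈ U
        rw [← Scheme.Hom.comp_apply, hc]
        exact hxU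
      exact ⟨Spec.preimage (IsOpenImmersion.lift hU'.fromSpec c hsub), by
        rw [Spec.map_preimage, IsOpenImmersion.lift_fac]⟩
    obtain ⟨α, rfl⟩ := hlift a rfl
    obtain ⟨β, rfl⟩ := hlift b hab.symm
    congr 2
    let ν := Curv2.normalizationι X
    simp only [Category.assoc, ← hU.SpecMap_appLE_fromSpec _ hU' le_rfl, ← Spec.map_comp_assoc,
      cancel_mono] at hab
    have hαβ := Spec.map_injective hab
    rw [← Scheme.Hom.app_eq_appLE] at hαβ
    let φ := ν.app U ≫ α
    let p := RingHom.ker φ.hom
    haveI : p.IsPrime := RingHom.ker_isPrime _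
    let y : X := hU.fromSpec ⟨p, inferInstance⟩
    have hyU : y ∈ U := by
      have := Set.mem_range_self (f := hU.fromSpec) (⟨p, inferInstance⟩ : PrimeSpectrum Γ(X, U))
      rwa [hU.range_fromSpec] at this
    have hpy : (hU.primeIdealOf ⟨y, hyU⟩).asIdeal = p := congrArg PrimeSpectrum.asIdeal
      (hU.fromSpec.isEmbedding.injective (hU.fromSpec_primeIdealOf ⟨y, hyU⟩) :
        hU.primeIdealOf ⟨y, hyU⟩ = ⟨p, inferInstance⟩)
    let O := X.presheaf.stalk y
    letI := X.presheaf.algebra_section_stalk (U := U) ⟨y, hyU⟩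
    haveI : IsLocalization.AtPrime O p := by
      haveI := hU.isLocalization_stalk ⟨y, hyU⟩
      convert this <;> exact hpy.symm
    obtain ⟨⟨hdom, hloc⟩, hres⟩ := hX y
    let R := CAlg2.red O
    haveI : IsLocalRing R := .of_surjective' (Ideal.Quotient.mk (nilradical O)) Ideal.Quotient.mk_surjective
    have hnil : nilradical O = ⊥ := nilradical_eq_zero O
    let eR : O ≃ₐ[Γ(X, U)] R := AlgEquiv.ofBijective (Ideal.Quotient.mkₐ Γ(X, U) (nilradical O))
      ⟨fun s t h => by
        have h' : s - t ∈ nilradical O := Ideal.Quotient.eq.1 h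
        rw [hnil] at h'
        exact sub_eq_zero.1 h', Ideal.Quotient.mk_surjective⟩
    haveI : IsLocalization.AtPrime R p := IsLocalization.isLocalization_of_algEquiv p.primeCompl eR
    let K := FractionRing R
    have hinjR : Function.Injective (algebraMap Γ(X, U) R) :=
      IsLocalization.injective R p.primeCompl_le_nonZeroDivisors
    haveI : FaithfulSMul Γ(X, U) K := (faithfulSMul_iff_algebraMap_injective _ _).2 (by
      rw [IsScalarTower.algebraMap_eq Γ(X, U) R K]
      exact (IsFractionRing.injective R K).comp hinjR)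
    have hK : IsFractionRing Γ(X, U) K := IsFractionRing.of_field Γ(X, U) K fun z => by
      obtain ⟨r, r', -, rfl⟩ := IsFractionRing.div_surjective (A := R) z
      obtain ⟨a, s, rfl⟩ := IsLocalization.exists_mk'_eq p.primeCompl r
      obtain ⟨a', s', rfl⟩ := IsLocalization.exists_mk'_eq p.primeCompl r'
      have h : ∀ (c : Γ(X, U)) (t : p.primeCompl), algebraMap R K (IsLocalization.mk' R c t) =
          algebraMap Γ(X, U) K c / algebraMap Γ(X, U) K t := fun c t => by
        rw [eq_div_iff ((map_ne_zero_iff _ (FaithfulSMul.algebraMap_injective Γ(X, U) K)).2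
            (show (t : Γ(X, U)) ≠ 0 from fun h0 => t.2 (show (t : Γ(X, U)) ∈ p by rw [h0]; exact p.zero_mem))),
          IsScalarTower.algebraMap_apply Γ(X, U) R K (t : Γ(X, U)),
          ← map_mul, IsLocalization.mk'_spec, ← IsScalarTower.algebraMap_apply]
      exact ⟨a * s', s * a', by rw [h, h, map_mul, map_mul, div_div_div_eq]⟩
    haveI := functionField_isFractionRing_of_isAffineOpen X U hU
    obtain ⟨θ, hθ⟩ := H22Alg.NormalizationDimOne.exists_obj_iso X hU
    let e : K ≃ₐ[Γ(X, U)] X.functionField :=
      @IsLocalization.algEquiv _ _ (nonZeroDivisors Γ(X, U)) K _ _ hK X.functionField _ _ _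
    let Θ := e.mapIntegralClosure.toRingEquiv.trans θ
    have hΘ : ∀ c, Θ (algebraMap _ _ c) = ν.app U c := fun c => by
      show θ (e.mapIntegralClosure (algebraMap _ _ c)) = _
      rw [AlgEquiv.commutes, hθ]
    haveI : IsLocalRing (integralClosure R K) := hloc
    have key := eq_of_points (R := R) (K := K) p (fun z => by
      obtain ⟨n, r, hr⟩ := hres (IsLocalRing.maximalIdeal (integralClosure R K)) z
      exact ⟨n, Ideal.Quotient.mk _ r, hr⟩) (α.hom.comp Θ.toRingHom) (β.hom.comp Θ.toRingHom) φ.hom
      (RingHom.ext fun c => congrArg α (hΘ c))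
      (RingHom.ext fun c => (congrArg β (hΘ c)).trans congr($hαβ c).symm) rfl
    ext c
    obtain ⟨c, rfl⟩ := Θ.surjective c
    exact congr($key c)
  · intro z
    have hcl : IsClosed (Set.range (Curv2.normalizationι X)) :=
      (Curv2.normalizationι X).isClosedMap.isClosed_range
    have hη : genericPoint X ∈ Set.range (Curv2.normalizationι X) := by
      refine ⟨(X.fromSpecStalk (genericPoint X)).toNormalization (IsLocalRing.closedPoint _), ?_⟩
      show (X.fromSpecStalk (genericPoint X)).fromNormalization _ = _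
      rw [← Scheme.Hom.comp_apply, Scheme.Hom.toNormalization_fromNormalization,
        Scheme.fromSpecStalk_closedPoint]
    exact (genericPoint_specializes z).mem_closed hcl hη

end Groth.Agent.H17.UnibranchNormalization
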