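import Mathlib.AlgebraicGeometry.Morphisms.FormallyUnramified
import Mathlib.AlgebraicGeometry.Limits
import Mathlib.RingTheory.Unramified.Field

set_option autoImplicit false
universe u
open CategoryTheory Limits AlgebraicGeometry

namespace Groth.Agent.H17.Unramified

theorem formallyUnramified_coprod_spec_separable (k : Type u) [Field k] {ι : Type u} (K : ι → Type u)
    [∀ i, Field (K i)] [∀ i, Algebra k (K i)]
    (h : ∀ i, FiniteDimensional k (K i) ∧ Algebra.IsSeparable k (K i)) :
    FormallyUnramified (Sigma.desc (fun i => Spec.map (CommRingCat.ofHom (algebraMap k (K i))))) ∧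
      LocallyOfFiniteType (Sigma.desc (fun i => Spec.map (CommRingCat.ofHom (algebraMap k (K i))))) := by
  constructor
  · refine IsZariskiLocalAtSource.sigmaDesc (P := @FormallyUnramified) fun i => ?_
    have := (h i).1; have := (h i).2
    rw [HasRingHomProperty.Spec_iff (P := @FormallyUnramified)]
    exact RingHom.formallyUnramified_algebraMap.mpr (Algebra.FormallyUnramified.of_isSeparable k (K i))
  · refine IsZariskiLocalAtSource.sigmaDesc (P := @LocallyOfFiniteType) fun i => ?_
    have := (h i).1
    rw [HasRingHomProperty.Spec_iff (P := @LocallyOfFiniteType)]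
    exact RingHom.finiteType_algebraMap.mpr inferInstance

end Groth.Agent.H17.Unramified
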