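import Groth.Agent.H17.QcImage
import Mathlib.AlgebraicGeometry.ValuativeCriterion
import Mathlib.RingTheory.Valuation.ValuationSubring
import Mathlib.RingTheory.LocalRing.ResidueField.Basic

/-! Valuative criteria tested on squares factoring through a dense quasi-compact morphism. -/

set_option autoImplicit false
universe u
open CategoryTheory Limits AlgebraicGeometry IsLocalRing

namespace Groth.Agent.H17.ValuativeDense

theorem exists_composite {O R K L : Type u} [CommRing O] [IsLocalRing O] [CommRing R] [IsDomain R]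
    [ValuationRing R] [Field K] [Algebra R K] [IsFractionRing R K] [Field L]
    (ι : O →+* K) [IsLocalHom ι] (ψ : O →+* L) :
    ∃ A V : ValuationSubring L, A ≤ V ∧
      (∃ h : ∀ o, ψ o ∈ V, IsLocalHom (ψ.codRestrict V.toSubring h)) ∧
      (∀ o, ψ o ∈ A ↔ ι o ∈ Set.range (algebraMap R K)) ∧
      (∀ o r, ι o = algebraMap R K r → ∀ h : ψ o ∈ A, IsUnit (⟨ψ o, h⟩ : A) → IsUnit r) := by
  obtain ⟨V, hV, hVloc⟩ := exists_factor_valuationRing ψ
  let ψV : O →+* V := ψ.codRestrict V.toSubring hV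
  have : IsLocalHom ψV := hVloc
  have hι : ∀ o ∈ maximalIdeal O, ι o = 0 := fun o ho => by
    by_contra h
    exact ho ((isUnit_iff_ne_zero.mpr h).of_map ι o)
  let ρ : ResidueField O →+* K := Ideal.Quotient.lift (maximalIdeal O) ι hι
  let ε : ResidueField O →+* ResidueField V := ResidueField.map ψV
  let W : ValuationSubring K := (ValuationRing.valuation R K).valuationSubring
  have hW : ∀ k, k ∈ W ↔ k ∈ Set.range (algebraMap R K) := fun k => ValuationRing.mem_integer_iff R K k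
  let R0 : ValuationSubring (ResidueField O) := W.comap ρ
  obtain ⟨R1, hR1, hR1loc⟩ := exists_factor_valuationRing (ε.comp R0.subtype)
  have hR0 : ∀ c, ε c ∈ R1 → c ∈ R0 := fun c hc => by
    by_contra hc0
    have hc' : c⁻¹ ∈ R0 := (R0.mem_or_inv_mem c).resolve_left hc0
    have hu : IsUnit (⟨c⁻¹, hc'⟩ : R0) := by
      refine hR1loc.map_nonunit _ ?_
      refine IsUnit.of_mul_eq_one ⟨ε c, hc⟩ (Subtype.ext ?_)
      show ε c⁻¹ * ε c = 1
      rw [← map_mul, inv_mul_cancel₀ (show c ≠ 0 from fun h => hc0 (h.symm ▸ zero_mem R0)), map_one]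
    obtain ⟨d, hd⟩ := hu.exists_right_inv
    have hc00 : c ≠ 0 := fun h => hc0 (h.symm ▸ zero_mem R0)
    have hd' : c⁻¹ * (d : ResidueField O) = 1 := congrArg Subtype.val hd
    have : (d : ResidueField O) = c := by
      rw [← mul_inv_eq_one₀ hc00]
      rwa [mul_comm] at hd'
    exact hc0 (this ▸ d.2)
  let A0 : Subring L := (R1.toSubring.comap (residue V)).map V.subtype
  have hA0 : ∀ a : V, (a : L) ∈ A0 ↔ residue V a ∈ R1 := fun a =>
    ⟨fun ⟨b, hb, e⟩ => Subtype.ext e ▸ hb, fun h => ⟨a, h, rfl⟩⟩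
  let A : ValuationSubring L := ⟨A0, fun a => by
    rcases eq_or_ne a 0 with rfl | ha0
    · exact Or.inl A0.zero_mem
    have small : ∀ b : L, b⁻¹ ∈ V → b ∉ V → b⁻¹ ∈ A0 := fun b hb hb' => by
      have : residue V ⟨b⁻¹, hb⟩ = 0 := by
        refine residue_eq_zero_iff _ |>.mpr fun hu => hb' ?_
        obtain ⟨d, hd⟩ := hu.exists_right_inv
        have hd' : b⁻¹ * (d : L) = 1 := congrArg Subtype.val hd
        have : (d : L) = b := by
          rw [← mul_inv_eq_one₀ (show b ≠ 0 from fun h => hb' (h.symm ▸ zero_mem V))]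
          rwa [mul_comm] at hd'
        exact this ▸ d.2
      exact (hA0 ⟨b⁻¹, hb⟩).mpr (this ▸ R1.zero_mem)
    by_cases h1 : a ∈ V
    · by_cases h2 : a⁻¹ ∈ V
      · rcases R1.mem_or_inv_mem (residue V ⟨a, h1⟩) with h | h
        · exact Or.inl ((hA0 ⟨a, h1⟩).mpr h)
        · refine Or.inr ((hA0 ⟨a⁻¹, h2⟩).mpr ?_)
          have : residue V ⟨a⁻¹, h2⟩ = (residue V ⟨a, h1⟩)⁻¹ := by
            refine eq_inv_of_mul_eq_one_left ?_
            rw [← map_mul, show (⟨a⁻¹, h2⟩ : V) * ⟨a, h1⟩ = 1 from Subtype.ext (inv_mul_cancel₀ ha0), map_one]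
          rwa [this]
      · exact Or.inl (by simpa using small a⁻¹ (by simpa using h1) h2)
    · exact Or.inr (small a ((V.mem_or_inv_mem a).resolve_left h1) h1)⟩
  have key : ∀ o, ψ o ∈ A ↔ ι o ∈ Set.range (algebraMap R K) := fun o => by
    rw [← hW (ι o)]
    show ψ o ∈ A0 ↔ _
    rw [show ψ o = ((ψV o : V) : L) from rfl, hA0]
    show ε (residue O o) ∈ R1 ↔ residue O o ∈ R0
    exact ⟨hR0 _, fun h => hR1 ⟨_, h⟩⟩
  refine ⟨A, V, fun a ha => by obtain ⟨b, -, rfl⟩ := ha; exact b.2, ⟨hV, hVloc⟩, key, ?_⟩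
  intro o r hr h hu
  have h0 : residue O o ∈ R0 := (hW _).mpr ⟨r, hr.symm⟩
  have h1 : IsUnit (⟨residue O o, h0⟩ : R0) := by
    refine hR1loc.map_nonunit _ ?_
    obtain ⟨d, hd⟩ := hu.exists_right_inv
    obtain ⟨b, hb, hbd⟩ := d.2
    refine IsUnit.of_mul_eq_one ⟨residue V b, hb⟩ (Subtype.ext ?_)
    show ε (residue O o) * residue V b = 1
    rw [ResidueField.map_residue, ← map_mul, ← map_one (residue V)]
    refine congrArg _ (Subtype.ext ?_)
    show ψ o * V.subtype b = 1
    rw [hbd]; exact congrArg Subtype.val hd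
  obtain ⟨d, hd⟩ := h1.exists_right_inv
  obtain ⟨r', hr'⟩ := (hW _).mp d.2
  refine IsUnit.of_mul_eq_one r' (IsFractionRing.injective R K ?_)
  rw [map_mul, ← hr, hr', map_one]
  have := congrArg (fun z : R0 => ρ z.1) hd
  exact ((map_mul ρ _ _).symm.trans (this.trans (map_one ρ)))

variable {U X S : Scheme.{u}}

theorem SpecMap_fromSpecStalk_eq {R K : Type u} [CommRing R] [Field K] [Algebra R K]
    (hinj : Function.Injective (algebraMap R K)) {s₁ s₂ : S} (hs : s₁ = s₂)
    (φ₁ : S.presheaf.stalk s₁ ⟶ .of R) (φ₂ : S.presheaf.stalk s₂ ⟶ .of R)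
    (h : Spec.map (CommRingCat.ofHom (algebraMap R K)) ≫ Spec.map φ₁ ≫ S.fromSpecStalk s₁ =
      Spec.map (CommRingCat.ofHom (algebraMap R K)) ≫ Spec.map φ₂ ≫ S.fromSpecStalk s₂) :
    Spec.map φ₁ ≫ S.fromSpecStalk s₁ = Spec.map φ₂ ≫ S.fromSpecStalk s₂ := by
  subst hs
  rw [← Category.assoc, ← Category.assoc, cancel_mono, ← Spec.map_comp, ← Spec.map_comp] at h
  have h' := Spec.map_injective h
  congr 2
  refine CommRingCat.hom_ext (RingHom.ext fun a => hinj ?_)
  exact congr($h' a)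

theorem comp_eq_of_SpecMap_eq {K : CommRingCat.{u}} {s : S} (φ₁ φ₂ : S.presheaf.stalk s ⟶ K)
    (h : Spec.map φ₁ ≫ S.fromSpecStalk s = Spec.map φ₂ ≫ S.fromSpecStalk s) : φ₁ = φ₂ :=
  Spec.map_injective ((cancel_mono _).mp h)

variable (f : X ⟶ S) (h : U ⟶ X) [QuasiCompact h] (hd : DenseRange h.base)
  (H : ∀ sq : ValuativeCommSq f, (∃ i : Spec (.of sq.K) ⟶ U, i ≫ h = sq.i₁) →
      Nonempty (Unique sq.commSq.LiftStruct))

include hd H

theorem criterion : ValuativeCriterion f := by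
  rw [ValuativeCriterion.iff]
  suffices key : ∀ sq : ValuativeCommSq f, sq.commSq.HasLift ∧ Subsingleton sq.commSq.LiftStruct from
    ⟨fun sq => (key sq).1, fun sq => (key sq).2⟩
  rintro ⟨R, K, i₁, i₂, ⟨w⟩⟩
  let aR := CommRingCat.ofHom (algebraMap R K)
  have hinj : Function.Injective (algebraMap R K) := IsFractionRing.injective R K
  let x := i₁ (closedPoint K)
  obtain ⟨u, hu⟩ := exists_specializes_of_mem_closure_range h
    (show x ∈ closure (Set.range h) by rw [DenseRange.closure_range hd]; trivial)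
  let ι := Scheme.stalkClosedPointTo i₁
  have hι : Spec.map ι ≫ X.fromSpecStalk x = i₁ := Scheme.Spec_stalkClosedPointTo_fromSpecStalk i₁
  let ψ : X.presheaf.stalk x ⟶ U.residueField u :=
    X.presheaf.stalkSpecializes hu ≫ h.stalkMap u ≫ U.residue u
  let i₁' : Spec (.of (U.residueField u)) ⟶ X := U.fromSpecResidueField u ≫ h
  have hψ : Spec.map ψ ≫ X.fromSpecStalk x = i₁' := by
    simp only [ψ, i₁', Spec.map_comp, Category.assoc, Scheme.SpecMap_stalkSpecializes_fromSpecStalk,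
      Scheme.SpecMap_stalkMap_fromSpecStalk, Scheme.fromSpecResidueField]
  obtain ⟨A, V, hAV, ⟨hV, hVloc⟩, hmem, hunit⟩ := exists_composite (R := R) ι.hom ψ.hom
  let aA := CommRingCat.ofHom (algebraMap A (U.residueField u))
  let aV := CommRingCat.ofHom (algebraMap V (U.residueField u))
  let s := i₂ (closedPoint R)
  let σ := Scheme.stalkClosedPointTo (R := .of R) i₂
  have hσ : Spec.map σ ≫ S.fromSpecStalk s = i₂ := Scheme.Spec_stalkClosedPointTo_fromSpecStalk i₂
  have hfx : f x ⤳ s := by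
    have e : f x = i₂ (Spec.map aR (closedPoint K)) := by
      rw [← Scheme.Hom.comp_apply, ← Scheme.Hom.comp_apply, w]
    rw [e]
    exact (specializes_closedPoint _).map i₂.continuous
  let δ : S.presheaf.stalk s ⟶ X.presheaf.stalk x := S.presheaf.stalkSpecializes hfx ≫ f.stalkMap x
  have hδ : Spec.map δ ≫ S.fromSpecStalk s = X.fromSpecStalk x ≫ f := by
    simp only [δ, Spec.map_comp, Category.assoc, Scheme.SpecMap_stalkSpecializes_fromSpecStalk,
      Scheme.SpecMap_stalkMap_fromSpecStalk]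
  have hδι : δ ≫ ι = σ ≫ aR := comp_eq_of_SpecMap_eq _ _ (by
    rw [Spec.map_comp, Category.assoc, hδ, ← Category.assoc, hι, Spec.map_comp, Category.assoc, hσ]
    exact w)
  let τ : S.presheaf.stalk s ⟶ .of A := CommRingCat.ofHom ((δ ≫ ψ).hom.codRestrict A.toSubring
    fun a => (hmem _).mpr ⟨σ a, (congr($hδι a)).symm⟩)
  have hτ : τ ≫ aA = δ ≫ ψ := rfl
  let i₂' := Spec.map τ ≫ S.fromSpecStalk s
  have w' : i₁' ≫ f = Spec.map aA ≫ i₂' := by
    show _ = Spec.map aA ≫ Spec.map τ ≫ _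
    rw [← Spec.map_comp_assoc, hτ]
    simp only [Spec.map_comp, Category.assoc, hδ]
    rw [reassoc_of% hψ]
    try simp only [i₁', Category.assoc]
  have hτc : Spec.map τ (closedPoint A) = closedPoint (S.presheaf.stalk s) := by
    have : IsLocalHom τ.hom := ⟨fun a ha => by
      have : IsUnit (σ a) := hunit (δ a) (σ a) (congr($hδι a)) _ ha
      exact this.of_map σ.hom a⟩
    exact comap_closedPoint τ.hom
  have hHA := H { R := A, K := U.residueField u, i₁ := i₁', i₂ := i₂', commSq := ⟨w'⟩ }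
    ⟨U.fromSpecResidueField u, rfl⟩
  constructor
  · obtain ⟨⟨⟨l, hl₁, hl₂⟩⟩, -⟩ := hHA
    let incl : CommRingCat.of A ⟶ .of V := CommRingCat.ofHom (A.inclusion V hAV)
    let ψV : X.presheaf.stalk x ⟶ .of V := CommRingCat.ofHom (ψ.hom.codRestrict V.toSubring hV)
    have hψV : ψV ≫ aV = ψ := rfl
    have hincl : incl ≫ aV = aA := rfl
    have wV : i₁' ≫ f = Spec.map aV ≫ (Spec.map incl ≫ i₂') := by
      rw [w', ← Spec.map_comp_assoc incl aV, hincl]
    obtain ⟨⟨_⟩, hVu⟩ := H { R := V, K := U.residueField u, i₁ := i₁', i₂ := Spec.map incl ≫ i₂', commSq := ⟨wV⟩ }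
      ⟨U.fromSpecResidueField u, rfl⟩
    have hVl : Spec.map incl ≫ l = Spec.map ψV ≫ X.fromSpecStalk x := by
      refine congrArg CommSq.LiftStruct.l ((hVu ⟨Spec.map incl ≫ l, ?_, ?_⟩).trans
        (hVu ⟨Spec.map ψV ≫ X.fromSpecStalk x, ?_, ?_⟩).symm)
      · show Spec.map aV ≫ Spec.map incl ≫ l = i₁'
        rw [← Spec.map_comp_assoc, hincl]; exact hl₁
      · show (Spec.map incl ≫ l) ≫ f = _
        rw [Category.assoc]; exact congrArg _ hl₂
      · show Spec.map aV ≫ Spec.map ψV ≫ X.fromSpecStalk x = i₁'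
        rw [← Spec.map_comp_assoc, hψV, hψ]
      · show (Spec.map ψV ≫ X.fromSpecStalk x) ≫ f = Spec.map incl ≫ Spec.map τ ≫ _
        rw [Category.assoc, ← hδ, ← Spec.map_comp_assoc, ← Spec.map_comp_assoc]
        congr 2
    have hxl : x ⤳ l (closedPoint A) := by
      have e : l (Spec.map incl (closedPoint V)) = x := by
        rw [← Scheme.Hom.comp_apply, hVl, Scheme.Hom.comp_apply]
        rw [show Spec.map ψV (closedPoint V) = closedPoint (X.presheaf.stalk x) from
          @comap_closedPoint _ _ _ _ _ _ ψV.hom hVloc]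
        exact Scheme.fromSpecStalk_closedPoint
      rw [← e]
      exact (specializes_closedPoint _).map l.continuous
    let β := Scheme.stalkClosedPointTo (R := .of A) l
    have hβ : Spec.map β ≫ X.fromSpecStalk _ = l := Scheme.Spec_stalkClosedPointTo_fromSpecStalk l
    have hspec : X.presheaf.stalkSpecializes hxl ≫ ψ = β ≫ aA := comp_eq_of_SpecMap_eq _ _ (by
      rw [Spec.map_comp, Category.assoc, Scheme.SpecMap_stalkSpecializes_fromSpecStalk, hψ,
        Spec.map_comp, Category.assoc, hβ]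
      exact hl₁.symm)
    have hK : ∀ a, ∃ r, algebraMap R K r = ι (X.presheaf.stalkSpecializes hxl a) := fun a =>
      (hmem _).mp ((show ψ (X.presheaf.stalkSpecializes hxl a) = ((β a : A) : U.residueField u) from
        congr($hspec a)) ▸ (β a).2)
    let W : Subring K := (algebraMap R K).range
    let e : R ≃+* W := RingEquiv.ofBijective (algebraMap R K).rangeRestrict
      ⟨fun a b hab => hinj (congrArg Subtype.val hab), (algebraMap R K).rangeRestrict_surjective⟩
    let γ : X.presheaf.stalk (l (closedPoint A)) ⟶ .of R := CommRingCat.ofHom (e.symm.toRingHom.comp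
      ((X.presheaf.stalkSpecializes hxl ≫ ι).hom.codRestrict W hK))
    have hγ : γ ≫ aR = X.presheaf.stalkSpecializes hxl ≫ ι := CommRingCat.hom_ext (RingHom.ext fun a =>
      congrArg Subtype.val (e.apply_symm_apply _))
    have h1 : Spec.map aR ≫ Spec.map γ ≫ X.fromSpecStalk _ = i₁ := by
      rw [← Spec.map_comp_assoc, hγ, Spec.map_comp, Category.assoc,
        Scheme.SpecMap_stalkSpecializes_fromSpecStalk, hι]
    have hs : f (l (closedPoint A)) = s := by
      rw [← Scheme.Hom.comp_apply, show l ≫ f = _ from hl₂]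
      show S.fromSpecStalk s (Spec.map τ (closedPoint A)) = s
      rw [hτc, Scheme.fromSpecStalk_closedPoint]
    refine ⟨⟨⟨Spec.map γ ≫ X.fromSpecStalk _, h1, ?_⟩⟩⟩
    show (Spec.map γ ≫ X.fromSpecStalk _) ≫ f = i₂
    rw [Category.assoc, ← Scheme.SpecMap_stalkMap_fromSpecStalk f, ← Spec.map_comp_assoc, ← hσ]
    refine SpecMap_fromSpecStalk_eq hinj hs _ _ ?_
    rw [Spec.map_comp, Category.assoc, Scheme.SpecMap_stalkMap_fromSpecStalk, reassoc_of% h1, hσ]
    exact w
  · have mk : ∀ L : CommSq.LiftStruct (⟨w⟩ : CommSq i₁ (Spec.map aR) f i₂),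
        ∃ m : Spec (.of A) ⟶ X, (Spec.map aA ≫ m = i₁' ∧ m ≫ f = i₂') ∧
          m (closedPoint A) = L.l (closedPoint R) := by
      rintro ⟨l, hl₁, hl₂⟩
      have hxy : x ⤳ l (closedPoint R) := by
        have e : x = l (Spec.map aR (closedPoint K)) := by
          rw [← Scheme.Hom.comp_apply, hl₁]
        rw [e]
        exact (specializes_closedPoint _).map l.continuous
      let β := Scheme.stalkClosedPointTo (R := .of R) l
      have hβ : Spec.map β ≫ X.fromSpecStalk _ = l := Scheme.Spec_stalkClosedPointTo_fromSpecStalk l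
      have hspec : X.presheaf.stalkSpecializes hxy ≫ ι = β ≫ aR := comp_eq_of_SpecMap_eq _ _ (by
        rw [Spec.map_comp, Category.assoc, Scheme.SpecMap_stalkSpecializes_fromSpecStalk, hι,
          Spec.map_comp, Category.assoc, hβ]
        exact hl₁.symm)
      let η : X.presheaf.stalk (l (closedPoint R)) ⟶ .of A :=
        CommRingCat.ofHom ((X.presheaf.stalkSpecializes hxy ≫ ψ).hom.codRestrict A.toSubring
          fun a => (hmem _).mpr ⟨β a, (congr($hspec a)).symm⟩)
      have hη : η ≫ aA = X.presheaf.stalkSpecializes hxy ≫ ψ := rfl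
      have h1 : Spec.map aA ≫ Spec.map η ≫ X.fromSpecStalk _ = i₁' := by
        rw [← Spec.map_comp_assoc, hη, Spec.map_comp, Category.assoc,
          Scheme.SpecMap_stalkSpecializes_fromSpecStalk, hψ]
      refine ⟨Spec.map η ≫ X.fromSpecStalk _, ⟨h1, ?_⟩, ?_⟩
      · show (Spec.map η ≫ X.fromSpecStalk _) ≫ f = Spec.map τ ≫ S.fromSpecStalk s
        rw [Category.assoc, ← Scheme.SpecMap_stalkMap_fromSpecStalk f, ← Spec.map_comp_assoc]
        refine SpecMap_fromSpecStalk_eq Subtype.val_injective ?_ _ _ ?_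
        · rw [← Scheme.Hom.comp_apply, hl₂]
        · rw [Spec.map_comp, Category.assoc, Scheme.SpecMap_stalkMap_fromSpecStalk]
          exact (reassoc_of% h1) f |>.trans w'
      · show X.fromSpecStalk _ (Spec.map η (closedPoint A)) = _
        have : IsLocalHom η.hom := ⟨fun a ha => by
          have : IsUnit (β a) := hunit _ (β a) (congr($hspec a)) _ ha
          exact this.of_map β.hom a⟩
        rw [show Spec.map η (closedPoint A) = closedPoint (X.presheaf.stalk _) from
          comap_closedPoint η.hom, Scheme.fromSpecStalk_closedPoint]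
    refine ⟨fun L₁ L₂ => ?_⟩
    obtain ⟨⟨_⟩, huniq⟩ := hHA
    obtain ⟨m₁, ⟨hm₁, hm₁'⟩, e₁⟩ := mk L₁
    obtain ⟨m₂, ⟨hm₂, hm₂'⟩, e₂⟩ := mk L₂
    have hmm : m₁ = m₂ := congrArg CommSq.LiftStruct.l ((huniq ⟨m₁, hm₁, hm₁'⟩).trans (huniq ⟨m₂, hm₂, hm₂'⟩).symm)
    have hp : L₁.l (closedPoint R) = L₂.l (closedPoint R) := by rw [← e₁, ← e₂, hmm]
    refine CommSq.LiftStruct.ext ?_
    rw [← Scheme.Spec_stalkClosedPointTo_fromSpecStalk (R := .of R) L₁.l,
      ← Scheme.Spec_stalkClosedPointTo_fromSpecStalk (R := .of R) L₂.l]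
    refine SpecMap_fromSpecStalk_eq hinj hp _ _ ?_
    rw [Scheme.Spec_stalkClosedPointTo_fromSpecStalk, Scheme.Spec_stalkClosedPointTo_fromSpecStalk]
    exact L₁.fac_left.trans L₂.fac_left.symm

end Groth.Agent.H17.ValuativeDense
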